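import Cfsg.Agent.Mrg.Omega.BTwo.LemL
import Cfsg.Agent.Mrg.Omega.BTwo.ModG
import Cfsg.Agent.Mrg.Omega.BTwo.EntryC_m3
import Cfsg.Agent.Mrg.Omega.IId.Cv.MixAny
import Cfsg.Agent.Mrg.Omega.All.Basic_m3
import Cfsg.Agent.Mrg.Omega.HTwo.TComp_m3
import Cfsg.Agent.Mrg.Omega.NO3S.Level.Lim_m3
import Cfsg.Agent.Mrg.Omega.IId.LFour.LemX_m3
import Cfsg.Agent.Mrg.Omega.IId.SwNat.Trace
import Cfsg.Agent.Lib.FastPerm
import Cfsg.Agent.Mrg.Omega.NO3S.Fit.MTri.Tri_m3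
import Cfsg.Agent.Mrg.Omega.NO3S.EThree.Qt_m3
import Cfsg.Agent.Mrg.Omega.NO3S.Fit.PlaneAct_m3
import Cfsg.Agent.Mrg.Omega.NO3S.TwoA.Off_m3
import Cfsg.Agent.Mrg.Omega.NO3S.Far.Flag_m3
import Mathlib
import Cfsg.Agent.Mrg.Omega.HTwo.EightMain_m3
import Cfsg.Agent.Mrg.ParSys.Core
import Cfsg.Agent.Mrg.Omega.Assembly
import Cfsg.Agent.Mrg.ParSys.Main
import Cfsg.Agent.Mrg.Omega.BTwo.Split_m3
import Cfsg.Agent.Mrg.Omega.HT.Main_m3
import Cfsg.Agent.Mrg.Omega.HOne.TvTail_m3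
import Cfsg.Agent.Mrg.ParSys.FreeTrans
import Cfsg.Agent.Mrg.Omega.IId.SymWrD.Zero_m3
import Cfsg.Agent.Mrg.Omega.NSix.ThreeA_m3
import Cfsg.Agent.Mrg.Omega.NSix.EngineS.Inst_m3
import Cfsg.Agent.Mrg.Omega.NO1.TH.K.SDEnd_m3
import Cfsg.Agent.Mrg.Omega.EH3.ESix.Rows_m3
import Cfsg.Agent.Mrg.Omega.IId.Big.SylB_m3
import Cfsg.Agent.Lib.GoldschmidtFusion
import Cfsg.Agent.StrongEmb.Strong
import Cfsg.Agent.S1174
import Cfsg.Agent.FastGrp
import Cfsg.Agent.Prune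
set_option linter.all false

section
prune_inst 0x7ff0eefaabfcbddfdfff7e7faffcdffdb9b85fffeffffd43ffe06bff4fff038ecbe5fba709e0d0fe4ff6e29410b87853fd7ec23fea6bdc7ffffd5ff45ffbee1ff5f7bd0951d698340fbc0fff63f0778a7f3fffffffffffffffffffffffffffbeffffffffffff

-- part: Mrg/Omega/IId/Cv/TwoFourR
section
prune_inst 0xd11011401022000000000500100024441a000100002b800168000b000680030080448f61b02010001000aa040038000810000050000800000000000001180080002802021040a000000000000080400000000000000000000000000000000000000000000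
set_option linter.all false
open scoped Cfsg.Agent.FastGrp

-- merged: Cfsg.Agent.Mrg.Omega.IId.Cv.TwoFourK
section

section


/-!
# `V` with its lines `R i` and root groups `K i ≤ Q i` (helper796)

`KT V L R K` : `BTwo.BT` with `WW V (R i)` replaced by a family `K i` (also: mixed partners, `K i = KX (R i)`) and
`N_G(V)` by a subgroup `L` (which permutes the lines; no hypothesis on `N_G(V)`).
-/

set_option autoImplicit false

namespace Cfsg.Agent.Omega.IId.Cv.TwoFour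

open Subgroup Cfsg.Agent.Omega.BTwo

variable {G : Type*} [Group G] {ι : Type*}

structure KT (V L : Subgroup G) (R K : ι → Subgroup G) : Prop where
  V_comm : ∀ a ∈ V, ∀ b ∈ V, a * b = b * a
  V_sq : ∀ a ∈ V, a * a = 1
  R_le : ∀ i, R i ≤ V
  R_inf : ∀ i j, i ≠ j → R i ⊓ R j = ⊥
  R_sup : ∀ i j, i ≠ j → R i ⊔ R j = V
  R_cov : ∀ v ∈ V, ∃ i, v ∈ R i
  R_ne : ∀ i, R i ≠ ⊥
  third : ∀ i j : ι, ∃ k, k ≠ i ∧ k ≠ j
  L_V : L ≤ normalizer (V : Set G)
  perm : ∀ g ∈ L, ∀ i, ∃ j, cj g (R i) = R j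
  V_Q : ∀ i, V ≤ QQ (R i)
  Q_L : ∀ i, QQ (R i) ≤ L
  QV : ∀ i, ∀ g ∈ QQ (R i), ∀ v ∈ V, g * v * g⁻¹ * v⁻¹ ∈ R i
  QR : ∀ i, ∀ g ∈ QQ (R i), ∀ a ∈ R i, g * a = a * g
  K_Q : ∀ i, K i ≤ QQ (R i)
  KQ : ∀ i, ∀ g ∈ QQ (R i), ∀ t ∈ K i, g * t * g⁻¹ * t⁻¹ ∈ R i
  cj_K : ∀ (g : G) (i j : ι), cj g (R i) = R j → cj g (K i) = K j
  tr : ∀ i j k : ι, j ≠ i → k ≠ i → ∃ t ∈ K i, cj t (R j) = R k
  cenU : ∀ i, ∀ x ∈ QQ (R i), (∀ u ∈ K i, u ∈ centralizer (V : Set G) → x * u = u * x) →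
    ∃ v ∈ V, v⁻¹ * x ∈ centralizer (K i : Set G)

/-- `X = ⟨K i⟩` -/
def XK (K : ι → Subgroup G) : Subgroup G := ⨆ i, K i

theorem K_le_X (K : ι → Subgroup G) (i : ι) : K i ≤ XK K := le_iSup K i

/-- `U i = C_{K i}(V)` -/
def UK (V : Subgroup G) (K : ι → Subgroup G) (i : ι) : Subgroup G := K i ⊓ centralizer (V : Set G)

theorem UK_le_cen (V : Subgroup G) (K : ι → Subgroup G) (i : ι) : UK V K i ≤ centralizer (V : Set G) := inf_le_right

theorem cen_XK_le (K : ι → Subgroup G) (i : ι) :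
    centralizer (XK K : Set G) ≤ centralizer (K i : Set G) := centralizer_le (K_le_X K i)

namespace KT

variable {V L : Subgroup G} {R K : ι → Subgroup G} (b : KT V L R K)
include b

theorem R_index {i j : ι} (h : R i = R j) : i = j := by
  by_contra hne
  have := b.R_inf i j hne
  rw [h, inf_idem] at this
  exact b.R_ne j this

theorem eq_one {i j : ι} (hij : i ≠ j) {a : G} (h1 : a ∈ R i) (h2 : a ∈ R j) : a = 1 := by
  have : a ∈ R i ⊓ R j := ⟨h1, h2⟩
  rw [b.R_inf i j hij] at this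
  exact mem_bot.1 this

theorem exists_ne (i : ι) : ∃ a ∈ R i, a ≠ 1 := by
  by_contra hc
  push Not at hc
  exact b.R_ne i ((eq_bot_iff_forall _).2 hc)

theorem Q_le (i : ι) : QQ (R i) ≤ normalizer (R i : Set G) := by
  have _ := b
  exact O2_le _

theorem K_le_N (i : ι) : K i ≤ normalizer (R i : Set G) := (b.K_Q i).trans (b.Q_le i)

theorem N_K (i : ι) : normalizer (R i : Set G) ≤ normalizer (K i : Set G) := fun g hg =>
  cj_eq_self_iff.1 (b.cj_K g i i (cj_eq_self_iff.2 hg))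

theorem conj_R {i : ι} {g : G} (hg : g ∈ QQ (R i)) {a : G} (ha : a ∈ R i) : g * a * g⁻¹ = a := by
  rw [b.QR i g hg a ha, mul_inv_cancel_right]

theorem Q_le_NV (i : ι) : QQ (R i) ≤ normalizer (V : Set G) := (b.Q_L i).trans b.L_V

theorem K_le_L (i : ι) : K i ≤ L := (b.K_Q i).trans (b.Q_L i)

theorem X_le_L : XK K ≤ L := iSup_le fun i => b.K_le_L i

theorem K_le_NV (i : ι) : K i ≤ normalizer (V : Set G) := (b.K_Q i).trans (b.Q_le_NV i)

theorem X_le_NV : XK K ≤ normalizer (V : Set G) := iSup_le fun i => b.K_le_NV i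

theorem cj_QQ {g : G} {i j : ι} (h : cj g (R i) = R j) : cj g (QQ (R i)) = QQ (R j) := by
  have _ := b
  rw [cj_O2, ← normalizer_cj, h]

theorem X_eq {i j : ι} (hij : i ≠ j) : XK K = K i ⊔ K j := by
  apply le_antisymm
  · refine iSup_le fun k => ?_
    by_cases hk : k = i
    · subst hk; exact le_sup_left
    obtain ⟨t, ht, e⟩ := b.tr i j k (Ne.symm hij) hk
    rw [← b.cj_K t j k e, cj_le_iff]
    intro x hx
    have h1 : t ∈ K i ⊔ K j := (le_sup_left : K i ≤ _) ht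
    exact mul_mem (mul_mem h1 ((le_sup_right : K j ≤ _) hx)) (inv_mem h1)
  · exact sup_le (K_le_X K i) (K_le_X K j)

theorem trans_X_one (i k : ι) : ∃ x ∈ XK K, cj x (R i) = R k := by
  obtain ⟨m, hm1, hm2⟩ := b.third i k
  obtain ⟨t, ht, e⟩ := b.tr m i k (Ne.symm hm1) (Ne.symm hm2)
  exact ⟨t, K_le_X K m ht, e⟩

theorem trans_X {i j k l : ι} (hij : i ≠ j) (hkl : k ≠ l) :
    ∃ x ∈ XK K, cj x (R i) = R k ∧ cj x (R j) = R l := by
  obtain ⟨x, hx, e1⟩ := b.trans_X_one i k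
  obtain ⟨j', e2⟩ := b.perm x (b.X_le_L hx) j
  have hj' : j' ≠ k := by
    rintro rfl
    exact hij (b.R_index (cj_injective (e1.trans e2.symm)))
  obtain ⟨t, ht, e3⟩ := b.tr k j' l hj' (Ne.symm hkl)
  refine ⟨t * x, mul_mem (K_le_X K k ht) hx, ?_, ?_⟩
  · rw [cj_mul, e1, cj_eq_self_iff.2 (b.K_le_N k ht)]
  · rw [cj_mul, e2, e3]

theorem exists_pair : ∃ i j : ι, i ≠ j := by
  obtain ⟨i, -⟩ := b.R_cov 1 (one_mem V)
  obtain ⟨j, hj, -⟩ := b.third i i
  exact ⟨j, i, hj⟩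

theorem eq_one_of_forall {a : G} (h : ∀ i, a ∈ R i) : a = 1 := by
  obtain ⟨i, j, hij⟩ := b.exists_pair
  exact b.eq_one hij (h i) (h j)

theorem cen_le_N (i : ι) : centralizer (V : Set G) ≤ normalizer (R i : Set G) := by
  refine le_normalizer_of fun k hk v hv => ?_
  rw [← mem_centralizer_iff.1 hk v (b.R_le i hv), mul_inv_cancel_right]
  exact hv

theorem cen_le_NU (i : ι) : centralizer (V : Set G) ≤ normalizer (UK V K i : Set G) := by
  intro g hg
  rw [← cj_eq_self_iff, UK, cj_inf, cj_eq_self_iff.2 (b.N_K i (b.cen_le_N i hg)), cj_of_mem hg]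

theorem exists_mul {i j : ι} (hij : i ≠ j) {v : G} (hv : v ∈ V) : ∃ a ∈ R i, ∃ c ∈ R j, v = a * c := by
  let T : Subgroup G :=
    { carrier := {v | ∃ a ∈ R i, ∃ c ∈ R j, v = a * c}
      one_mem' := ⟨1, one_mem _, 1, one_mem _, by rw [one_mul]⟩
      mul_mem' := by
        rintro _ _ ⟨a, ha, c, hc, rfl⟩ ⟨a', ha', c', hc', rfl⟩
        refine ⟨a * a', mul_mem ha ha', c * c', mul_mem hc hc', ?_⟩
        have := b.V_comm c (b.R_le j hc) a' (b.R_le i ha')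
        calc a * c * (a' * c') = a * (c * a') * c' := by group
          _ = a * a' * (c * c') := by rw [this]; group
      inv_mem' := by
        rintro _ ⟨a, ha, c, hc, rfl⟩
        refine ⟨a⁻¹, inv_mem ha, c⁻¹, inv_mem hc, ?_⟩
        rw [mul_inv_rev]
        exact b.V_comm _ (inv_mem (b.R_le j hc)) _ (inv_mem (b.R_le i ha)) }
  have hT : R i ⊔ R j ≤ T := sup_le (fun a ha => ⟨a, ha, 1, one_mem _, by rw [mul_one]⟩)
    fun c hc => ⟨1, one_mem _, c, hc, by rw [one_mul]⟩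
  rw [b.R_sup i j hij] at hT
  exact hT hv

theorem L_le_NX : L ≤ normalizer (XK K : Set G) := by
  refine le_normalizer_of fun g hg y hy => ?_
  have h : cj g (XK K) ≤ XK K := by
    rw [XK, cj_iSup]
    refine iSup_le fun i => ?_
    obtain ⟨j, hj⟩ := b.perm g hg i
    rw [b.cj_K g i j hj]
    exact K_le_X K j
  exact h (conj_mem_cj hy)

theorem cen_VX {v : G} (hv : v ∈ V) (h : v ∈ centralizer (XK K : Set G)) : v = 1 := by
  obtain ⟨i, hi⟩ := b.R_cov v hv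
  refine b.eq_one_of_forall fun j => ?_
  obtain ⟨x, hx, e⟩ := b.trans_X_one i j
  rw [← e]
  have := conj_mem_cj (g := x) hi
  rwa [mem_centralizer_iff.1 h x hx, mul_inv_cancel_right] at this

theorem mem_cen_X {i j : ι} (hij : i ≠ j) {x : G} (hi : x ∈ centralizer (K i : Set G))
    (hj : x ∈ centralizer (K j : Set G)) : x ∈ centralizer (XK K : Set G) := by
  rw [b.X_eq hij]
  exact mem_cen_sup hi hj

theorem R_cen_K (i : ι) : R i ≤ centralizer (K i : Set G) := fun a ha => by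
  rw [mem_centralizer_iff]
  exact fun w hw => b.QR i w (b.K_Q i hw) a ha

theorem QQ_aux {i j : ι} (hij : i ≠ j) : XK K ≤ cenMod V (QQ (R i) ⊓ QQ (R j)) := by
  have key : ∀ k, ∀ w ∈ K k, ∀ d ∈ QQ (R k), w * d * w⁻¹ * d⁻¹ ∈ V := by
    intro k w hw d hd
    have e : w * d * w⁻¹ * d⁻¹ = (d * w * d⁻¹ * w⁻¹)⁻¹ := by group
    rw [e]
    exact b.R_le k (inv_mem (b.KQ k d hd w hw))
  rw [b.X_eq hij]
  exact sup_le (fun w hw => ⟨b.K_le_NV i hw, fun d hd => key i w hw d hd.1⟩)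
    fun w hw => ⟨b.K_le_NV j hw, fun d hd => key j w hw d hd.2⟩

theorem C_eq {i j : ι} (hij : i ≠ j) : CC R = QQ (R i) ⊓ QQ (R j) := by
  have key : ∀ k l, k ≠ l → QQ (R i) ⊓ QQ (R j) = QQ (R k) ⊓ QQ (R l) := by
    intro k l hkl
    obtain ⟨x, hx, e1, e2⟩ := b.trans_X hij hkl
    have h1 := cj_eq_self_iff.2 (cenMod_normalizes (le_inf (b.V_Q i) (b.V_Q j)) (b.QQ_aux hij hx))
    rw [cj_inf, b.cj_QQ e1, b.cj_QQ e2] at h1
    exact h1.symm
  apply le_antisymm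
  · exact le_inf (iInf_le _ i) (iInf_le _ j)
  · refine le_iInf fun k => ?_
    obtain ⟨l, hl, -⟩ := b.third k k
    rw [key k l (Ne.symm hl)]
    exact inf_le_left

theorem CX {x c : G} (hx : x ∈ XK K) (hc : c ∈ CC R) : x * c * x⁻¹ * c⁻¹ ∈ V := by
  obtain ⟨i, j, hij⟩ := b.exists_pair
  rw [b.C_eq hij] at hc
  exact (b.QQ_aux hij hx).2 c hc

theorem K_isPGroup (i : ι) : IsPGroup 2 (K i) := (O2_isPGroup _).to_le (b.K_Q i)

theorem not_mem {i j : ι} (hij : i ≠ j) {a : G} (h1 : a ∈ R i) (h2 : a ≠ 1) : a ∉ R j :=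
  fun h => h2 (b.eq_one hij h1 h)

/-- an element of `Q i` fixing a vector outside `R i` centralises `V` -/
theorem reg {i : ι} {g : G} (hg : g ∈ QQ (R i)) {v : G} (hv : v ∈ V) (hvi : v ∉ R i)
    (hc : g * v = v * g) : ∀ a ∈ V, g * a = a * g := by
  obtain ⟨j, hj⟩ := b.R_cov v hv
  have hij : i ≠ j := by rintro rfl; exact hvi hj
  have hv1 : v ≠ 1 := by rintro rfl; exact hvi (one_mem _)
  obtain ⟨k, hk⟩ := b.perm g (b.Q_L i hg) j
  have hvk : v ∈ R k := by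
    rw [← hk, mem_cj]
    have : g⁻¹ * v * g = v := by rw [mul_assoc, ← hc]; group
    rw [this]; exact hj
  have hjk : j = k := by
    by_contra hne
    exact hv1 (b.eq_one hne hj hvk)
  subst hjk
  have h1 : ∀ a ∈ R j, g * a = a * g := by
    intro a ha
    have h2 : g * a * g⁻¹ ∈ R j := by
      have := conj_mem_cj (g := g) ha
      rwa [hk] at this
    have h3 : g * a * g⁻¹ * a⁻¹ ∈ R j := mul_mem h2 (inv_mem ha)
    have h4 := b.eq_one hij (b.QV i g hg a (b.R_le j ha)) h3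
    rw [mul_inv_eq_one, mul_inv_eq_iff_eq_mul] at h4
    exact h4
  intro a ha
  obtain ⟨x, hx, y, hy, rfl⟩ := b.exists_mul hij ha
  calc g * (x * y) = (g * x) * y := by group
    _ = x * (g * y) := by rw [b.QR i g hg x hx]; group
    _ = x * y * g := by rw [h1 y hy]; group

theorem card_R (i j : ι) : Nat.card (R i) = Nat.card (R j) := by
  obtain ⟨x, -, h⟩ := b.trans_X_one i j
  rw [← h, card_cj]

theorem comm_V_mul {i : ι} {g v w : G} (hg : g ∈ QQ (R i)) (hv : v ∈ V) (hw : w ∈ V) :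
    g * (v * w) * g⁻¹ * (v * w)⁻¹ = (g * v * g⁻¹ * v⁻¹) * (g * w * g⁻¹ * w⁻¹) := by
  have h := b.V_comm v hv _ (b.R_le i (b.QV i g hg w hw))
  calc g * (v * w) * g⁻¹ * (v * w)⁻¹
      = (g * v * g⁻¹ * v⁻¹) * (v * (g * w * g⁻¹ * w⁻¹)) * v⁻¹ := by group
    _ = (g * v * g⁻¹ * v⁻¹) * (g * w * g⁻¹ * w⁻¹ * v) * v⁻¹ := by rw [h]
    _ = _ := by group

/-- an element of `Q i` not centralising `V` maps `R j` onto `R i` by `v ↦ [g, v]` -/
theorem full [Finite G] {i : ι} {g : G} (hg : g ∈ QQ (R i)) (hn : ¬ ∀ a ∈ V, g * a = a * g)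
    {j : ι} (hj : j ≠ i) : ∀ r ∈ R i, ∃ v ∈ R j, g * v * g⁻¹ * v⁻¹ = r := by
  let f : R j → R i := fun v => ⟨g * v * g⁻¹ * (v : G)⁻¹, b.QV i g hg v (b.R_le j v.2)⟩
  have hf : Function.Injective f := by
    rintro ⟨v, hv⟩ ⟨w, hw⟩ h
    have h1 : g * v * g⁻¹ * v⁻¹ = g * w * g⁻¹ * w⁻¹ := congrArg Subtype.val h
    have h2 : g * (v * w⁻¹) * g⁻¹ * (v * w⁻¹)⁻¹ = 1 := by
      rw [b.comm_V_mul hg (b.R_le j hv) (b.R_le j (inv_mem hw)), h1,
        ← b.comm_V_mul hg (b.R_le j hw) (b.R_le j (inv_mem hw))]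
      group
    by_contra hne
    have hne' : v * w⁻¹ ≠ 1 := fun h3 => hne (Subtype.ext (mul_inv_eq_one.1 h3))
    rw [mul_inv_eq_one, mul_inv_eq_iff_eq_mul] at h2
    have hm : v * w⁻¹ ∈ R j := mul_mem hv (inv_mem hw)
    exact hn (b.reg hg (b.R_le j hm) (b.not_mem hj hm hne') h2)
  have hs := (hf.bijective_of_nat_card_le (b.card_R i j).le).2
  intro r hr
  obtain ⟨v, hv⟩ := hs ⟨r, hr⟩
  exact ⟨v, v.2, congrArg Subtype.val hv⟩

/-- an element of `K j` moving `R i` -/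
theorem exists_mover {i j : ι} (hij : i ≠ j) : ∃ v ∈ K j, v ∉ centralizer (V : Set G) := by
  obtain ⟨k, hkj, hki⟩ := b.third j i
  obtain ⟨v0, hv0, e0⟩ := b.tr j i k hij hkj
  refine ⟨v0, hv0, fun h => ?_⟩
  have h2 := b.cen_le_N i h
  rw [← cj_eq_self_iff, e0] at h2
  exact hki (b.R_index h2)

end KT

/-- `cenU` from a partner `A ≤ K i` : `Q i ≤ V C(A)`, `K i = A C_{K i}(V)` -/
theorem cenU_of {V A Ki Qi : Subgroup G} (hPA : ∀ x ∈ Qi, ∃ v ∈ V, ∀ a ∈ A, v⁻¹ * x * a = a * (v⁻¹ * x))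
    (hK : ∀ t ∈ Ki, ∃ a ∈ A, a⁻¹ * t ∈ centralizer (V : Set G)) (hA : A ≤ Ki) :
    ∀ x ∈ Qi, (∀ u ∈ Ki, u ∈ centralizer (V : Set G) → x * u = u * x) →
      ∃ v ∈ V, v⁻¹ * x ∈ centralizer (Ki : Set G) := by
  intro x hx hU
  obtain ⟨v, hv, h1⟩ := hPA x hx
  refine ⟨v, hv, mem_centralizer_iff.2 fun t ht => ?_⟩
  obtain ⟨a, ha, hc⟩ := hK t ht
  set c := a⁻¹ * t with hc'
  have e : t = a * c := by rw [hc']; group
  have hcK : c ∈ Ki := mul_mem (inv_mem (hA ha)) ht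
  have h2 := hU c hcK hc
  have h3 := mem_centralizer_iff.1 hc v⁻¹ (inv_mem hv)
  rw [e]
  calc a * c * (v⁻¹ * x) = a * (c * v⁻¹) * x := by group
    _ = a * v⁻¹ * (c * x) := by rw [← h3]; group
    _ = a * (v⁻¹ * x) * c := by rw [← h2]; group
    _ = v⁻¹ * x * (a * c) := by rw [← h1 a ha]; group

end Cfsg.Agent.Omega.IId.Cv.TwoFour

end

section


/-!
# `WrCv`, CASE 2a: two nodes `V ≠ V^w` over one line `R i`, K-free and field-free, all `q` (helper796, #18009)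

`V` with its lines `R i` and root groups `K i` (`KT V L R K`), `T` a 2-group of index 2 in a Sylow 2-subgroup `T₁ = T⟨w⟩` of `G`,
`T ≤ L ≤ N(V)`, `O₂(C(V)) ≤ T`, `T₁ ≤ N(R i)`, `V' = V^w ≠ V`; `x ∈ Z(T₁) ∩ C(X)` with `V ≤ Z(O₂(C_G(x)))`.

* `lemA` : a 2-element `g ∈ N(V)` trivial on `R i` is `u⁻¹ c`, `u ∈ W i`, `c ∈ C(V)`;
* `Hyp.le_CC` : `V' ≤ ⋂ Q j`;
* `Hyp.cen_UU` : `C_{W j}(V)` centralises `V'`;
* `Hyp.split` : `V' ≤ V C(X)`;
* `Hyp.cen_T` : `T ∩ C(V) = T ∩ C(V')`.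
-/

set_option autoImplicit false

namespace Cfsg.Agent.Omega.IId.Cv.TwoFour

open Subgroup Cfsg.Agent.Omega.BTwo
open Cfsg.Agent.MinSimple.VModule (mem_zc zc_le)

variable {G : Type*} [Group G] {ι : Type*}

/-! ### Lemma A -/

/-- a 2-element of `N(V)` which centralises `R i` acts on `V` as an element of `W i` -/
theorem lemA [Finite G] {V L : Subgroup G} {R K : ι → Subgroup G} (b : KT V L R K) {i : ι} {g : G}
    (hg : g ∈ L) (h2 : IsPGroup 2 (zpowers g)) (hR : ∀ r ∈ R i, g * r = r * g) :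
    ∃ u ∈ K i, u * g ∈ centralizer (V : Set G) := by
  have hfact : Fact (Nat.Prime 2) := ⟨Nat.prime_two⟩
  have hgR : g ∈ normalizer (R i : Set G) := by
    apply centralizer_le_normalizer
    rw [mem_centralizer_iff]
    exact fun r hr => (hR r hr).symm
  obtain ⟨j, hj, -⟩ := b.third i i
  obtain ⟨k, hk⟩ := b.perm g hg j
  have hki : k ≠ i := by
    rintro rfl
    have h1 : cj g (R k) = R k := cj_eq_self_iff.2 hgR
    exact hj (b.R_index (cj_injective (hk.trans h1.symm)))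
  obtain ⟨u, hu, e⟩ := b.tr i k j hki hj
  refine ⟨u, hu, ?_⟩
  set g₁ := u * g with hg₁
  have hg₁V : g₁ ∈ L := mul_mem (b.K_le_L i hu) hg
  have hg₁R : ∀ r ∈ R i, g₁ * r * g₁⁻¹ = r := by
    intro r hr
    have h1 := b.conj_R (b.K_Q i hu) hr
    calc g₁ * r * g₁⁻¹ = u * (g * r * g⁻¹) * u⁻¹ := by rw [hg₁]; group
      _ = u * r * u⁻¹ := by rw [hR r hr]; group
      _ = r := h1
  have hg₁j : cj g₁ (R j) = R j := by rw [hg₁, cj_mul, hk, e]
  -- `g₁` is a 2-element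
  have hg₁2 : IsPGroup 2 (zpowers g₁) := by
    have h3 : zpowers g ≤ normalizer (K i : Set G) := by
      rw [zpowers_le]
      exact b.N_K i hgR
    have h4 : IsPGroup 2 ↥(zpowers g ⊔ K i) := h2.to_sup_of_normal_right' (b.K_isPGroup i) h3
    refine h4.to_le ?_
    rw [zpowers_le]
    exact mul_mem ((le_sup_right : K i ≤ zpowers g ⊔ K i) hu)
      ((le_sup_left : zpowers g ≤ zpowers g ⊔ K i) (mem_zpowers g))
  -- a fixed vector in `R j`
  have hRj2 : IsPGroup 2 (R j) := (O2_isPGroup (normalizer (R j : Set G))).to_le ((b.R_le j).trans (b.V_Q j))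
  have hnj : zpowers g₁ ≤ normalizer (R j : Set G) := by
    rw [zpowers_le, ← cj_eq_self_iff]
    exact hg₁j
  have hS2 : IsPGroup 2 ↥(zpowers g₁ ⊔ R j) := hg₁2.to_sup_of_normal_right' hRj2 hnj
  obtain ⟨c, hc, hc1, hcz⟩ := exists_mem_zc (T := R j) hS2 (b.R_ne j) le_sup_right
    (sup_le hnj le_normalizer)
  have hcg : g₁ * c * g₁⁻¹ = c := by
    have h5 := (mem_zc.1 hcz).2.1 g₁ ((le_sup_left : zpowers g₁ ≤ zpowers g₁ ⊔ R j) (mem_zpowers g₁))
    rw [h5, mul_inv_cancel_right]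
  -- `g₁` fixes all lines
  have hall : ∀ k, k ≠ i → cj g₁ (R k) = R k := by
    intro k hk
    obtain ⟨a, ha, d, hd, hcd⟩ := b.exists_mul (Ne.symm hk) (b.R_le j hc)
    have hd1 : d ≠ 1 := by
      rintro rfl
      rw [mul_one] at hcd
      exact hc1 (b.eq_one hj hc (hcd ▸ ha))
    have hdf : g₁ * d * g₁⁻¹ = d := by
      have h6 : d = a⁻¹ * c := by rw [hcd]; group
      calc g₁ * d * g₁⁻¹ = (g₁ * a⁻¹ * g₁⁻¹) * (g₁ * c * g₁⁻¹) := by rw [h6]; group
        _ = a⁻¹ * c := by rw [hg₁R _ (inv_mem ha), hcg]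
        _ = d := h6.symm
    obtain ⟨k', hk'⟩ := b.perm g₁ hg₁V k
    have h7 : d ∈ R k' := by
      rw [← hk', ← hdf]
      exact conj_mem_cj hd
    have h8 : k = k' := by
      by_contra hne
      exact hd1 (b.eq_one hne hd h7)
    rw [h8] at hk'
    rw [h8]
    exact hk'
  -- so it centralises `R j`
  obtain ⟨r₀, hr₀, hr₁⟩ := b.exists_ne i
  have hcj : ∀ v ∈ R j, g₁ * v * g₁⁻¹ = v := by
    intro v hv
    by_cases hv1 : v = 1
    · rw [hv1]; group
    obtain ⟨l, hl⟩ := b.R_cov (v * r₀) (mul_mem (b.R_le j hv) (b.R_le i hr₀))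
    have hli : l ≠ i := by
      intro hli
      rw [hli] at hl
      have h8 : v ∈ R i := by
        have h9 : v = v * r₀ * r₀⁻¹ := by group
        rw [h9]
        exact mul_mem hl (inv_mem hr₀)
      exact hv1 (b.eq_one hj hv h8)
    have hlj : l ≠ j := by
      intro hlj
      rw [hlj] at hl
      have h8 : r₀ ∈ R j := by
        have h9 : r₀ = v⁻¹ * (v * r₀) := by group
        rw [h9]
        exact mul_mem (inv_mem hv) hl
      exact hr₁ (b.eq_one (Ne.symm hj) hr₀ h8)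
    have h10 : g₁ * (v * r₀) * g₁⁻¹ ∈ R l := by
      have := conj_mem_cj (g := g₁) hl
      rwa [hall l hli] at this
    have h11 : g₁ * v * g₁⁻¹ ∈ R j := by
      have := conj_mem_cj (g := g₁) hv
      rwa [hg₁j] at this
    have h12 : g₁ * v * g₁⁻¹ * v⁻¹ ∈ R l := by
      have h13 : g₁ * v * g₁⁻¹ * v⁻¹ = (g₁ * (v * r₀) * g₁⁻¹) * (v * r₀)⁻¹ := by
        have h14 : g₁ * (v * r₀) * g₁⁻¹ = g₁ * v * g₁⁻¹ * r₀ := by
          calc g₁ * (v * r₀) * g₁⁻¹ = g₁ * v * g₁⁻¹ * (g₁ * r₀ * g₁⁻¹) := by group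
            _ = _ := by rw [hg₁R r₀ hr₀]
        rw [h14]
        group
      rw [h13]
      exact mul_mem h10 (inv_mem hl)
    have h15 := b.eq_one hlj h12 (mul_mem h11 (inv_mem hv))
    rwa [mul_inv_eq_one] at h15
  rw [mem_centralizer_iff]
  intro v hv
  obtain ⟨a, ha, d, hd, rfl⟩ := b.exists_mul (Ne.symm hj) hv
  have h16 : g₁ * (a * d) * g₁⁻¹ = a * d := by
    calc g₁ * (a * d) * g₁⁻¹ = (g₁ * a * g₁⁻¹) * (g₁ * d * g₁⁻¹) := by group
      _ = a * d := by rw [hg₁R a ha, hcj d hd]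
  rw [mul_inv_eq_iff_eq_mul] at h16
  exact h16.symm

/-- ... in particular `[V, g] ≤ R i` -/
theorem lemA' [Finite G] {V L : Subgroup G} {R K : ι → Subgroup G} (b : KT V L R K) {i : ι} {g : G}
    (hg : g ∈ L) (h2 : IsPGroup 2 (zpowers g)) (hR : ∀ r ∈ R i, g * r = r * g) :
    ∀ v ∈ V, g * v * g⁻¹ * v⁻¹ ∈ R i := by
  obtain ⟨u, hu, hc⟩ := lemA b hg h2 hR
  intro v hv
  have h1 : g * v * g⁻¹ = u⁻¹ * v * u := by
    have h3 := mem_centralizer_iff.1 hc v hv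
    calc g * v * g⁻¹ = u⁻¹ * (u * g * v) * g⁻¹ := by group
      _ = u⁻¹ * (v * (u * g)) * g⁻¹ := by rw [← h3]
      _ = u⁻¹ * v * u := by group
  rw [h1]
  have h4 := b.QV i _ (inv_mem (b.K_Q i hu)) v hv
  rwa [inv_inv] at h4

/-! ### The setting -/

structure Hyp (V L : Subgroup G) (R K : ι → Subgroup G) (i : ι) (T₁ T : Subgroup G) (w x : G) : Prop where
  bt : KT V L R K
  cenQ : normalizer (R i : Set G) ⊓ centralizer (QQ (R i) : Set G) ≤ QQ (R i)
  T₁p : IsPGroup 2 T₁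
  /-- `T₁` is a Sylow 2-subgroup of `G` -/
  T₁max : ∀ P : Subgroup G, IsPGroup 2 P → T₁ ≤ P → P ≤ T₁
  le : T ≤ T₁
  idx : ∀ a ∈ T₁, a ∉ T → ∀ c ∈ T₁, c ∉ T → a * c ∈ T
  T₁R : T₁ ≤ normalizer (R i : Set G)
  TL : T ≤ L
  OC : O2 (centralizer (V : Set G)) ≤ T
  QT : QQ (R i) ≤ T
  wT₁ : w ∈ T₁
  wV : cj w V ≠ V
  xm : x ∈ T₁
  xT₁ : ∀ t ∈ T₁, t * x = x * t
  xX : x ∈ centralizer (XK K : Set G)
  VO : V ≤ O2 (centralizer ({x} : Set G))
  Vc : ∀ v ∈ V, ∀ u ∈ O2 (centralizer ({x} : Set G)), v * u = u * v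

namespace Hyp

variable {V L : Subgroup G} {R K : ι → Subgroup G} {i : ι} {T₁ T : Subgroup G} {w x : G}
  (h : Hyp V L R K i T₁ T w x)
include h

theorem TV : T ≤ normalizer (V : Set G) := h.TL.trans h.bt.L_V

theorem w_not : w ∉ T := fun hw => h.wV (cj_eq_self_iff.2 (h.TV hw))

/-- `T` is normal in `T₁` -/
theorem conj_T {a t : G} (ha : a ∈ T₁) (ht : t ∈ T) : a * t * a⁻¹ ∈ T := by
  by_cases haT : a ∈ T
  · exact mul_mem (mul_mem haT ht) (inv_mem haT)
  · refine h.idx _ (mul_mem ha (h.le ht)) (fun h1 => haT ?_) _ (inv_mem ha) (fun h1 => haT ?_)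
    · have e : a = a * t * t⁻¹ := by group
      rw [e]
      exact mul_mem h1 (inv_mem ht)
    · have := inv_mem h1
      rwa [inv_inv] at this

theorem conj_T' {a t : G} (ha : a ∈ T₁) (ht : t ∈ T) : a⁻¹ * t * a ∈ T := by
  have := h.conj_T (inv_mem ha) ht
  rwa [inv_inv] at this

/-- `T` normalises `V' = V^w` -/
theorem TV' : T ≤ normalizer (cj w V : Set G) := by
  intro t ht
  rw [normalizer_cj, mem_cj]
  exact h.TV (h.conj_T' h.wT₁ ht)

theorem cj_R : cj w (R i) = R i := cj_eq_self_iff.2 (h.T₁R h.wT₁)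

theorem ww : w * w ∈ T := h.idx w h.wT₁ h.w_not w h.wT₁ h.w_not

theorem cj_V' : cj w (cj w V) = V := by
  rw [← cj_mul]
  exact cj_eq_self_iff.2 (h.TV h.ww)

theorem T₁C : T₁ ≤ centralizer ({x} : Set G) := by
  intro t ht
  rw [mem_centralizer_singleton_iff]
  exact h.xT₁ t ht

/-- `V' ≤ O₂(C(x))` -/
theorem V'O : cj w V ≤ O2 (centralizer ({x} : Set G)) := by
  have h1 := cj_mono (g := w) h.VO
  rwa [cj_eq_self_iff.2 (le_normalizer_O2 _ (h.T₁C h.wT₁))] at h1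

theorem V'c : ∀ v ∈ cj w V, ∀ u ∈ O2 (centralizer ({x} : Set G)), v * u = u * v := by
  intro v hv u hu
  rw [mem_cj] at hv
  have h1 := conj_inv_mem_of_normalizer (le_normalizer_O2 _ (h.T₁C h.wT₁)) hu
  have h2 := h.Vc _ hv _ h1
  calc v * u = w * ((w⁻¹ * v * w) * (w⁻¹ * u * w)) * w⁻¹ := by group
    _ = w * ((w⁻¹ * u * w) * (w⁻¹ * v * w)) * w⁻¹ := by rw [h2]
    _ = u * v := by group

theorem VV' : ∀ v ∈ V, ∀ v' ∈ cj w V, v * v' = v' * v := fun v hv v' hv' => h.Vc v hv v' (h.V'O hv')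

theorem V'_le_cen : cj w V ≤ centralizer (V : Set G) := fun v' hv' => by
  rw [mem_centralizer_iff]
  exact fun v hv => h.VV' v hv v' hv'

theorem R_le_V' : R i ≤ cj w V := by
  have h1 := cj_mono (g := w) (h.bt.R_le i)
  rwa [h.cj_R] at h1

theorem V'_comm : ∀ a ∈ cj w V, ∀ c ∈ cj w V, a * c = c * a := fun a ha c hc => h.V'c a ha c (h.V'O hc)

theorem V'_sq {a : G} (ha : a ∈ cj w V) : a * a = 1 := by
  rw [mem_cj] at ha
  have h1 := h.bt.V_sq _ ha
  calc a * a = w * ((w⁻¹ * a * w) * (w⁻¹ * a * w)) * w⁻¹ := by group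
    _ = 1 := by rw [h1]; group

theorem T_zp {t : G} (ht : t ∈ T) : IsPGroup 2 (zpowers t) :=
  (h.T₁p.to_le h.le).to_le (by rw [zpowers_le]; exact ht)

/-- `t ∈ T` centralising `R i`: `[V, t] ≤ R i` -/
theorem TR [Finite G] {t : G} (ht : t ∈ T) (hR : ∀ r ∈ R i, t * r = r * t) : ∀ v ∈ V, t * v * t⁻¹ * v⁻¹ ∈ R i :=
  lemA' h.bt (h.TL ht) (h.T_zp ht) hR

/-- `t ∈ T` centralising `R i`: `[V', t] ≤ R i` -/
theorem TR' [Finite G] {t : G} (ht : t ∈ T) (hR : ∀ r ∈ R i, t * r = r * t) :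
    ∀ v ∈ cj w V, t * v * t⁻¹ * v⁻¹ ∈ R i := by
  intro v hv
  have h1 : ∀ r ∈ R i, w⁻¹ * t * w * r = r * (w⁻¹ * t * w) := by
    intro r hr
    have h2 : w * r * w⁻¹ ∈ R i := conj_mem_of_normalizer (h.T₁R h.wT₁) hr
    have h3 := hR _ h2
    calc w⁻¹ * t * w * r = w⁻¹ * (t * (w * r * w⁻¹)) * w := by group
      _ = w⁻¹ * (w * r * w⁻¹ * t) * w := by rw [h3]
      _ = r * (w⁻¹ * t * w) := by group
  rw [mem_cj] at hv
  have h4 := h.TR (h.conj_T' h.wT₁ ht) h1 _ hv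
  have h5 := conj_mem_of_normalizer (h.T₁R h.wT₁) h4
  have e : w * (w⁻¹ * t * w * (w⁻¹ * v * w) * (w⁻¹ * t * w)⁻¹ * (w⁻¹ * v * w)⁻¹) * w⁻¹ = t * v * t⁻¹ * v⁻¹ := by
    group
  rwa [e] at h5

/-! ### `V' ≤ Q j` -/

/-- `R i ∩ C(Q j) = 1` -/
theorem R_cen_Q {j : ι} (hj : j ≠ i) {a : G} (ha : a ∈ R i) (hc : a ∈ centralizer (QQ (R j) : Set G)) : a = 1 := by
  have b := h.bt
  by_contra ha1
  obtain ⟨v, hv, hvU⟩ := b.exists_mover hj.symm
  have h1 : a ∉ R j := b.not_mem hj.symm ha ha1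
  have h2 : v * a = a * v := mem_centralizer_iff.1 hc v (b.K_Q j hv)
  have h3 := b.reg (b.K_Q j hv) (b.R_le i ha) h1 h2
  apply hvU
  rw [mem_centralizer_iff]
  exact fun c hc => (h3 c hc).symm

/-- `x ∈ Z(Q j)` -/
theorem x_Q (j : ι) : x ∈ QQ (R j) ⊓ centralizer (QQ (R j) : Set G) := by
  have b := h.bt
  have h0 : x ∈ centralizer (QQ (R i) : Set G) := by
    rw [mem_centralizer_iff]
    exact fun q hq => h.xT₁ q (h.le (h.QT hq))
  have h1 : x ∈ QQ (R i) := h.cenQ (mem_inf.2 ⟨h.T₁R h.xm, h0⟩)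
  obtain ⟨g, hg, e⟩ := b.trans_X_one i j
  have h2 : g * x * g⁻¹ = x := by
    rw [mem_centralizer_iff.1 h.xX g hg, mul_inv_cancel_right]
  have h3 : g * x * g⁻¹ ∈ cj g (QQ (R i) ⊓ centralizer (QQ (R i) : Set G)) := conj_mem_cj (mem_inf.2 ⟨h1, h0⟩)
  rwa [h2, cj_inf, ← centralizer_cj, b.cj_QQ e] at h3

/-- `Z(Q j)` is normalised by `N(R j)` -/
theorem norm_ZQ (j : ι) : normalizer (R j : Set G) ≤
    normalizer ((QQ (R j) ⊓ centralizer (QQ (R j) : Set G) : Subgroup G) : Set G) := by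
  intro g hg
  have h1 := le_normalizer_O2 _ hg
  rw [← cj_eq_self_iff, cj_inf, ← centralizer_cj, cj_eq_self_iff.2 h1]

/-- `N j = ⟨x^{N(R j)}⟩ ≤ Z(Q j)` -/
theorem NN_le (j : ι) : WW (zpowers x) (R j) ≤ QQ (R j) ⊓ centralizer (QQ (R j) : Set G) := by
  refine iSup_le fun g => ?_
  have h1 : zpowers x ≤ QQ (R j) ⊓ centralizer (QQ (R j) : Set G) := by
    rw [zpowers_le]
    exact h.x_Q j
  have h2 := cj_mono (g := (g : G)) h1
  rwa [cj_eq_self_iff.2 (h.norm_ZQ j g.2)] at h2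

/-- a 2-subgroup of `C(V)` normalised by `C(V)` is in `T` -/
theorem le_T_of {A : Subgroup G} (hA : A ≤ centralizer (V : Set G)) (h2 : IsPGroup 2 A)
    (hn : ∀ g ∈ centralizer (V : Set G), ∀ a ∈ A, g * a * g⁻¹ ∈ A) : A ≤ T := by
  exact (le_O2_of_normal hA h2 hn).trans h.OC

/-- `Z(Q j) ≤ T ∩ C(V)` -/
theorem ZQ_le (j : ι) : QQ (R j) ⊓ centralizer (QQ (R j) : Set G) ≤ T ⊓ centralizer (V : Set G) := by
  have b := h.bt
  have h1 : QQ (R j) ⊓ centralizer (QQ (R j) : Set G) ≤ centralizer (V : Set G) :=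
    inf_le_right.trans (centralizer_le (b.V_Q j))
  refine le_inf (h.le_T_of h1 ((O2_isPGroup _).to_le inf_le_left) ?_) h1
  exact fun g hg a ha => conj_mem_of_normalizer (h.norm_ZQ j (b.cen_le_N j hg)) ha

/-- `Z(O₂(C(x))) ∩ C(N j) ≤ Q j` -/
theorem cen_NN_le (j : ι) {u : G} (hu : u ∈ O2 (centralizer ({x} : Set G)))
    (hcu : u ∈ centralizer (O2 (centralizer ({x} : Set G)) : Set G))
    (hN : u ∈ centralizer (WW (zpowers x) (R j) : Set G)) : u ∈ QQ (R j) := by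
  have b := h.bt
  set U : Subgroup G := O2 (centralizer ({x} : Set G)) ⊓ centralizer (O2 (centralizer ({x} : Set G)) : Set G)
    with hU
  set B : Subgroup G := normalizer (R j : Set G) ⊓ centralizer (WW (zpowers x) (R j) : Set G) with hB
  have hUC : U ≤ centralizer (V : Set G) := inf_le_right.trans (centralizer_le h.VO)
  have hUN : U ≤ normalizer (R j : Set G) := hUC.trans (b.cen_le_N j)
  have hxN : x ∈ WW (zpowers x) (R j) := V_le_WW (zpowers x) (R j) (mem_zpowers x)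
  have hBC : B ≤ centralizer ({x} : Set G) := by
    intro g hg
    rw [mem_centralizer_singleton_iff]
    exact (mem_centralizer_iff.1 (mem_inf.1 hg).2 x hxN).symm
  have hCU : centralizer ({x} : Set G) ≤ normalizer (U : Set G) := by
    intro g hg
    have h1 := le_normalizer_O2 _ hg
    rw [← cj_eq_self_iff, hU, cj_inf, ← centralizer_cj, cj_eq_self_iff.2 h1]
  have hBn : ∀ g ∈ normalizer (R j : Set G), ∀ c ∈ B, g * c * g⁻¹ ∈ B := by
    intro g hg c hc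
    obtain ⟨hc1, hc2⟩ := mem_inf.1 hc
    refine mem_inf.2 ⟨mul_mem (mul_mem hg hc1) (inv_mem hg), ?_⟩
    exact conj_mem_of_normalizer (normalizer_le_normalizer_centralizer _ (normalizer_le_WW _ _ hg)) hc2
  have h3 : U ⊓ B ≤ O2 (normalizer (R j : Set G)) := by
    refine le_O2_of_chain inf_le_right le_rfl inf_le_left ((O2_isPGroup _).to_le (inf_le_left.trans inf_le_left))
      ?_ (fun c hc g hg => mul_mem (mul_mem hc hg) (inv_mem hc)) hBn
    intro c hc a ha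
    exact mem_inf.2 ⟨conj_mem_of_normalizer (hCU (hBC hc)) ha.1, mul_mem (mul_mem hc ha.2) (inv_mem hc)⟩
  have huU : u ∈ U := mem_inf.2 ⟨hu, hcu⟩
  exact h3 (mem_inf.2 ⟨huU, mem_inf.2 ⟨hUN huU, hN⟩⟩)

/-- **(2)** `V' ≤ ⋂ Q j` -/
theorem le_CC [Finite G] : cj w V ≤ CC R := by
  have b := h.bt
  obtain ⟨j, hj, -⟩ := b.third i i
  rw [b.C_eq hj]
  refine le_inf ?_ ?_
  · intro v hv
    have hu := h.V'O hv
    have hcu : v ∈ centralizer (O2 (centralizer ({x} : Set G)) : Set G) := by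
      rw [mem_centralizer_iff]
      exact fun u hu => (h.V'c v hv u hu).symm
    refine h.cen_NN_le j hu hcu ?_
    rw [mem_centralizer_iff]
    intro n hn
    have hnZ := h.NN_le j hn
    obtain ⟨hnT, hnV⟩ := mem_inf.1 (h.ZQ_le j hnZ)
    have h1 := h.TR' hnT (fun r hr => (mem_centralizer_iff.1 hnV r (b.R_le i hr)).symm) v hv
    have hvN : v ∈ normalizer (R j : Set G) := b.cen_le_N j (h.V'_le_cen hv)
    have h2 : n * v * n⁻¹ * v⁻¹ ∈ WW (zpowers x) (R j) := by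
      have e : n * v * n⁻¹ * v⁻¹ = n * (v * n⁻¹ * v⁻¹) := by group
      rw [e]
      exact mul_mem hn (conj_mem_of_normalizer (normalizer_le_WW _ _ hvN) (inv_mem hn))
    have h3 := h.R_cen_Q hj h1 (mem_inf.1 (h.NN_le j h2)).2
    rwa [mul_inv_eq_one, mul_inv_eq_iff_eq_mul] at h3
  · have h1 := cj_mono (g := w) (b.V_Q i)
    rwa [cj_eq_self_iff.2 (le_normalizer_O2 _ (h.T₁R h.wT₁))] at h1

/-- `[X, V'] ≤ V` -/
theorem XV' [Finite G] {g v : G} (hg : g ∈ XK K) (hv : v ∈ cj w V) : g * v * g⁻¹ * v⁻¹ ∈ V :=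
  h.bt.CX hg (h.le_CC hv)

/-- **(3)** `C_{W j}(V)` centralises `V'` -/
theorem cen_UU [Finite G] (j : ι) {u v : G} (hu : u ∈ UK V K j) (hv : v ∈ cj w V) : u * v = v * u := by
  have b := h.bt
  have key : ∀ j, j ≠ i → ∀ u ∈ UK V K j, ∀ v ∈ cj w V, u * v = v * u := by
    intro j hj u hu v hv
    have hUT : UK V K j ≤ T := by
      refine h.le_T_of (UK_le_cen V K j) ((b.K_isPGroup j).to_le inf_le_left) fun g hg a ha => ?_
      exact conj_mem_of_normalizer (b.cen_le_NU j hg) ha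
    have h1 := h.TR' (hUT hu) (fun r hr => (mem_centralizer_iff.1 (UK_le_cen V K j hu) r (b.R_le i hr)).symm) v hv
    have h2 : u * v * u⁻¹ * v⁻¹ ∈ R j := by
      have h3 := b.KQ j _ (mem_iInf.1 (h.le_CC hv) j) _ (mem_inf.1 hu).1
      have e : u * v * u⁻¹ * v⁻¹ = (v * u * v⁻¹ * u⁻¹)⁻¹ := by group
      rw [e]
      exact inv_mem h3
    have h4 := b.eq_one hj h2 h1
    rwa [mul_inv_eq_one, mul_inv_eq_iff_eq_mul] at h4
  by_cases hj : j = i
  · subst hj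
    obtain ⟨k, hk, -⟩ := b.third j j
    obtain ⟨g, hg, e⟩ := b.trans_X_one j k
    -- `cj g (R j) = R k`
    have h1 : g * u * g⁻¹ ∈ UK V K k := by
      have h2 : cj g (UK V K j) = UK V K k := by
        rw [UK, UK, cj_inf, b.cj_K g j k e, ← centralizer_cj, cj_eq_self_iff.2 (b.X_le_NV hg)]
      rw [← h2]
      exact conj_mem_cj hu
    set c := g * v * g⁻¹ * v⁻¹ with hc
    have h3 : c ∈ V := h.XV' hg hv
    have h4 := key k hk _ h1 v hv
    have h5 : g * u * g⁻¹ * c = c * (g * u * g⁻¹) :=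
      (mem_centralizer_iff.1 (UK_le_cen V K k h1) c h3).symm
    have h6 : g * v * g⁻¹ = c * v := by rw [hc]; group
    have h7 : (g * u * g⁻¹) * (g * v * g⁻¹) = (g * v * g⁻¹) * (g * u * g⁻¹) := by
      rw [h6]
      calc g * u * g⁻¹ * (c * v) = (g * u * g⁻¹ * c) * v := by group
        _ = c * (g * u * g⁻¹ * v) := by rw [h5]; group
        _ = c * v * (g * u * g⁻¹) := by rw [h4]; group
    calc u * v = g⁻¹ * ((g * u * g⁻¹) * (g * v * g⁻¹)) * g := by group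
      _ = g⁻¹ * ((g * v * g⁻¹) * (g * u * g⁻¹)) * g := by rw [h7]
      _ = v * u := by group
  · exact key j hj u hu v hv

/-- **(4)** `V' ≤ V C(X)` -/
theorem split [Finite G] {v : G} (hv : v ∈ cj w V) : ∃ a ∈ V, a⁻¹ * v ∈ centralizer (XK K : Set G) := by
  have b := h.bt
  obtain ⟨j, k, hjk⟩ := b.exists_pair
  have h1 : ∀ l, ∃ a ∈ V, a⁻¹ * v ∈ centralizer (K l : Set G) := fun l =>
    b.cenU l _ (mem_iInf.1 (h.le_CC hv) l) fun u hu hu' => (h.cen_UU l (mem_inf.2 ⟨hu, hu'⟩) hv).symm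
  obtain ⟨a, ha, h2⟩ := h1 j
  obtain ⟨c, hc, h3⟩ := h1 k
  obtain ⟨p, hp, q, hq, e⟩ := b.exists_mul hjk (mul_mem (inv_mem ha) hc)
  refine ⟨a * p, mul_mem ha (b.R_le j hp), b.mem_cen_X hjk ?_ ?_⟩
  · have e1 : (a * p)⁻¹ * v = p⁻¹ * (a⁻¹ * v) := by group
    rw [e1]
    exact mul_mem (inv_mem (b.R_cen_K j hp)) h2
  · have e1 : (a * p)⁻¹ * v = q * (c⁻¹ * v) := by
      have e2 : c = a * (p * q) := by rw [← e]; group
      rw [e2]
      group
    rw [e1]
    exact mul_mem (b.R_cen_K k hq) h3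

/-- **(5)** `T ∩ C(V) ≤ C(V')` -/
theorem cen_T [Finite G] {t : G} (ht : t ∈ T) (hc : t ∈ centralizer (V : Set G)) :
    t ∈ centralizer (cj w V : Set G) := by
  have b := h.bt
  rw [mem_centralizer_iff]
  intro v hv
  obtain ⟨a, ha, hf⟩ := h.split hv
  have h1 := h.TR' ht (fun r hr => (mem_centralizer_iff.1 hc r (b.R_le i hr)).symm) v hv
  have hta := mem_centralizer_iff.1 hc a ha
  have hX := normalizer_le_normalizer_centralizer _ (b.L_le_NX (h.TL ht))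
  have h2 : t * (a⁻¹ * v) * t⁻¹ * (a⁻¹ * v)⁻¹ ∈ centralizer (XK K : Set G) :=
    mul_mem (conj_mem_of_normalizer hX hf) (inv_mem hf)
  have h3 : t * (a⁻¹ * v) * t⁻¹ * (a⁻¹ * v)⁻¹ = t * v * t⁻¹ * v⁻¹ := by
    have h4 := b.V_comm a ha _ (b.R_le i h1)
    calc t * (a⁻¹ * v) * t⁻¹ * (a⁻¹ * v)⁻¹ = (t * a * t⁻¹)⁻¹ * (t * v * t⁻¹ * v⁻¹) * a := by group
      _ = a⁻¹ * (t * v * t⁻¹ * v⁻¹) * a := by rw [← hta]; group
      _ = a⁻¹ * ((t * v * t⁻¹ * v⁻¹) * a) := by group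
      _ = a⁻¹ * (a * (t * v * t⁻¹ * v⁻¹)) := by rw [h4]
      _ = t * v * t⁻¹ * v⁻¹ := by group
  rw [h3] at h2
  have h5 := b.cen_VX (b.R_le i h1) h2
  rw [mul_inv_eq_one, mul_inv_eq_iff_eq_mul] at h5
  exact h5.symm

/-- `T ∩ C(V') ≤ C(V)` -/
theorem cen_T' [Finite G] {t : G} (ht : t ∈ T) (hc : t ∈ centralizer (cj w V : Set G)) :
    t ∈ centralizer (V : Set G) := by
  have h1 : w * t * w⁻¹ ∈ centralizer (V : Set G) := by
    have h2 : w * t * w⁻¹ ∈ centralizer (cj w (cj w V) : Set G) := by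
      rw [centralizer_cj]
      exact conj_mem_cj hc
    rwa [h.cj_V'] at h2
  have h3 := h.cen_T (h.conj_T h.wT₁ ht) h1
  rw [centralizer_cj, mem_cj] at h3
  have e : w⁻¹ * (w * t * w⁻¹) * w = t := by group
  rwa [e] at h3

end Hyp

end Cfsg.Agent.Omega.IId.Cv.TwoFour

end

section


/-!
# `WrCv`, CASE 2a, `q ≥ 4` : the end (helper796, #18009)

`PP = ⟨V, V^w⟩ > CP = PP ∩ C(K i) > R i`; `b ∈ X` and `b' ∈ X^w` with the same `(e, e')`; `δ = b⁻¹ b'` is in the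
stability group of `PP > CP > R i > 1`, so `δ ∈ T₁ C(PP)`; then `[PP, δ] ≤ R i` and `V = V^w`.

* `Hyp.false_four`.
-/

set_option autoImplicit false

namespace Cfsg.Agent.Omega.IId.Cv.TwoFour

open Subgroup Cfsg.Agent.Omega.BTwo

variable {G : Type*} [Group G] {ι : Type*}

/-! ### A Sylow argument -/

theorem relIndex_sup_norm [Finite G] {S K : Subgroup G} (hK : S ≤ normalizer (K : Set G)) :
    S.relIndex K = S.relIndex (K ⊔ S) := by
  have hKH : K ≤ K ⊔ S := le_sup_left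
  have hn : (K.subgroupOf (K ⊔ S)).Normal := (normal_subgroupOf_iff_le_normalizer hKH).2 (sup_le le_normalizer hK)
  have h1 : K.relIndex (K ⊔ S) = K.relIndex S := by
    have h := Subgroup.relIndex_sup_left (K := K.subgroupOf (K ⊔ S)) (H := S.subgroupOf (K ⊔ S))
    rw [← Subgroup.subgroupOf_sup hKH le_sup_right, Subgroup.relIndex_subgroupOf le_rfl,
      Subgroup.relIndex_subgroupOf le_sup_right] at h
    exact h
  have h2 := Subgroup.relIndex_mul_relIndex (K ⊓ S) K (K ⊔ S) inf_le_left le_sup_left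
  have h3 := Subgroup.relIndex_mul_relIndex (K ⊓ S) S (K ⊔ S) inf_le_right le_sup_right
  have h4 : (K ⊓ S).relIndex S = K.relIndex S := Subgroup.inf_relIndex_right K S
  have h4' : (K ⊓ S).relIndex K = S.relIndex K := Subgroup.inf_relIndex_left K S
  rw [h1, h4'] at h2
  rw [h4, ← h2, mul_comm] at h3
  exact (Nat.eq_of_mul_eq_mul_right (Nat.pos_of_ne_zero (Subgroup.index_ne_zero_of_finite
      (H := K.subgroupOf S))) h3).symm

theorem mem_sup_norm {A B : Subgroup G} (h : A ≤ normalizer (B : Set G)) {x : G} (hx : x ∈ A ⊔ B) :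
    ∃ a ∈ A, a⁻¹ * x ∈ B := by
  let T : Subgroup G :=
    { carrier := {x | ∃ a ∈ A, a⁻¹ * x ∈ B}
      one_mem' := ⟨1, one_mem _, by rw [inv_one, one_mul]; exact one_mem _⟩
      mul_mem' := by
        rintro x y ⟨a, ha, h1⟩ ⟨c, hc, h2⟩
        refine ⟨a * c, mul_mem ha hc, ?_⟩
        have e : (a * c)⁻¹ * (x * y) = (c⁻¹ * (a⁻¹ * x) * c) * (c⁻¹ * y) := by group
        rw [e]
        exact mul_mem (conj_inv_mem_of_normalizer (h hc) h1) h2
      inv_mem' := by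
        rintro x ⟨a, ha, h1⟩
        refine ⟨a⁻¹, inv_mem ha, ?_⟩
        have e : a⁻¹⁻¹ * x⁻¹ = a * (a⁻¹ * x)⁻¹ * a⁻¹ := by group
        rw [e]
        exact conj_mem_of_normalizer (h ha) (inv_mem h1) }
  have h1 : A ⊔ B ≤ T := sup_le
    (fun a ha => ⟨a, ha, by rw [inv_mul_cancel]; exact one_mem _⟩)
    (fun c hc => ⟨1, one_mem _, by rw [inv_one, one_mul]; exact hc⟩)
  exact h1 hx

/-- `T₁` Sylow, `K` normalised by `T₁`, the elements of odd order of `K` in `K₀ ⊴ K`: `K = (T₁ ∩ K) K₀` -/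
theorem exists_sylow_mul [Finite G] {T₁ K K₀ : Subgroup G} (hT : IsPGroup 2 T₁)
    (hmax : ∀ P : Subgroup G, IsPGroup 2 P → T₁ ≤ P → P ≤ T₁) (hTK : T₁ ≤ normalizer (K : Set G))
    (hK₀ : K₀ ≤ K) (hn : K ≤ normalizer (K₀ : Set G)) (hodd : ∀ c ∈ K, Odd (orderOf c) → c ∈ K₀) {k : G}
    (hk : k ∈ K) : ∃ t ∈ T₁, t ∈ K ∧ t⁻¹ * k ∈ K₀ := by
  have hfact : Fact (Nat.Prime 2) := ⟨Nat.prime_two⟩
  let S : Sylow 2 G := ⟨T₁, hT, fun {Q} hQ hle => le_antisymm (hmax Q hQ hle) hle⟩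
  have hS : ¬ 2 ∣ T₁.index := S.not_dvd_index
  have h1 : T₁.relIndex K ∣ T₁.index := by
    rw [relIndex_sup_norm hTK]
    exact relIndex_dvd_index_of_le le_sup_right
  have h2 : ¬ 2 ∣ T₁.relIndex K := fun h => hS (h.trans h1)
  have hnorm : (K₀.subgroupOf K).Normal := (normal_subgroupOf_iff_le_normalizer hK₀).2 hn
  have hq : IsPGroup 2 (K ⧸ K₀.subgroupOf K) := by
    intro y
    obtain ⟨⟨c, hc⟩, rfl⟩ := QuotientGroup.mk_surjective y
    obtain ⟨n, m, hm, hnm⟩ := Nat.exists_eq_two_pow_mul_odd (orderOf_pos c).ne'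
    refine ⟨n, ?_⟩
    rw [← QuotientGroup.mk_pow, QuotientGroup.eq_one_iff, mem_subgroupOf]
    change c ^ 2 ^ n ∈ K₀
    refine hodd _ (pow_mem hc _) ?_
    have h3 : orderOf (c ^ 2 ^ n) = m := by
      rw [orderOf_pow' _ (by positivity), hnm, Nat.gcd_mul_right_left, Nat.mul_div_cancel_left _ (by positivity)]
    rw [h3]
    exact hm
  obtain ⟨n, hn'⟩ := IsPGroup.iff_card.mp hq
  have h3 : K₀.relIndex K = 2 ^ n := hn'
  set M : Subgroup G := (T₁ ⊓ K) ⊔ K₀ with hM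
  have h4 : M.relIndex K ∣ 2 ^ n := by
    rw [← h3]
    exact relIndex_dvd_of_le_left K le_sup_right
  have h5 : M.relIndex K ∣ T₁.relIndex K := by
    rw [← inf_relIndex_right T₁ K]
    exact relIndex_dvd_of_le_left K le_sup_left
  have h6 : (2 ^ n).Coprime (T₁.relIndex K) :=
    Nat.Coprime.pow_left n ((Nat.Prime.coprime_iff_not_dvd Nat.prime_two).mpr h2)
  have h7 : K ≤ M := by
    rw [← relIndex_eq_one]
    exact Nat.eq_one_of_dvd_coprimes h6 h4 h5
  obtain ⟨t, ht, h8⟩ := mem_sup_norm (inf_le_right.trans hn : T₁ ⊓ K ≤ normalizer (K₀ : Set G)) (h7 hk)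
  exact ⟨t, ht.1, ht.2, h8⟩

/-! ### Movers -/

/-- `b` moves `e` to `e'` -/
structure Mv (P C A U : Subgroup G) (e e' b : G) : Prop where
  bN : b ∈ normalizer (P : Set G)
  bR : b ∈ normalizer (A : Set G)
  c1 : ∀ y ∈ P, e' * (b * y * b⁻¹) * e'⁻¹ * (b * y * b⁻¹)⁻¹ = e * y * e⁻¹ * y⁻¹
  c2 : ∀ y ∈ P, b * (e * y * e⁻¹ * y⁻¹) * b⁻¹ = e' * y * e'⁻¹ * y⁻¹
  bC : ∀ y ∈ C, b * y * b⁻¹ * y⁻¹ ∈ A
  bU : ∀ y ∈ P, b * y * b⁻¹ * y⁻¹ ∈ U

theorem Mv.conj {P C A U : Subgroup G} {e e' b w : G} (m : Mv P C A U (w⁻¹ * e * w) (w⁻¹ * e' * w) b)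
    (hP : w ∈ normalizer (P : Set G)) (hC : w ∈ normalizer (C : Set G)) (hA : w ∈ normalizer (A : Set G)) :
    Mv P C A (cj w U) e e' (w * b * w⁻¹) where
  bN := mul_mem (mul_mem hP m.bN) (inv_mem hP)
  bR := mul_mem (mul_mem hA m.bR) (inv_mem hA)
  c1 := by
    intro y hy
    have h1 := m.c1 _ (conj_inv_mem_of_normalizer hP hy)
    have h2 := congrArg (fun z => w * z * w⁻¹) h1
    calc e' * (w * b * w⁻¹ * y * (w * b * w⁻¹)⁻¹) * e'⁻¹ * (w * b * w⁻¹ * y * (w * b * w⁻¹)⁻¹)⁻¹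
        = w * (w⁻¹ * e' * w * (b * (w⁻¹ * y * w) * b⁻¹) * (w⁻¹ * e' * w)⁻¹ * (b * (w⁻¹ * y * w) * b⁻¹)⁻¹) * w⁻¹ := by
          group
      _ = w * (w⁻¹ * e * w * (w⁻¹ * y * w) * (w⁻¹ * e * w)⁻¹ * (w⁻¹ * y * w)⁻¹) * w⁻¹ := h2
      _ = e * y * e⁻¹ * y⁻¹ := by group
  c2 := by
    intro y hy
    have h1 := m.c2 _ (conj_inv_mem_of_normalizer hP hy)
    have h2 := congrArg (fun z => w * z * w⁻¹) h1
    calc w * b * w⁻¹ * (e * y * e⁻¹ * y⁻¹) * (w * b * w⁻¹)⁻¹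
        = w * (b * (w⁻¹ * e * w * (w⁻¹ * y * w) * (w⁻¹ * e * w)⁻¹ * (w⁻¹ * y * w)⁻¹) * b⁻¹) * w⁻¹ := by
          group
      _ = w * (w⁻¹ * e' * w * (w⁻¹ * y * w) * (w⁻¹ * e' * w)⁻¹ * (w⁻¹ * y * w)⁻¹) * w⁻¹ := h2
      _ = e' * y * e'⁻¹ * y⁻¹ := by group
  bC := by
    intro y hy
    have h1 := conj_mem_of_normalizer hA (m.bC _ (conj_inv_mem_of_normalizer hC hy))
    have e : w * (b * (w⁻¹ * y * w) * b⁻¹ * (w⁻¹ * y * w)⁻¹) * w⁻¹ = w * b * w⁻¹ * y * (w * b * w⁻¹)⁻¹ * y⁻¹ := by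
      group
    rwa [e] at h1
  bU := by
    intro y hy
    have h1 : w * (b * (w⁻¹ * y * w) * b⁻¹ * (w⁻¹ * y * w)⁻¹) * w⁻¹ ∈ cj w U :=
      conj_mem_cj (m.bU _ (conj_inv_mem_of_normalizer hP hy))
    have e : w * (b * (w⁻¹ * y * w) * b⁻¹ * (w⁻¹ * y * w)⁻¹) * w⁻¹ = w * b * w⁻¹ * y * (w * b * w⁻¹)⁻¹ * y⁻¹ := by
      group
    rwa [e] at h1

/-- `⟨V, V^w⟩` -/
def PP (V : Subgroup G) (w : G) : Subgroup G := V ⊔ cj w V

/-- `⟨V, V^w⟩ ∩ C(K i)` -/
def CP (V B : Subgroup G) (w : G) : Subgroup G := PP V w ⊓ centralizer (B : Set G)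

/-- the stability group -/
def AA (V A B : Subgroup G) (w : G) : Subgroup G :=
  cenMod (CP V B w) (PP V w) ⊓ cenMod A (CP V B w) ⊓ centralizer (A : Set G)

theorem V_le_P (V : Subgroup G) (w : G) : V ≤ PP V w := le_sup_left
theorem V'_le_P (V : Subgroup G) (w : G) : cj w V ≤ PP V w := le_sup_right
theorem CP_le (V B : Subgroup G) (w : G) : CP V B w ≤ PP V w := inf_le_left

namespace Hyp

variable {V L : Subgroup G} {R K : ι → Subgroup G} {i : ι} {T₁ T : Subgroup G} {w x : G}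
  (h : Hyp V L R K i T₁ T w x)
include h

theorem mem_P {y : G} : y ∈ PP V w ↔ ∃ v ∈ V, ∃ v' ∈ cj w V, v * v' = y := by
  constructor
  · intro hy
    have h1 : V ≤ normalizer (cj w V : Set G) := fun v hv =>
      centralizer_le_normalizer _ (mem_centralizer_iff.2 fun v' hv' => (h.VV' v hv v' hv').symm)
    obtain ⟨a, ha, hc⟩ := mem_sup_norm h1 hy
    exact ⟨a, ha, _, hc, by group⟩
  · rintro ⟨v, hv, v', hv', rfl⟩
    exact mul_mem (V_le_P V w hv) (V'_le_P V w hv')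

theorem P_le_O : PP V w ≤ O2 (centralizer ({x} : Set G)) := sup_le h.VO h.V'O

theorem P_c : ∀ a ∈ PP V w, ∀ u ∈ O2 (centralizer ({x} : Set G)), a * u = u * a := by
  intro a ha u hu
  obtain ⟨v, hv, v', hv', rfl⟩ := h.mem_P.1 ha
  calc v * v' * u = v * (v' * u) := by group
    _ = (v * u) * v' := by rw [h.V'c v' hv' u hu]; group
    _ = u * (v * v') := by rw [h.Vc v hv u hu]; group

theorem P_comm : ∀ a ∈ PP V w, ∀ c ∈ PP V w, a * c = c * a := fun a ha c hc => h.P_c a ha c (h.P_le_O hc)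

theorem P_two : IsPGroup 2 (PP V w) := (O2_isPGroup _).to_le h.P_le_O

theorem R_le_P : R i ≤ PP V w := (h.bt.R_le i).trans (V_le_P V w)

theorem wP : w ∈ normalizer (PP V w : Set G) := by
  rw [← cj_eq_self_iff, PP, cj_sup, h.cj_V', sup_comm]

theorem T_P : T ≤ normalizer (PP V w : Set G) := by
  intro t ht
  rw [← cj_eq_self_iff, PP, cj_sup, cj_eq_self_iff.2 (h.TV ht), cj_eq_self_iff.2 (h.TV' ht)]

theorem T₁_P : T₁ ≤ normalizer (PP V w : Set G) := by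
  intro t ht
  by_cases hT : t ∈ T
  · exact h.T_P hT
  · have h1 : w⁻¹ * t ∈ T := h.idx _ (inv_mem h.wT₁) (fun h1 => h.w_not (by
      have := inv_mem h1
      rwa [inv_inv] at this)) _ ht hT
    have e : t = w * (w⁻¹ * t) := by group
    rw [e]
    exact mul_mem h.wP (h.T_P h1)

theorem mem_T {t : G} (ht : t ∈ T₁) (hV : t ∈ normalizer (V : Set G)) : t ∈ T := by
  by_contra hT
  have h1 : t⁻¹ * w ∈ T := h.idx _ (inv_mem ht) (fun h1 => hT (by
    have := inv_mem h1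
    rwa [inv_inv] at this)) _ h.wT₁ h.w_not
  apply h.wV
  rw [cj_eq_self_iff]
  have e : w = t * (t⁻¹ * w) := by group
  rw [e]
  exact mul_mem hV (h.TV h1)

theorem bP [Finite G] {g : G} (hg : g ∈ XK K) : g ∈ normalizer (PP V w : Set G) := by
  refine mem_normalizer_of_conj fun y hy => ?_
  obtain ⟨v, hv, v', hv', rfl⟩ := h.mem_P.1 hy
  have e : g * (v * v') * g⁻¹ = (g * v * g⁻¹) * ((g * v' * g⁻¹ * v'⁻¹) * v') := by group
  rw [e]
  exact mul_mem (V_le_P V w (conj_mem_of_normalizer (h.bt.X_le_NV hg) hv))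
    (mul_mem (V_le_P V w (h.XV' hg hv')) (V'_le_P V w hv'))

theorem dec [Finite G] {y : G} (hy : y ∈ PP V w) :
    ∃ v ∈ V, ∃ f ∈ PP V w, f ∈ centralizer (XK K : Set G) ∧ y = v * f := by
  obtain ⟨v, hv, v', hv', rfl⟩ := h.mem_P.1 hy
  obtain ⟨a, ha, hf⟩ := h.split hv'
  exact ⟨v * a, mul_mem hv ha, a⁻¹ * v', mul_mem (inv_mem (V_le_P V w ha)) (V'_le_P V w hv'), hf, by group⟩

theorem R_of_cen {v : G} (hv : v ∈ V) (hc : v ∈ centralizer (K i : Set G)) : v ∈ R i := by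
  have b := h.bt
  by_contra hR
  obtain ⟨j, hj, -⟩ := b.third i i
  obtain ⟨v₀, hv₀, hU⟩ := b.exists_mover hj
  apply hU
  rw [mem_centralizer_iff]
  intro a ha
  exact (b.reg (b.K_Q i hv₀) hv hR (mem_centralizer_iff.1 hc v₀ hv₀) a ha).symm

theorem dec_C [Finite G] {y : G} (hy : y ∈ CP V (K i) w) :
    ∃ r ∈ R i, ∃ f ∈ PP V w, f ∈ centralizer (XK K : Set G) ∧ y = r * f := by
  obtain ⟨v, hv, f, hf, hfX, rfl⟩ := h.dec (CP_le _ _ _ hy)
  refine ⟨v, h.R_of_cen hv ?_, f, hf, hfX, rfl⟩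
  have e : v = v * f * f⁻¹ := by group
  rw [e]
  exact mul_mem (mem_inf.1 hy).2 (inv_mem (cen_XK_le K i hfX))

theorem norm_C {g : G} (hg : g ∈ normalizer (PP V w : Set G)) (hgR : g ∈ normalizer (R i : Set G)) :
    g ∈ normalizer (CP V (K i) w : Set G) := by
  rw [← cj_eq_self_iff, CP, cj_inf, cj_eq_self_iff.2 hg, ← centralizer_cj,
    cj_eq_self_iff.2 (h.bt.N_K i hgR)]

/-- an element of `PP` commuting with `e ∈ W i`, `e ∉ C(V)`, is in `CP` -/
theorem mem_C [Finite G] {e y : G} (he : e ∈ K i) (hn : e ∉ centralizer (V : Set G)) (hy : y ∈ PP V w)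
    (hc : e * y = y * e) : y ∈ CP V (K i) w := by
  have b := h.bt
  obtain ⟨v, hv, f, hf, hfX, rfl⟩ := h.dec hy
  have hfW : f ∈ centralizer (K i : Set G) := cen_XK_le K i hfX
  refine mem_inf.2 ⟨hy, mul_mem (b.R_cen_K i ?_) hfW⟩
  by_contra hR
  apply hn
  have h1 : e * v = v * e := by
    have h2 := mem_centralizer_iff.1 hfW e he
    calc e * v = e * (v * f) * f⁻¹ := by group
      _ = v * (f * e) * f⁻¹ := by rw [hc]; group
      _ = v * (e * f) * f⁻¹ := by rw [h2]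
      _ = v * e := by group
  rw [mem_centralizer_iff]
  exact fun a ha => (b.reg (b.K_Q i he) hv hR h1 a ha).symm

/-! ### The stability group -/

theorem norm_A {g y : G} (hg : g ∈ normalizer (PP V w : Set G)) (hgR : g ∈ normalizer (R i : Set G))
    (hy : y ∈ AA V (R i) (K i) w) : g * y * g⁻¹ ∈ AA V (R i) (K i) w := by
  have h1 := h.norm_C hg hgR
  exact mem_inf.2 ⟨mem_inf.2 ⟨conj_cenMod h1 hg hy.1.1, conj_cenMod hgR h1 hy.1.2⟩,
    conj_mem_of_normalizer (normalizer_le_normalizer_centralizer _ hgR) hy.2⟩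

theorem A_P : AA V (R i) (K i) w ≤ normalizer (PP V w : Set G) := by
  have _ := h
  exact (inf_le_left.trans inf_le_left).trans (cenMod_normalizes (CP_le _ _ _))

theorem cen_le_A : centralizer (PP V w : Set G) ≤ AA V (R i) (K i) w := by
  intro c hc
  have h1 : centralizer (PP V w : Set G) ≤ centralizer (CP V (K i) w : Set G) := centralizer_le (CP_le _ _ _)
  have h2 : centralizer (PP V w : Set G) ≤ centralizer (R i : Set G) := centralizer_le h.R_le_P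
  have key : ∀ y ∈ PP V w, c * y * c⁻¹ * y⁻¹ = 1 := by
    intro y hy
    rw [← mem_centralizer_iff.1 hc y hy]
    group
  refine mem_inf.2 ⟨mem_inf.2 ⟨⟨centralizer_le_normalizer _ (h1 hc), fun y hy => ?_⟩,
    ⟨centralizer_le_normalizer _ (h2 hc), fun y hy => ?_⟩⟩, h2 hc⟩
  · rw [key y hy]; exact one_mem _
  · rw [key y (CP_le _ _ _ hy)]; exact one_mem _

theorem A_odd {c : G} (hc : c ∈ AA V (R i) (K i) w) (ho : Odd (orderOf c)) : c ∈ centralizer (PP V w : Set G) := by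
  have hR : ∀ r ∈ R i, c * r = r * c := fun r hr => (mem_centralizer_iff.1 hc.2 r hr).symm
  have hC : ∀ y ∈ CP V (K i) w, c * y = y * c := by
    intro y hy
    have h1 := hc.1.2.2 y hy
    exact comm_of_odd ho (h.P_two.to_le h.R_le_P) h1 (hR _ h1)
  rw [mem_centralizer_iff]
  intro y hy
  have h1 := hc.1.1.2 y hy
  exact (comm_of_odd ho (h.P_two.to_le (CP_le _ _ _)) h1 (hC _ h1)).symm

theorem A_fac [Finite G] {δ : G} (hδ : δ ∈ AA V (R i) (K i) w) :
    ∃ t ∈ T₁, t ∈ AA V (R i) (K i) w ∧ t⁻¹ * δ ∈ centralizer (PP V w : Set G) :=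
  exists_sylow_mul h.T₁p h.T₁max
    (fun _ ht => mem_normalizer_of_conj fun _ hy => h.norm_A (h.T₁_P ht) (h.T₁R ht) hy)
    h.cen_le_A (h.A_P.trans (normalizer_le_normalizer_centralizer _)) (fun _ hc ho => h.A_odd hc ho) hδ

/-- `[PP, t] ≤ R i` for `t ∈ T ∩ A` -/
theorem T_A [Finite G] {t y : G} (ht : t ∈ T) (hA : t ∈ AA V (R i) (K i) w) (hy : y ∈ PP V w) :
    t * y * t⁻¹ * y⁻¹ ∈ R i := by
  have hR : ∀ r ∈ R i, t * r = r * t := fun r hr => (mem_centralizer_iff.1 hA.2 r hr).symm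
  obtain ⟨v, hv, v', hv', rfl⟩ := h.mem_P.1 hy
  have h1 := h.TR ht hR v hv
  have h2 := h.TR' ht hR v' hv'
  have h3 := h.bt.V_comm v hv _ (h.bt.R_le i h2)
  have e : t * (v * v') * t⁻¹ * (v * v')⁻¹ = (t * v * t⁻¹ * v⁻¹) * (t * v' * t⁻¹ * v'⁻¹) := by
    calc t * (v * v') * t⁻¹ * (v * v')⁻¹ = (t * v * t⁻¹ * v⁻¹) * (v * (t * v' * t⁻¹ * v'⁻¹)) * v⁻¹ := by group
      _ = (t * v * t⁻¹ * v⁻¹) * (t * v' * t⁻¹ * v'⁻¹) := by rw [h3]; group
  rw [e]
  exact mul_mem h1 h2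

/-- (F2) -/
theorem A_NV [Finite G] {δ y : G} (hδ : δ ∈ AA V (R i) (K i) w) (hV : δ ∈ normalizer (V : Set G)) (hy : y ∈ PP V w) :
    δ * y * δ⁻¹ * y⁻¹ ∈ R i := by
  obtain ⟨t, ht, htA, hc⟩ := h.A_fac hδ
  set c := t⁻¹ * δ with hc'
  have e : δ = t * c := by rw [hc']; group
  have hcV : c ∈ normalizer (V : Set G) := centralizer_le_normalizer _ (centralizer_le (V_le_P V w) hc)
  have htV : t ∈ normalizer (V : Set G) := by
    have e' : t = δ * c⁻¹ := by rw [hc']; group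
    rw [e']
    exact mul_mem hV (inv_mem hcV)
  have h1 := h.T_A (h.mem_T ht htV) htA hy
  have h2 := mem_centralizer_iff.1 hc y hy
  have e2 : δ * y * δ⁻¹ * y⁻¹ = t * y * t⁻¹ * y⁻¹ := by
    calc δ * y * δ⁻¹ * y⁻¹ = t * (c * y) * c⁻¹ * t⁻¹ * y⁻¹ := by rw [e]; group
      _ = t * y * t⁻¹ * y⁻¹ := by rw [← h2]; group
  rwa [e2]

/-- (F3) -/
theorem A_two [Finite G] {δ₁ δ₂ y : G} (h₁ : δ₁ ∈ AA V (R i) (K i) w) (hV₁ : δ₁ ∉ normalizer (V : Set G))
    (h₂ : δ₂ ∈ AA V (R i) (K i) w) (hV₂ : δ₂ ∉ normalizer (V : Set G)) (hy : y ∈ PP V w) :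
    (δ₁⁻¹ * δ₂) * y * (δ₁⁻¹ * δ₂)⁻¹ * y⁻¹ ∈ R i := by
  have key : ∀ δ ∈ AA V (R i) (K i) w, δ ∉ normalizer (V : Set G) → ∃ t ∈ T₁, t ∉ T ∧ t ∈ AA V (R i) (K i) w ∧
      ∃ c ∈ centralizer (PP V w : Set G), δ = t * c := by
    intro δ hδ hδV
    obtain ⟨t, ht, htA, hc⟩ := h.A_fac hδ
    refine ⟨t, ht, fun hT => hδV ?_, htA, t⁻¹ * δ, hc, by group⟩
    have e : δ = t * (t⁻¹ * δ) := by group
    rw [e]
    exact mul_mem (h.TV hT) (centralizer_le_normalizer _ (centralizer_le (V_le_P V w) hc))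
  obtain ⟨t₁, ht₁, hn₁, hA₁, c₁, hc₁, rfl⟩ := key δ₁ h₁ hV₁
  obtain ⟨t₂, ht₂, hn₂, hA₂, c₂, hc₂, rfl⟩ := key δ₂ h₂ hV₂
  have hT : t₁⁻¹ * t₂ ∈ T := h.idx _ (inv_mem ht₁) (fun h1 => hn₁ (by
    have := inv_mem h1
    rwa [inv_inv] at this)) _ ht₂ hn₂
  have hA : t₁⁻¹ * t₂ ∈ AA V (R i) (K i) w := mul_mem (inv_mem hA₁) hA₂
  set s := t₁⁻¹ * t₂ with hs
  have h1 := h.T_A hT hA hy
  have hsy : s * y * s⁻¹ ∈ PP V w := conj_mem_of_normalizer (h.A_P hA) hy
  have h2 := mem_centralizer_iff.1 hc₂ y hy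
  have h3 := mem_centralizer_iff.1 hc₁ _ hsy
  have e : ((t₁ * c₁)⁻¹ * (t₂ * c₂)) * y * ((t₁ * c₁)⁻¹ * (t₂ * c₂))⁻¹ * y⁻¹ = s * y * s⁻¹ * y⁻¹ := by
    calc ((t₁ * c₁)⁻¹ * (t₂ * c₂)) * y * ((t₁ * c₁)⁻¹ * (t₂ * c₂))⁻¹ * y⁻¹
        = c₁⁻¹ * (s * (c₂ * y) * c₂⁻¹ * s⁻¹ * c₁) * y⁻¹ := by rw [hs]; group
      _ = c₁⁻¹ * ((s * y * s⁻¹) * c₁) * y⁻¹ := by rw [← h2]; group
      _ = c₁⁻¹ * (c₁ * (s * y * s⁻¹)) * y⁻¹ := by rw [h3]
      _ = s * y * s⁻¹ * y⁻¹ := by group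
  rwa [e]

/-! ### The two movers -/

omit h in
theorem comm_mul {g v f : G} (hf : g * f = f * g) : g * (v * f) * g⁻¹ * (v * f)⁻¹ = g * v * g⁻¹ * v⁻¹ := by
  have e : f * g⁻¹ = g⁻¹ * f := by
    calc f * g⁻¹ = g⁻¹ * (g * f) * g⁻¹ := by group
      _ = g⁻¹ * f := by rw [hf]; group
  calc g * (v * f) * g⁻¹ * (v * f)⁻¹ = g * v * (f * g⁻¹) * f⁻¹ * v⁻¹ := by group
    _ = g * v * g⁻¹ * v⁻¹ := by rw [e]; group

omit h in
theorem conj_mul_cen {g v f : G} (hf : g * f = f * g) : g * (v * f) * g⁻¹ = g * v * g⁻¹ * f := by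
  calc g * (v * f) * g⁻¹ = g * v * g⁻¹ * (g * f) * g⁻¹ := by group
    _ = g * v * g⁻¹ * f := by rw [hf]; group

theorem mover [Finite G] {e e' b : G} (he : e ∈ K i) (he' : e' ∈ K i) (hb : b ∈ XK K)
    (hR : b ∈ normalizer (R i : Set G))
    (c1 : ∀ v ∈ V, e' * (b * v * b⁻¹) * e'⁻¹ * (b * v * b⁻¹)⁻¹ = e * v * e⁻¹ * v⁻¹)
    (c2 : ∀ v ∈ V, b * (e * v * e⁻¹ * v⁻¹) * b⁻¹ = e' * v * e'⁻¹ * v⁻¹) :
    Mv (PP V w) (CP V (K i) w) (R i) V e e' b where
  bN := h.bP hb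
  bR := hR
  c1 := by
    intro y hy
    obtain ⟨v, hv, f, -, hf, rfl⟩ := h.dec hy
    have h1 := mem_centralizer_iff.1 hf b hb
    have h2 := mem_centralizer_iff.1 hf e (K_le_X K i he)
    have h3 := mem_centralizer_iff.1 hf e' (K_le_X K i he')
    rw [conj_mul_cen h1, comm_mul h3, comm_mul h2]
    exact c1 v hv
  c2 := by
    intro y hy
    obtain ⟨v, hv, f, -, hf, rfl⟩ := h.dec hy
    have h2 := mem_centralizer_iff.1 hf e (K_le_X K i he)
    have h3 := mem_centralizer_iff.1 hf e' (K_le_X K i he')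
    rw [comm_mul h3, comm_mul h2]
    exact c2 v hv
  bC := by
    intro y hy
    obtain ⟨r, hr, f, -, hf, rfl⟩ := h.dec_C hy
    rw [comm_mul (mem_centralizer_iff.1 hf b hb)]
    exact mul_mem (conj_mem_of_normalizer hR hr) (inv_mem hr)
  bU := by
    intro y hy
    obtain ⟨v, hv, f, -, hf, rfl⟩ := h.dec hy
    rw [comm_mul (mem_centralizer_iff.1 hf b hb)]
    exact mul_mem (conj_mem_of_normalizer (h.bt.X_le_NV hb) hv) (inv_mem hv)

/-- `b⁻¹ b'` is in the stability group -/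
theorem delta_mem [Finite G] {U U' : Subgroup G} {e e' b b' : G} (he : e ∈ K i)
    (hn : e ∉ centralizer (V : Set G)) (m : Mv (PP V w) (CP V (K i) w) (R i) U e e' b)
    (m' : Mv (PP V w) (CP V (K i) w) (R i) U' e e' b') : b⁻¹ * b' ∈ AA V (R i) (K i) w := by
  have bt := h.bt
  have heT : e ∈ T := h.QT (bt.K_Q i he)
  have hN : b⁻¹ * b' ∈ normalizer (PP V w : Set G) := mul_mem (inv_mem m.bN) m'.bN
  have hR : b⁻¹ * b' ∈ normalizer (R i : Set G) := mul_mem (inv_mem m.bR) m'.bR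
  have hC := h.norm_C hN hR
  refine mem_inf.2 ⟨mem_inf.2 ⟨⟨hC, fun y hy => ?_⟩, ⟨hR, fun y hy => ?_⟩⟩, ?_⟩
  · set z := b' * y * b'⁻¹ with hz
    have hzP : z ∈ PP V w := conj_mem_of_normalizer m'.bN hy
    set y' := b⁻¹ * z * b with hy'
    have hy'P : y' ∈ PP V w := conj_inv_mem_of_normalizer m.bN hzP
    have e1 := m.c1 y' hy'P
    have e2 := m'.c1 y hy
    have e3 : b * y' * b⁻¹ = z := by rw [hy']; group
    rw [e3] at e1
    rw [← hz, e1] at e2
    -- `e2 : [e, y'] = [e, y]`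
    have e4 : b⁻¹ * b' * y * (b⁻¹ * b')⁻¹ * y⁻¹ = y' * y⁻¹ := by rw [hy', hz]; group
    rw [e4]
    have hyy : y' * y⁻¹ ∈ PP V w := mul_mem hy'P (inv_mem hy)
    refine h.mem_C he hn hyy ?_
    set s := e * y * e⁻¹ * y⁻¹ with hs
    have hsP : s ∈ PP V w := mul_mem (conj_mem_of_normalizer (h.T_P heT) hy) (inv_mem hy)
    have h1 := h.P_comm s hsP _ hyy
    calc e * (y' * y⁻¹) = (e * y' * e⁻¹ * y'⁻¹) * (y' * y⁻¹) * s⁻¹ * e := by rw [hs]; group
      _ = (s * (y' * y⁻¹)) * s⁻¹ * e := by rw [e2]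
      _ = y' * y⁻¹ * e := by rw [h1]; group
  · have h1 := m'.bC y hy
    have hy1 : b⁻¹ * y * b ∈ CP V (K i) w := conj_inv_mem_of_normalizer (h.norm_C m.bN m.bR) hy
    have h2 := m.bC _ hy1
    have h3 := conj_inv_mem_of_normalizer m.bR h1
    have e4 : b⁻¹ * b' * y * (b⁻¹ * b')⁻¹ * y⁻¹ =
        (b⁻¹ * (b' * y * b'⁻¹ * y⁻¹) * b) * (b * (b⁻¹ * y * b) * b⁻¹ * (b⁻¹ * y * b)⁻¹)⁻¹ := by group
    rw [e4]
    exact mul_mem h3 (inv_mem h2)
  · rw [mem_centralizer_iff]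
    intro r hr
    obtain ⟨j, hj, -⟩ := bt.third i i
    have hn' : ¬ ∀ a ∈ V, e * a = a * e := fun hc => hn (by
      rw [mem_centralizer_iff]
      exact fun a ha => (hc a ha).symm)
    obtain ⟨v, hv, rfl⟩ := bt.full (bt.K_Q i he) hn' hj r hr
    have hvP := V_le_P V w (bt.R_le j hv)
    have h1 := m.c2 v hvP
    have h2 := m'.c2 v hvP
    set r := e * v * e⁻¹ * v⁻¹ with hr'
    have h3 : b * r * b⁻¹ = b' * r * b'⁻¹ := h1.trans h2.symm
    calc r * (b⁻¹ * b') = b⁻¹ * (b * r * b⁻¹) * b' := by group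
      _ = b⁻¹ * b' * r := by rw [h3]; group

omit h in
/-- a fixed point free element of `N(V)` on `V / R i` -/
theorem surj_of_fpf [Finite G] (b : KT V L R K) {g : G} (hg : g ∈ normalizer (V : Set G))
    (hf : ∀ v ∈ V, g * v * g⁻¹ * v⁻¹ ∈ R i → v ∈ R i) :
    ∀ v ∈ V, ∃ u ∈ V, ∃ r ∈ R i, v = r * (g * u * g⁻¹ * u⁻¹) := by
  obtain ⟨j, hj, -⟩ := b.third i i
  have hV : ∀ u ∈ V, g * u * g⁻¹ * u⁻¹ ∈ V := fun u hu => mul_mem (conj_mem_of_normalizer hg hu) (inv_mem hu)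
  have hch : ∀ u : R j, ∃ c : R j, g * u * g⁻¹ * (u : G)⁻¹ * (c : G)⁻¹ ∈ R i := by
    intro u
    obtain ⟨a, ha, c, hc, e⟩ := b.exists_mul (Ne.symm hj) (hV u (b.R_le j u.2))
    refine ⟨⟨c, hc⟩, ?_⟩
    rw [e, mul_inv_cancel_right]
    exact ha
  choose φ hφ using hch
  have hinj : Function.Injective φ := by
    intro u v huv
    have h1 := hφ u
    have h2 := hφ v
    rw [huv] at h1
    have h3 := mul_mem h1 (inv_mem h2)
    have hu := b.R_le j u.2
    have hv := b.R_le j v.2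
    have h4 : g * ((u : G) * (v : G)⁻¹) * g⁻¹ * ((u : G) * (v : G)⁻¹)⁻¹ ∈ R i := by
      have h5 := b.V_comm _ (mul_mem (inv_mem hu) (hv)) _ (inv_mem (conj_mem_of_normalizer hg hv))
      have e : g * ((u : G) * (v : G)⁻¹) * g⁻¹ * ((u : G) * (v : G)⁻¹)⁻¹ =
          g * u * g⁻¹ * (u : G)⁻¹ * (φ v : G)⁻¹ * (g * v * g⁻¹ * (v : G)⁻¹ * (φ v : G)⁻¹)⁻¹ := by
        have h6 := b.V_comm _ (inv_mem (b.R_le j (φ v).2)) _ (b.R_le j (φ v).2)
        have h7 := b.V_comm _ (inv_mem hu) _ hv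
        calc g * ((u : G) * (v : G)⁻¹) * g⁻¹ * ((u : G) * (v : G)⁻¹)⁻¹
            = (g * u * g⁻¹) * ((g * v * g⁻¹)⁻¹ * (v * (u : G)⁻¹)) := by group
          _ = (g * u * g⁻¹) * ((g * v * g⁻¹)⁻¹ * ((u : G)⁻¹ * v)) := by rw [h7]
          _ = (g * u * g⁻¹) * (((u : G)⁻¹ * v) * (g * v * g⁻¹)⁻¹) := by rw [h5]
          _ = _ := by group
      rw [e]
      exact h3
    have h5 := hf _ (mul_mem hu (inv_mem hv)) h4
    have h6 := b.eq_one hj (mul_mem u.2 (inv_mem v.2)) h5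
    rw [mul_inv_eq_one] at h6
    exact Subtype.ext h6
  have hsurj := Finite.surjective_of_injective hinj
  intro v hv
  obtain ⟨a, ha, c, hc, rfl⟩ := b.exists_mul (Ne.symm hj) hv
  obtain ⟨u, hu⟩ := hsurj ⟨c, hc⟩
  have h1 := hφ u
  rw [hu] at h1
  have hu' := b.R_le j u.2
  refine ⟨u, hu', a * (g * u * g⁻¹ * (u : G)⁻¹ * c⁻¹)⁻¹, mul_mem ha (inv_mem h1), ?_⟩
  group

/-- `V = V'` follows -/
theorem false_of [Finite G] {e e' b b' : G} (he : e ∈ K i) (he' : e' ∈ K i)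
    (hn : e ∉ centralizer (V : Set G)) (hee : e⁻¹ * e' ∉ centralizer (V : Set G)) (hb : b ∈ XK K)
    (m : Mv (PP V w) (CP V (K i) w) (R i) V e e' b)
    (m' : Mv (PP V w) (CP V (K i) w) (R i) (cj w V) e e' b') : False := by
  have bt := h.bt
  have hbV := bt.X_le_NV hb
  -- `b` is fixed point free on `V / R i`
  have hfpf : ∀ v ∈ V, b * v * b⁻¹ * v⁻¹ ∈ R i → v ∈ R i := by
    intro v hv hr
    by_contra hvR
    set r := b * v * b⁻¹ * v⁻¹ with hr'
    have h1 := m.c1 v (V_le_P V w hv)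
    have e1 : b * v * b⁻¹ = r * v := by rw [hr']; group
    have h2 := bt.conj_R (bt.K_Q i he') hr
    have h3 : e' * v * e'⁻¹ * v⁻¹ ∈ V := bt.R_le i (bt.QV i _ (bt.K_Q i he') v hv)
    have h4 := bt.V_comm _ (bt.R_le i hr) _ h3
    have h5 : e' * v * e'⁻¹ * v⁻¹ = e * v * e⁻¹ * v⁻¹ := by
      rw [← h1, e1]
      calc e' * v * e'⁻¹ * v⁻¹ = (r * (e' * v * e'⁻¹ * v⁻¹)) * r⁻¹ := by rw [h4]; group
        _ = ((e' * r * e'⁻¹) * (e' * v * e'⁻¹ * v⁻¹)) * r⁻¹ := by rw [h2]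
        _ = e' * (r * v) * e'⁻¹ * (r * v)⁻¹ := by group
    have h6 : e⁻¹ * e' * v = v * (e⁻¹ * e') := by
      have h7 : e' * v * e'⁻¹ = e * v * e⁻¹ := mul_right_cancel h5
      calc e⁻¹ * e' * v = e⁻¹ * (e' * v * e'⁻¹) * e' := by group
        _ = v * (e⁻¹ * e') := by rw [h7]; group
    apply hee
    rw [mem_centralizer_iff]
    exact fun a ha => (bt.reg (bt.K_Q i (mul_mem (inv_mem he) he')) hv hvR h6 a ha).symm
  have hsurj := surj_of_fpf bt hbV hfpf
  set δ := b⁻¹ * b' with hδ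
  have hA : δ ∈ AA V (R i) (K i) w := h.delta_mem he hn m m'
  have hδR : ∀ r ∈ R i, δ * r * δ⁻¹ = r := by
    intro r hr
    rw [← mem_centralizer_iff.1 hA.2 r hr, mul_inv_cancel_right]
  have hδN : δ ∈ normalizer (V : Set G) := by
    by_contra hδV
    apply hδV
    refine mem_normalizer_of_conj fun v hv => ?_
    have hδ₂ : b * δ * b⁻¹ ∉ normalizer (V : Set G) := by
      intro h1
      apply hδV
      have h2 := mul_mem (mul_mem (inv_mem hbV) h1) hbV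
      have e : b⁻¹ * (b * δ * b⁻¹) * b = δ := by group
      rwa [e] at h2
    obtain ⟨u, hu, r, hr, rfl⟩ := hsurj v hv
    have huP := V_le_P V w hu
    have h1 := h.A_two hA hδV (h.norm_A m.bN m.bR hA) hδ₂ (conj_mem_of_normalizer m.bN huP)
    set ρ := δ⁻¹ * (b * δ * b⁻¹) * (b * u * b⁻¹) * (δ⁻¹ * (b * δ * b⁻¹))⁻¹ * (b * u * b⁻¹)⁻¹ with hρ
    -- `c = [δ, u] ∈ CP`
    set c := δ * u * δ⁻¹ * u⁻¹ with hc
    have hcC : c ∈ CP V (K i) w := hA.1.1.2 u huP
    have h2 := m.bC c hcC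
    set σ := b * c * b⁻¹ * c⁻¹ with hσ
    have h3 : δ * (b * u * b⁻¹) * δ⁻¹ = ρ⁻¹ * (σ * (c * (b * u * b⁻¹))) := by
      have h4 := hδR ρ h1
      calc δ * (b * u * b⁻¹) * δ⁻¹ = (δ * ρ * δ⁻¹)⁻¹ * (δ * (ρ * (b * u * b⁻¹)) * δ⁻¹) := by group
        _ = ρ⁻¹ * (δ * (ρ * (b * u * b⁻¹)) * δ⁻¹) := by rw [h4]
        _ = ρ⁻¹ * (σ * (c * (b * u * b⁻¹))) := by rw [hρ, hσ, hc]; group
    have hbuP : b * u * b⁻¹ ∈ PP V w := conj_mem_of_normalizer m.bN huP
    have h5 := h.P_comm c (CP_le _ _ _ hcC) _ (mul_mem hbuP (inv_mem huP))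
    have h6 : δ * (b * u * b⁻¹ * u⁻¹) * δ⁻¹ = ρ⁻¹ * σ * (b * u * b⁻¹ * u⁻¹) := by
      have h7 := h.P_comm u⁻¹ (inv_mem huP) c⁻¹ (inv_mem (CP_le _ _ _ hcC))
      calc δ * (b * u * b⁻¹ * u⁻¹) * δ⁻¹ = (δ * (b * u * b⁻¹) * δ⁻¹) * (u⁻¹ * c⁻¹) := by rw [hc]; group
        _ = (ρ⁻¹ * (σ * (c * (b * u * b⁻¹)))) * (u⁻¹ * c⁻¹) := by rw [h3]
        _ = ρ⁻¹ * σ * (c * (b * u * b⁻¹ * u⁻¹)) * c⁻¹ := by group
        _ = ρ⁻¹ * σ * (b * u * b⁻¹ * u⁻¹) := by rw [h5]; group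
    have h8 : δ * (r * (b * u * b⁻¹ * u⁻¹)) * δ⁻¹ = r * (ρ⁻¹ * σ * (b * u * b⁻¹ * u⁻¹)) := by
      calc δ * (r * (b * u * b⁻¹ * u⁻¹)) * δ⁻¹ = (δ * r * δ⁻¹) * (δ * (b * u * b⁻¹ * u⁻¹) * δ⁻¹) := by group
        _ = r * (ρ⁻¹ * σ * (b * u * b⁻¹ * u⁻¹)) := by rw [hδR r hr, h6]
    rw [h8]
    exact mul_mem (bt.R_le i hr) (mul_mem (bt.R_le i (mul_mem (inv_mem h1) h2))
      (mul_mem (conj_mem_of_normalizer hbV hu) (inv_mem hu)))
  -- `V ≤ V'`
  have hle : V ≤ cj w V := by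
    intro v hv
    obtain ⟨u, hu, r, hr, rfl⟩ := hsurj v hv
    have huP := V_le_P V w hu
    have h1 := h.A_NV hA hδN huP
    have h2 := m'.bU u huP
    have h3 := conj_mem_of_normalizer m.bR (inv_mem h1)
    have e : r * (b * u * b⁻¹ * u⁻¹) = r * (b * (δ * u * δ⁻¹ * u⁻¹)⁻¹ * b⁻¹) * (b' * u * b'⁻¹ * u⁻¹) := by
      rw [hδ]; group
    rw [e]
    exact mul_mem (mul_mem (h.R_le_V' hr) (h.R_le_V' h3)) h2
  apply h.wV
  exact (Subgroup.eq_of_le_of_card_ge hle (by rw [card_cj])).symm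

end Hyp

/-- the field input: `b ∈ X ∩ N(R i)` moving `e` to `e'` -/
def FQ (V : Subgroup G) (R K : ι → Subgroup G) (i : ι) : Prop :=
  ∀ e ∈ K i, e ∉ centralizer (V : Set G) → ∀ e' ∈ K i, e' ∉ centralizer (V : Set G) →
    ∃ b ∈ XK K, b ∈ normalizer (R i : Set G) ∧
      (∀ v ∈ V, e' * (b * v * b⁻¹) * e'⁻¹ * (b * v * b⁻¹)⁻¹ = e * v * e⁻¹ * v⁻¹) ∧
      ∀ v ∈ V, b * (e * v * e⁻¹ * v⁻¹) * b⁻¹ = e' * v * e'⁻¹ * v⁻¹

/-- **(2a) is impossible for `q ≥ 4`** -/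
theorem Hyp.false_four [Finite G] {V L : Subgroup G} {R K : ι → Subgroup G} {i : ι} {T₁ T : Subgroup G} {w x : G}
    (h : Hyp V L R K i T₁ T w x) (hFQ : FQ V R K i)
    (h4 : ∃ e ∈ K i, e ∉ centralizer (V : Set G) ∧ ∃ e' ∈ K i, e' ∉ centralizer (V : Set G) ∧
      e⁻¹ * e' ∉ centralizer (V : Set G)) : False := by
  obtain ⟨e, he, hn, e', he', hn', hee⟩ := h4
  obtain ⟨b, hb, hbR, c1, c2⟩ := hFQ e he hn e' he' hn'
  have m := h.mover he he' hb hbR c1 c2
  have hwR := h.T₁R h.wT₁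
  have key : ∀ a ∈ K i, a ∉ centralizer (V : Set G) →
      w⁻¹ * a * w ∈ K i ∧ w⁻¹ * a * w ∉ centralizer (V : Set G) := by
    intro a ha han
    refine ⟨conj_inv_mem_of_normalizer (h.bt.N_K i hwR) ha, fun hc => han ?_⟩
    apply h.cen_T' (h.QT (h.bt.K_Q i ha))
    rw [centralizer_cj, mem_cj]
    exact hc
  obtain ⟨k1, k2⟩ := key e he hn
  obtain ⟨k3, k4⟩ := key e' he' hn'
  obtain ⟨b₀, hb₀, hbR₀, d1, d2⟩ := hFQ _ k1 k2 _ k3 k4
  have m' := (h.mover k1 k3 hb₀ hbR₀ d1 d2).conj h.wP (h.norm_C h.wP hwR) hwR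
  exact h.false_of he he' hn hee hb m m'

end Cfsg.Agent.Omega.IId.Cv.TwoFour

end

end

-- merged: Cfsg.Agent.Mrg.Omega.IId.Cv.TwoFourR
section

/-!
# `WrCv`, CASE 2a, `q ≥ 4` : relative natural modules `RMod F V N` (helper796)

* `AtLine M w` : the data at the line `R = M.line w`: `V ≤ Q = O₂(N_G(R)) ≤ UW w`, `KX R` full on `V`, `cen`;
* `AtLine.kt` : `KT V N (pt M) (KX (pt M ·))`;
* `AtLine.fq`, `AtLine.h4` : the field input of `Hyp.false_four`;
* `full_of_mover` : `KX R` is full if it moves `V`;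
* `Partner` : a natural module `V' ≤ KX R` with the line `R` which does not commute with `V`; `Partner.at10`.
-/

set_option autoImplicit false
set_option linter.unusedSectionVars false

namespace Cfsg.Agent.Omega.IId.Cv.TwoFour

open Subgroup Cfsg.Agent.Lib.SL2Mat Cfsg.Agent.Omega.BTwo
open Cfsg.Agent.Omega.NatPair (dt dt_add dt_smul exists_smul_of_dt exists_comb ap ap_smul ap_add ap_zero' ap_one'
  ap_mul ap_inv_ap ap_ap_inv ap_one exists_ap exists_ap_e ap_up_e ext2)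
open Cfsg.Agent.Omega.Mix (RMod Pt pt Char2)
open Cfsg.Agent.Omega.IId.NV (KX mem_KX normalizer_le_normalizer_KX KX_le)

universe u

/-! ### `KX` and conjugation -/

section kx

variable {G : Type u} [Group G]

theorem cj_KX_le (g : G) (R : Subgroup G) : cj g (KX R) ≤ KX (cj g R) := by
  rintro _ ⟨a, ha, rfl⟩
  change g * a * g⁻¹ ∈ KX (cj g R)
  obtain ⟨h1, h2⟩ := mem_KX.1 ha
  rw [mem_KX]
  refine ⟨fun y hy => ?_, fun q hq => ?_⟩
  · have h3 := h1 _ (mem_cj.1 hy)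
    calc g * a * g⁻¹ * y = g * (a * (g⁻¹ * y * g)) * g⁻¹ := by group
      _ = g * (g⁻¹ * y * g * a) * g⁻¹ := by rw [h3]
      _ = y * (g * a * g⁻¹) := by group
  · have hq' : q ∈ cj g (QQ R) := by
      rw [Mix.cj_QQ]
      exact hq
    have h3 := h2 _ (mem_cj.1 hq')
    rw [mem_cj]
    have e : g⁻¹ * (g * a * g⁻¹ * q * (g * a * g⁻¹)⁻¹ * q⁻¹) * g = a * (g⁻¹ * q * g) * a⁻¹ * (g⁻¹ * q * g)⁻¹ := by
      group
    rw [e]
    exact h3

theorem cj_KX (g : G) (R : Subgroup G) : cj g (KX R) = KX (cj g R) := by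
  apply le_antisymm (cj_KX_le g R)
  have h := cj_mono (g := g) (cj_KX_le g⁻¹ (cj g R))
  rwa [cj_cj_inv, cj_inv_cj] at h

theorem char2_cj {H : Subgroup G} (h : Char2 H) (g : G) : Char2 (cj g H) := by
  intro x hx hq
  rw [← cj_O2] at hq ⊢
  rw [mem_cj]
  refine h _ (mem_cj.1 hx) fun q hq' => ?_
  have h1 := hq _ (conj_mem_cj (g := g) hq')
  calc g⁻¹ * x * g * q = g⁻¹ * (x * (g * q * g⁻¹)) * g := by group
    _ = g⁻¹ * (g * q * g⁻¹ * x) * g := by rw [h1]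
    _ = q * (g⁻¹ * x * g) := by group

end kx

/-! ### The data at a line -/

variable {G : Type u} [Group G] {F : Type*} [Field F] {V N : Subgroup G} {M : RMod F V N}

/-- the data at the line `M.line w` -/
structure AtLine (M : RMod F V N) (w : Fin 2 → F) : Prop where
  ch : Char2 (normalizer (M.line w : Set G))
  VQ : V ≤ QQ (M.line w)
  QU : QQ (M.line w) ≤ M.UW w
  full : M.Full (KX (M.line w)) w
  cen : ∀ x ∈ QQ (M.line w), (∀ u ∈ KX (M.line w), u ∈ centralizer (V : Set G) → x * u = u * x) →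
    ∃ v ∈ V, v⁻¹ * x ∈ centralizer (KX (M.line w) : Set G)

theorem conj_UW {w : Fin 2 → F} {l : G} {A : Matrix.SpecialLinearGroup (Fin 2) F} (hl : M.Ind l A) {x : G}
    (hx : x ∈ M.UW w) : l * x * l⁻¹ ∈ M.UW (ap A w) := by
  obtain ⟨B, hB, hB'⟩ := hx
  refine ⟨A * B * A⁻¹, ?_, fun y => ?_⟩
  · rw [ap_mul, ap_mul, ap_inv_ap, hB]
  · have h1 : l⁻¹ * M.e y * l = M.e (ap A⁻¹ y) := by
      have h2 := hl (ap A⁻¹ y)
      rw [ap_ap_inv] at h2
      rw [← h2]; group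
    calc l * x * l⁻¹ * M.e y * (l * x * l⁻¹)⁻¹ = l * (x * (l⁻¹ * M.e y * l) * x⁻¹) * l⁻¹ := by group
      _ = M.e (ap (A * B * A⁻¹) y) := by rw [h1, hB', hl, ap_mul, ap_mul]

theorem AtLine.cj {w : Fin 2 → F} (a : AtLine M w) {l : G} {A : Matrix.SpecialLinearGroup (Fin 2) F}
    (hl : M.Ind l A) : AtLine M (ap A w) := by
  have e : BTwo.cj l (M.line w) = M.line (ap A w) := M.cj_line_of_ind hl w
  have hV : BTwo.cj l V = V := cj_eq_self_iff.2 (M.le (M.mem_normalizer hl))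
  have eQ : BTwo.cj l (QQ (M.line w)) = QQ (M.line (ap A w)) := by rw [Mix.cj_QQ, e]
  have eK : BTwo.cj l (KX (M.line w)) = KX (M.line (ap A w)) := by rw [cj_KX, e]
  constructor
  · rw [← e, normalizer_cj]
    exact char2_cj a.ch l
  · rw [← eQ]
    have h := cj_mono (g := l) a.VQ
    rwa [hV] at h
  · rw [← eQ]
    rintro _ ⟨x, hx, rfl⟩
    exact conj_UW hl (a.QU hx)
  · intro B hB
    have h1 : ap (A⁻¹ * B * A) w = w := by
      rw [ap_mul, ap_mul, hB, ap_inv_ap]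
    obtain ⟨t, ht, htB⟩ := a.full _ h1
    refine ⟨l * t * l⁻¹, ?_, fun y => ?_⟩
    · rw [← eK]
      exact conj_mem_cj ht
    · have h2 : l⁻¹ * M.e y * l = M.e (ap A⁻¹ y) := by
        have h2 := hl (ap A⁻¹ y)
        rw [ap_ap_inv] at h2
        rw [← h2]; group
      calc l * t * l⁻¹ * M.e y * (l * t * l⁻¹)⁻¹ = l * (t * (l⁻¹ * M.e y * l) * t⁻¹) * l⁻¹ := by group
        _ = M.e (ap B y) := by
          rw [h2, htB, hl, ap_mul, ap_mul, ap_ap_inv, ap_ap_inv]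
  · intro x hx hu
    rw [← eQ] at hx
    rw [← eK] at hu ⊢
    obtain ⟨v, hv, h1⟩ := a.cen _ (mem_cj.1 hx) fun u huK huV => by
      have h2 : l * u * l⁻¹ ∈ centralizer (V : Set G) := by
        have h3 := conj_mem_cj (g := l) huV
        rwa [← centralizer_cj, hV] at h3
      have h3 := hu _ (conj_mem_cj huK) h2
      calc l⁻¹ * x * l * u = l⁻¹ * (x * (l * u * l⁻¹)) * l := by group
        _ = l⁻¹ * (l * u * l⁻¹ * x) * l := by rw [h3]
        _ = u * (l⁻¹ * x * l) := by group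
    refine ⟨l * v * l⁻¹, ?_, ?_⟩
    · have h3 := conj_mem_cj (g := l) hv
      rwa [hV] at h3
    · rw [centralizer_cj, mem_cj]
      have e1 : l⁻¹ * ((l * v * l⁻¹)⁻¹ * x) * l = v⁻¹ * (l⁻¹ * x * l) := by group
      rw [e1]
      exact h1

theorem AtLine.all {w₀ : Fin 2 → F} (hw₀ : w₀ ≠ 0) (a : AtLine M w₀) {w : Fin 2 → F} (hw : w ≠ 0) : AtLine M w := by
  obtain ⟨A, hA⟩ := exists_ap hw₀ hw
  obtain ⟨l, hl⟩ := M.lift A
  have := a.cj hl
  rwa [hA] at this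

variable [Finite G] [Finite F] [CharP F 2]

theorem AtLine.KQ {w : Fin 2 → F} (a : AtLine M w) : KX (M.line w) ≤ QQ (M.line w) := by
  refine KX_le ?_ fun y hy => M.sq (M.line_le w hy)
  rintro x ⟨hx1, hx2⟩
  exact a.ch x hx1 fun q hq => (mem_centralizer_iff.1 hx2 q hq).symm

/-- **`KT`** -/
theorem AtLine.kt {w₀ : Fin 2 → F} (hw₀ : w₀ ≠ 0) (a₀ : AtLine M w₀) :
    KT V N (_root_.Cfsg.Agent.Omega.Mix.pt M) (fun i => KX (_root_.Cfsg.Agent.Omega.Mix.pt M i)) := by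
  have all : ∀ i : _root_.Cfsg.Agent.Omega.Mix.Pt M, ∃ w, w ≠ 0 ∧ i.1 = M.line w ∧ AtLine M w := by
    rintro ⟨_, w, hw, rfl⟩
    exact ⟨w, hw, rfl, a₀.all hw₀ hw⟩
  refine
    { V_comm := fun a ha b hb => M.comm ha hb
      V_sq := fun a ha => M.sq ha
      R_le := M.pt_le
      R_inf := ?_
      R_sup := ?_
      R_cov := ?_
      R_ne := M.pt_ne
      third := M.third
      L_V := M.le
      perm := fun g hg i => M.cj_pt hg i
      V_Q := ?_
      Q_L := ?_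
      QV := ?_
      QR := ?_
      K_Q := ?_
      KQ := ?_
      cj_K := fun g i j h => by rw [cj_KX, h]
      tr := ?_
      cenU := ?_ }
  · intro i j hij
    obtain ⟨w, hw, hi, -⟩ := all i
    obtain ⟨u, hu, hj, -⟩ := all j
    show i.1 ⊓ j.1 = ⊥
    have h1 := M.pt_dt hij hw hu hi hj
    rw [hi, hj]
    exact M.line_inf h1
  · intro i j hij
    apply le_antisymm (sup_le (M.pt_le i) (M.pt_le j))
    intro v hv
    obtain ⟨w, hw, hi, -⟩ := all i
    obtain ⟨u, hu, hj, -⟩ := all j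
    have h1 := M.pt_dt hij hw hu hi hj
    obtain ⟨y, rfl⟩ := (M.mem_iff v).1 hv
    obtain ⟨α, β, rfl⟩ := exists_comb h1 y
    rw [M.e_add]
    refine mul_mem_sup ?_ ?_
    · show _ ∈ i.1
      rw [hi]
      exact ⟨α, rfl⟩
    · show _ ∈ j.1
      rw [hj]
      exact ⟨β, rfl⟩
  · intro v hv
    obtain ⟨y, rfl⟩ := (M.mem_iff v).1 hv
    by_cases hy : y = 0
    · refine ⟨⟨M.line w₀, w₀, hw₀, rfl⟩, ?_⟩
      rw [hy, M.e_zero]
      exact one_mem _
    · exact ⟨⟨M.line y, y, hy, rfl⟩, 1, by rw [one_smul]⟩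
  · intro i
    obtain ⟨w, hw, hi, a⟩ := all i
    show V ≤ QQ i.1
    rw [hi]
    exact a.VQ
  · intro i
    obtain ⟨w, hw, hi, a⟩ := all i
    show QQ i.1 ≤ N
    rw [hi]
    exact a.QU.trans (M.UW_le w)
  · intro i
    obtain ⟨w, hw, hi, a⟩ := all i
    show ∀ g ∈ QQ i.1, ∀ v ∈ V, g * v * g⁻¹ * v⁻¹ ∈ i.1
    rw [hi]
    exact fun g hg v hv => M.UW_comm hw (a.QU hg) hv
  · intro i
    obtain ⟨w, hw, hi, a⟩ := all i
    show ∀ g ∈ QQ i.1, ∀ r ∈ i.1, g * r = r * g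
    rw [hi]
    exact fun g hg r hr => M.UW_cent (a.QU hg) hr
  · intro i
    obtain ⟨w, hw, hi, a⟩ := all i
    show KX i.1 ≤ QQ i.1
    rw [hi]
    exact a.KQ
  · intro i g hg t ht
    have h1 := (mem_KX.1 ht).2 g hg
    have e : g * t * g⁻¹ * t⁻¹ = (t * g * t⁻¹ * g⁻¹)⁻¹ := by group
    rw [e]
    exact inv_mem h1
  · intro i j k hj hk
    obtain ⟨w, hw, hi, a⟩ := all i
    obtain ⟨u, hu, hj'⟩ := j.2
    obtain ⟨u', hu', hk'⟩ := k.2
    have h1 := M.pt_dt hj.symm hw hu hi hj'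
    have h2 := M.pt_dt hk.symm hw hu' hi hk'
    obtain ⟨t, ht, htu⟩ := a.full.move h1 h2
    refine ⟨t, ?_, ?_⟩
    · show t ∈ KX i.1
      rw [hi]
      exact ht
    · show BTwo.cj t j.1 = k.1
      rw [hj', hk']
      exact htu
  · intro i
    obtain ⟨w, hw, hi, a⟩ := all i
    show ∀ x ∈ QQ i.1, (∀ u ∈ KX i.1, u ∈ centralizer (V : Set G) → x * u = u * x) →
      ∃ v ∈ V, v⁻¹ * x ∈ centralizer (KX i.1 : Set G)
    rw [hi]
    exact a.cen

/-! ### The field input -/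

omit [Finite G] [Finite F] [CharP F 2] in
theorem eq_up {B : Matrix.SpecialLinearGroup (Fin 2) F} (hB : ap B ![1, 0] = ![1, 0]) : B = up (ent B 0 1) := by
  have h0 := congrFun hB 0
  have h1 := congrFun hB 1
  rw [ap_zero'] at h0
  rw [ap_one'] at h1
  simp only [Matrix.cons_val_zero, Matrix.cons_val_one, mul_one, mul_zero, add_zero] at h0 h1
  have hd := det_eq B
  rw [h0, h1] at hd
  have h11 : ent B 1 1 = 1 := by
    rw [one_mul, mul_zero, sub_zero] at hd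
    exact hd
  refine ext_ent ?_ ?_ ?_ ?_
  · rw [h0, up_00]
  · rw [up_01]
  · rw [h1, up_10]
  · rw [h11, up_11]

omit [Finite G] [Finite F] [CharP F 2] in
theorem exists_up {x : G} (hx : x ∈ M.UW ![1, 0]) : ∃ β : F, M.Ind x (up β) := by
  obtain ⟨B, hB, hB'⟩ := hx
  refine ⟨ent B 0 1, ?_⟩
  rw [← eq_up hB]
  exact hB'

omit [Finite G] [Finite F] [CharP F 2] in
theorem ind_cen {x : G} (hx : M.Ind x (up 0)) : x ∈ centralizer (V : Set G) := by
  rw [mem_centralizer_iff]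
  intro v hv
  obtain ⟨y, rfl⟩ := (M.mem_iff v).1 hv
  have h1 := hx y
  rw [up_zero, ap_one, mul_inv_eq_iff_eq_mul] at h1
  exact h1.symm

omit [Finite G] [Finite F] [CharP F 2] in
theorem zero_of_cen {x : G} {β : F} (hx : M.Ind x (up β)) (hc : x ∈ centralizer (V : Set G)) : β = 0 := by
  have h1 := hx ![0, 1]
  have h2 := mem_centralizer_iff.1 hc _ (M.e_mem ![0, 1])
  rw [← h2, mul_inv_cancel_right] at h1
  have h3 := congrFun (M.e_inj h1) 0
  rw [ap_zero'] at h3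
  simpa using h3.symm

omit [Finite G] [Finite F] [CharP F 2] in
theorem ap_up_sub (β : F) (y : Fin 2 → F) : ap (up β) y - y = ![β * y 1, 0] := by
  apply ext2
  · rw [Pi.sub_apply, ap_zero']; simp
  · rw [Pi.sub_apply, ap_one']; simp

omit [Finite G] [Finite F] [CharP F 2] in
theorem comm_up {x : G} {β : F} (hx : M.Ind x (up β)) (y : Fin 2 → F) :
    x * M.e y * x⁻¹ * (M.e y)⁻¹ = M.e ![β * y 1, 0] := by
  rw [hx, ← M.e_sub, ap_up_sub]

theorem vec10_ne : (![1, 0] : Fin 2 → F) ≠ 0 := by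
  intro h
  have := congrFun h 0
  simp at this

theorem vec01_ne : (![0, 1] : Fin 2 → F) ≠ 0 := by
  intro h
  have := congrFun h 1
  simp at this

/-- the line of `![1, 0]` as a point -/
def i₀ (M : RMod F V N) : _root_.Cfsg.Agent.Omega.Mix.Pt M := ⟨M.line ![1, 0], ![1, 0], vec10_ne, rfl⟩

/-- every element of `SL₂(F)` is induced by an element of `⟨KX (R i)⟩` -/
theorem AtLine.ind_X (a : AtLine M ![1, 0]) (A : Matrix.SpecialLinearGroup (Fin 2) F) :
    ∃ x ∈ XK (fun i : _root_.Cfsg.Agent.Omega.Mix.Pt M => KX (_root_.Cfsg.Agent.Omega.Mix.pt M i)), M.Ind x A := by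
  have hup : ∀ β : F, ∃ x ∈ XK (fun i : _root_.Cfsg.Agent.Omega.Mix.Pt M => KX (_root_.Cfsg.Agent.Omega.Mix.pt M i)), M.Ind x (up β) := by
    intro β
    obtain ⟨t, ht, htB⟩ := a.full (up β) (ap_up_e β)
    exact ⟨t, K_le_X (fun i : _root_.Cfsg.Agent.Omega.Mix.Pt M => KX (_root_.Cfsg.Agent.Omega.Mix.pt M i)) (i₀ M) ht, htB⟩
  have hlo : ∀ β : F, ∃ x ∈ XK (fun i : _root_.Cfsg.Agent.Omega.Mix.Pt M => KX (_root_.Cfsg.Agent.Omega.Mix.pt M i)), M.Ind x (lo β) := by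
    intro β
    have a' := a.all vec10_ne (vec01_ne (F := F))
    obtain ⟨t, ht, htB⟩ := a'.full (lo β) (by
      apply ext2
      · rw [ap_zero']; simp
      · rw [ap_one']; simp)
    exact ⟨t, K_le_X (fun i : _root_.Cfsg.Agent.Omega.Mix.Pt M => KX (_root_.Cfsg.Agent.Omega.Mix.pt M i)) ⟨M.line ![0, 1], ![0, 1], vec01_ne, rfl⟩ ht, htB⟩
  have hmul : ∀ {A B : Matrix.SpecialLinearGroup (Fin 2) F}, (∃ x ∈ XK (fun i : _root_.Cfsg.Agent.Omega.Mix.Pt M => KX (_root_.Cfsg.Agent.Omega.Mix.pt M i)), M.Ind x A) →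
      (∃ x ∈ XK (fun i : _root_.Cfsg.Agent.Omega.Mix.Pt M => KX (_root_.Cfsg.Agent.Omega.Mix.pt M i)), M.Ind x B) →
      ∃ x ∈ XK (fun i : _root_.Cfsg.Agent.Omega.Mix.Pt M => KX (_root_.Cfsg.Agent.Omega.Mix.pt M i)), M.Ind x (A * B) := by
    rintro A B ⟨x, hx, hA⟩ ⟨y, hy, hB⟩
    refine ⟨x * y, mul_mem hx hy, fun z => ?_⟩
    have e : x * y * M.e z * (x * y)⁻¹ = x * (y * M.e z * y⁻¹) * x⁻¹ := by group
    rw [e, hB, hA, ap_mul]
  obtain ⟨p, q, r, s, rfl⟩ := exists_up_lo A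
  exact hmul (hmul (hmul (hup p) (hlo q)) (hup r)) (hlo s)

/-- the field input of `Hyp.false_four` -/
theorem AtLine.fq (a : AtLine M ![1, 0]) : FQ V (_root_.Cfsg.Agent.Omega.Mix.pt M) (fun i => KX (_root_.Cfsg.Agent.Omega.Mix.pt M i)) (i₀ M) := by
  intro e he hn e' he' hn'
  have he1 : e ∈ KX (M.line ![1, 0]) := he
  have he1' : e' ∈ KX (M.line ![1, 0]) := he'
  obtain ⟨β, hβ⟩ := exists_up (a.QU (a.KQ he1))
  obtain ⟨β', hβ'⟩ := exists_up (a.QU (a.KQ he1'))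
  have h0 : β ≠ 0 := by
    rintro rfl
    exact hn (ind_cen hβ)
  have h0' : β' ≠ 0 := by
    rintro rfl
    exact hn' (ind_cen hβ')
  have hμ : β' / β ≠ 0 := div_ne_zero h0' h0
  obtain ⟨b, hb, hbI⟩ := a.ind_X (dg (β' / β) hμ)
  refine ⟨b, hb, ?_, ?_, ?_⟩
  · show b ∈ normalizer (M.line ![1, 0] : Set G)
    rw [← cj_eq_self_iff]
    have e1 : ap (dg (β' / β) hμ) ![1, 0] = (β' / β) • ![1, 0] := by
      apply ext2
      · rw [ap_zero']; simp
      · rw [ap_one']; simp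
    have e2 := M.cj_line_of_ind hbI ![1, 0]
    rw [e1, M.line_smul hμ] at e2
    exact e2
  · intro v hv
    obtain ⟨y, rfl⟩ := (M.mem_iff v).1 hv
    rw [hbI, comm_up hβ', comm_up hβ]
    congr 2
    rw [ap_one']
    simp only [dg_10, dg_11, zero_mul, zero_add]
    field_simp
  · intro v hv
    obtain ⟨y, rfl⟩ := (M.mem_iff v).1 hv
    rw [comm_up hβ', comm_up hβ, hbI]
    congr 1
    apply ext2
    · rw [ap_zero']
      simp only [dg_00, dg_01, Matrix.cons_val_zero, Matrix.cons_val_one, mul_zero, add_zero]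
      field_simp
    · rw [ap_one']
      simp

theorem AtLine.h4 (a : AtLine M ![1, 0]) (h4 : 4 ≤ Nat.card F) :
    ∃ e ∈ KX (_root_.Cfsg.Agent.Omega.Mix.pt M (i₀ M)), e ∉ centralizer (V : Set G) ∧ ∃ e' ∈ KX (_root_.Cfsg.Agent.Omega.Mix.pt M (i₀ M)), e' ∉ centralizer (V : Set G) ∧
      e⁻¹ * e' ∉ centralizer (V : Set G) := by
  classical
  obtain ⟨c, hc0, hc1⟩ : ∃ c : F, c ≠ 0 ∧ c ≠ 1 := by
    have := Fintype.ofFinite F
    by_contra hcon
    push Not at hcon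
    have h1 : (Finset.univ : Finset F) ⊆ {0, 1} := by
      intro x _
      rw [Finset.mem_insert, Finset.mem_singleton]
      by_cases hx : x = 0
      · exact Or.inl hx
      · exact Or.inr (hcon x hx)
    have h2 := Finset.card_le_card h1
    rw [Finset.card_univ, ← Nat.card_eq_fintype_card] at h2
    have h3 : ({0, 1} : Finset F).card ≤ 2 := Finset.card_le_two
    omega
  obtain ⟨e, he, heI⟩ := a.full (up 1) (ap_up_e 1)
  obtain ⟨e', he', heI'⟩ := a.full (up c) (ap_up_e c)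
  refine ⟨e, he, fun h => one_ne_zero (zero_of_cen heI h), e', he', fun h => hc0 (zero_of_cen heI' h), fun h => ?_⟩
  have hI : M.Ind (e⁻¹ * e') (up (c - 1)) := by
    intro z
    have h1 : e⁻¹ * M.e (ap (up c) z) * e = M.e (ap (up (-1)) (ap (up c) z)) := by
      have h2 := heI (ap (up (-1)) (ap (up c) z))
      have h3 : ∀ y : Fin 2 → F, ap (up 1) (ap (up (-1)) y) = y := by
        intro y
        rw [← ap_mul, up_mul, add_neg_cancel, up_zero, ap_one]
      rw [h3] at h2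
      rw [← h2]; group
    calc e⁻¹ * e' * M.e z * (e⁻¹ * e')⁻¹ = e⁻¹ * (e' * M.e z * e'⁻¹) * e := by group
      _ = M.e (ap (up (c - 1)) z) := by rw [heI', h1, ← ap_mul, up_mul]; congr 3; ring
  exact hc1 (sub_eq_zero.1 (zero_of_cen hI h))

/-- an element which commutes with `O₂(N_G(R))` and with a lift of every element of `SL₂(F)` centralises `X` -/
theorem AtLine.cen_X (a : AtLine M ![1, 0]) {x : G} (h0 : ∀ q ∈ QQ (M.line ![1, 0]), q * x = x * q)
    (hA : ∀ A, ∃ l, M.Ind l A ∧ l * x = x * l) : x ∈ centralizer (XK (fun i : _root_.Cfsg.Agent.Omega.Mix.Pt M => KX (_root_.Cfsg.Agent.Omega.Mix.pt M i)) : Set G) := by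
  have key : XK (fun i : _root_.Cfsg.Agent.Omega.Mix.Pt M => KX (_root_.Cfsg.Agent.Omega.Mix.pt M i)) ≤ centralizer ({x} : Set G) := by
    refine iSup_le fun i => ?_
    obtain ⟨_, w, hw, rfl⟩ := i
    obtain ⟨A, hAw⟩ := exists_ap vec10_ne hw
    obtain ⟨l, hl, hlx⟩ := hA A
    have e : BTwo.cj l (M.line ![1, 0]) = M.line w := by
      have := M.cj_line_of_ind hl ![1, 0]
      rw [hAw] at this
      exact this
    show KX (M.line w) ≤ centralizer ({x} : Set G)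
    rw [← e, ← cj_KX]
    rintro _ ⟨t, ht, rfl⟩
    change l * t * l⁻¹ ∈ centralizer ({x} : Set G)
    rw [mem_centralizer_singleton_iff]
    have h1 := h0 t (a.KQ ht)
    have h2 : l⁻¹ * x = x * l⁻¹ := by
      calc l⁻¹ * x = l⁻¹ * (x * l) * l⁻¹ := by group
        _ = l⁻¹ * (l * x) * l⁻¹ := by rw [hlx]
        _ = x * l⁻¹ := by group
    calc l * t * l⁻¹ * x = l * t * (l⁻¹ * x) := by group
      _ = l * (t * x) * l⁻¹ := by rw [h2]; group
      _ = (l * x) * t * l⁻¹ := by rw [h1]; group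
      _ = x * (l * t * l⁻¹) := by rw [hlx]; group
  rw [mem_centralizer_iff]
  intro y hy
  exact mem_centralizer_singleton_iff.1 (key hy)

/-! ### Partners -/

section partner

variable {F' : Type*} [Field F'] [Finite F'] [CharP F' 2] {V' N' : Subgroup G} {M' : RMod F' V' N'}

/-- `V' ≤ KX R` is a natural module (relative to `N' ≥ O₂(N_G(R))`) with the line `R`, not commuting with `V`. -/
structure Partner (R : Subgroup G) (M : RMod F V N) (M' : RMod F' V' N') : Prop where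
  K' : V' ≤ KX R
  VQ : V ≤ QQ R
  QN : QQ R ≤ N
  QN' : QQ R ≤ N'
  ne : ∃ v ∈ V, ∃ w ∈ V', v * w ≠ w * v
  line : ∃ w, w ≠ 0 ∧ R = M.line w
  line' : ∃ w, w ≠ 0 ∧ R = M'.line w

/-- **the data from a partner** -/
theorem Partner.atLine {R : Subgroup G} (p : Partner R M M') (ch : Char2 (normalizer (R : Set G))) :
    ∃ w, w ≠ 0 ∧ R = M.line w ∧ AtLine M w := by
  obtain ⟨w₀, hw₀, h1⟩ := p.line
  obtain ⟨w₀', hw₀', h1'⟩ := p.line'
  have hKQ : KX R ≤ QQ R := by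
    refine KX_le ?_ fun y hy => ?_
    · rintro x ⟨hx1, hx2⟩
      exact ch x hx1 fun q hq => (mem_centralizer_iff.1 hx2 q hq).symm
    · rw [h1] at hy
      exact M.sq (M.line_le w₀ hy)
  have hV'Q : V' ≤ QQ R := p.K'.trans hKQ
  have hm : Mix.RMutual V V' N N' := ⟨hV'Q.trans p.QN, p.VQ.trans p.QN', p.ne⟩
  have hR : V ⊓ V' = R := by
    obtain ⟨-, w, w', hw, -, hl, -⟩ := Mix.pair M M' hm
    refine (eq_of_le_of_card_ge (le_inf ?_ ?_) ?_).symm
    · rw [h1]; exact M.line_le w₀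
    · rw [h1']; exact M'.line_le w₀'
    · rw [hl, M.card_line hw.ne, h1, M.card_line hw₀]
  have hR' : V' ⊓ V = R := by rw [inf_comm, hR]
  have hQn : ∀ g ∈ normalizer (R : Set G), ∀ x ∈ QQ R, g * x * g⁻¹ ∈ QQ R := fun g hg x hx =>
    conj_mem_of_normalizer (le_normalizer_O2 _ hg) hx
  obtain ⟨w, hw, hl, hU, hf, -, -⟩ := Mix.bridge M M' hm hV'Q p.QN (by rw [hR]; exact O2_le _) (O2_isPGroup _)
    (by rw [hR]; exact fun g _ hg x hx => hQn g hg x hx)
  obtain ⟨w', hw', hl', hU', hf', -, -⟩ := Mix.bridge M' M hm.symm p.VQ p.QN' (by rw [hR']; exact O2_le _)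
    (O2_isPGroup _) (by rw [hR']; exact fun g _ hg x hx => hQn g hg x hx)
  rw [hR] at hl
  rw [hR'] at hl'
  have hfull : M.Full V' w := hf
  refine ⟨w, hw, hl, ?_⟩
  refine ⟨by rw [← hl]; exact ch, by rw [← hl]; exact p.VQ, by rw [← hl]; exact hU,
    by rw [← hl]; exact hfull.mono p.K', ?_⟩
  rw [← hl]
  refine cenU_of (A := V') ?_ ?_ p.K'
  · intro x hx
    obtain ⟨B, hB, hB'⟩ := hU' hx
    obtain ⟨v, hv, hvB⟩ := hf' B hB
    refine ⟨v, hv, fun a ha => ?_⟩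
    obtain ⟨y, rfl⟩ := (M'.mem_iff a).1 ha
    have h2 : v * M'.e y * v⁻¹ = x * M'.e y * x⁻¹ := by rw [hvB, hB']
    calc v⁻¹ * x * M'.e y = v⁻¹ * (x * M'.e y * x⁻¹) * x := by group
      _ = v⁻¹ * (v * M'.e y * v⁻¹) * x := by rw [h2]
      _ = M'.e y * (v⁻¹ * x) := by group
  · intro t ht
    obtain ⟨B, hB, hB'⟩ := hU (hKQ ht)
    obtain ⟨a, ha, haB⟩ := hf B hB
    refine ⟨a, ha, mem_centralizer_iff.2 fun v hv => ?_⟩
    obtain ⟨y, rfl⟩ := (M.mem_iff v).1 hv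
    have h2 : a * M.e y * a⁻¹ = t * M.e y * t⁻¹ := by rw [haB, hB']
    calc M.e y * (a⁻¹ * t) = a⁻¹ * (a * M.e y * a⁻¹) * t := by group
      _ = a⁻¹ * (t * M.e y * t⁻¹) * t := by rw [h2]
      _ = a⁻¹ * t * M.e y := by group

/-- the same at the line `![1, 0]` -/
theorem Partner.at10 (p : Partner (M.line ![1, 0]) M M') (ch : Char2 (normalizer (M.line ![1, 0] : Set G))) :
    AtLine M ![1, 0] := by
  obtain ⟨w, hw, -, a⟩ := p.atLine ch
  exact a.all hw vec10_ne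

end partner

end Cfsg.Agent.Omega.IId.Cv.TwoFour

end

private theorem dce_8104c0205e9c : _root_.True := by
  try have : _root_.True := by simp only [_root_.Cfsg.Agent.Omega.IId.Cv.TwoFour.PP.eq_1]
  try have : _root_.True := by simp only [_root_.Cfsg.Agent.Omega.IId.Cv.TwoFour.XK.eq_1]
  try have : _root_.True := by simp only [_root_.Cfsg.Agent.Omega.IId.Cv.TwoFour.UK.eq_1]
  try have : _root_.True := by simp only [_root_.Cfsg.Agent.Omega.IId.Cv.TwoFour.CP.eq_1]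
  exact _root_.True.intro
end

-- part: Mrg/Omega/IId/CvBig/FourFan
section
prune_inst 0xc10010401022020000000500100024441a00010000288001f8400b000682130080408961802018001002aa040030000812c40050000000000000000001180080002802009048a100000008002080400000000000000000000000000000041000000000000
set_option linter.all false
open scoped Cfsg.Agent.FastGrp

-- merged: Cfsg.Agent.Mrg.Omega.IId.CvBig.FourBase
section

section


/-!
# CvBig, CASE 2a, all `q`, any number of factors: the frame (helper796)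

`Vf l` (`l ∈ κ`) : factors with lines `R l a` and root groups `K l a` (`KT`), `Q = O₂(P)`, `X l = ⟨K l a⟩`.

* `Uc R = Z(O₂(N_G(R)))`, `Dh = C_G(Q) ∩ ⋂ C(X l)`, `Wh = (⨆ Vf l) ⊔ Dh`;
* `Fr.F` : `Uc (R m b) ∩ C(Uc (R l a)) ≤ QQ (R l a)`, `l ≠ m`;
* `Fr.Vm` : `C_G(Q) ∩ Uc (R i a) ≤ Wh`;
* `Fr.dec` : components;
* `Fr.lemK` : LEMMA K.
-/

set_option autoImplicit false
set_option linter.unusedSectionVars false

namespace Cfsg.Agent.Omega.IId.CvBig.Four

open Subgroup Cfsg.Agent.Omega.BTwo Cfsg.Agent.Omega.IId.Cv.TwoFour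

variable {G : Type*} [Group G]

/-! ### Additions to `KT` -/

section kt

variable {ι : Type*} {V L : Subgroup G} {R K : ι → Subgroup G} (b : KT V L R K)
include b

theorem kt_R_of_cen {i : ι} {v : G} (hv : v ∈ V) (hc : v ∈ centralizer (K i : Set G)) : v ∈ R i := by
  by_contra hR
  obtain ⟨j, hj, -⟩ := b.third i i
  obtain ⟨v₀, hv₀, hU⟩ := b.exists_mover hj
  apply hU
  rw [mem_centralizer_iff]
  intro a ha
  exact (b.reg (b.K_Q i hv₀) hv hR (mem_centralizer_iff.1 hc v₀ hv₀) a ha).symm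

/-- `[a, K i] = R i` for `a ∉ R i` -/
theorem kt_full {i : ι} {a r : G} (ha : a ∈ V) (hai : a ∉ R i) (hr : r ∈ R i) :
    ∃ t ∈ K i, t * a * t⁻¹ * a⁻¹ = r := by
  obtain ⟨l, hl⟩ := b.R_cov a ha
  have hli : l ≠ i := by rintro rfl; exact hai hl
  obtain ⟨m, hm⟩ := b.R_cov (r * a) (mul_mem (b.R_le i hr) ha)
  have hmi : m ≠ i := by
    rintro rfl
    apply hai
    have e : a = r⁻¹ * (r * a) := by group
    rw [e]
    exact mul_mem (inv_mem hr) hm
  obtain ⟨t, ht, e⟩ := b.tr i l m hli hmi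
  refine ⟨t, ht, ?_⟩
  have h1 : t * a * t⁻¹ ∈ R m := by
    rw [← e]
    exact conj_mem_cj hl
  have h2 := b.QV i t (b.K_Q i ht) a ha
  have h3 : t * a * t⁻¹ * (r * a)⁻¹ ∈ R m := mul_mem h1 (inv_mem hm)
  have h4 : t * a * t⁻¹ * (r * a)⁻¹ ∈ R i := by
    have e1 : t * a * t⁻¹ * (r * a)⁻¹ = t * a * t⁻¹ * a⁻¹ * r⁻¹ := by group
    rw [e1]
    exact mul_mem h2 (inv_mem hr)
  have h5 := b.eq_one hmi h3 h4
  have e1 : t * a * t⁻¹ * (r * a)⁻¹ = t * a * t⁻¹ * a⁻¹ * r⁻¹ := by group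
  rw [e1, mul_inv_eq_one] at h5
  exact h5

/-- a line avoiding `a ≠ 1` -/
theorem kt_avoid {a : G} (ha1 : a ≠ 1) (i : ι) : ∃ j, a ∉ R j ∧ j ≠ i := by
  obtain ⟨j, hj, -⟩ := b.third i i
  obtain ⟨k, hk, hkj⟩ := b.third i j
  by_cases h : a ∈ R j
  · exact ⟨k, fun h1 => ha1 (b.eq_one hkj h1 h), hk⟩
  · exact ⟨j, h, hj⟩

/-- the elements of `Q i` are `u⁻¹ c`, `u ∈ K i`, `c ∈ C(V)` -/
theorem kt_Q_dec [Finite G] {i : ι} {q : G} (hq : q ∈ QQ (R i)) : ∃ u ∈ K i, u * q ∈ centralizer (V : Set G) :=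
  lemA b (b.Q_L i hq) ((O2_isPGroup _).to_le (by rw [zpowers_le]; exact hq)) fun r hr => b.QR i q hq r hr

/-- `g ∈ L` trivial on `V / R i` and fixing `1 ≠ z ∈ R i` centralises `R i` -/
theorem kt_lemB {i : ι} {g z : G} (hg : g ∈ L) (hV : ∀ v ∈ V, g * v * g⁻¹ * v⁻¹ ∈ R i)
    (hz : z ∈ R i) (hz1 : z ≠ 1) (hgz : g * z = z * g) : ∀ r ∈ R i, g * r = r * g := by
  obtain ⟨j, hj, -⟩ := b.third i i
  obtain ⟨k, hk⟩ := b.perm g hg j
  have hgV := b.L_V hg
  have hgR : ∀ r ∈ R i, g * r * g⁻¹ ∈ R i := fun r hr => by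
    have h1 := hV r (b.R_le i hr)
    have e : g * r * g⁻¹ = g * r * g⁻¹ * r⁻¹ * r := by group
    rw [e]
    exact mul_mem h1 hr
  have hki : k ≠ i := by
    rintro rfl
    obtain ⟨v, hv, hv1⟩ := b.exists_ne j
    have h1 : g * v * g⁻¹ ∈ R k := by rw [← hk]; exact conj_mem_cj hv
    have h2 := hV v (b.R_le j hv)
    have h3 : v ∈ R k := by
      have e : v = (g * v * g⁻¹ * v⁻¹)⁻¹ * (g * v * g⁻¹) := by group
      rw [e]
      exact mul_mem (inv_mem h2) h1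
    exact hv1 (b.eq_one hj hv h3)
  obtain ⟨u, hu, e⟩ := b.tr i k j hki hj
  set g₁ := u * g with hg₁
  have hg₁L : g₁ ∈ L := mul_mem (b.K_le_L i hu) hg
  have hg₁V : ∀ v ∈ V, g₁ * v * g₁⁻¹ * v⁻¹ ∈ R i := by
    intro v hv
    have h1 := b.QV i u (b.K_Q i hu) _ (conj_mem_of_normalizer hgV hv)
    have e1 : g₁ * v * g₁⁻¹ * v⁻¹ = (u * (g * v * g⁻¹) * u⁻¹ * (g * v * g⁻¹)⁻¹) * (g * v * g⁻¹ * v⁻¹) := by
      rw [hg₁]; group
    rw [e1]
    exact mul_mem h1 (hV v hv)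
  have hg₁j : cj g₁ (R j) = R j := by rw [hg₁, cj_mul, hk, e]
  have hg₁R : ∀ r ∈ R i, g₁ * r * g₁⁻¹ = g * r * g⁻¹ := by
    intro r hr
    have h1 := b.conj_R (b.K_Q i hu) (hgR r hr)
    calc g₁ * r * g₁⁻¹ = u * (g * r * g⁻¹) * u⁻¹ := by rw [hg₁]; group
      _ = _ := h1
  have hcj : ∀ v ∈ R j, g₁ * v * g₁⁻¹ = v := by
    intro v hv
    have h1 : g₁ * v * g₁⁻¹ * v⁻¹ ∈ R j := by
      refine mul_mem ?_ (inv_mem hv)
      have := conj_mem_cj (g := g₁) hv
      rwa [hg₁j] at this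
    have h2 := b.eq_one (Ne.symm hj) (hg₁V v (b.R_le j hv)) h1
    exact mul_inv_eq_one.1 h2
  have hgz' : g₁ * z * g₁⁻¹ = z := by
    rw [hg₁R z hz, hgz, mul_inv_cancel_right]
  obtain ⟨v₀, hv₀, hv₁⟩ := b.exists_ne j
  -- the line through `v₀ z`
  obtain ⟨m, hm⟩ := b.R_cov (v₀ * z) (mul_mem (b.R_le j hv₀) (b.R_le i hz))
  have hmi : m ≠ i := by
    rintro rfl
    apply hv₁
    have h1 : v₀ ∈ R m := by
      have e1 : v₀ = v₀ * z * z⁻¹ := by group
      rw [e1]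
      exact mul_mem hm (inv_mem hz)
    exact b.eq_one hj hv₀ h1
  have hmj : m ≠ j := by
    rintro rfl
    apply hz1
    have h1 : z ∈ R m := by
      have e1 : z = v₀⁻¹ * (v₀ * z) := by group
      rw [e1]
      exact mul_mem (inv_mem hv₀) hm
    exact b.eq_one hj h1 hz
  have hgm : cj g₁ (R m) = R m := by
    obtain ⟨m', hm'⟩ := b.perm g₁ hg₁L m
    have h1 : v₀ * z ∈ R m' := by
      rw [← hm']
      have h2 : g₁ * (v₀ * z) * g₁⁻¹ = v₀ * z := by
        calc g₁ * (v₀ * z) * g₁⁻¹ = (g₁ * v₀ * g₁⁻¹) * (g₁ * z * g₁⁻¹) := by group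
          _ = v₀ * z := by rw [hcj v₀ hv₀, hgz']
      rw [← h2]
      exact conj_mem_cj hm
    have h3 : m = m' := by
      by_contra hne
      have h4 := b.eq_one hne hm h1
      have h5 : v₀ ∈ R i := by
        have e1 : v₀ = v₀ * z * z⁻¹ := by group
        rw [e1, h4, one_mul]
        exact inv_mem hz
      exact hv₁ (b.eq_one hj hv₀ h5)
    rw [h3] at hm' ⊢
    exact hm'
  intro r hr
  -- `r = p q` with `p ∈ R j`, `q ∈ R m`
  obtain ⟨p, hp, q, hq, hr'⟩ := b.exists_mul (Ne.symm hmj) (b.R_le i hr)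
  have h1 : g₁ * r * g₁⁻¹ * r⁻¹ = g₁ * q * g₁⁻¹ * q⁻¹ := by
    have hc : q * p = p * q := b.V_comm q (b.R_le m hq) p (b.R_le j hp)
    calc g₁ * r * g₁⁻¹ * r⁻¹ = (g₁ * p * g₁⁻¹) * (g₁ * q * g₁⁻¹) * (p * q)⁻¹ := by rw [hr']; group
      _ = p * (g₁ * q * g₁⁻¹) * (q * p)⁻¹ := by rw [hcj p hp, hc]
      _ = p * (g₁ * q * g₁⁻¹ * p⁻¹) * q⁻¹ := by group
      _ = p * (p⁻¹ * (g₁ * q * g₁⁻¹)) * q⁻¹ := by
        rw [b.V_comm _ (conj_mem_of_normalizer (b.L_V hg₁L) (b.R_le m hq)) _ (inv_mem (b.R_le j hp))]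
      _ = _ := by group
  have h2 : g₁ * q * g₁⁻¹ * q⁻¹ ∈ R m := by
    refine mul_mem ?_ (inv_mem hq)
    have := conj_mem_cj (g := g₁) hq
    rwa [hgm] at this
  have h3 : g₁ * r * g₁⁻¹ * r⁻¹ ∈ R i := hg₁V r (b.R_le i hr)
  rw [h1] at h3
  have h4 := b.eq_one hmi h2 h3
  rw [← h1, hg₁R r hr, mul_inv_eq_one, mul_inv_eq_iff_eq_mul] at h4
  exact h4

end kt

/-! ### The frame -/

/-- `Z(O₂(N_G(R)))` -/
def Uc (R : Subgroup G) : Subgroup G := QQ R ⊓ centralizer (QQ R : Set G)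

theorem Uc_le (R : Subgroup G) : Uc R ≤ QQ R := inf_le_left

theorem Uc_comm {R : Subgroup G} {u q : G} (hu : u ∈ Uc R) (hq : q ∈ QQ R) : u * q = q * u :=
  (mem_centralizer_iff.1 (mem_inf.1 hu).2 q hq).symm

theorem mem_Uc {R : Subgroup G} {u : G} (h1 : u ∈ QQ R) (h2 : ∀ q ∈ QQ R, u * q = q * u) : u ∈ Uc R :=
  mem_inf.2 ⟨h1, mem_centralizer_iff.2 fun q hq => (h2 q hq).symm⟩

theorem N_Uc (R : Subgroup G) : normalizer (R : Set G) ≤ normalizer (Uc R : Set G) := by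
  intro g hg
  have h1 := le_normalizer_O2 _ hg
  rw [← cj_eq_self_iff, Uc, cj_inf, ← centralizer_cj, cj_eq_self_iff.2 h1]

theorem Uc_two (R : Subgroup G) : IsPGroup 2 (Uc R) := (O2_isPGroup _).to_le (Uc_le R)

variable {κ : Type*} {ι : κ → Type*}

/-- the frame -/
structure Fr (Vf Lf : κ → Subgroup G) (R K : ∀ l, ι l → Subgroup G) (Q : Subgroup G) : Prop where
  kt : ∀ l, KT (Vf l) (Lf l) (R l) (K l)
  comm : ∀ l m, l ≠ m → ∀ v ∈ Vf l, ∀ w ∈ Vf m, v * w = w * v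
  QV' : ∀ l m, m ≠ l → ∀ a, ∀ g ∈ QQ (R l a), ∀ v ∈ Vf m, g * v = v * g
  VQ' : ∀ l m a, Vf m ≤ QQ (R l a)
  ch : ∀ l a, normalizer (R l a : Set G) ⊓ centralizer (QQ (R l a) : Set G) ≤ QQ (R l a)
  cQ : centralizer (Q : Set G) ≤ Q
  QC : ∀ l, ∀ g ∈ Q, ∀ v ∈ Vf l, g * v = v * g
  CQ : ∀ l a, ∀ g ∈ QQ (R l a), (∀ m, ∀ v ∈ Vf m, g * v = v * g) → g ∈ Q
  nQ : ∀ l a, QQ (R l a) ≤ normalizer (Q : Set G)

/-- `C_G(Q) ∩ ⋂ C(X l)` -/
def Dh (K : ∀ l, ι l → Subgroup G) (Q : Subgroup G) : Subgroup G :=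
  centralizer (Q : Set G) ⊓ ⨅ l, centralizer (XK (K l) : Set G)

/-- `⟨Vf l⟩ Dh` -/
def Wh (Vf : κ → Subgroup G) (K : ∀ l, ι l → Subgroup G) (Q : Subgroup G) : Subgroup G :=
  (⨆ l, Vf l) ⊔ Dh K Q

theorem mem_Dh {K : ∀ l, ι l → Subgroup G} {Q : Subgroup G} {d : G} :
    d ∈ Dh K Q ↔ d ∈ centralizer (Q : Set G) ∧ ∀ l, d ∈ centralizer (XK (K l) : Set G) := by
  rw [Dh, mem_inf, mem_iInf]

theorem Vf_le_Wh (Vf : κ → Subgroup G) (K : ∀ l, ι l → Subgroup G) (Q : Subgroup G) (l : κ) :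
    Vf l ≤ Wh Vf K Q := (le_iSup Vf l).trans le_sup_left

theorem Dh_le_Wh (Vf : κ → Subgroup G) (K : ∀ l, ι l → Subgroup G) (Q : Subgroup G) :
    Dh K Q ≤ Wh Vf K Q := le_sup_right

namespace Fr

variable {Vf Lf : κ → Subgroup G} {R K : ∀ l, ι l → Subgroup G} {Q : Subgroup G} (h : Fr Vf Lf R K Q)
include h

theorem comm' {l m : κ} {v w : G} (hv : v ∈ Vf l) (hw : w ∈ Vf m) : v * w = w * v := by
  by_cases hlm : l = m
  · subst hlm
    exact (h.kt l).V_comm v hv w hw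
  · exact h.comm l m hlm v hv w hw

/-- `Vf l ≤ Q` -/
theorem V_le_Q (l : κ) : Vf l ≤ Q := by
  obtain ⟨a, -⟩ := (h.kt l).R_cov 1 (one_mem _)
  exact fun v hv => h.CQ l a v (h.VQ' l l a hv) fun m w hw => h.comm' hv hw

theorem V_cen_Q (l : κ) : Vf l ≤ centralizer (Q : Set G) := fun v hv => by
  rw [mem_centralizer_iff]
  exact fun q hq => h.QC l q hq v hv

theorem K_comm {l m : κ} (hml : m ≠ l) {a : ι l} {t v : G} (ht : t ∈ K l a) (hv : v ∈ Vf m) : t * v = v * t :=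
  h.QV' l m hml a t ((h.kt l).K_Q a ht) v hv

/-- `Vf m ≤ C(X l)` for `m ≠ l` -/
theorem V_cen_X {l m : κ} (hml : m ≠ l) : Vf m ≤ centralizer (XK (K l) : Set G) := by
  have h1 : XK (K l) ≤ centralizer (Vf m : Set G) := iSup_le fun a t ht => by
    rw [mem_centralizer_iff]
    exact fun v hv => (h.K_comm hml ht hv).symm
  exact le_centralizer_iff.1 h1

theorem Uc_le_Q (l : κ) (a : ι l) : Uc (R l a) ≤ Q := fun u hu =>
  h.CQ l a u (Uc_le _ hu) fun m v hv => Uc_comm hu (h.VQ' l m a hv)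

theorem K0_le_Q {l : κ} {a : ι l} {u : G} (hu : u ∈ K l a) (hc : u ∈ centralizer (Vf l : Set G)) : u ∈ Q := by
  refine h.CQ l a u ((h.kt l).K_Q a hu) fun m v hv => ?_
  by_cases hml : m = l
  · subst hml
    exact (mem_centralizer_iff.1 hc v hv).symm
  · exact h.K_comm hml hu hv

theorem V_le_Uc {l m : κ} (hml : m ≠ l) (a : ι l) : Vf m ≤ Uc (R l a) := fun _ hv =>
  mem_Uc (h.VQ' l m a hv) fun q hq => (h.QV' l m hml a q hq _ hv).symm

theorem R_le_Uc (l : κ) (a : ι l) : R l a ≤ Uc (R l a) := fun r hr =>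
  mem_Uc (h.VQ' l l a ((h.kt l).R_le a hr)) fun q hq => ((h.kt l).QR a q hq r hr).symm

theorem cen_Uc_le (l : κ) (a : ι l) : centralizer (Uc (R l a) : Set G) ≤ normalizer (R l a : Set G) :=
  (centralizer_le (h.R_le_Uc l a)).trans (centralizer_le_normalizer _)

/-- a 2-group in `C(Uc (R l a))` normalised by it is in `QQ (R l a)` -/
theorem le_QQ_of {l : κ} {a : ι l} {A : Subgroup G} (hA : A ≤ centralizer (Uc (R l a) : Set G)) (h2 : IsPGroup 2 A)
    (hn : ∀ c ∈ centralizer (Uc (R l a) : Set G), ∀ x ∈ A, c * x * c⁻¹ ∈ A) : A ≤ QQ (R l a) := by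
  refine le_O2_of_chain hA le_rfl (h.cen_Uc_le l a) h2 hn (fun c hc g hg => mul_mem (mul_mem hc hg) (inv_mem hc)) ?_
  intro g hg c hc
  exact conj_mem_of_normalizer (normalizer_le_normalizer_centralizer _ (N_Uc _ hg)) hc

/-- **(F)** -/
theorem F {l m : κ} (hlm : l ≠ m) {a : ι l} {b : ι m} {y : G} (hy : y ∈ Uc (R m b))
    (hc : ∀ u ∈ Uc (R l a), y * u = u * y) : y ∈ QQ (R l a) := by
  have h1 : Uc (R m b) ⊓ centralizer (Uc (R l a) : Set G) ≤ QQ (R l a) := by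
    refine h.le_QQ_of inf_le_right ((Uc_two _).to_le inf_le_left) ?_
    rintro c hc x ⟨hx1, hx2⟩
    have h2 : c ∈ normalizer (R m b : Set G) :=
      (h.kt m).cen_le_N b (centralizer_le (h.V_le_Uc (Ne.symm hlm) a) hc)
    exact mem_inf.2 ⟨conj_mem_of_normalizer (N_Uc _ h2) hx1, mul_mem (mul_mem hc hx2) (inv_mem hc)⟩
  exact h1 (mem_inf.2 ⟨hy, mem_centralizer_iff.2 fun u hu => (hc u hu).symm⟩)

/-- **(CU)** -/
theorem CU {l : κ} {a b : ι l} (hab : a ≠ b) {y : G} (ha : y ∈ QQ (R l a)) (hb : y ∈ QQ (R l b))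
    (hka : ∀ u ∈ K l a, u ∈ centralizer (Vf l : Set G) → y * u = u * y)
    (hkb : ∀ u ∈ K l b, u ∈ centralizer (Vf l : Set G) → y * u = u * y) :
    ∃ v ∈ Vf l, v⁻¹ * y ∈ centralizer (XK (K l) : Set G) := by
  have k := h.kt l
  obtain ⟨v, hv, h2⟩ := k.cenU a y ha hka
  obtain ⟨c, hc, h3⟩ := k.cenU b y hb hkb
  obtain ⟨p, hp, q, hq, e⟩ := k.exists_mul hab (mul_mem (inv_mem hv) hc)
  refine ⟨v * p, mul_mem hv (k.R_le a hp), k.mem_cen_X hab ?_ ?_⟩
  · have e1 : (v * p)⁻¹ * y = p⁻¹ * (v⁻¹ * y) := by group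
    rw [e1]
    exact mul_mem (inv_mem (k.R_cen_K a hp)) h2
  · have e1 : (v * p)⁻¹ * y = q * (c⁻¹ * y) := by
      have e2 : c = v * (p * q) := by rw [← e]; group
      rw [e2]
      group
    rw [e1]
    exact mul_mem (k.R_cen_K b hq) h3

theorem CUQ {l : κ} {y : G} (ha : ∀ a, y ∈ QQ (R l a)) (hQ : y ∈ centralizer (Q : Set G)) :
    ∃ v ∈ Vf l, v⁻¹ * y ∈ centralizer (XK (K l) : Set G) := by
  obtain ⟨a, b, hab⟩ := (h.kt l).exists_pair
  exact h.CU hab (ha a) (ha b) (fun u hu hc => (mem_centralizer_iff.1 hQ u (h.K0_le_Q hu hc)).symm)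
    fun u hu hc => (mem_centralizer_iff.1 hQ u (h.K0_le_Q hu hc)).symm

/-- `C(Q) ∩ C(X l) ≤ Uc (R l a)` -/
theorem mem_Uc_of [Finite G] {l : κ} {c : G} (hQ : c ∈ centralizer (Q : Set G))
    (hX : c ∈ centralizer (XK (K l) : Set G)) (a : ι l) : c ∈ Uc (R l a) := by
  have h1 : ∀ q ∈ QQ (R l a), c * q = q * c := by
    intro q hq
    obtain ⟨u, hu, hc⟩ := kt_Q_dec (h.kt l) hq
    have h2 : u * q ∈ Q := by
      refine h.CQ l a _ (mul_mem ((h.kt l).K_Q a hu) hq) fun m v hv => ?_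
      by_cases hml : m = l
      · subst hml
        exact (mem_centralizer_iff.1 hc v hv).symm
      · exact h.QV' l m hml a _ (mul_mem ((h.kt l).K_Q a hu) hq) v hv
    have h3 := mem_centralizer_iff.1 hQ _ h2
    have h4 := mem_centralizer_iff.1 hX u (K_le_X (K l) a hu)
    calc c * q = (c * u⁻¹) * (u * q) := by group
      _ = u⁻¹ * (u * c) * u⁻¹ * (u * q) := by group
      _ = u⁻¹ * (c * (u * q)) := by rw [h4]; group
      _ = u⁻¹ * (u * q * c) := by rw [← h3]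
      _ = q * c := by group
  refine mem_Uc (h.ch l a (mem_inf.2 ⟨?_, mem_centralizer_iff.2 fun q hq => (h1 q hq).symm⟩)) h1
  apply centralizer_le_normalizer
  rw [mem_centralizer_iff]
  intro r hr
  exact mem_centralizer_iff.1 hQ r (h.V_le_Q l ((h.kt l).R_le a hr))

theorem Dh_le_Uc [Finite G] (l : κ) (a : ι l) : Dh K Q ≤ Uc (R l a) := fun _ hd =>
  h.mem_Uc_of (mem_Dh.1 hd).1 ((mem_Dh.1 hd).2 l) a

theorem Wh_le_cen : Wh Vf K Q ≤ centralizer (Q : Set G) :=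
  sup_le (iSup_le fun l => h.V_cen_Q l) inf_le_left

theorem Wh_le_Q : Wh Vf K Q ≤ Q := h.Wh_le_cen.trans h.cQ

theorem Wh_comm {a b : G} (ha : a ∈ Wh Vf K Q) (hb : b ∈ Wh Vf K Q) : a * b = b * a :=
  (mem_centralizer_iff.1 (h.Wh_le_cen ha) b (h.Wh_le_Q hb)).symm

theorem Wh_le_QQ [Finite G] (l : κ) (a : ι l) : Wh Vf K Q ≤ QQ (R l a) :=
  sup_le (iSup_le fun m => h.VQ' l m a) ((h.Dh_le_Uc l a).trans (Uc_le _))

/-- components -/
theorem dec {z : G} (hz : z ∈ Wh Vf K Q) (j : κ) : ∃ a ∈ Vf j, a⁻¹ * z ∈ centralizer (XK (K j) : Set G) := by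
  let T : Subgroup G :=
    { carrier := {z | z ∈ centralizer (Vf j : Set G) ∧ ∃ a ∈ Vf j, a⁻¹ * z ∈ centralizer (XK (K j) : Set G)}
      one_mem' := ⟨one_mem _, 1, one_mem _, by rw [inv_one, mul_one]; exact one_mem _⟩
      mul_mem' := by
        rintro z z' ⟨hz, a, ha, h1⟩ ⟨hz', a', ha', h2⟩
        refine ⟨mul_mem hz hz', a * a', mul_mem ha ha', ?_⟩
        have e : (a * a')⁻¹ * (z * z') = a⁻¹ * z * (a'⁻¹ * z') := by
          have h3 := mem_centralizer_iff.1 hz _ (inv_mem ha')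
          have h4 := (h.kt j).V_comm _ (inv_mem ha') _ (inv_mem ha)
          calc (a * a')⁻¹ * (z * z') = (a'⁻¹ * a⁻¹) * z * z' := by group
            _ = a⁻¹ * (a'⁻¹ * z) * z' := by rw [h4]; group
            _ = a⁻¹ * z * (a'⁻¹ * z') := by rw [h3]; group
        rw [e]
        exact mul_mem h1 h2
      inv_mem' := by
        rintro z ⟨hz, a, ha, h1⟩
        refine ⟨inv_mem hz, a⁻¹, inv_mem ha, ?_⟩
        have h3 := mem_centralizer_iff.1 (inv_mem hz) _ ha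
        have e : a⁻¹⁻¹ * z⁻¹ = (a⁻¹ * z)⁻¹ := by
          rw [inv_inv, h3]; group
        rw [e]
        exact inv_mem h1 }
  have hT : Wh Vf K Q ≤ T := by
    refine sup_le (iSup_le fun l v hv => ?_) fun d hd => ?_
    · refine ⟨mem_centralizer_iff.2 fun w hw => h.comm' hw hv, ?_⟩
      by_cases hlj : l = j
      · subst hlj
        exact ⟨v, hv, by rw [inv_mul_cancel]; exact one_mem _⟩
      · exact ⟨1, one_mem _, by rw [inv_one, one_mul]; exact h.V_cen_X hlj hv⟩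
    · refine ⟨mem_centralizer_iff.2 fun w hw => ?_, 1, one_mem _, ?_⟩
      · exact mem_centralizer_iff.1 (mem_Dh.1 hd).1 w (h.V_le_Q j hw)
      · rw [inv_one, one_mul]
        exact (mem_Dh.1 hd).2 j
  exact (hT hz).2

theorem uniq {j : κ} {a : G} (ha : a ∈ Vf j) (hc : a ∈ centralizer (XK (K j) : Set G)) : a = 1 :=
  (h.kt j).cen_VX ha hc

theorem mem_Dh_of {z : G} (hz : z ∈ Wh Vf K Q) (hX : ∀ l, z ∈ centralizer (XK (K l) : Set G)) : z ∈ Dh K Q :=
  mem_Dh.2 ⟨h.Wh_le_cen hz, hX⟩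

/-- **(V⁻)** `C_G(Q) ∩ Uc (R i a) ≤ Wh` -/
theorem Vm [Finite G] [Finite κ] {i j : κ} (hj : j ≠ i) {a : ι i} {y : G} (hy : y ∈ Uc (R i a))
    (hQ : y ∈ centralizer (Q : Set G)) : y ∈ Wh Vf K Q := by
  classical
  have := Fintype.ofFinite κ
  have h1 : ∀ l, l ≠ i → ∀ b : ι l, y ∈ QQ (R l b) := fun l hl b =>
    h.F hl hy fun u hu => (mem_centralizer_iff.1 hQ u (h.Uc_le_Q l b hu)).symm
  have key : ∀ s : Finset κ, i ∉ s → ∃ v ∈ ⨆ l ∈ s, Vf l, ∀ l ∈ s, v⁻¹ * y ∈ centralizer (XK (K l) : Set G) := by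
    intro s
    induction s using Finset.induction_on with
    | empty => intro _; exact ⟨1, one_mem _, fun l hl => absurd hl (Finset.notMem_empty l)⟩
    | insert m s hm ih =>
      intro hi
      rw [Finset.mem_insert, not_or] at hi
      obtain ⟨v, hv, hv'⟩ := ih hi.2
      obtain ⟨e, he, he'⟩ := h.CUQ (fun b => h1 m (Ne.symm hi.1) b) hQ
      have hvX : v ∈ centralizer (XK (K m) : Set G) := by
        have h2 : (⨆ l ∈ s, Vf l) ≤ centralizer (XK (K m) : Set G) :=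
          iSup₂_le fun l hl => h.V_cen_X (by rintro rfl; exact hm hl)
        exact h2 hv
      have hve : v * e = e * v := by
        have h2 : (⨆ l ∈ s, Vf l) ≤ centralizer (Vf m : Set G) :=
          iSup₂_le fun l hl w hw => mem_centralizer_iff.2 fun x hx => h.comm' hx hw
        exact (mem_centralizer_iff.1 (h2 hv) e he).symm
      refine ⟨v * e, mul_mem ?_ ?_, ?_⟩
      · exact (biSup_mono fun l hl => Finset.mem_insert_of_mem hl : (⨆ l ∈ s, Vf l) ≤ ⨆ l ∈ insert m s, Vf l) hv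
      · exact (le_iSup₂_of_le m (Finset.mem_insert_self m s) le_rfl : Vf m ≤ ⨆ l ∈ insert m s, Vf l) he
      · intro l hl
        rcases Finset.mem_insert.1 hl with rfl | hl
        · have e1 : (v * e)⁻¹ * y = v⁻¹ * (e⁻¹ * y) := by
            rw [hve]; group
          rw [e1]
          exact mul_mem (inv_mem hvX) he'
        · have e1 : (v * e)⁻¹ * y = e⁻¹ * (v⁻¹ * y) := by group
          rw [e1]
          exact mul_mem (inv_mem (h.V_cen_X (by rintro rfl; exact hm hl) he)) (hv' l hl)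
  obtain ⟨v, hv, hv'⟩ := key (Finset.univ.erase i) (by simp only [_root_.Finset.mem_erase, _root_.ne_eq, _root_.not_true_eq_false, _root_.Finset.mem_univ, _root_.and_true, _root_.not_false_eq_true])
  have hvV : v ∈ ⨆ l, Vf l := (iSup₂_le fun l _ => le_iSup Vf l : (⨆ l ∈ Finset.univ.erase i, Vf l) ≤ _) hv
  have hvW : v ∈ Wh Vf K Q := (le_sup_left : (⨆ l, Vf l) ≤ _) hvV
  have hv'' : ∀ l, l ≠ i → v⁻¹ * y ∈ centralizer (XK (K l) : Set G) := fun l hl => hv' l (by simp only [hl, _root_.Finset.mem_erase, _root_.ne_eq, _root_.not_false_eq_true, _root_.Finset.mem_univ, _root_.and_self])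
  have hcQ : v⁻¹ * y ∈ centralizer (Q : Set G) := mul_mem (inv_mem (h.Wh_le_cen hvW)) hQ
  obtain ⟨b, -⟩ := (h.kt j).R_cov 1 (one_mem _)
  have hcU := h.mem_Uc_of hcQ (hv'' j hj) b
  obtain ⟨e, he, he'⟩ := h.CUQ (l := i) (y := v⁻¹ * y)
    (fun a' => h.F (Ne.symm hj) hcU fun u hu => (mem_centralizer_iff.1 hcQ u (h.Uc_le_Q i a' hu)).symm) hcQ
  have hd : e⁻¹ * (v⁻¹ * y) ∈ Dh K Q := by
    refine mem_Dh.2 ⟨mul_mem (inv_mem (h.V_cen_Q i he)) hcQ, fun l => ?_⟩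
    by_cases hl : l = i
    · subst hl
      exact he'
    · exact mul_mem (inv_mem (h.V_cen_X (Ne.symm hl) he)) (hv'' l hl)
  have e1 : y = v * (e * (e⁻¹ * (v⁻¹ * y))) := by group
  rw [e1]
  exact mul_mem hvW (mul_mem (Vf_le_Wh Vf K Q i he) (Dh_le_Wh Vf K Q hd))

/-- **LEMMA K** -/
theorem lemK [Finite G] {i j : κ} (hji : j ≠ i) {ai : ι i} {Y A : Subgroup G} (hYU : Y ≤ Uc (R i ai))
    (hAW : A ≤ Wh Vf K Q) (hA : ∀ y ∈ Y, ∀ u ∈ Q, y * u * y⁻¹ * u⁻¹ ∈ A)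
    (hfull : ∀ u ∈ Q, (∃ y ∈ Y, y * u ≠ u * y) → ∀ z ∈ A, ∃ y ∈ Y, y * u * y⁻¹ * u⁻¹ = z)
    (hmv : ∃ u ∈ Q, ∃ y ∈ Y, y * u ≠ u * y) (hcard : ∀ b : ι j, Nat.card A ≤ Nat.card (R j b)) :
    A ≤ centralizer (XK (K j) : Set G) := by
  have k := h.kt j
  intro z hz
  obtain ⟨a, ha, haz⟩ := h.dec (hAW hz) j
  by_contra hzX
  have ha1 : a ≠ 1 := by
    rintro rfl
    rw [inv_one, one_mul] at haz
    exact hzX haz
  obtain ⟨b₀, -⟩ := k.R_cov 1 (one_mem _)
  obtain ⟨b, hb, -⟩ := kt_avoid k ha1 b₀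
  have hYQ : Y ≤ Q := hYU.trans (h.Uc_le_Q i ai)
  have hQN : Q ≤ normalizer (R j b : Set G) := fun q hq => k.cen_le_N b
    (mem_centralizer_iff.2 fun v hv => (h.QC j q hq v hv).symm)
  by_cases hcase : ∃ u ∈ Uc (R j b), ∃ y ∈ Y, y * u ≠ u * y
  · obtain ⟨u, hu, hy⟩ := hcase
    obtain ⟨y, hy, rfl⟩ := hfull u (h.Uc_le_Q j b hu) hy z hz
    have h1 : y * u * y⁻¹ * u⁻¹ ∈ Uc (R j b) :=
      mul_mem (conj_mem_of_normalizer (N_Uc _ (hQN (hYQ hy))) hu) (inv_mem hu)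
    apply hb
    refine kt_R_of_cen k ha ?_
    have e : a = y * u * y⁻¹ * u⁻¹ * (a⁻¹ * (y * u * y⁻¹ * u⁻¹))⁻¹ := by group
    rw [e]
    refine mul_mem ?_ (inv_mem (cen_XK_le (K j) b haz))
    rw [mem_centralizer_iff]
    exact fun t ht => (Uc_comm h1 (k.K_Q b ht)).symm
  · push Not at hcase
    have hYQ' : ∀ y ∈ Y, y ∈ QQ (R j b) := fun y hy => h.F hji (hYU hy) fun u hu => hcase u hu y hy
    obtain ⟨u₀, hu₀, hm₀⟩ := hmv
    -- `K j b` normalises `A`
    have hKA : ∀ t ∈ K j b, t * z * t⁻¹ ∈ A := by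
      intro t ht
      obtain ⟨y, hy, rfl⟩ := hfull u₀ hu₀ hm₀ z hz
      have h1 := k.KQ b y (hYQ' y hy) t ht
      set ρ := y * t * y⁻¹ * t⁻¹ with hρ
      have hρW : ρ ∈ Wh Vf K Q := Vf_le_Wh Vf K Q j (k.R_le b h1)
      have htQ : t * u₀ * t⁻¹ ∈ Q := conj_mem_of_normalizer (h.nQ j b (k.K_Q b ht)) hu₀
      have h2 : t * y * t⁻¹ = ρ⁻¹ * y := by rw [hρ]; group
      have h3 := hA y hy _ htQ
      have h4 := mem_centralizer_iff.1 (inv_mem (h.Wh_le_cen hρW)) _ htQ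
      have h5 := h.Wh_comm (inv_mem hρW) (hAW h3)
      have e : t * (y * u₀ * y⁻¹ * u₀⁻¹) * t⁻¹ = y * (t * u₀ * t⁻¹) * y⁻¹ * (t * u₀ * t⁻¹)⁻¹ := by
        calc t * (y * u₀ * y⁻¹ * u₀⁻¹) * t⁻¹
            = (t * y * t⁻¹) * (t * u₀ * t⁻¹) * (t * y * t⁻¹)⁻¹ * (t * u₀ * t⁻¹)⁻¹ := by group
          _ = ρ⁻¹ * (y * (t * u₀ * t⁻¹) * y⁻¹ * (t * u₀ * t⁻¹)⁻¹) * ((t * u₀ * t⁻¹) * ρ⁻¹⁻¹ * (t * u₀ * t⁻¹)⁻¹) := by
            rw [h2]; group
          _ = ρ⁻¹ * (y * (t * u₀ * t⁻¹) * y⁻¹ * (t * u₀ * t⁻¹)⁻¹) * ρ⁻¹⁻¹ := by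
            have h6 := mem_centralizer_iff.1 (inv_mem (inv_mem (h.Wh_le_cen hρW))) _ htQ
            rw [h6, mul_inv_cancel_right]
          _ = _ := by rw [h5, mul_inv_cancel_right]
      rw [e]
      exact h3
    have hRA : R j b ≤ A := by
      intro r hr
      obtain ⟨t, ht, rfl⟩ := kt_full k ha hb hr
      have h1 := mul_mem (hKA t ht) (inv_mem hz)
      have h2 := mem_centralizer_iff.1 haz t (K_le_X (K j) b ht)
      have e : t * z * t⁻¹ * z⁻¹ = t * a * t⁻¹ * a⁻¹ := by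
        calc t * z * t⁻¹ * z⁻¹ = t * a * t⁻¹ * ((t * (a⁻¹ * z)) * t⁻¹) * z⁻¹ := by group
          _ = t * a * t⁻¹ * a⁻¹ := by rw [h2]; group
      rwa [e] at h1
    have hAR : A = R j b := (eq_of_le_of_card_ge hRA (hcard b)).symm
    have hzR : z ∈ R j b := hAR ▸ hz
    have h1 : a⁻¹ * z = 1 := h.uniq (mul_mem (inv_mem ha) (k.R_le b hzR)) haz
    have h2 : a = z := by
      rw [inv_mul_eq_one] at h1
      exact h1
    exact hb (h2 ▸ hzR)

end Fr

end Cfsg.Agent.Omega.IId.CvBig.Four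

end

section


/-!
# CvBig, CASE 2a, all `q`, `k ≥ 3`: the kill of (SURV) (helper796)

`FT` : the frame over `T = N_S(Vf i)`.  `Sv` : (SURV), `Rc ≠ R i` a `T`-invariant conjugate of `R i`, `Kc` its root group.

* `FT.Zlem` : LEMMA 3;
* `FT.kill` : (SURV) is impossible.
-/

set_option autoImplicit false
set_option linter.unusedSectionVars false

namespace Cfsg.Agent.Omega.IId.CvBig.Four

open Subgroup Cfsg.Agent.Omega.BTwo Cfsg.Agent.Omega.IId.Cv.TwoFour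
open Cfsg.Agent.Omega.F4Leaf.Syl.LocP (exists_step)

variable {G : Type*} [Group G] {κ : Type*} {ι : κ → Type*}

/-- a 2-element outside `T` has a power outside `T` with square in `T` -/
theorem exists_pow_sq {T : Subgroup G} {w : G} (h2 : IsPGroup 2 (zpowers w)) (hw : w ∉ T) :
    ∃ n : ℕ, w ^ n ∉ T ∧ w ^ n * w ^ n ∈ T := by
  classical
  obtain ⟨n, hn⟩ := h2 ⟨w, mem_zpowers w⟩
  have hn' : w ^ 2 ^ n = 1 := congrArg Subtype.val hn
  have hex : ∃ n, w ^ 2 ^ n ∈ T := ⟨n, by rw [hn']; exact one_mem _⟩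
  have h1 := Nat.find_spec hex
  have h0 : Nat.find hex ≠ 0 := by
    intro h0
    rw [h0, pow_zero, pow_one] at h1
    exact hw h1
  obtain ⟨m, hm⟩ := Nat.exists_eq_succ_of_ne_zero h0
  refine ⟨2 ^ m, fun h => ?_, ?_⟩
  · exact Nat.find_min hex (by omega) h
  · rw [← pow_add, ← two_mul, ← pow_succ']
    rw [hm] at h1
    exact h1

/-- the frame over `T` -/
structure FT (Vf Lf : κ → Subgroup G) (R K : ∀ l, ι l → Subgroup G) (Q : Subgroup G) (o : ∀ l, ι l)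
    (T : Subgroup G) (i : κ) : Prop extends Fr Vf Lf R K Q where
  card : ∀ l m (a : ι l) (b : ι m), Nat.card (R l a) = Nat.card (R m b)
  T2 : IsPGroup 2 T
  QT : Q ≤ T
  QQT : ∀ l, QQ (R l (o l)) ≤ T
  TV : T ≤ normalizer (Vf i : Set G)
  TQ : T ≤ normalizer (Q : Set G)
  perm : ∀ g ∈ T, ∀ l, ∃ m, cj g (Vf l) = Vf m
  lin : ∀ g ∈ T, ∀ l m, cj g (Vf l) = Vf m → cj g (R l (o l)) = R m (o m)
  TL : ∀ g ∈ T, ∀ l, g ∈ normalizer (Vf l : Set G) → g ∈ Lf l
  TCQ : ∀ g ∈ T, (∀ l, ∀ v ∈ Vf l, g * v = v * g) → g ∈ Q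

/-- (SURV) -/
structure Sv (R K : ∀ l, ι l → Subgroup G) (Q : Subgroup G) (o : ∀ l, ι l) (T : Subgroup G) (i : κ)
    (Rc Kc : Subgroup G) : Prop where
  RcU : Rc ≤ Uc (R i (o i))
  RcQ : Rc ≤ centralizer (Q : Set G)
  Rcd : ∀ c ∈ Rc, ∃ r ∈ R i (o i), r⁻¹ * c ∈ centralizer (XK (K i) : Set G)
  RcX : ∀ c ∈ Rc, c ∈ centralizer (XK (K i) : Set G) → c = 1
  card : Nat.card Rc = Nat.card (R i (o i))
  Kc2 : IsPGroup 2 Kc
  TKc : T ≤ normalizer (Kc : Set G)
  Kcn : ¬ Kc ≤ T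
  Kcc : ∀ a ∈ Kc, ∀ b ∈ Kc, a * b * a⁻¹ * b⁻¹ ∈ Rc
  KcR : ∀ a ∈ Kc, ∀ r ∈ R i (o i), a * r = r * a

/-- `[ρ⁻¹ y, u] = [y, u]` for `ρ ∈ Wh`, `u ∈ Q` -/
theorem Fr.shift {Vf Lf : κ → Subgroup G} {R K : ∀ l, ι l → Subgroup G} {Q : Subgroup G} (h : Fr Vf Lf R K Q)
    {ρ y u : G} (hρ : ρ ∈ Wh Vf K Q) (hu : u ∈ Q) (hyu : y * u * y⁻¹ * u⁻¹ ∈ Wh Vf K Q) :
    (ρ⁻¹ * y) * u * (ρ⁻¹ * y)⁻¹ * u⁻¹ = y * u * y⁻¹ * u⁻¹ := by
  have h5 := h.Wh_comm (inv_mem hρ) hyu
  have h6 := mem_centralizer_iff.1 (inv_mem (inv_mem (h.Wh_le_cen hρ))) _ hu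
  calc (ρ⁻¹ * y) * u * (ρ⁻¹ * y)⁻¹ * u⁻¹ = ρ⁻¹ * (y * u * y⁻¹ * u⁻¹) * (u * ρ⁻¹⁻¹ * u⁻¹) := by group
    _ = ρ⁻¹ * (y * u * y⁻¹ * u⁻¹) * ρ⁻¹⁻¹ := by rw [h6, mul_inv_cancel_right]
    _ = _ := by rw [h5, mul_inv_cancel_right]

namespace Fr

variable {Vf Lf : κ → Subgroup G} {R K : ∀ l, ι l → Subgroup G} {Q : Subgroup G} (h : Fr Vf Lf R K Q)
include h

theorem Vf_inf {l m : κ} (hlm : l ≠ m) {v : G} (h1 : v ∈ Vf l) (h2 : v ∈ Vf m) : v = 1 :=
  h.uniq h1 (h.V_cen_X hlm.symm h2)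

theorem Vf_ne (l : κ) (a : ι l) : ∃ v ∈ Vf l, v ≠ 1 ∧ v ∉ R l a := by
  obtain ⟨b, hb, -⟩ := (h.kt l).third a a
  obtain ⟨v, hv, hv1⟩ := (h.kt l).exists_ne b
  exact ⟨v, (h.kt l).R_le b hv, hv1, (h.kt l).not_mem hb hv hv1⟩

theorem Vf_inj {l m : κ} (hlm : Vf l = Vf m) : l = m := by
  by_contra hne
  obtain ⟨a, -⟩ := (h.kt l).R_cov 1 (one_mem _)
  obtain ⟨v, hv, hv1, -⟩ := h.Vf_ne l a
  exact hv1 (h.Vf_inf hne hv (hlm ▸ hv))

/-- uniqueness of components -/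
theorem comp_eq {l : κ} {a a' z : G} (ha : a ∈ Vf l) (ha' : a' ∈ Vf l)
    (h1 : a⁻¹ * z ∈ centralizer (XK (K l) : Set G)) (h2 : a'⁻¹ * z ∈ centralizer (XK (K l) : Set G)) : a = a' := by
  have h3 : a'⁻¹ * a ∈ centralizer (XK (K l) : Set G) := by
    have e : a'⁻¹ * a = a'⁻¹ * z * (a⁻¹ * z)⁻¹ := by group
    rw [e]
    exact mul_mem h2 (inv_mem h1)
  exact (inv_mul_eq_one.1 (h.uniq (mul_mem (inv_mem ha') ha) h3)).symm

/-- `g` commutes with `z ∈ Wh` if it commutes with the components of `z` and with `Dh` -/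
theorem cent_of_comp [Finite κ] {g z : G} (hz : z ∈ Wh Vf K Q)
    (hg : ∀ l, ∀ a ∈ Vf l, a⁻¹ * z ∈ centralizer (XK (K l) : Set G) → g * a = a * g)
    (hD : ∀ d ∈ Dh K Q, g * d = d * g) : g * z = z * g := by
  classical
  have := Fintype.ofFinite κ
  have key : ∀ s : Finset κ, ∃ v ∈ Wh Vf K Q, g * v = v * g ∧
      (∀ l ∈ s, v⁻¹ * z ∈ centralizer (XK (K l) : Set G)) ∧ ∀ l, l ∉ s → v ∈ centralizer (XK (K l) : Set G) := by
    intro s
    induction s using Finset.induction_on with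
    | empty => exact ⟨1, one_mem _, by simp, fun l hl => absurd hl (Finset.notMem_empty l), fun l _ => one_mem _⟩
    | insert m s hm ih =>
      obtain ⟨v, hv, hgv, h1, h2⟩ := ih
      obtain ⟨a, ha, haz⟩ := h.dec hz m
      have haW := Vf_le_Wh Vf K Q m ha
      refine ⟨v * a, mul_mem hv haW, ?_, fun l hl => ?_, fun l hl => ?_⟩
      · rw [← mul_assoc, hgv, mul_assoc, hg m a ha haz, mul_assoc]
      · rcases Finset.mem_insert.1 hl with rfl | hl
        · have e1 : (v * a)⁻¹ * z = v⁻¹ * (a⁻¹ * z) := by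
            rw [h.Wh_comm hv haW]; group
          rw [e1]
          exact mul_mem (inv_mem (h2 l hm)) haz
        · have e1 : (v * a)⁻¹ * z = a⁻¹ * (v⁻¹ * z) := by group
          rw [e1]
          exact mul_mem (inv_mem (h.V_cen_X (by rintro rfl; exact hm hl) ha)) (h1 l hl)
      · rw [Finset.mem_insert, not_or] at hl
        exact mul_mem (h2 l hl.2) (h.V_cen_X (Ne.symm hl.1) ha)
  obtain ⟨v, hv, hgv, h1, -⟩ := key Finset.univ
  have hd : v⁻¹ * z ∈ Dh K Q := h.mem_Dh_of (mul_mem (inv_mem hv) hz) fun l => h1 l (Finset.mem_univ l)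
  have h2 := hD _ hd
  calc g * z = g * v * (v⁻¹ * z) := by group
    _ = v * (g * (v⁻¹ * z)) := by rw [hgv]; group
    _ = z * g := by rw [h2]; group

end Fr

namespace FT

variable {Vf Lf : κ → Subgroup G} {R K : ∀ l, ι l → Subgroup G} {Q : Subgroup G} {o : ∀ l, ι l} {T : Subgroup G}
  {i : κ} (h : FT Vf Lf R K Q o T i)
include h

theorem cj_i {g : G} (hg : g ∈ T) : cj g (Vf i) = Vf i := cj_eq_self_iff.2 (h.TV hg)

theorem T_zp {g : G} (hg : g ∈ T) : IsPGroup 2 (zpowers g) := h.T2.to_le (by rw [zpowers_le]; exact hg)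

theorem KT' (l : κ) : K l (o l) ≤ T := ((h.kt l).K_Q (o l)).trans (h.QQT l)

/-- an element of `T` normalising `Vf l` and centralising the line acts as a root element -/
theorem root [Finite G] {g : G} (hg : g ∈ T) {l : κ} (hV : g ∈ normalizer (Vf l : Set G))
    (hR : ∀ r ∈ R l (o l), g * r = r * g) : ∃ u ∈ K l (o l), u * g ∈ centralizer (Vf l : Set G) :=
  lemA (h.kt l) (h.TL g hg l hV) (h.T_zp hg) hR

/-- `[g, v] = [u⁻¹, v]` -/
theorem comm_root {g u v : G} {V : Subgroup G} (hu : u * g ∈ centralizer (V : Set G)) (hv : v ∈ V) :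
    g * v * g⁻¹ * v⁻¹ = u⁻¹ * v * u⁻¹⁻¹ * v⁻¹ := by
  have _ := h
  have h3 := mem_centralizer_iff.1 hu v hv
  calc g * v * g⁻¹ * v⁻¹ = u⁻¹ * (u * g * v) * g⁻¹ * v⁻¹ := by group
    _ = u⁻¹ * (v * (u * g)) * g⁻¹ * v⁻¹ := by rw [← h3]
    _ = _ := by group

theorem comm_root_mem {g u : G} {l : κ} (hu : u ∈ K l (o l)) (hug : u * g ∈ centralizer (Vf l : Set G))
    {v : G} (hv : v ∈ Vf l) : g * v * g⁻¹ * v⁻¹ ∈ R l (o l) := by
  rw [h.comm_root hug hv]
  exact (h.kt l).QV (o l) _ (inv_mem ((h.kt l).K_Q (o l) hu)) v hv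

/-- an element of `T` which acts as a root element on every factor centralises `Dh` -/
theorem comm_Dh [Finite G] [Finite κ] {g : G} (hg : g ∈ T)
    (hr : ∀ l, ∃ u ∈ K l (o l), u * g ∈ centralizer (Vf l : Set G)) {d : G} (hd : d ∈ Dh K Q) : g * d = d * g := by
  classical
  have := Fintype.ofFinite κ
  have hgV : ∀ l, ∀ v ∈ Vf l, g * v * g⁻¹ ∈ Vf l := by
    intro l v hv
    obtain ⟨u, hu, hug⟩ := hr l
    have h1 := h.comm_root_mem hu hug hv
    have e : g * v * g⁻¹ = g * v * g⁻¹ * v⁻¹ * v := by group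
    rw [e]
    exact mul_mem ((h.kt l).R_le _ h1) hv
  have key : ∀ s : Finset κ, ∃ x ∈ T, x * d = d * x ∧ (∀ l ∈ s, x * g ∈ centralizer (Vf l : Set G)) ∧
      ∀ l, l ∉ s → x ∈ centralizer (Vf l : Set G) := by
    intro s
    induction s using Finset.induction_on with
    | empty => exact ⟨1, one_mem _, by simp, fun l hl => absurd hl (Finset.notMem_empty l), fun l _ => one_mem _⟩
    | insert m s hm ih =>
      obtain ⟨x, hx, hxd, h1, h2⟩ := ih
      obtain ⟨u, hu, hug⟩ := hr m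
      have huV : ∀ l, l ≠ m → u ∈ centralizer (Vf l : Set G) := fun l hl => by
        rw [mem_centralizer_iff]
        exact fun v hv => (h.K_comm hl hu hv).symm
      have hud : u * d = d * u := mem_centralizer_iff.1 ((mem_Dh.1 hd).2 m) u (K_le_X (K m) (o m) hu)
      refine ⟨u * x, mul_mem (h.KT' m hu) hx, ?_, fun l hl => ?_, fun l hl => ?_⟩
      · rw [mul_assoc, hxd, ← mul_assoc, hud, mul_assoc]
      · rcases Finset.mem_insert.1 hl with rfl | hl'
        · rw [mem_centralizer_iff]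
          intro v hv
          have h3 := hgV l v hv
          have h4 := mem_centralizer_iff.1 (h2 l hm) _ h3
          have h5 := mem_centralizer_iff.1 hug v hv
          calc v * (u * x * g) = (v * (u * g)) * g⁻¹ * x * g := by
                have h6 : g⁻¹ * x * g = g⁻¹ * x * g := rfl
                group
            _ = u * (g * v * g⁻¹) * x * g := by rw [h5]; group
            _ = u * (g * v * g⁻¹ * x) * g := by group
            _ = u * x * g * v := by rw [h4]; group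
        · have e1 : u * x * g = u * (x * g) := by group
          rw [e1]
          exact mul_mem (huV l (by rintro rfl; exact hm hl')) (h1 l hl')
      · rw [Finset.mem_insert, not_or] at hl
        exact mul_mem (huV l hl.1) (h2 l hl.2)
  obtain ⟨x, hx, hxd, h1, -⟩ := key Finset.univ
  have h3 : x * g ∈ Q := h.TCQ _ (mul_mem hx hg) fun l v hv =>
    (mem_centralizer_iff.1 (h1 l (Finset.mem_univ l)) v hv).symm
  have h4 := mem_centralizer_iff.1 (mem_Dh.1 hd).1 _ h3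
  calc g * d = x⁻¹ * (x * g * d) := by group
    _ = x⁻¹ * (d * (x * g)) := by rw [h4]
    _ = x⁻¹ * (x * d) * g := by rw [hxd]; group
    _ = d * g := by group

/-- **LEMMA 3** -/
theorem Zlem [Finite G] [Finite κ] {U₀ : Subgroup G} {J₀ : Set κ} {t : G} (hUW : U₀ ≤ Wh Vf K Q)
    (hUt : cj t U₀ = U₀) (hJ : ∀ m ∈ J₀, Vf m ≤ U₀)
    (hn1 : ∀ m, m ∉ J₀ → R m (o m) ≤ U₀)
    (hn2 : ∀ m, m ∉ J₀ → ∀ z ∈ U₀, ∀ a ∈ Vf m, a⁻¹ * z ∈ centralizer (XK (K m) : Set G) → a ∈ R m (o m))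
    (hn3 : ∀ m, m ∉ J₀ → ∀ g ∈ T, cj g (Vf m) = Vf m)
    (htT : t ∈ normalizer (T : Set G)) {l : κ} (hl : l ∈ J₀) : ∃ m ∈ J₀, cj t (R l (o l)) = R m (o m) := by
  have hfr := h.toFr
  have kl := h.kt l
  set A : Subgroup G := cj t (K l (o l)) with hA
  set Z : Subgroup G := cj t (R l (o l)) with hZ
  have hcardZ : Nat.card Z = Nat.card (R l (o l)) := card_cj _ _
  have hAT : A ≤ T := by
    rw [hA, ← cj_eq_self_iff.2 htT]
    exact cj_mono (h.KT' l)
  -- (g1)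
  have hUt' : ∀ v ∈ U₀, t⁻¹ * v * t ∈ U₀ := fun v hv => by
    rw [← hUt] at hv
    exact mem_cj.1 hv
  have g1 : ∀ v ∈ U₀, (∀ a ∈ A, a * v * a⁻¹ * v⁻¹ ∈ Z) ∧
      ((∀ a ∈ A, a * v = v * a) ∨ ∀ z ∈ Z, ∃ a ∈ A, a * v * a⁻¹ * v⁻¹ = z) := by
    intro v hv
    set v' := t⁻¹ * v * t with hv'
    have hv'U := hUt' v hv
    obtain ⟨x, hx, hxv⟩ := hfr.dec (hUW hv'U) l
    have hk : ∀ u ∈ K l (o l), u * v' * u⁻¹ * v'⁻¹ = u * x * u⁻¹ * x⁻¹ := by
      intro u hu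
      have h1 := mem_centralizer_iff.1 hxv u (K_le_X (K l) (o l) hu)
      calc u * v' * u⁻¹ * v'⁻¹ = u * x * (u⁻¹ * (u * (x⁻¹ * v')) * u⁻¹) * v'⁻¹ := by group
        _ = u * x * (u⁻¹ * ((x⁻¹ * v') * u) * u⁻¹) * v'⁻¹ := by rw [h1]
        _ = u * x * u⁻¹ * x⁻¹ := by group
    have hconj : ∀ a : G, t⁻¹ * (a * v * a⁻¹ * v⁻¹) * t = (t⁻¹ * a * t) * v' * (t⁻¹ * a * t)⁻¹ * v'⁻¹ := by
      intro a
      rw [hv']; group
    refine ⟨fun a ha => ?_, ?_⟩
    · rw [hZ, mem_cj, hconj, hk _ (mem_cj.1 ha)]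
      exact kl.QV (o l) _ (kl.K_Q (o l) (mem_cj.1 ha)) x hx
    · by_cases hxR : x ∈ R l (o l)
      · left
        intro a ha
        have h1 : t⁻¹ * (a * v * a⁻¹ * v⁻¹) * t = 1 := by
          rw [hconj, hk _ (mem_cj.1 ha), kl.QR (o l) _ (kl.K_Q (o l) (mem_cj.1 ha)) x hxR]
          group
        have h2 : a * v * a⁻¹ * v⁻¹ = 1 := by
          calc a * v * a⁻¹ * v⁻¹ = t * (t⁻¹ * (a * v * a⁻¹ * v⁻¹) * t) * t⁻¹ := by group
            _ = 1 := by rw [h1]; group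
        rw [mul_inv_eq_one, mul_inv_eq_iff_eq_mul] at h2
        exact h2
      · right
        intro z hz
        rw [hZ, mem_cj] at hz
        obtain ⟨u, hu, hur⟩ := kt_full kl hx hxR hz
        refine ⟨t * u * t⁻¹, conj_mem_cj hu, ?_⟩
        have h1 := hconj (t * u * t⁻¹)
        have e : t⁻¹ * (t * u * t⁻¹) * t = u := by group
        rw [e, hk u hu, hur] at h1
        calc t * u * t⁻¹ * v * (t * u * t⁻¹)⁻¹ * v⁻¹
            = t * (t⁻¹ * (t * u * t⁻¹ * v * (t * u * t⁻¹)⁻¹ * v⁻¹) * t) * t⁻¹ := by group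
          _ = z := by rw [h1]; group
  -- (g2)
  have g2 : ∀ a ∈ A, ∀ z ∈ Z, a * z = z * a := by
    intro a ha z hz
    have h1 := kl.QR (o l) _ (kl.K_Q (o l) (mem_cj.1 ha)) _ (mem_cj.1 hz)
    calc a * z = t * ((t⁻¹ * a * t) * (t⁻¹ * z * t)) * t⁻¹ := by group
      _ = t * ((t⁻¹ * z * t) * (t⁻¹ * a * t)) * t⁻¹ := by rw [h1]
      _ = z * a := by group
  -- (g3)
  have g3 : ∀ a ∈ A, ∀ m, cj a (Vf m) = Vf m := by
    intro a ha m
    by_cases hm : m ∈ J₀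
    · obtain ⟨m', hm'⟩ := h.perm a (hAT ha) m
      by_cases hmm : m' = m
      · rw [hm', hmm]
      exfalso
      let f : Vf m → Z := fun v => ⟨a * v * a⁻¹ * (v : G)⁻¹, (g1 v (hJ m hm v.2)).1 a ha⟩
      have hf : Function.Injective f := by
        intro v w hvw
        have h3 : a * (v : G) * a⁻¹ * (v : G)⁻¹ = a * w * a⁻¹ * (w : G)⁻¹ := congrArg Subtype.val hvw
        have h4 : (v : G)⁻¹ * w ∈ Vf m := mul_mem (inv_mem v.2) w.2
        have h5 : (v : G)⁻¹ * w = (a * (v : G)⁻¹ * a⁻¹) * (a * w * a⁻¹) := by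
          have hw : a * (w : G) * a⁻¹ = a * v * a⁻¹ * (v : G)⁻¹ * w := by rw [h3]; group
          rw [hw]; group
        have hca : ∀ x ∈ Vf m, a * x * a⁻¹ ∈ Vf m' := fun x hx => by rw [← hm']; exact conj_mem_cj hx
        have h6 : (v : G)⁻¹ * w ∈ Vf m' := by
          rw [h5]
          exact mul_mem (hca _ (inv_mem v.2)) (hca _ w.2)
        exact Subtype.ext (inv_mul_eq_one.1 (hfr.Vf_inf hmm h6 h4))
      have h8 := Nat.card_le_card_of_injective f hf
      rw [hcardZ, h.card l m (o l) (o m)] at h8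
      have h9 := eq_of_le_of_card_ge ((h.kt m).R_le (o m)) h8
      obtain ⟨v, hv, -, hvR⟩ := hfr.Vf_ne m (o m)
      exact hvR (h9 ▸ hv)
    · exact hn3 m hm a (hAT ha)
  have hlineU : ∀ m, R m (o m) ≤ U₀ := fun m => by
    by_cases hm : m ∈ J₀
    · exact ((h.kt m).R_le (o m)).trans (hJ m hm)
    · exact hn1 m hm
  -- `A` centralises all lines
  have g4 : ∀ m, ∀ a ∈ A, ∀ r ∈ R m (o m), a * r = r * a := by
    intro m a ha r hr
    rcases (g1 r (hlineU m hr)).2 with h1 | h1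
    · exact h1 a ha
    · exfalso
      have hle : Z ≤ R m (o m) := by
        intro z hz
        obtain ⟨a', ha', rfl⟩ := h1 z hz
        have h2 := h.lin a' (hAT ha') m m (g3 a' ha' m)
        have h3 : a' * r * a'⁻¹ ∈ R m (o m) := by
          rw [← h2]; exact conj_mem_cj hr
        exact mul_mem h3 (inv_mem hr)
      have heq : Z = R m (o m) := eq_of_le_of_card_ge hle (by rw [hcardZ, h.card l m (o l) (o m)])
      obtain ⟨z, hz, hz1⟩ := kl.exists_ne (o l)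
      obtain ⟨a', ha', ha''⟩ := h1 (t * z * t⁻¹) (conj_mem_cj hz)
      have h2 := g2 a' ha' r (heq ▸ hr)
      rw [h2] at ha''
      have h3 : t * z * t⁻¹ = 1 := by rw [← ha'']; group
      exact hz1 (by
        calc z = t⁻¹ * (t * z * t⁻¹) * t := by group
          _ = 1 := by rw [h3]; group)
  have hroot : ∀ m, ∀ a ∈ A, ∃ u ∈ K m (o m), u * a ∈ centralizer (Vf m : Set G) := fun m a ha =>
    h.root (hAT ha) (cj_eq_self_iff.1 (g3 a ha m)) (g4 m a ha)
  -- a factor not centralised by `A`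
  obtain ⟨m, hm, v₀, hv₀, a₀, ha₀, hne₀⟩ : ∃ m ∈ J₀, ∃ v ∈ Vf m, ∃ a ∈ A, a * v ≠ v * a := by
    by_contra hcon
    push Not at hcon
    have hcen : ∀ a ∈ A, ∀ z ∈ U₀, a * z = z * a := by
      intro a ha z hz
      refine hfr.cent_of_comp (hUW hz) (fun m x hx hxz => ?_) fun d hd => h.comm_Dh (hAT ha) (fun m => hroot m a ha) hd
      by_cases hm : m ∈ J₀
      · exact hcon m hm x hx a ha
      · exact g4 m a ha x (hn2 m hm z hz x hx hxz)
    obtain ⟨v, hv, hv1, hvR⟩ := hfr.Vf_ne l (o l)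
    obtain ⟨z, hz, hz1⟩ := kl.exists_ne (o l)
    obtain ⟨u, hu, hur⟩ := kt_full kl hv hvR hz
    have hvU : t * v * t⁻¹ ∈ U₀ := by
      rw [← hUt]; exact conj_mem_cj (hJ l hl hv)
    have h1 := hcen _ (conj_mem_cj hu : t * u * t⁻¹ ∈ A) _ hvU
    apply hz1
    rw [← hur]
    have h2 : u * v = v * u := by
      calc u * v = t⁻¹ * ((t * u * t⁻¹) * (t * v * t⁻¹)) * t := by group
        _ = t⁻¹ * ((t * v * t⁻¹) * (t * u * t⁻¹)) * t := by rw [h1]
        _ = v * u := by group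
    rw [h2]; group
  refine ⟨m, hm, ?_⟩
  refine eq_of_le_of_card_ge ?_ (by rw [hcardZ, h.card l m (o l) (o m)])
  rcases (g1 v₀ (hJ m hm hv₀)).2 with h1 | h1
  · exact absurd (h1 a₀ ha₀) hne₀
  · intro z hz
    obtain ⟨a, ha, rfl⟩ := h1 z hz
    obtain ⟨u, hu, hua⟩ := hroot m a ha
    exact h.comm_root_mem hu hua hv₀

end FT

end Cfsg.Agent.Omega.IId.CvBig.Four

end

section


/-!
# CvBig, CASE 2a, all `q`, `k ≥ 3`: the group `⟨V, V^w⟩` (helper796)

`FA V L R K i Th w` : `Th` Sylow in `N(V) ∩ N(R i)`, `w ∈ N(Th) ∩ N(R i)`, `V^w ≠ V`, `V^w ≤ V C(X)`, `[V^w, C_Th(V)] = 1`.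

* `FA.A_NV` : the elements of `AA ∩ N(V)` act on `PP` as elements of `K i`;
* `FA.mover`, `FA.delta_mem`.
-/

set_option autoImplicit false
set_option linter.unusedSectionVars false

namespace Cfsg.Agent.Omega.IId.CvBig.Four

open Subgroup Cfsg.Agent.Omega.BTwo Cfsg.Agent.Omega.IId.Cv.TwoFour

variable {G : Type*} [Group G]

theorem exists_sylow_mul' [Finite G] {T₁ K K₀ M : Subgroup G} (hTM : T₁ ≤ M) (hKM : K ≤ M)
    (hodd' : ¬ 2 ∣ T₁.relIndex M) (hTK : T₁ ≤ normalizer (K : Set G))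
    (hK₀ : K₀ ≤ K) (hn : K ≤ normalizer (K₀ : Set G)) (hodd : ∀ c ∈ K, Odd (orderOf c) → c ∈ K₀) {k : G}
    (hk : k ∈ K) : ∃ t ∈ T₁, t ∈ K ∧ t⁻¹ * k ∈ K₀ := by
  have hfact : Fact (Nat.Prime 2) := ⟨Nat.prime_two⟩
  have h1 : T₁.relIndex K ∣ T₁.relIndex M := by
    rw [relIndex_sup_norm hTK, ← Subgroup.relIndex_mul_relIndex T₁ (K ⊔ T₁) M le_sup_right (sup_le hKM hTM)]
    exact Dvd.intro _ rfl
  have h2 : ¬ 2 ∣ T₁.relIndex K := fun h => hodd' (h.trans h1)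
  have hnorm : (K₀.subgroupOf K).Normal := (normal_subgroupOf_iff_le_normalizer hK₀).2 hn
  have hq : IsPGroup 2 (K ⧸ K₀.subgroupOf K) := by
    intro y
    obtain ⟨⟨c, hc⟩, rfl⟩ := QuotientGroup.mk_surjective y
    obtain ⟨n, m, hm, hnm⟩ := Nat.exists_eq_two_pow_mul_odd (orderOf_pos c).ne'
    refine ⟨n, ?_⟩
    rw [← QuotientGroup.mk_pow, QuotientGroup.eq_one_iff, mem_subgroupOf]
    change c ^ 2 ^ n ∈ K₀
    refine hodd _ (pow_mem hc _) ?_
    have h3 : orderOf (c ^ 2 ^ n) = m := by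
      rw [orderOf_pow' _ (by positivity), hnm, Nat.gcd_mul_right_left, Nat.mul_div_cancel_left _ (by positivity)]
    rw [h3]
    exact hm
  obtain ⟨n, hn'⟩ := IsPGroup.iff_card.mp hq
  have h3 : K₀.relIndex K = 2 ^ n := hn'
  set M : Subgroup G := (T₁ ⊓ K) ⊔ K₀ with hM
  have h4 : M.relIndex K ∣ 2 ^ n := by
    rw [← h3]
    exact relIndex_dvd_of_le_left K le_sup_right
  have h5 : M.relIndex K ∣ T₁.relIndex K := by
    rw [← inf_relIndex_right T₁ K]
    exact relIndex_dvd_of_le_left K le_sup_left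
  have h6 : (2 ^ n).Coprime (T₁.relIndex K) :=
    Nat.Coprime.pow_left n ((Nat.Prime.coprime_iff_not_dvd Nat.prime_two).mpr h2)
  have h7 : K ≤ M := by
    rw [← relIndex_eq_one]
    exact Nat.eq_one_of_dvd_coprimes h6 h4 h5
  obtain ⟨t, ht, h8⟩ := mem_sup_norm (inf_le_right.trans hn : T₁ ⊓ K ≤ normalizer (K₀ : Set G)) (h7 hk)
  exact ⟨t, ht.1, ht.2, h8⟩

variable {ι : Type*}

structure FA (V L : Subgroup G) (R K : ι → Subgroup G) (i : ι) (Th : Subgroup G) (w : G) : Prop where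
  bt : KT V L R K
  Th2 : IsPGroup 2 Th
  ThV : Th ≤ normalizer (V : Set G)
  ThL : Th ≤ L
  ThR : Th ≤ normalizer (R i : Set G)
  syl : ¬ 2 ∣ Th.relIndex (normalizer (V : Set G) ⊓ normalizer (R i : Set G))
  KTh : K i ≤ Th
  wT : w ∈ normalizer (Th : Set G)
  wR : w ∈ normalizer (R i : Set G)
  ww : w * w ∈ Th
  wV : cj w V ≠ V
  VV' : ∀ v ∈ V, ∀ v' ∈ cj w V, v * v' = v' * v
  split : ∀ v ∈ cj w V, ∃ a ∈ V, a⁻¹ * v ∈ centralizer (XK K : Set G)
  cT : ∀ s ∈ Th, s ∈ centralizer (V : Set G) → s ∈ centralizer (cj w V : Set G)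

/-- `C_F(X)` -/
def F0 (V : Subgroup G) (K : ι → Subgroup G) (w : G) : Subgroup G := PP V w ⊓ centralizer (XK K : Set G)

theorem F0_le (V : Subgroup G) (K : ι → Subgroup G) (w : G) : F0 V K w ≤ PP V w := inf_le_left

theorem comm_mul {g v f : G} (hf : g * f = f * g) : g * (v * f) * g⁻¹ * (v * f)⁻¹ = g * v * g⁻¹ * v⁻¹ := by
  have e : f * g⁻¹ = g⁻¹ * f := by
    calc f * g⁻¹ = g⁻¹ * (g * f) * g⁻¹ := by group
      _ = g⁻¹ * f := by rw [hf]; group
  calc g * (v * f) * g⁻¹ * (v * f)⁻¹ = g * v * (f * g⁻¹) * f⁻¹ * v⁻¹ := by group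
    _ = g * v * g⁻¹ * v⁻¹ := by rw [e]; group

theorem conj_mul_cen {g v f : G} (hf : g * f = f * g) : g * (v * f) * g⁻¹ = g * v * g⁻¹ * f := by
  calc g * (v * f) * g⁻¹ = g * v * g⁻¹ * (g * f) * g⁻¹ := by group
    _ = g * v * g⁻¹ * f := by rw [hf]; group

namespace FA

variable {V L : Subgroup G} {R K : ι → Subgroup G} {i : ι} {Th : Subgroup G} {w : G} (h : FA V L R K i Th w)
include h

theorem cj_V' : cj w (cj w V) = V := by
  rw [← cj_mul]
  exact cj_eq_self_iff.2 (h.ThV h.ww)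

theorem V'_comm : ∀ a ∈ cj w V, ∀ c ∈ cj w V, a * c = c * a := by
  intro a ha c hc
  have h1 := h.bt.V_comm _ (mem_cj.1 ha) _ (mem_cj.1 hc)
  calc a * c = w * ((w⁻¹ * a * w) * (w⁻¹ * c * w)) * w⁻¹ := by group
    _ = c * a := by rw [h1]; group

theorem V'_sq : ∀ a ∈ cj w V, a * a = 1 := by
  intro a ha
  have h1 := h.bt.V_sq _ (mem_cj.1 ha)
  calc a * a = w * ((w⁻¹ * a * w) * (w⁻¹ * a * w)) * w⁻¹ := by group
    _ = 1 := by rw [h1]; group

theorem mem_P {y : G} : y ∈ PP V w ↔ ∃ v ∈ V, ∃ v' ∈ cj w V, v * v' = y := by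
  constructor
  · intro hy
    have h1 : V ≤ normalizer (cj w V : Set G) := fun v hv =>
      centralizer_le_normalizer _ (mem_centralizer_iff.2 fun v' hv' => (h.VV' v hv v' hv').symm)
    obtain ⟨a, ha, hc⟩ := mem_sup_norm h1 hy
    exact ⟨a, ha, _, hc, by group⟩
  · rintro ⟨v, hv, v', hv', rfl⟩
    exact mul_mem (V_le_P V w hv) (V'_le_P V w hv')

theorem P_comm : ∀ a ∈ PP V w, ∀ c ∈ PP V w, a * c = c * a := by
  intro a ha c hc
  obtain ⟨v, hv, v', hv', rfl⟩ := h.mem_P.1 ha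
  obtain ⟨u, hu, u', hu', rfl⟩ := h.mem_P.1 hc
  have c1 : Commute v u := h.bt.V_comm v hv u hu
  have c2 : Commute v u' := h.VV' v hv u' hu'
  have c3 : Commute v' u := (h.VV' u hu v' hv').symm
  have c4 : Commute v' u' := h.V'_comm v' hv' u' hu'
  exact ((c1.mul_right c2).mul_left (c3.mul_right c4)).eq

theorem P_sq : ∀ a ∈ PP V w, a * a = 1 := by
  intro a ha
  obtain ⟨v, hv, v', hv', rfl⟩ := h.mem_P.1 ha
  have c2 := h.VV' v hv v' hv'
  calc v * v' * (v * v') = v * (v' * v) * v' := by group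
    _ = (v * v) * (v' * v') := by rw [← c2]; group
    _ = 1 := by rw [h.bt.V_sq v hv, h.V'_sq v' hv', one_mul]

theorem P_two : IsPGroup 2 (PP V w) := by
  rintro ⟨a, ha⟩
  refine ⟨1, Subtype.ext ?_⟩
  change a ^ 2 ^ 1 = 1
  rw [pow_one, pow_two]
  exact h.P_sq a ha

theorem R_le_P : R i ≤ PP V w := (h.bt.R_le i).trans (V_le_P V w)

theorem TV' : Th ≤ normalizer (cj w V : Set G) := by
  rw [normalizer_cj, ← cj_eq_self_iff.2 h.wT]
  exact cj_mono h.ThV

theorem wP : w ∈ normalizer (PP V w : Set G) := by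
  rw [← cj_eq_self_iff, PP, cj_sup, h.cj_V', sup_comm]

theorem T_P : Th ≤ normalizer (PP V w : Set G) := by
  intro t ht
  rw [← cj_eq_self_iff, PP, cj_sup, cj_eq_self_iff.2 (h.ThV ht), cj_eq_self_iff.2 (h.TV' ht)]

theorem XV' {g v : G} (hg : g ∈ XK K) (hv : v ∈ cj w V) : g * v * g⁻¹ * v⁻¹ ∈ V := by
  obtain ⟨a, ha, hc⟩ := h.split v hv
  have h1 := mem_centralizer_iff.1 hc g hg
  have e : g * v * g⁻¹ * v⁻¹ = g * a * g⁻¹ * a⁻¹ := by
    calc g * v * g⁻¹ * v⁻¹ = g * a * g⁻¹ * (g * (a⁻¹ * v) * g⁻¹) * v⁻¹ := by group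
      _ = g * a * g⁻¹ * a⁻¹ := by rw [h1]; group
  rw [e]
  exact mul_mem (conj_mem_of_normalizer (h.bt.X_le_NV hg) ha) (inv_mem ha)

theorem bP {g : G} (hg : g ∈ XK K) : g ∈ normalizer (PP V w : Set G) := by
  have key : ∀ g ∈ XK K, ∀ y ∈ PP V w, g * y * g⁻¹ ∈ PP V w := by
    intro g hg y hy
    obtain ⟨v, hv, v', hv', rfl⟩ := h.mem_P.1 hy
    have e : g * (v * v') * g⁻¹ = (g * v * g⁻¹) * ((g * v' * g⁻¹ * v'⁻¹) * v') := by group
    rw [e]
    exact mul_mem (V_le_P V w (conj_mem_of_normalizer (h.bt.X_le_NV hg) hv))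
      (mul_mem (V_le_P V w (h.XV' hg hv')) (V'_le_P V w hv'))
  exact le_normalizer_of key hg

theorem dec {y : G} (hy : y ∈ PP V w) : ∃ v ∈ V, ∃ f ∈ F0 V K w, y = v * f := by
  obtain ⟨v, hv, v', hv', rfl⟩ := h.mem_P.1 hy
  obtain ⟨a, ha, hf⟩ := h.split _ hv'
  exact ⟨v * a, mul_mem hv ha, a⁻¹ * v', mem_inf.2 ⟨mul_mem (inv_mem (V_le_P V w ha)) (V'_le_P V w hv'), hf⟩, by
    group⟩

theorem V_F0 {v : G} (hv : v ∈ V) (hf : v ∈ F0 V K w) : v = 1 := h.bt.cen_VX hv (mem_inf.1 hf).2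

theorem F0_le_C : F0 V K w ≤ CP V (K i) w := fun _ hf =>
  mem_inf.2 ⟨(mem_inf.1 hf).1, cen_XK_le K i (mem_inf.1 hf).2⟩

theorem dec_C {y : G} (hy : y ∈ CP V (K i) w) : ∃ r ∈ R i, ∃ f ∈ F0 V K w, y = r * f := by
  obtain ⟨v, hv, f, hf, rfl⟩ := h.dec (CP_le _ _ _ hy)
  refine ⟨v, kt_R_of_cen h.bt hv ?_, f, hf, rfl⟩
  have e : v = v * f * f⁻¹ := by group
  rw [e]
  exact mul_mem (mem_inf.1 hy).2 (inv_mem (cen_XK_le K i (mem_inf.1 hf).2))

theorem norm_C {g : G} (hg : g ∈ normalizer (PP V w : Set G)) (hgR : g ∈ normalizer (R i : Set G)) :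
    g ∈ normalizer (CP V (K i) w : Set G) := by
  rw [← cj_eq_self_iff, CP, cj_inf, cj_eq_self_iff.2 hg, ← centralizer_cj,
    cj_eq_self_iff.2 (h.bt.N_K i hgR)]

theorem mem_C {e y : G} (he : e ∈ K i) (hn : e ∉ centralizer (V : Set G)) (hy : y ∈ PP V w)
    (hc : e * y = y * e) : y ∈ CP V (K i) w := by
  have b := h.bt
  obtain ⟨v, hv, f, hf, rfl⟩ := h.dec hy
  have hfW : f ∈ centralizer (K i : Set G) := cen_XK_le K i (mem_inf.1 hf).2
  refine mem_inf.2 ⟨hy, mul_mem (b.R_cen_K i ?_) hfW⟩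
  by_contra hR
  apply hn
  have h1 : e * v = v * e := by
    have h2 := mem_centralizer_iff.1 hfW e he
    calc e * v = e * (v * f) * f⁻¹ := by group
      _ = v * (f * e) * f⁻¹ := by rw [hc]; group
      _ = v * (e * f) * f⁻¹ := by rw [h2]
      _ = v * e := by group
  rw [mem_centralizer_iff]
  exact fun a ha => (b.reg (b.K_Q i he) hv hR h1 a ha).symm

/-! ### The stability group -/

theorem norm_A {g y : G} (hg : g ∈ normalizer (PP V w : Set G)) (hgR : g ∈ normalizer (R i : Set G))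
    (hy : y ∈ AA V (R i) (K i) w) : g * y * g⁻¹ ∈ AA V (R i) (K i) w := by
  have h1 := h.norm_C hg hgR
  exact mem_inf.2 ⟨mem_inf.2 ⟨conj_cenMod h1 hg hy.1.1, conj_cenMod hgR h1 hy.1.2⟩,
    conj_mem_of_normalizer (normalizer_le_normalizer_centralizer _ hgR) hy.2⟩

omit h in
theorem A_P : AA V (R i) (K i) w ≤ normalizer (PP V w : Set G) :=
  (inf_le_left.trans inf_le_left).trans (cenMod_normalizes (CP_le _ _ _))

omit h in
theorem A_R : AA V (R i) (K i) w ≤ normalizer (R i : Set G) := fun _ hg => hg.1.2.1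

theorem cen_le_A : centralizer (PP V w : Set G) ≤ AA V (R i) (K i) w := by
  intro c hc
  have h1 : centralizer (PP V w : Set G) ≤ centralizer (CP V (K i) w : Set G) := centralizer_le (CP_le _ _ _)
  have h2 : centralizer (PP V w : Set G) ≤ centralizer (R i : Set G) := centralizer_le h.R_le_P
  have key : ∀ y ∈ PP V w, c * y * c⁻¹ * y⁻¹ = 1 := by
    intro y hy
    rw [← mem_centralizer_iff.1 hc y hy]
    group
  refine mem_inf.2 ⟨mem_inf.2 ⟨⟨centralizer_le_normalizer _ (h1 hc), fun y hy => ?_⟩,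
    ⟨centralizer_le_normalizer _ (h2 hc), fun y hy => ?_⟩⟩, h2 hc⟩
  · rw [key y hy]; exact one_mem _
  · rw [key y (CP_le _ _ _ hy)]; exact one_mem _

theorem A_odd {c : G} (hc : c ∈ AA V (R i) (K i) w) (ho : Odd (orderOf c)) : c ∈ centralizer (PP V w : Set G) := by
  have hR : ∀ r ∈ R i, c * r = r * c := fun r hr => (mem_centralizer_iff.1 hc.2 r hr).symm
  have hC : ∀ y ∈ CP V (K i) w, c * y = y * c := by
    intro y hy
    have h1 := hc.1.2.2 y hy
    exact comm_of_odd ho (h.P_two.to_le h.R_le_P) h1 (hR _ h1)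
  rw [mem_centralizer_iff]
  intro y hy
  have h1 := hc.1.1.2 y hy
  exact (comm_of_odd ho (h.P_two.to_le (CP_le _ _ _)) h1 (hC _ h1)).symm

/-- **(a)** -/
theorem A_NV [Finite G] {δ : G} (hδ : δ ∈ AA V (R i) (K i) w) (hV : δ ∈ normalizer (V : Set G)) :
    ∃ u ∈ K i, u * δ ∈ centralizer (PP V w : Set G) := by
  obtain ⟨t, ht, htA, hc⟩ := exists_sylow_mul' (T₁ := Th) (K := AA V (R i) (K i) w ⊓ normalizer (V : Set G))
    (K₀ := centralizer (PP V w : Set G)) (le_inf h.ThV h.ThR) (le_inf inf_le_right (inf_le_left.trans A_R)) h.syl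
    (le_normalizer_of fun t ht y hy => mem_inf.2 ⟨h.norm_A (h.T_P ht) (h.ThR ht) hy.1,
      mul_mem (mul_mem (h.ThV ht) hy.2) (inv_mem (h.ThV ht))⟩)
    (le_inf h.cen_le_A ((centralizer_le (V_le_P V w)).trans (centralizer_le_normalizer _)))
    (inf_le_left.trans (A_P.trans (normalizer_le_normalizer_centralizer _)))
    (fun c hc ho => h.A_odd hc.1 ho) (mem_inf.2 ⟨hδ, hV⟩)
  obtain ⟨u, hu, hut⟩ := lemA h.bt (h.ThL ht) (h.Th2.to_le (by rw [zpowers_le]; exact ht)) fun r hr =>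
    (mem_centralizer_iff.1 htA.1.2 r hr).symm
  have h1 := h.cT _ (mul_mem (h.KTh hu) ht) hut
  have h2 : u * t ∈ centralizer (PP V w : Set G) := by
    rw [mem_centralizer_iff]
    intro y hy
    obtain ⟨v, hv, v', hv', rfl⟩ := h.mem_P.1 hy
    have c1 : Commute v (u * t) := mem_centralizer_iff.1 hut v hv
    have c2 : Commute v' (u * t) := mem_centralizer_iff.1 h1 v' hv'
    exact (c1.mul_left c2).eq
  refine ⟨u, hu, ?_⟩
  have e : u * δ = (u * t) * (t⁻¹ * δ) := by group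
  rw [e]
  exact mul_mem h2 hc

/-! ### The movers -/

theorem mover {e e' b : G} (he : e ∈ K i) (he' : e' ∈ K i) (hb : b ∈ XK K)
    (hR : b ∈ normalizer (R i : Set G))
    (c1 : ∀ v ∈ V, e' * (b * v * b⁻¹) * e'⁻¹ * (b * v * b⁻¹)⁻¹ = e * v * e⁻¹ * v⁻¹)
    (c2 : ∀ v ∈ V, b * (e * v * e⁻¹ * v⁻¹) * b⁻¹ = e' * v * e'⁻¹ * v⁻¹) :
    Mv (PP V w) (CP V (K i) w) (R i) V e e' b where
  bN := h.bP hb
  bR := hR
  c1 := by
    intro y hy
    obtain ⟨v, hv, f, hf', rfl⟩ := h.dec hy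
    have hf := (mem_inf.1 hf').2
    have h1 := mem_centralizer_iff.1 hf b hb
    have h2 := mem_centralizer_iff.1 hf e (K_le_X K i he)
    have h3 := mem_centralizer_iff.1 hf e' (K_le_X K i he')
    rw [conj_mul_cen h1, comm_mul h3, comm_mul h2]
    exact c1 v hv
  c2 := by
    intro y hy
    obtain ⟨v, hv, f, hf', rfl⟩ := h.dec hy
    have hf := (mem_inf.1 hf').2
    have h2 := mem_centralizer_iff.1 hf e (K_le_X K i he)
    have h3 := mem_centralizer_iff.1 hf e' (K_le_X K i he')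
    rw [comm_mul h3, comm_mul h2]
    exact c2 v hv
  bC := by
    intro y hy
    obtain ⟨r, hr, f, hf', rfl⟩ := h.dec_C hy
    have hf := (mem_inf.1 hf').2
    rw [comm_mul (mem_centralizer_iff.1 hf b hb)]
    exact mul_mem (conj_mem_of_normalizer hR hr) (inv_mem hr)
  bU := by
    intro y hy
    obtain ⟨v, hv, f, hf', rfl⟩ := h.dec hy
    have hf := (mem_inf.1 hf').2
    rw [comm_mul (mem_centralizer_iff.1 hf b hb)]
    exact mul_mem (conj_mem_of_normalizer (h.bt.X_le_NV hb) hv) (inv_mem hv)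

/-- `b⁻¹ b'` is in the stability group -/
theorem delta_mem [Finite G] {U U' : Subgroup G} {e e' b b' : G} (he : e ∈ K i)
    (hn : e ∉ centralizer (V : Set G)) (m : Mv (PP V w) (CP V (K i) w) (R i) U e e' b)
    (m' : Mv (PP V w) (CP V (K i) w) (R i) U' e e' b') : b⁻¹ * b' ∈ AA V (R i) (K i) w := by
  have bt := h.bt
  have heT : e ∈ Th := h.KTh he
  have hN : b⁻¹ * b' ∈ normalizer (PP V w : Set G) := mul_mem (inv_mem m.bN) m'.bN
  have hR : b⁻¹ * b' ∈ normalizer (R i : Set G) := mul_mem (inv_mem m.bR) m'.bR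
  have hC := h.norm_C hN hR
  refine mem_inf.2 ⟨mem_inf.2 ⟨⟨hC, fun y hy => ?_⟩, ⟨hR, fun y hy => ?_⟩⟩, ?_⟩
  · set z := b' * y * b'⁻¹ with hz
    have hzP : z ∈ PP V w := conj_mem_of_normalizer m'.bN hy
    set y' := b⁻¹ * z * b with hy'
    have hy'P : y' ∈ PP V w := conj_inv_mem_of_normalizer m.bN hzP
    have e1 := m.c1 y' hy'P
    have e2 := m'.c1 y hy
    have e3 : b * y' * b⁻¹ = z := by rw [hy']; group
    rw [e3] at e1
    rw [← hz, e1] at e2
    have e4 : b⁻¹ * b' * y * (b⁻¹ * b')⁻¹ * y⁻¹ = y' * y⁻¹ := by rw [hy', hz]; group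
    rw [e4]
    have hyy : y' * y⁻¹ ∈ PP V w := mul_mem hy'P (inv_mem hy)
    refine h.mem_C he hn hyy ?_
    set s := e * y * e⁻¹ * y⁻¹ with hs
    have hsP : s ∈ PP V w := mul_mem (conj_mem_of_normalizer (h.T_P heT) hy) (inv_mem hy)
    have h1 := h.P_comm s hsP _ hyy
    calc e * (y' * y⁻¹) = (e * y' * e⁻¹ * y'⁻¹) * (y' * y⁻¹) * s⁻¹ * e := by rw [hs]; group
      _ = (s * (y' * y⁻¹)) * s⁻¹ * e := by rw [e2]
      _ = y' * y⁻¹ * e := by rw [h1]; group
  · have h1 := m'.bC y hy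
    have hy1 : b⁻¹ * y * b ∈ CP V (K i) w := conj_inv_mem_of_normalizer (h.norm_C m.bN m.bR) hy
    have h2 := m.bC _ hy1
    have h3 := conj_inv_mem_of_normalizer m.bR h1
    have e4 : b⁻¹ * b' * y * (b⁻¹ * b')⁻¹ * y⁻¹ =
        (b⁻¹ * (b' * y * b'⁻¹ * y⁻¹) * b) * (b * (b⁻¹ * y * b) * b⁻¹ * (b⁻¹ * y * b)⁻¹)⁻¹ := by group
    rw [e4]
    exact mul_mem h3 (inv_mem h2)
  · rw [mem_centralizer_iff]
    intro r hr
    obtain ⟨j, hj, -⟩ := bt.third i i
    have hn' : ¬ ∀ a ∈ V, e * a = a * e := fun hc => hn (by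
      rw [mem_centralizer_iff]
      exact fun a ha => (hc a ha).symm)
    obtain ⟨v, hv, rfl⟩ := bt.full (bt.K_Q i he) hn' hj r hr
    have hvP := V_le_P V w (bt.R_le j hv)
    have h1 := m.c2 v hvP
    have h2 := m'.c2 v hvP
    set r := e * v * e⁻¹ * v⁻¹ with hr'
    have h3 : b * r * b⁻¹ = b' * r * b'⁻¹ := h1.trans h2.symm
    calc r * (b⁻¹ * b') = b⁻¹ * (b * r * b⁻¹) * b' := by group
      _ = b⁻¹ * b' * r := by rw [h3]; group

/-- a mover is fixed point free on `V / R i` -/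
theorem fpf {e e' b : G} (he : e ∈ K i) (he' : e' ∈ K i)
    (hee : e⁻¹ * e' ∉ centralizer (V : Set G))
    (c1 : ∀ v ∈ V, e' * (b * v * b⁻¹) * e'⁻¹ * (b * v * b⁻¹)⁻¹ = e * v * e⁻¹ * v⁻¹) :
    ∀ v ∈ V, b * v * b⁻¹ * v⁻¹ ∈ R i → v ∈ R i := by
  have bt := h.bt
  intro v hv hr
  by_contra hvR
  set r := b * v * b⁻¹ * v⁻¹ with hr'
  have h1 := c1 v hv
  have e1 : b * v * b⁻¹ = r * v := by rw [hr']; group
  have h2 := bt.conj_R (bt.K_Q i he') hr
  have h3 : e' * v * e'⁻¹ * v⁻¹ ∈ V := bt.R_le i (bt.QV i _ (bt.K_Q i he') v hv)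
  have h4 := bt.V_comm _ (bt.R_le i hr) _ h3
  have h5 : e' * v * e'⁻¹ * v⁻¹ = e * v * e⁻¹ * v⁻¹ := by
    rw [← h1, e1]
    calc e' * v * e'⁻¹ * v⁻¹ = (r * (e' * v * e'⁻¹ * v⁻¹)) * r⁻¹ := by rw [h4]; group
      _ = ((e' * r * e'⁻¹) * (e' * v * e'⁻¹ * v⁻¹)) * r⁻¹ := by rw [h2]
      _ = e' * (r * v) * e'⁻¹ * (r * v)⁻¹ := by group
  have h6 : e⁻¹ * e' * v = v * (e⁻¹ * e') := by
    have h7 : e' * v * e'⁻¹ = e * v * e⁻¹ := mul_right_cancel h5
    calc e⁻¹ * e' * v = e⁻¹ * (e' * v * e'⁻¹) * e' := by group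
      _ = v * (e⁻¹ * e') := by rw [h7]; group
  apply hee
  rw [mem_centralizer_iff]
  exact fun a ha => (bt.reg (bt.K_Q i (mul_mem (inv_mem he) he')) hv hvR h6 a ha).symm

/-- **`δ ∈ AA` with `C_F(X) ≤ V [δ, V]`** -/
theorem exists_delta [Finite G] (hFQ : FQ V R K i)
    (h4 : ∃ e ∈ K i, e ∉ centralizer (V : Set G) ∧ ∃ e' ∈ K i, e' ∉ centralizer (V : Set G) ∧
      e⁻¹ * e' ∉ centralizer (V : Set G)) :
    ∃ δ ∈ AA V (R i) (K i) w, ∀ f ∈ F0 V K w, ∃ u ∈ V, ∃ v ∈ V, f = v * (δ * u * δ⁻¹) := by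
  obtain ⟨e, he, hn, e', he', hn', hee⟩ := h4
  obtain ⟨b, hb, hbR, c1, c2⟩ := hFQ e he hn e' he' hn'
  have m := h.mover he he' hb hbR c1 c2
  have hwR := h.wR
  have key : ∀ a ∈ K i, a ∉ centralizer (V : Set G) →
      w⁻¹ * a * w ∈ K i ∧ w⁻¹ * a * w ∉ centralizer (V : Set G) := by
    intro a ha han
    refine ⟨conj_inv_mem_of_normalizer (h.bt.N_K i hwR) ha, fun hc => han ?_⟩
    have h1 := h.cT _ (conj_inv_mem_of_normalizer h.wT (h.KTh ha)) hc
    have h2 : a ∈ cj w (centralizer (cj w V : Set G)) := by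
      rw [mem_cj]; exact h1
    rwa [← centralizer_cj, h.cj_V'] at h2
  have hee1 : (w⁻¹ * e * w)⁻¹ * (w⁻¹ * e' * w) ∉ centralizer (V : Set G) := by
    have h1 := (key _ (mul_mem (inv_mem he) he') hee).2
    have e1 : (w⁻¹ * e * w)⁻¹ * (w⁻¹ * e' * w) = w⁻¹ * (e⁻¹ * e') * w := by group
    rw [e1]
    exact h1
  obtain ⟨k1, k2⟩ := key e he hn
  obtain ⟨k3, k4⟩ := key e' he' hn'
  obtain ⟨b₀, hb₀, hbR₀, d1, d2⟩ := hFQ _ k1 k2 _ k3 k4
  have m' := (h.mover k1 k3 hb₀ hbR₀ d1 d2).conj h.wP (h.norm_C h.wP hwR) hwR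
  have hsurj := Hyp.surj_of_fpf h.bt (h.bt.X_le_NV hb₀) (h.fpf k1 k3 hee1 d1)
  set b' := w * b₀ * w⁻¹ with hb'
  refine ⟨b⁻¹ * b', h.delta_mem he hn m m', fun f hf => ?_⟩
  have hA := h.delta_mem he hn m m'
  set δ := b⁻¹ * b' with hδ
  -- `f = v v'`
  obtain ⟨v, hv, v', hv', rfl⟩ := h.mem_P.1 (F0_le V K w hf)
  obtain ⟨u₀, hu₀, r, hr, hvr⟩ := hsurj _ (mem_cj.1 hv')
  -- `v' = (w r w⁻¹) [b', w u₀ w⁻¹]`
  set u := w * u₀ * w⁻¹ with hu
  have huP : u ∈ PP V w := V'_le_P V w (conj_mem_cj hu₀)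
  have hrw : w * r * w⁻¹ ∈ R i := conj_mem_of_normalizer hwR hr
  have e1 : v' = (w * r * w⁻¹) * (b' * u * b'⁻¹ * u⁻¹) := by
    calc v' = w * (w⁻¹ * v' * w) * w⁻¹ := by group
      _ = _ := by rw [hvr, hu, hb']; group
  -- `u = x g`, `[b', u] = (V) * (δ x δ⁻¹) ...`
  obtain ⟨x, hx, g, hg, hxg⟩ := h.dec huP
  have hδg : δ * g * δ⁻¹ * g⁻¹ ∈ R i := hA.1.2.2 g (h.F0_le_C hg)
  have hδx : δ * x * δ⁻¹ * x⁻¹ ∈ CP V (K i) w := hA.1.1.2 x (V_le_P V w hx)
  obtain ⟨ρ, hρ, D, hD, hρD⟩ := h.dec_C hδx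
  have hbD := mem_centralizer_iff.1 (mem_inf.1 hD).2 b hb
  have hbg := mem_centralizer_iff.1 (mem_inf.1 hg).2 b hb
  have hbV := h.bt.X_le_NV hb
  refine ⟨x, hx, ?_⟩
  -- everything in the abelian group `PP`
  have hσ : δ * g * δ⁻¹ = (δ * g * δ⁻¹ * g⁻¹) * g := by group
  set σ := δ * g * δ⁻¹ * g⁻¹ with hσ'
  have hδx' : δ * x * δ⁻¹ = ρ * D * x := by
    rw [← hρD]; group
  have hb'u : b' * u * b'⁻¹ = (b * (ρ * x * σ) * b⁻¹) * (D * g) := by
    have c1 : Commute D x := h.P_comm D (F0_le V K w hD) x (V_le_P V w hx)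
    have c2 : Commute D σ := h.P_comm D (F0_le V K w hD) σ (h.R_le_P hδg)
    have e2 : b' = b * δ := by rw [hδ]; group
    calc b' * u * b'⁻¹ = b * ((δ * x * δ⁻¹) * (δ * g * δ⁻¹)) * b⁻¹ := by rw [e2, hxg]; group
      _ = b * (ρ * (D * (x * σ)) * g) * b⁻¹ := by rw [hδx', hσ]; group
      _ = b * (ρ * ((x * σ) * D) * g) * b⁻¹ := by rw [(c1.mul_right c2).eq]
      _ = (b * (ρ * x * σ) * b⁻¹) * (b * (D * g) * b⁻¹) := by group
      _ = _ := by
        have e3 : b * (D * g) * b⁻¹ = D * g := by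
          calc b * (D * g) * b⁻¹ = (b * D) * g * b⁻¹ := by group
            _ = D * (b * g) * b⁻¹ := by rw [hbD]; group
            _ = D * g := by rw [hbg]; group
        rw [e3]
  have hVm : b * (ρ * x * σ) * b⁻¹ ∈ V :=
    conj_mem_of_normalizer hbV (mul_mem (mul_mem (h.bt.R_le i hρ) hx) (h.bt.R_le i hδg))
  -- `D = ρ⁻¹ (δ x δ⁻¹) x⁻¹`
  have hxP := V_le_P V w hx
  have hδxP : δ * x * δ⁻¹ ∈ PP V w := conj_mem_of_normalizer (A_P hA) hxP
  refine ⟨v * (w * r * w⁻¹) * (b * (ρ * x * σ) * b⁻¹) * x⁻¹ * ρ⁻¹ * x⁻¹, ?_, ?_⟩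
  · exact mul_mem (mul_mem (mul_mem (mul_mem (mul_mem hv (h.bt.R_le i hrw)) hVm) (inv_mem hx))
      (inv_mem (h.bt.R_le i hρ))) (inv_mem hx)
  · rw [e1, hb'u, hxg, hδx']
    set A := b * (ρ * x * σ) * b⁻¹ with hAdef
    have c1 : Commute D x := h.P_comm D (F0_le V K w hD) x hxP
    have c2 : Commute g x := h.P_comm g (F0_le V K w hg) x hxP
    have c3 : Commute D ρ := h.P_comm D (F0_le V K w hD) ρ (h.R_le_P hρ)
    calc v * (w * r * w⁻¹ * (A * (D * g) * (x * g)⁻¹))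
        = v * (w * r * w⁻¹) * A * (D * x⁻¹) := by
          have e4 : (D * g) * (x * g)⁻¹ = D * x⁻¹ := by group
          calc v * (w * r * w⁻¹ * (A * (D * g) * (x * g)⁻¹))
              = v * (w * r * w⁻¹) * A * ((D * g) * (x * g)⁻¹) := by group
            _ = _ := by rw [e4]
      _ = v * (w * r * w⁻¹) * A * (x⁻¹ * D) := by rw [c1.inv_right.eq]
      _ = v * (w * r * w⁻¹) * A * x⁻¹ * ρ⁻¹ * x⁻¹ * (x * (ρ * D)) := by group
      _ = v * (w * r * w⁻¹) * A * x⁻¹ * ρ⁻¹ * x⁻¹ * (ρ * D * x) := by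
          have c4 : Commute x (ρ * D) := h.P_comm x hxP _ (mul_mem (h.R_le_P hρ) (F0_le V K w hD))
          rw [c4.eq]

end FA

end Cfsg.Agent.Omega.IId.CvBig.Four

end

section


/-!
# CvBig, CASE 2a, all `q`, `k ≥ 3`: the kill of (SURV), end (helper796)

* `FT.kill` : (SURV) is impossible.
-/

set_option autoImplicit false
set_option linter.unusedSectionVars false

namespace Cfsg.Agent.Omega.IId.CvBig.Four

open Subgroup Cfsg.Agent.Omega.BTwo Cfsg.Agent.Omega.IId.Cv.TwoFour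
open Cfsg.Agent.Omega.F4Leaf.Syl.LocP (exists_step)

variable {G : Type*} [Group G] {κ : Type*} {ι : κ → Type*}

/-- `Q^t` moves `Vf j` -/
def Jt (Vf : κ → Subgroup G) (Q : Subgroup G) (t : G) (j : κ) : Prop :=
  ¬ cj t Q ≤ centralizer (Vf j : Set G)

namespace FT

variable {Vf Lf : κ → Subgroup G} {R K : ∀ l, ι l → Subgroup G} {Q : Subgroup G} {o : ∀ l, ι l} {T : Subgroup G}
  {i : κ} (h : FT Vf Lf R K Q o T i) {Rc Kc : Subgroup G} (s : Sv R K Q o T i Rc Kc)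

theorem Vf_T (h : FT Vf Lf R K Q o T i) (l : κ) : Vf l ≤ T := (h.toFr.V_le_Q l).trans h.QT

include s in
theorem comm_Kc {g u : G} (hg : g ∈ Kc) (hu : u ∈ T) : g * u * g⁻¹ * u⁻¹ ∈ Kc := by
  have e : g * u * g⁻¹ * u⁻¹ = g * (u * g⁻¹ * u⁻¹) := by group
  rw [e]
  exact mul_mem hg (conj_mem_of_normalizer (s.TKc hu) (inv_mem hg))

include h s

/-- **(i)** -/
theorem kfix {g : G} (hgK : g ∈ Kc) (hgT : g ∈ T) (l : κ) : cj g (Vf l) = Vf l := by
  have hfr := h.toFr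
  obtain ⟨m, hm⟩ := h.perm g hgT l
  by_cases hml : m = l
  · rw [hm, hml]
  exfalso
  have hli : l ≠ i := by
    rintro rfl
    exact hml (hfr.Vf_inj ((h.cj_i hgT).symm.trans hm)).symm
  have hmi : m ≠ i := by
    rintro rfl
    exact hml (hfr.Vf_inj (cj_injective (hm.trans (h.cj_i hgT).symm))).symm
  obtain ⟨u, hu, -, huR⟩ := hfr.Vf_ne l (o l)
  have hp : g * u * g⁻¹ ∈ Vf m := by rw [← hm]; exact conj_mem_cj hu
  have hK : R l (o l) ≤ Kc := by
    intro r hr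
    obtain ⟨k, hk, hkr⟩ := kt_full (h.kt l) (inv_mem hu) (fun h1 => huR (by simpa using inv_mem h1)) hr
    have h1 := comm_Kc s hgK (h.Vf_T l hu)
    have h2 : k * (g * u * g⁻¹ * u⁻¹) * k⁻¹ * (g * u * g⁻¹ * u⁻¹)⁻¹ ∈ Kc :=
      mul_mem (conj_mem_of_normalizer (s.TKc (h.KT' l hk)) h1) (inv_mem h1)
    have h3 : k * (g * u * g⁻¹) = g * u * g⁻¹ * k := hfr.K_comm hml hk hp
    have h4 : k * u⁻¹ * k⁻¹ ∈ Vf l := conj_mem_of_normalizer ((h.kt l).K_le_NV (o l) hk) (inv_mem hu)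
    have h5 : (g * u * g⁻¹) * (k * u⁻¹ * k⁻¹ * u) = (k * u⁻¹ * k⁻¹ * u) * (g * u * g⁻¹) :=
      (hfr.comm' (mul_mem h4 hu) hp).symm
    have e : k * (g * u * g⁻¹ * u⁻¹) * k⁻¹ * (g * u * g⁻¹ * u⁻¹)⁻¹ = k * u⁻¹ * k⁻¹ * (u⁻¹)⁻¹ := by
      calc k * (g * u * g⁻¹ * u⁻¹) * k⁻¹ * (g * u * g⁻¹ * u⁻¹)⁻¹
          = (k * (g * u * g⁻¹)) * u⁻¹ * k⁻¹ * u * (g * u * g⁻¹)⁻¹ := by group
        _ = (g * u * g⁻¹) * (k * u⁻¹ * k⁻¹ * u) * (g * u * g⁻¹)⁻¹ := by rw [h3]; group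
        _ = _ := by rw [h5]; group
    rw [e, hkr] at h2
    exact h2
  obtain ⟨z, hz, hz1⟩ := (h.kt l).exists_ne (o l)
  have hzV := (h.kt l).R_le (o l) hz
  have h1 := s.Kcc g hgK z (hK hz)
  have hgz : g * z * g⁻¹ ∈ Vf m := by rw [← hm]; exact conj_mem_cj hzV
  have h2 := s.RcX _ h1 (mul_mem (hfr.V_cen_X hmi hgz) (inv_mem (hfr.V_cen_X hli hzV)))
  rw [mul_inv_eq_one] at h2
  rw [h2] at hgz
  exact hz1 (hfr.Vf_inf hml hgz hzV)

theorem kN {g : G} (hgK : g ∈ Kc) (hgT : g ∈ T) (l : κ) : g ∈ normalizer (Vf l : Set G) :=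
  cj_eq_self_iff.1 (h.kfix s hgK hgT l)

/-- **(ii)** -/
theorem kmv [Finite G] {g : G} (hgK : g ∈ Kc) (hgT : g ∈ T) {l : κ} (hl : l ≠ i)
    (hn : g ∉ centralizer (Vf l : Set G)) :
    R l (o l) ≤ Kc ∧ (∀ r ∈ R l (o l), g * r = r * g) ∧ ∀ r ∈ R l (o l), ∃ v ∈ Vf l, g * v * g⁻¹ * v⁻¹ = r := by
  have hfr := h.toFr
  have kl := h.kt l
  have hgN := h.kN s hgK hgT l
  have hE : ∀ v ∈ Vf l, g * v * g⁻¹ * v⁻¹ ∈ Vf l ∧ g * v * g⁻¹ * v⁻¹ ∈ Kc := fun v hv =>
    ⟨mul_mem (conj_mem_of_normalizer hgN hv) (inv_mem hv), comm_Kc s hgK (h.Vf_T l hv)⟩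
  have hEc : ∀ e ∈ Vf l, e ∈ Kc → g * e = e * g := by
    intro e he heK
    have h1 := s.RcX _ (s.Kcc g hgK e heK) (hfr.V_cen_X hl (hE e he).1)
    rw [mul_inv_eq_one, mul_inv_eq_iff_eq_mul] at h1
    exact h1
  by_cases hER : ∀ e ∈ Vf l, e ∈ Kc → e ∈ R l (o l)
  · have hV : ∀ v ∈ Vf l, g * v * g⁻¹ * v⁻¹ ∈ R l (o l) := fun v hv => hER _ (hE v hv).1 (hE v hv).2
    obtain ⟨v₀, hv₀, hne⟩ : ∃ v ∈ Vf l, g * v * g⁻¹ * v⁻¹ ≠ 1 := by
      by_contra hcon
      push Not at hcon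
      apply hn
      rw [mem_centralizer_iff]
      intro v hv
      have h1 := hcon v hv
      rw [mul_inv_eq_one, mul_inv_eq_iff_eq_mul] at h1
      exact h1.symm
    have hgR := kt_lemB kl (h.TL g hgT l hgN) hV (hV v₀ hv₀) hne (hEc _ (hE v₀ hv₀).1 (hE v₀ hv₀).2)
    obtain ⟨u, hu, hug⟩ := h.root hgT hgN hgR
    have hfull : ∀ r ∈ R l (o l), ∃ v ∈ Vf l, g * v * g⁻¹ * v⁻¹ = r := by
      intro r hr
      have hun : ¬ ∀ a ∈ Vf l, u⁻¹ * a = a * u⁻¹ := by
        intro hcon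
        apply hne
        rw [h.comm_root hug hv₀, hcon v₀ hv₀]
        group
      obtain ⟨b, hb, -⟩ := kl.third (o l) (o l)
      obtain ⟨v, hv, hvr⟩ := kl.full (kl.K_Q (o l) (inv_mem hu)) hun hb r hr
      exact ⟨v, kl.R_le b hv, by rw [h.comm_root hug (kl.R_le b hv), hvr]⟩
    refine ⟨?_, hgR, hfull⟩
    intro r hr
    obtain ⟨v, hv, rfl⟩ := hfull r hr
    exact (hE v hv).2
  · exfalso
    push Not at hER
    obtain ⟨e, he, heK, heR⟩ := hER
    have hRK : R l (o l) ≤ Kc := by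
      intro r hr
      obtain ⟨k, hk, rfl⟩ := kt_full kl he heR hr
      exact mul_mem (conj_mem_of_normalizer (s.TKc (h.KT' l hk)) heK) (inv_mem heK)
    have hgR : ∀ r ∈ R l (o l), g * r = r * g := fun r hr => hEc r (kl.R_le _ hr) (hRK hr)
    obtain ⟨u, hu, hug⟩ := h.root hgT hgN hgR
    have h1 : u * e = e * u := by
      have h2 := mem_centralizer_iff.1 hug e he
      have h3 := hEc e he heK
      calc u * e = u * (e * g) * g⁻¹ := by group
        _ = (u * g * e) * g⁻¹ := by rw [← h3]; group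
        _ = e * u := by rw [← h2]; group
    have h2 := kl.reg (kl.K_Q (o l) hu) he heR h1
    apply hn
    rw [mem_centralizer_iff]
    intro v hv
    have h3 := mem_centralizer_iff.1 hug v hv
    calc v * g = u⁻¹ * (u * v) * g := by group
      _ = u⁻¹ * (v * (u * g)) := by rw [h2 v hv]; group
      _ = g * v := by rw [h3]; group

theorem kR [Finite G] {g : G} (hgK : g ∈ Kc) (hgT : g ∈ T) (l : κ) : ∀ r ∈ R l (o l), g * r = r * g := by
  by_cases hl : l = i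
  · subst hl
    exact s.KcR g hgK
  by_cases hn : g ∈ centralizer (Vf l : Set G)
  · exact fun r hr => (mem_centralizer_iff.1 hn r ((h.kt l).R_le _ hr)).symm
  · exact (h.kmv s hgK hgT hl hn).2.1

theorem kroot [Finite G] {g : G} (hgK : g ∈ Kc) (hgT : g ∈ T) (l : κ) :
    ∃ u ∈ K l (o l), u * g ∈ centralizer (Vf l : Set G) :=
  h.root hgT (h.kN s hgK hgT l) (h.kR s hgK hgT l)

omit h in
theorem tcomm {t u : G} (htK : t ∈ Kc) (htN : t ∈ normalizer (T : Set G)) (hu : u ∈ T) :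
    t * u * t⁻¹ * u⁻¹ ∈ Kc ∧ t * u * t⁻¹ * u⁻¹ ∈ T :=
  ⟨comm_Kc s htK hu, mul_mem (conj_mem_of_normalizer htN hu) (inv_mem hu)⟩

section t

variable {t : G} (htK : t ∈ Kc) (htN : t ∈ normalizer (T : Set G)) (htt : t * t ∈ T)
include htK htN

omit h in
theorem tR : t ∈ normalizer (R i (o i) : Set G) := by
  apply centralizer_le_normalizer
  rw [mem_centralizer_iff]
  exact fun r hr => (s.KcR t htK r hr).symm

omit htK s in
/-- `T` normalises `Q^t` -/
theorem T_Qt {g : G} (hg : g ∈ T) : cj g (cj t Q) = cj t Q := by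
  have h1 : t⁻¹ * g * t ∈ T := conj_inv_mem_of_normalizer htN hg
  have h2 := cj_eq_self_iff.2 (h.TQ h1)
  rw [← cj_mul]
  have e : g * t = t * (t⁻¹ * g * t) := by group
  rw [e, cj_mul, h2]

/-- `Q^t` centralises `Rᵢ`, `R_j` -/
theorem Qt_R [Finite G] (l : κ) : R l (o l) ≤ centralizer (cj t Q : Set G) := by
  intro r hr
  rw [mem_centralizer_iff]
  intro x hx
  set q := t⁻¹ * x * t with hq
  have hqQ : q ∈ Q := mem_cj.1 hx
  obtain ⟨h1, h2⟩ := tcomm s htK htN (h.QT hqQ)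
  have h3 := h.kR s h1 h2 l r hr
  have h4 := h.QC l q hqQ r ((h.kt l).R_le _ hr)
  have e : x = (t * q * t⁻¹ * q⁻¹) * q := by rw [hq]; group
  rw [e]
  calc (t * q * t⁻¹ * q⁻¹) * q * r = (t * q * t⁻¹ * q⁻¹) * (r * q) := by rw [← h4]; group
    _ = ((t * q * t⁻¹ * q⁻¹) * r) * q := by group
    _ = r * ((t * q * t⁻¹ * q⁻¹) * q) := by rw [h3]; group

omit htK htN h s in
theorem Jt_iff {j : κ} (hfr : Fr Vf Lf R K Q) :
    Jt Vf Q t j ↔ ∃ q ∈ Q, t * q * t⁻¹ * q⁻¹ ∉ centralizer (Vf j : Set G) := by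
  rw [Jt, SetLike.not_le_iff_exists]
  have hQ : ∀ q ∈ Q, q ∈ centralizer (Vf j : Set G) := fun q hq => by
    rw [mem_centralizer_iff]
    exact fun v hv => (hfr.QC j q hq v hv).symm
  constructor
  · rintro ⟨x, hx, hn⟩
    refine ⟨t⁻¹ * x * t, mem_cj.1 hx, fun hc => hn ?_⟩
    have h1 := mul_mem hc (hQ _ (mem_cj.1 hx))
    have e : t * (t⁻¹ * x * t) * t⁻¹ * (t⁻¹ * x * t)⁻¹ * (t⁻¹ * x * t) = x := by group
    rwa [e] at h1
  · rintro ⟨q, hq, hn⟩
    exact ⟨t * q * t⁻¹, conj_mem_cj hq, fun hc => hn (mul_mem hc (inv_mem (hQ q hq)))⟩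

/-- the data at `j ∈ J` -/
theorem Jinfo [Finite G] [Finite κ] {j : κ} (hj : j ≠ i) (hJ : Jt Vf Q t j) :
    R j (o j) ≤ Kc ∧ (∀ y ∈ cj t⁻¹ (Vf j), ∀ u ∈ Q, y * u * y⁻¹ * u⁻¹ ∈ cj t⁻¹ (R j (o j))) ∧
    (∃ u ∈ Q, ∀ z ∈ cj t⁻¹ (R j (o j)), ∃ y ∈ cj t⁻¹ (Vf j), y * u * y⁻¹ * u⁻¹ = z) ∧
    cj t⁻¹ (R j (o j)) ≤ Wh Vf K Q ∧
    (∀ m, m ≠ i → cj t⁻¹ (R j (o j)) ≤ centralizer (XK (K m) : Set G)) := by
  have hfr := h.toFr
  obtain ⟨q₀, hq₀, hn₀⟩ := (Jt_iff hfr).1 hJ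
  obtain ⟨h1, h2⟩ := tcomm s htK htN (h.QT hq₀)
  obtain ⟨hRK, -, -⟩ := h.kmv s h1 h2 hj hn₀
  have htR := tR s htK htN
  set Y := cj t⁻¹ (Vf j) with hY
  set A := cj t⁻¹ (R j (o j)) with hA
  have hYU : Y ≤ Uc (R i (o i)) := by
    rw [hY, ← cj_eq_self_iff.2 (N_Uc _ (inv_mem htR))]
    exact cj_mono (hfr.V_le_Uc hj (o i))
  have hAW : A ≤ Wh Vf K Q := by
    intro a ha
    have hz : t * a * t⁻¹ ∈ R j (o j) := by
      have := mem_cj.1 ha
      rwa [inv_inv] at this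
    have h3 : a * (t * a * t⁻¹)⁻¹ ∈ Rc := by
      have h4 := s.Kcc _ (inv_mem htK) _ (hRK hz)
      have e : t⁻¹ * (t * a * t⁻¹) * t⁻¹⁻¹ * (t * a * t⁻¹)⁻¹ = a * (t * a * t⁻¹)⁻¹ := by group
      rwa [e] at h4
    have e : a = a * (t * a * t⁻¹)⁻¹ * (t * a * t⁻¹) := by group
    rw [e]
    exact mul_mem (hfr.Vm hj (s.RcU h3) (s.RcQ h3)) (Vf_le_Wh Vf K Q j ((h.kt j).R_le _ hz))
  -- conjugation formula
  have hconj : ∀ v ∈ Vf j, ∀ u ∈ Q, t * ((t⁻¹ * v * t) * u * (t⁻¹ * v * t)⁻¹ * u⁻¹) * t⁻¹ =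
      ((t * u * t⁻¹ * u⁻¹) * v * (t * u * t⁻¹ * u⁻¹)⁻¹ * v⁻¹)⁻¹ := by
    intro v hv u hu
    have h3 := h.QC j u hu v hv
    have e1 : t * ((t⁻¹ * v * t) * u * (t⁻¹ * v * t)⁻¹ * u⁻¹) * t⁻¹ =
        v * (t * u * t⁻¹ * u⁻¹) * (u * v⁻¹ * u⁻¹) * (t * u * t⁻¹ * u⁻¹)⁻¹ := by group
    have e2 : u * v⁻¹ * u⁻¹ = v⁻¹ := by
      rw [h.QC j u hu _ (inv_mem hv)]; group
    rw [e1, e2]; group
  have hAm : ∀ y ∈ Y, ∀ u ∈ Q, y * u * y⁻¹ * u⁻¹ ∈ A := by
    intro y hy u hu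
    have hv : t * y * t⁻¹ ∈ Vf j := by
      have := mem_cj.1 hy
      rwa [inv_inv] at this
    have h3 := hconj _ hv u hu
    have e : t⁻¹ * (t * y * t⁻¹) * t = y := by group
    rw [e] at h3
    obtain ⟨k1, k2⟩ := tcomm s htK htN (h.QT hu)
    obtain ⟨w, hw, hwg⟩ := h.kroot s k1 k2 j
    rw [hA, mem_cj, inv_inv, h3]
    exact inv_mem (h.comm_root_mem hw hwg hv)
  have hfull : ∀ u ∈ Q, (∃ y ∈ Y, y * u ≠ u * y) → ∀ z ∈ A, ∃ y ∈ Y, y * u * y⁻¹ * u⁻¹ = z := by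
    rintro u hu ⟨y, hy, hne⟩ z hz
    have hv : t * y * t⁻¹ ∈ Vf j := by
      have := mem_cj.1 hy
      rwa [inv_inv] at this
    have hz' : t * z * t⁻¹ ∈ R j (o j) := by
      have := mem_cj.1 hz
      rwa [inv_inv] at this
    obtain ⟨k1, k2⟩ := tcomm s htK htN (h.QT hu)
    have hn : t * u * t⁻¹ * u⁻¹ ∉ centralizer (Vf j : Set G) := by
      intro hc
      have h3 := hconj _ hv u hu
      have e : t⁻¹ * (t * y * t⁻¹) * t = y := by group
      rw [e, ← mem_centralizer_iff.1 hc _ hv] at h3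
      apply hne
      have h4 : y * u * y⁻¹ * u⁻¹ = 1 := by
        calc y * u * y⁻¹ * u⁻¹ = t⁻¹ * (t * (y * u * y⁻¹ * u⁻¹) * t⁻¹) * t := by group
          _ = 1 := by rw [h3]; group
      rw [mul_inv_eq_one, mul_inv_eq_iff_eq_mul] at h4
      exact h4
    obtain ⟨v, hv', hvz⟩ := (h.kmv s k1 k2 hj hn).2.2 _ (inv_mem hz')
    refine ⟨t⁻¹ * v * t, ?_, ?_⟩
    · rw [hY, mem_cj]
      have e : t⁻¹⁻¹ * (t⁻¹ * v * t) * t⁻¹ = v := by group
      rw [e]; exact hv'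
    · have h3 := hconj v hv' u hu
      rw [hvz, inv_inv] at h3
      calc t⁻¹ * v * t * u * (t⁻¹ * v * t)⁻¹ * u⁻¹
          = t⁻¹ * (t * (t⁻¹ * v * t * u * (t⁻¹ * v * t)⁻¹ * u⁻¹) * t⁻¹) * t := by group
        _ = z := by rw [h3]; group
  have hmv : ∃ u ∈ Q, ∃ y ∈ Y, y * u ≠ u * y := by
    refine ⟨q₀, hq₀, ?_⟩
    by_contra hcon
    push Not at hcon
    apply hn₀
    rw [mem_centralizer_iff]
    intro v hv
    have h3 := hconj v hv q₀ hq₀
    have hy : t⁻¹ * v * t ∈ Y := by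
      rw [hY, mem_cj]
      have e : t⁻¹⁻¹ * (t⁻¹ * v * t) * t⁻¹ = v := by group
      rw [e]; exact hv
    rw [hcon _ hy] at h3
    have h4 : (t * q₀ * t⁻¹ * q₀⁻¹) * v * (t * q₀ * t⁻¹ * q₀⁻¹)⁻¹ * v⁻¹ = 1 := by
      rw [← inv_eq_one, ← h3]; group
    rw [mul_inv_eq_one, mul_inv_eq_iff_eq_mul] at h4
    exact h4.symm
  refine ⟨hRK, hAm, ?_, hAW, fun m hm => ?_⟩
  · obtain ⟨u, hu, hy⟩ := hmv
    exact ⟨u, hu, hfull u hu hy⟩
  · exact hfr.lemK hm hYU hAW hAm hfull hmv fun b => by rw [card_cj, h.card j m (o j) b]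

/-- `J = {j}` -/
theorem Junique [Finite G] [Finite κ] {j m : κ} (hj : j ≠ i) (hJ : Jt Vf Q t j) (hm : m ≠ i)
    (hJ' : Jt Vf Q t m) : m = j := by
  by_contra hne
  have hfr := h.toFr
  -- for `c ∈ Rc` there is `z ∈ R l` with `c z ∈ C(X_{m'})`, `m' ≠ i`
  have key : ∀ l, l ≠ i → Jt Vf Q t l → ∀ c ∈ Rc, ∃ z ∈ R l (o l),
      (∀ m', m' ≠ i → c * z ∈ centralizer (XK (K m') : Set G)) ∧ (z = 1 → c = 1) := by
    intro l hl hJl
    obtain ⟨hRK, -, -, -, hX⟩ := h.Jinfo s htK htN hl hJl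
    let f : R l (o l) → Rc := fun z => ⟨t⁻¹ * z * t * (z : G)⁻¹, by
      have h4 := s.Kcc _ (inv_mem htK) _ (hRK z.2)
      rwa [inv_inv] at h4⟩
    have hcz : ∀ z : R l (o l), ∀ m', m' ≠ i → (f z : G) * z ∈ centralizer (XK (K m') : Set G) := by
      intro z m' hm'
      have h5 : t⁻¹ * (z : G) * t ∈ cj t⁻¹ (R l (o l)) := by
        have := conj_mem_cj (g := t⁻¹) z.2
        rwa [inv_inv] at this
      have e : (f z : G) * z = t⁻¹ * z * t := by
        change t⁻¹ * (z : G) * t * (z : G)⁻¹ * z = _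
        group
      rw [e]
      exact hX m' hm' h5
    have hf : Function.Injective f := by
      intro z z' hzz
      have h1 := hcz z l hl
      have h2 := hcz z' l hl
      rw [hzz] at h1
      have h3 : (z : G)⁻¹ * z' ∈ centralizer (XK (K l) : Set G) := by
        have e : (z : G)⁻¹ * z' = ((f z' : G) * z)⁻¹ * ((f z' : G) * z') := by group
        rw [e]
        exact mul_mem (inv_mem h1) h2
      exact Subtype.ext (inv_mul_eq_one.1 (hfr.uniq (mul_mem (inv_mem ((h.kt l).R_le _ z.2))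
        ((h.kt l).R_le _ z'.2)) h3))
    have hs := (hf.bijective_of_nat_card_le (by rw [s.card, h.card l i (o l) (o i)])).2
    intro c hc
    obtain ⟨z, hz⟩ := hs ⟨c, hc⟩
    have hz' : (f z : G) = c := congrArg Subtype.val hz
    refine ⟨z, z.2, fun m' hm' => hz' ▸ hcz z m' hm', fun h1 => ?_⟩
    rw [← hz']
    change t⁻¹ * (z : G) * t * (z : G)⁻¹ = 1
    rw [h1]; group
  obtain ⟨r, hr, hr1⟩ := (h.kt i).exists_ne (o i)
  have hcard : 1 < Nat.card Rc := by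
    rw [s.card]
    have : Nontrivial (R i (o i)) := ⟨⟨r, hr⟩, 1, fun h1 => hr1 (congrArg Subtype.val h1)⟩
    exact Finite.one_lt_card
  obtain ⟨c, hc, hc1⟩ : ∃ c ∈ Rc, c ≠ 1 := by
    by_contra hcon
    push Not at hcon
    rw [(eq_bot_iff_forall _).2 hcon, card_bot] at hcard
    omega
  obtain ⟨z, hz, hzX, hz1⟩ := key j hj hJ c hc
  obtain ⟨z', hz', hzX', -⟩ := key m hm hJ' c hc
  have h1 : z ∈ centralizer (XK (K j) : Set G) := by
    have h2 := hfr.V_cen_X hne ((h.kt m).R_le _ hz')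
    have e : z = (z' * ((c * z')⁻¹ * (c * z))) := by group
    rw [e]
    exact mul_mem h2 (mul_mem (inv_mem (hzX' j hj)) (hzX j hj))
  exact hc1 (hz1 (hfr.uniq ((h.kt j).R_le _ hz) h1))

/-- the factors outside `J₀ = {m ≠ i, m ∉ J}` are fixed by `T` -/
theorem Jfix [Finite G] [Finite κ] {m : κ} (hm : ¬ (m ≠ i ∧ ¬ Jt Vf Q t m)) {g : G} (hg : g ∈ T) :
    cj g (Vf m) = Vf m := by
  by_cases hmi : m = i
  · rw [hmi]
    exact h.cj_i hg
  have hJ : Jt Vf Q t m := by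
    by_contra hcon
    exact hm ⟨hmi, hcon⟩
  have hfr := h.toFr
  obtain ⟨l, hl⟩ := h.perm g hg m
  have hli : l ≠ i := by
    rintro rfl
    exact hmi (hfr.Vf_inj (cj_injective (hl.trans (h.cj_i hg).symm)))
  have hJl : Jt Vf Q t l := by
    intro hcon
    apply hJ
    have h1 := cj_mono (g := g⁻¹) hcon
    rw [← centralizer_cj, h.T_Qt htN (inv_mem hg), ← hl, ← cj_mul, inv_mul_cancel, cj_one] at h1
    exact h1
  rw [hl, h.Junique s htK htN hmi hJ hli hJl]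

include htt in
/-- `t` permutes the lines `R l`, `l ≠ i`, `l ∉ J` -/
theorem tperm [Finite G] [Finite κ] {l₀ : κ} (hl₀ : l₀ ≠ i) {l : κ} (hl : l ≠ i) (hJ : ¬ Jt Vf Q t l) :
    ∃ m, m ≠ i ∧ ¬ Jt Vf Q t m ∧ cj t (R l (o l)) = R m (o m) := by
  have hfr := h.toFr
  have htR := tR s htK htN
  have htU := cj_eq_self_iff.2 (N_Uc _ htR)
  have hUle : Uc (R i (o i)) ⊓ centralizer (Q : Set G) ≤ Wh Vf K Q := fun z hz =>
    hfr.Vm hl₀ (mem_inf.1 hz).1 (mem_inf.1 hz).2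
  suffices hZ : ∃ m ∈ {m | m ≠ i ∧ ¬ Jt Vf Q t m}, cj t (R l (o l)) = R m (o m) by
    obtain ⟨m, hm, hlm⟩ := hZ
    exact ⟨m, hm.1, hm.2, hlm⟩
  refine h.Zlem (U₀ := Uc (R i (o i)) ⊓ centralizer (Q : Set G) ⊓ centralizer (cj t Q : Set G))
    (J₀ := {m | m ≠ i ∧ ¬ Jt Vf Q t m}) (t := t) (inf_le_left.trans hUle) ?_ ?_ ?_ ?_
    (fun m hm g hg => h.Jfix s htK htN hm hg) htN (l := l) ⟨hl, hJ⟩
  · rw [cj_inf, cj_inf, htU, ← centralizer_cj, ← centralizer_cj, ← cj_mul, cj_eq_self_iff.2 (h.TQ htt)]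
    rw [inf_assoc, inf_assoc, inf_comm (centralizer (cj t Q : Set G))]
  · rintro m ⟨hmi, hmJ⟩
    refine le_inf (le_inf (hfr.V_le_Uc hmi (o i)) (hfr.V_cen_Q m)) ?_
    rw [Jt, not_not] at hmJ
    exact le_centralizer_iff.1 hmJ
  · intro m hm
    refine le_inf (le_inf ?_ (((h.kt m).R_le _).trans (hfr.V_cen_Q m))) (h.Qt_R s htK htN m)
    by_cases hmi : m = i
    · subst hmi
      exact hfr.R_le_Uc m (o m)
    · exact ((h.kt m).R_le _).trans (hfr.V_le_Uc hmi (o i))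
  · intro m hm z hz a ha haz
    by_cases hmi : m = i
    · subst hmi
      refine kt_R_of_cen (h.kt m) ha ?_
      have e : a = z * (a⁻¹ * z)⁻¹ := by group
      rw [e]
      refine mul_mem ?_ (inv_mem (cen_XK_le (K m) (o m) haz))
      rw [mem_centralizer_iff]
      exact fun u hu => (Uc_comm (mem_inf.1 (mem_inf.1 hz).1).1 ((h.kt m).K_Q _ hu)).symm
    · have hJm : Jt Vf Q t m := by
        by_contra hcon
        exact hm ⟨hmi, hcon⟩
      obtain ⟨q, hq, hn⟩ := (Jt_iff hfr).1 hJm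
      obtain ⟨k1, k2⟩ := tcomm s htK htN (h.QT hq)
      set g := t * q * t⁻¹ * q⁻¹ with hg
      have hgz : g * z = z * g := by
        have h1 := mem_centralizer_iff.1 (mem_inf.1 hz).2 (t * q * t⁻¹) (conj_mem_cj hq)
        have h2 := mem_centralizer_iff.1 (mem_inf.1 (mem_inf.1 hz).1).2 q⁻¹ (inv_mem hq)
        calc g * z = t * q * t⁻¹ * (q⁻¹ * z) := by rw [hg]; group
          _ = t * q * t⁻¹ * z * q⁻¹ := by rw [h2]; group
          _ = z * g := by rw [h1, hg]; group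
      have hgN := h.kN s k1 k2 m
      have hgL := h.TL g k2 m hgN
      have hga : g * a * g⁻¹ = a := by
        refine hfr.comp_eq (conj_mem_of_normalizer hgN ha) ha ?_ haz
        have h1 : g * (a⁻¹ * z) * g⁻¹ ∈ centralizer (XK (K m) : Set G) :=
          conj_mem_of_normalizer (normalizer_le_normalizer_centralizer _ ((h.kt m).L_le_NX hgL)) haz
        have e : (g * a * g⁻¹)⁻¹ * z = g * (a⁻¹ * z) * g⁻¹ := by
          calc (g * a * g⁻¹)⁻¹ * z = g * a⁻¹ * g⁻¹ * (z * g) * g⁻¹ := by group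
            _ = _ := by rw [← hgz]; group
        rw [e]
        exact h1
      by_contra haR
      obtain ⟨u, hu, hug⟩ := h.kroot s k1 k2 m
      have hga' : g * a = a * g := by
        rw [mul_inv_eq_iff_eq_mul] at hga
        exact hga
      have hua : u * a = a * u := by
        have h2 := mem_centralizer_iff.1 hug a ha
        calc u * a = u * (a * g) * g⁻¹ := by group
          _ = (u * g * a) * g⁻¹ := by rw [← hga']; group
          _ = a * u := by rw [← h2]; group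
      have h2 := (h.kt m).reg ((h.kt m).K_Q _ hu) ha haR hua
      apply hn
      rw [mem_centralizer_iff]
      intro v hv
      have h3 := mem_centralizer_iff.1 hug v hv
      calc v * g = u⁻¹ * (u * v) * g := by group
        _ = u⁻¹ * (v * (u * g)) := by rw [h2 v hv]; group
        _ = g * v := by rw [h3]; group

include htt in
/-- **END** -/
theorem Jend [Finite G] [Finite κ] {j m : κ} (hj : j ≠ i) (hJ : Jt Vf Q t j) (hm : m ≠ i) (hmj : m ≠ j) :
    False := by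
  have hfr := h.toFr
  have hJm : ¬ Jt Vf Q t m := fun hJ' => hmj (h.Junique s htK htN hj hJ hm hJ')
  obtain ⟨l, hl, hJl, hml⟩ := h.tperm s htK htN htt hj hm hJm
  obtain ⟨hRK, hAm, ⟨u₀, hu₀, hfull⟩, hAW, hAX⟩ := h.Jinfo s htK htN hj hJ
  set Y := cj t⁻¹ (Vf j) with hY
  set A := cj t⁻¹ (R j (o j)) with hA
  have hYm : Y ≤ QQ (R m (o m)) := by
    have h1 : cj t⁻¹ (R l (o l)) = R m (o m) := by
      rw [← hml, ← cj_mul, inv_mul_cancel, cj_one]
    have h2 : cj t⁻¹ (QQ (R l (o l))) = QQ (R m (o m)) := by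
      rw [cj_O2, ← normalizer_cj, h1]
    rw [← h2]
    exact cj_mono (hfr.VQ' l j (o l))
  -- components of `A` at `i`
  have hcomp : ∀ a ∈ A, ∃ r ∈ R i (o i), r⁻¹ * a ∈ centralizer (XK (K i) : Set G) ∧ (r = 1 → a = 1) := by
    intro a ha
    have hz : t * a * t⁻¹ ∈ R j (o j) := by
      have := mem_cj.1 ha
      rwa [inv_inv] at this
    have h3 : a * (t * a * t⁻¹)⁻¹ ∈ Rc := by
      have h4 := s.Kcc _ (inv_mem htK) _ (hRK hz)
      have e : t⁻¹ * (t * a * t⁻¹) * t⁻¹⁻¹ * (t * a * t⁻¹)⁻¹ = a * (t * a * t⁻¹)⁻¹ := by group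
      rwa [e] at h4
    obtain ⟨r, hr, hrc⟩ := s.Rcd _ h3
    have hzX : t * a * t⁻¹ ∈ centralizer (XK (K i) : Set G) := hfr.V_cen_X hj ((h.kt j).R_le _ hz)
    refine ⟨r, hr, ?_, fun h1 => ?_⟩
    · have e : r⁻¹ * a = r⁻¹ * (a * (t * a * t⁻¹)⁻¹) * (t * a * t⁻¹) := by group
      rw [e]
      exact mul_mem hrc hzX
    · subst h1
      rw [inv_one, one_mul] at hrc
      have h5 := s.RcX _ h3 hrc
      have h6 : a = t * a * t⁻¹ := mul_inv_eq_one.1 h5
      have h7 : a ∈ Vf j := by rw [h6]; exact (h.kt j).R_le _ hz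
      exact hfr.uniq h7 (hAX j hj ha)
  obtain ⟨b, hb, -⟩ := (h.kt i).third (o i) (o i)
  -- elements of `A` centralising `K i b`
  have hAK : ∀ a ∈ A, (∀ k ∈ K i b, k * a = a * k) → a = 1 := by
    intro a ha hc
    obtain ⟨r, hr, hra, hr1⟩ := hcomp a ha
    have h1 : r ∈ centralizer (K i b : Set G) := by
      have e : r = a * (r⁻¹ * a)⁻¹ := by group
      rw [e]
      exact mul_mem (mem_centralizer_iff.2 hc) (inv_mem (cen_XK_le (K i) b hra))
    have h2 := kt_R_of_cen (h.kt i) ((h.kt i).R_le _ hr) h1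
    exact hr1 ((h.kt i).eq_one hb h2 hr)
  have hYQ : Y ≤ Q := by
    have htR := tR s htK htN
    have hYU : Y ≤ Uc (R i (o i)) := by
      rw [hY, ← cj_eq_self_iff.2 (N_Uc _ (inv_mem htR))]
      exact cj_mono (hfr.V_le_Uc hj (o i))
    exact hYU.trans (hfr.Uc_le_Q i (o i))
  have hQN : Q ≤ normalizer (R i b : Set G) := fun q hq => (h.kt i).cen_le_N b
    (mem_centralizer_iff.2 fun v hv => (h.QC i q hq v hv).symm)
  have hYc : Y ≤ centralizer (Uc (R i b) : Set G) := by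
    intro y hy
    rw [mem_centralizer_iff]
    intro u hu
    have h1 : y * u * y⁻¹ * u⁻¹ ∈ Uc (R i b) :=
      mul_mem (conj_mem_of_normalizer (N_Uc _ (hQN (hYQ hy))) hu) (inv_mem hu)
    have h2 := hAK _ (hAm y hy u (hfr.Uc_le_Q i b hu)) fun k hk => (Uc_comm h1 ((h.kt i).K_Q b hk)).symm
    rw [mul_inv_eq_one, mul_inv_eq_iff_eq_mul] at h2
    exact h2.symm
  have hYL : Y ≤ QQ (R i b) := by
    have h1 : QQ (R m (o m)) ⊓ centralizer (Uc (R i b) : Set G) ≤ QQ (R i b) := by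
      refine hfr.le_QQ_of inf_le_right ((O2_isPGroup _).to_le inf_le_left) ?_
      rintro c hc x ⟨hx1, hx2⟩
      have h2 : c ∈ normalizer (R m (o m) : Set G) :=
        (h.kt m).cen_le_N (o m) (centralizer_le (hfr.V_le_Uc hm b) hc)
      exact mem_inf.2 ⟨conj_mem_of_normalizer (le_normalizer_O2 _ h2) hx1, mul_mem (mul_mem hc hx2) (inv_mem hc)⟩
    exact (le_inf hYm hYc).trans h1
  -- `K i b` normalises `A`
  have hKA : ∀ k ∈ K i b, ∀ a ∈ A, k * a * k⁻¹ ∈ A := by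
    intro k hk a ha
    obtain ⟨y, hy, rfl⟩ := hfull a ha
    have h1 := (h.kt i).KQ b y (hYL hy) k hk
    set ρ := y * k * y⁻¹ * k⁻¹ with hρ
    have hρW : ρ ∈ Wh Vf K Q := Vf_le_Wh Vf K Q i ((h.kt i).R_le b h1)
    have hkQ : k * u₀ * k⁻¹ ∈ Q := conj_mem_of_normalizer (h.nQ i b ((h.kt i).K_Q b hk)) hu₀
    have h2 : k * y * k⁻¹ = ρ⁻¹ * y := by rw [hρ]; group
    have h3 := hAm y hy _ hkQ
    have e : k * (y * u₀ * y⁻¹ * u₀⁻¹) * k⁻¹ = (k * y * k⁻¹) * (k * u₀ * k⁻¹) * (k * y * k⁻¹)⁻¹ * (k * u₀ * k⁻¹)⁻¹ := by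
      group
    rw [e, h2, hfr.shift hρW hkQ (hAW h3)]
    exact h3
  obtain ⟨z, hz, hz1⟩ := (h.kt j).exists_ne (o j)
  have haA : t⁻¹ * z * t ∈ A := by
    have := conj_mem_cj (g := t⁻¹) hz
    rwa [inv_inv] at this
  apply hz1
  have h1 : t⁻¹ * z * t = 1 := by
    refine hAK _ haA fun k hk => ?_
    obtain ⟨r, hr, hra, -⟩ := hcomp _ haA
    set a := t⁻¹ * z * t with ha
    have h2 := mul_mem (hKA k hk a haA) (inv_mem haA)
    have h3 : k * a * k⁻¹ * a⁻¹ = k * r * k⁻¹ * r⁻¹ := by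
      have h4 := mem_centralizer_iff.1 hra k (K_le_X (K i) b hk)
      calc k * a * k⁻¹ * a⁻¹ = k * r * k⁻¹ * (k * (r⁻¹ * a) * k⁻¹) * a⁻¹ := by group
        _ = k * r * k⁻¹ * r⁻¹ := by rw [h4]; group
    have h5 : k * r * k⁻¹ * r⁻¹ ∈ R i b := (h.kt i).QV b k ((h.kt i).K_Q b hk) r ((h.kt i).R_le _ hr)
    rw [h3] at h2
    have h6 : k * r * k⁻¹ * r⁻¹ = 1 := by
      obtain ⟨r', hr', hra', hr1'⟩ := hcomp _ h2
      have h7 := hfr.comp_eq ((h.kt i).R_le _ hr') ((h.kt i).R_le _ h5) hra' (by rw [inv_mul_cancel]; exact one_mem _)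
      have h8 : r' = 1 := (h.kt i).eq_one hb (h7 ▸ h5) hr'
      exact hr1' h8
    rw [← h3, mul_inv_eq_one, mul_inv_eq_iff_eq_mul] at h6
    exact h6
  calc z = t * (t⁻¹ * z * t) * t⁻¹ := by group
    _ = 1 := by rw [h1]; group

end t

/-- **(SURV) is impossible** -/
theorem kill [Finite G] [Finite κ] (hk : ∀ j, ∃ m, m ≠ i ∧ m ≠ j)
    (kp : ∀ t : G, t ∉ T → t ∈ normalizer (T : Set G) → t * t ∈ T → t ∈ normalizer (R i (o i) : Set G) →
      (∀ l, l ≠ i → ∃ m, m ≠ i ∧ cj t (R l (o l)) = R m (o m)) → False) : False := by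
  obtain ⟨w, hwK, hwN, hwT⟩ := exists_step h.T2 s.Kc2 s.TKc s.Kcn
  obtain ⟨n, hn, hn2⟩ := exists_pow_sq (s.Kc2.to_le (by rw [zpowers_le]; exact hwK)) hwT
  have htK : w ^ n ∈ Kc := pow_mem hwK n
  have htN : w ^ n ∈ normalizer (T : Set G) := pow_mem hwN n
  by_cases hJ : ∃ j, j ≠ i ∧ Jt Vf Q (w ^ n) j
  · obtain ⟨j, hj, hJ⟩ := hJ
    obtain ⟨m, hm, hmj⟩ := hk j
    exact h.Jend s htK htN hn2 hj hJ hm hmj
  · push Not at hJ
    obtain ⟨l₀, hl₀, -⟩ := hk i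
    refine kp _ hn htN hn2 (tR s htK htN) fun l hl => ?_
    obtain ⟨m, hm, -, hlm⟩ := h.tperm s htK htN hn2 hl₀ hl (hJ l hl)
    exact ⟨m, hm, hlm⟩

end FT

end Cfsg.Agent.Omega.IId.CvBig.Four

end

end

-- merged: Cfsg.Agent.Mrg.Omega.IId.CvBig.FourFan
section

section


/-!
# CvBig, CASE 2a, `q ≥ 4`, `k ≥ 3`: `δ` is linear (helper796)

`V = F ⊕ F`, `F₀ = C_F(X)`.  `Act M F₀ g h D γ` : `g` acts as `(r, l) ↦ (r + h l, l) D(l)`, `c ↦ c + γ(c)`.

* `exists_N` : some `n ∈ NF` (`[F, n] ≤ F₀`, `[F₀, n] = 1`) moves `R i`.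
-/

set_option autoImplicit false
set_option linter.unusedSectionVars false

namespace Cfsg.Agent.Omega.IId.CvBig.Four

open Subgroup Cfsg.Agent.Lib.SL2Mat Cfsg.Agent.Omega.BTwo Cfsg.Agent.Omega.IId.Cv.TwoFour
open Cfsg.Agent.Omega.NatPair (dt dt_add dt_smul exists_smul_of_dt exists_comb ap ap_smul ap_add ap_zero' ap_one'
  ap_mul ap_inv_ap ap_ap_inv ap_one exists_ap exists_ap_e ap_up_e ext2)
open Cfsg.Agent.Omega.Mix (RMod Pt pt Char2)
open Cfsg.Agent.Omega.IId.NV (KX mem_KX normalizer_le_normalizer_KX KX_le)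

universe u

variable {G : Type u} [Group G]

/-- `{n : [PP, n] ≤ F0, [F0, n] = 1}` -/
def NF {ι : Type*} (V : Subgroup G) (K : ι → Subgroup G) (w : G) : Subgroup G :=
  cenMod (F0 V K w) (PP V w) ⊓ centralizer (F0 V K w : Set G)

section rmod

variable {F : Type*} [Field F] {V N : Subgroup G} {M : RMod F V N}

/-- the root groups -/
def Kx (M : RMod F V N) (i : _root_.Cfsg.Agent.Omega.Mix.Pt M) : Subgroup G := KX (_root_.Cfsg.Agent.Omega.Mix.pt M i)

theorem e2_mul (a b c d : F) : M.e ![a, b] * M.e ![c, d] = M.e ![a + c, b + d] := by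
  rw [← M.e_add]
  congr 1
  apply ext2
  · simp
  · simp

theorem e2_inj {a b c d : F} (h : M.e ![a, b] = M.e ![c, d]) : a = c ∧ b = d := by
  have h1 := M.e_inj h
  exact ⟨congrFun h1 0, congrFun h1 1⟩

theorem exists_e2 {v : G} (hv : v ∈ V) : ∃ a b, M.e ![a, b] = v := by
  obtain ⟨y, rfl⟩ := (M.mem_iff v).1 hv
  refine ⟨y 0, y 1, ?_⟩
  have e : (![y 0, y 1] : Fin 2 → F) = y := by
    apply ext2 <;> simp
  rw [e]

theorem e2_zero : M.e ![(0 : F), 0] = 1 := by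
  rw [← M.e_zero]
  have e : (![0, 0] : Fin 2 → F) = 0 := by
    apply ext2 <;> simp
  rw [e]

theorem line10_iff {v : G} : v ∈ M.line ![1, 0] ↔ ∃ r : F, M.e ![r, 0] = v := by
  rw [M.mem_line]
  have e : ∀ c : F, c • (![1, 0] : Fin 2 → F) = ![c, 0] := fun c => by
    apply ext2 <;> simp
  simp only [e]

theorem line01_iff {v : G} : v ∈ M.line ![0, 1] ↔ ∃ l : F, M.e ![0, l] = v := by
  rw [M.mem_line]
  have e : ∀ c : F, c • (![0, 1] : Fin 2 → F) = ![0, c] := fun c => by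
    apply ext2 <;> simp
  simp only [e]

theorem ind2 {g : G} {A : Matrix.SpecialLinearGroup (Fin 2) F} (hA : M.Ind g A) (r l : F) :
    g * M.e ![r, l] * g⁻¹ = M.e ![ent A 0 0 * r + ent A 0 1 * l, ent A 1 0 * r + ent A 1 1 * l] := by
  rw [hA]
  rfl

/-- the action of an element of the stability group -/
structure Act (M : RMod F V N) (F₀ : Subgroup G) (g : G) (h : F → F) (D : F → G) (γ : G → F) : Prop where
  e : ∀ r l : F, g * M.e ![r, l] * g⁻¹ = M.e ![r + h l, l] * D l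
  c : ∀ c ∈ F₀, g * c * g⁻¹ = c * M.e ![γ c, 0]
  D_mem : ∀ l, D l ∈ F₀

section act

variable [Finite G] [Finite F] [CharP F 2] {Th : Subgroup G} {w : G} (hA : FA V N (_root_.Cfsg.Agent.Omega.Mix.pt M) (Kx M) (i₀ M) Th w)
include hA

theorem F0_comm {f v : G} (hf : f ∈ F0 V (Kx M) w) (hv : v ∈ V) : f * v = v * f :=
  hA.P_comm f (F0_le _ _ _ hf) v (V_le_P V w hv)

theorem F0_comm' {f f' : G} (hf : f ∈ F0 V (Kx M) w) (hf' : f' ∈ F0 V (Kx M) w) : f * f' = f' * f :=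
  hA.P_comm f (F0_le _ _ _ hf) f' (F0_le _ _ _ hf')

theorem F0_sq {f : G} (hf : f ∈ F0 V (Kx M) w) : f * f = 1 := hA.P_sq f (F0_le _ _ _ hf)

theorem eu {a b c d : F} {f f' : G} (hf : f ∈ F0 V (Kx M) w) (hf' : f' ∈ F0 V (Kx M) w)
    (h : M.e ![a, b] * f = M.e ![c, d] * f') : a = c ∧ b = d ∧ f = f' := by
  have h1 : (M.e ![c, d])⁻¹ * M.e ![a, b] = f' * f⁻¹ := by
    calc (M.e ![c, d])⁻¹ * M.e ![a, b] = (M.e ![c, d])⁻¹ * (M.e ![a, b] * f) * f⁻¹ := by group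
      _ = f' * f⁻¹ := by rw [h]; group
  have h2 : (M.e ![c, d])⁻¹ * M.e ![a, b] = 1 :=
    hA.V_F0 (mul_mem (inv_mem (M.e_mem _)) (M.e_mem _)) (by rw [h1]; exact mul_mem hf' (inv_mem hf))
  have h3 : M.e ![a, b] = M.e ![c, d] := (inv_mul_eq_one.1 h2).symm
  obtain ⟨h4, h5⟩ := e2_inj h3
  refine ⟨h4, h5, ?_⟩
  rw [h3] at h
  exact mul_left_cancel h

theorem Act.mul {g₁ g₂ : G} {h₁ h₂ : F → F} {D₁ D₂ : F → G} {γ₁ γ₂ : G → F}
    (a₁ : Act M (F0 V (Kx M) w) g₁ h₁ D₁ γ₁) (a₂ : Act M (F0 V (Kx M) w) g₂ h₂ D₂ γ₂) :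
    Act M (F0 V (Kx M) w) (g₁ * g₂) (fun l => h₁ l + h₂ l + γ₁ (D₂ l)) (fun l => D₁ l * D₂ l)
      (fun c => γ₁ c + γ₂ c) where
  e := by
    intro r l
    have h0 : g₁ * (M.e ![r + h₂ l, l] * D₂ l) * g₁⁻¹ = (g₁ * M.e ![r + h₂ l, l] * g₁⁻¹) * (g₁ * D₂ l * g₁⁻¹) := by
      group
    calc g₁ * g₂ * M.e ![r, l] * (g₁ * g₂)⁻¹ = g₁ * (g₂ * M.e ![r, l] * g₂⁻¹) * g₁⁻¹ := by group
      _ = (M.e ![r + h₂ l + h₁ l, l] * D₁ l) * (D₂ l * M.e ![γ₁ (D₂ l), 0]) := by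
        rw [a₂.e, h0, a₁.e, a₁.c _ (a₂.D_mem l)]
      _ = M.e ![r + h₂ l + h₁ l, l] * (D₁ l * D₂ l * M.e ![γ₁ (D₂ l), 0]) := by group
      _ = M.e ![r + h₂ l + h₁ l, l] * M.e ![γ₁ (D₂ l), 0] * (D₁ l * D₂ l) := by
        rw [F0_comm hA (mul_mem (a₁.D_mem l) (a₂.D_mem l)) (M.e_mem _)]; group
      _ = _ := by
        rw [e2_mul]
        congr 3
        · ring_nf
        · ring_nf
  c := by
    intro c hc
    have h0 : g₁ * (c * M.e ![γ₂ c, 0]) * g₁⁻¹ = (g₁ * c * g₁⁻¹) * (g₁ * M.e ![γ₂ c, 0] * g₁⁻¹) := by group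
    have h00 : h₁ 0 = 0 ∧ D₁ 0 = 1 := by
      have h1 := a₁.e 0 0
      rw [e2_zero, mul_one, mul_inv_cancel] at h1
      have h2 : M.e ![(0 : F), 0] * 1 = M.e ![0 + h₁ 0, 0] * D₁ 0 := by rw [e2_zero, one_mul]; exact h1
      obtain ⟨h3, -, h4⟩ := eu hA (one_mem _) (a₁.D_mem 0) h2
      exact ⟨by rw [zero_add] at h3; exact h3.symm, h4.symm⟩
    calc g₁ * g₂ * c * (g₁ * g₂)⁻¹ = g₁ * (g₂ * c * g₂⁻¹) * g₁⁻¹ := by group
      _ = (c * M.e ![γ₁ c, 0]) * (M.e ![γ₂ c, 0]) := by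
        rw [a₂.c c hc, h0, a₁.c c hc, a₁.e, h00.1, h00.2, mul_one, add_zero]
      _ = c * (M.e ![γ₁ c, 0] * M.e ![γ₂ c, 0]) := by group
      _ = _ := by rw [e2_mul, add_zero]
  D_mem := fun l => mul_mem (a₁.D_mem l) (a₂.D_mem l)

variable {g : G} {h : F → F} {D : F → G} {γ : G → F} (a : Act M (F0 V (Kx M) w) g h D γ)
include a

theorem Act.zero : h 0 = 0 ∧ D 0 = 1 := by
  have h1 := a.e 0 0
  rw [e2_zero, mul_one, mul_inv_cancel] at h1
  have h2 : M.e ![(0 : F), 0] * 1 = M.e ![0 + h 0, 0] * D 0 := by rw [e2_zero, one_mul]; exact h1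
  obtain ⟨h3, -, h4⟩ := eu hA (one_mem _) (a.D_mem 0) h2
  exact ⟨by rw [zero_add] at h3; exact h3.symm, h4.symm⟩

theorem Act.add (l l' : F) : h (l + l') = h l + h l' ∧ D (l + l') = D l * D l' := by
  have h1 := a.e 0 (l + l')
  have h2 : M.e ![(0 : F), l + l'] = M.e ![(0 : F), l] * M.e ![(0 : F), l'] := by
    rw [e2_mul, add_zero]
  have h3 : g * (M.e ![(0 : F), l] * M.e ![(0 : F), l']) * g⁻¹ =
      (g * M.e ![(0 : F), l] * g⁻¹) * (g * M.e ![(0 : F), l'] * g⁻¹) := by group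
  rw [h2, h3, a.e, a.e] at h1
  have h4 : M.e ![0 + h l, l] * D l * (M.e ![0 + h l', l'] * D l') = M.e ![h l + h l', l + l'] * (D l * D l') := by
    calc M.e ![0 + h l, l] * D l * (M.e ![0 + h l', l'] * D l')
        = M.e ![0 + h l, l] * (D l * M.e ![0 + h l', l']) * D l' := by group
      _ = (M.e ![0 + h l, l] * M.e ![0 + h l', l']) * (D l * D l') := by
        rw [F0_comm hA (a.D_mem l) (M.e_mem _)]; group
      _ = _ := by rw [e2_mul, zero_add, zero_add]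
  rw [h4] at h1
  obtain ⟨h5, -, h6⟩ := eu hA (mul_mem (a.D_mem l) (a.D_mem l')) (a.D_mem _) h1
  exact ⟨by rw [h5, zero_add], h6.symm⟩

theorem Act.g_add {c c' : G} (hc : c ∈ F0 V (Kx M) w) (hc' : c' ∈ F0 V (Kx M) w) : γ (c * c') = γ c + γ c' := by
  have h1 := a.c _ (mul_mem hc hc')
  have h2 : g * (c * c') * g⁻¹ = (g * c * g⁻¹) * (g * c' * g⁻¹) := by group
  rw [h2, a.c c hc, a.c c' hc'] at h1
  have h3 : c * M.e ![γ c, 0] * (c' * M.e ![γ c', 0]) = M.e ![γ c + γ c', 0] * (c * c') := by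
    calc c * M.e ![γ c, 0] * (c' * M.e ![γ c', 0]) = c * (M.e ![γ c, 0] * c') * M.e ![γ c', 0] := by group
      _ = (c * c') * (M.e ![γ c, 0] * M.e ![γ c', 0]) := by rw [← F0_comm hA hc' (M.e_mem _)]; group
      _ = _ := by rw [e2_mul, add_zero, F0_comm hA (mul_mem hc hc') (M.e_mem _)]
  rw [h3, F0_comm hA (mul_mem hc hc') (M.e_mem _)] at h1
  obtain ⟨h5, -, -⟩ := eu hA (mul_mem hc hc') (mul_mem hc hc') h1
  exact h5.symm

/-- conjugation by a torus element -/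
theorem Act.dil {x : G} {t : F} {ht : t ≠ 0} (hx : x ∈ XK (Kx M)) (hxI : M.Ind x (dg t ht)) :
    Act M (F0 V (Kx M) w) (x * g * x⁻¹) (fun l => t * h (t * l)) (fun l => D (t * l)) (fun c => t * γ c) := by
  have hf : ∀ f ∈ F0 V (Kx M) w, x * f * x⁻¹ = f := by
    intro f hf
    rw [mem_centralizer_iff.1 (mem_inf.1 hf).2 x hx, mul_inv_cancel_right]
  have hf' : ∀ f ∈ F0 V (Kx M) w, x⁻¹ * f * x = f := by
    intro f hf1
    calc x⁻¹ * f * x = x⁻¹ * (x * f * x⁻¹) * x := by rw [hf f hf1]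
      _ = f := by group
  have hi : ∀ r l : F, x⁻¹ * M.e ![r, l] * x = M.e ![t⁻¹ * r, t * l] := by
    intro r l
    have h1 := ind2 hxI (t⁻¹ * r) (t * l)
    rw [dg_00, dg_01, dg_10, dg_11, zero_mul, zero_mul, add_zero, zero_add, mul_inv_cancel_left₀ ht,
      inv_mul_cancel_left₀ ht] at h1
    rw [← h1]; group
  have hd : ∀ r l : F, x * M.e ![r, l] * x⁻¹ = M.e ![t * r, t⁻¹ * l] := by
    intro r l
    have h1 := ind2 hxI r l
    rw [dg_00, dg_01, dg_10, dg_11, zero_mul, zero_mul, add_zero, zero_add] at h1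
    exact h1
  refine ⟨fun r l => ?_, fun c hc => ?_, fun l => a.D_mem _⟩
  · calc x * g * x⁻¹ * M.e ![r, l] * (x * g * x⁻¹)⁻¹ = x * (g * (x⁻¹ * M.e ![r, l] * x) * g⁻¹) * x⁻¹ := by group
      _ = x * (M.e ![t⁻¹ * r + h (t * l), t * l] * D (t * l)) * x⁻¹ := by rw [hi, a.e]
      _ = (x * M.e ![t⁻¹ * r + h (t * l), t * l] * x⁻¹) * (x * D (t * l) * x⁻¹) := by group
      _ = M.e ![r + t * h (t * l), l] * D (t * l) := by
        rw [hd, hf _ (a.D_mem _), mul_add, mul_inv_cancel_left₀ ht, inv_mul_cancel_left₀ ht]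
  · calc x * g * x⁻¹ * c * (x * g * x⁻¹)⁻¹ = x * (g * (x⁻¹ * c * x) * g⁻¹) * x⁻¹ := by group
      _ = (x * c * x⁻¹) * (x * M.e ![γ c, 0] * x⁻¹) := by rw [hf' c hc, a.c c hc]; group
      _ = c * M.e ![t * γ c, 0] := by rw [hd, hf c hc, mul_zero]

end act

variable [Finite G] [Finite F] [CharP F 2] {Th : Subgroup G} {w : G}

omit [Finite G] [Finite F] [CharP F 2] in
theorem exists_up' (al : AtLine M ![1, 0]) {x : G} (hx : x ∈ QQ (M.line ![1, 0])) : ∃ β : F, M.Ind x (up β) :=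
  exists_up (al.QU hx)

/-- **(a) in coordinates** -/
theorem Act.lin (al : AtLine M ![1, 0]) (hA : FA V N (_root_.Cfsg.Agent.Omega.Mix.pt M) (Kx M) (i₀ M) Th w)
    {g : G} {h : F → F} {D : F → G} {γ : G → F}
    (a : Act M (F0 V (Kx M) w) g h D γ) (hg : g ∈ AA V (_root_.Cfsg.Agent.Omega.Mix.pt M (i₀ M)) (Kx M (i₀ M)) w) (hD : ∀ l, D l = 1) :
    (∃ β, ∀ l, h l = β * l) ∧ ∀ c ∈ F0 V (Kx M) w, γ c = 0 := by
  have hgV : g ∈ normalizer (V : Set G) := by
    refine mem_normalizer_of_conj fun v hv => ?_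
    obtain ⟨r, l, rfl⟩ := exists_e2 (M := M) hv
    rw [a.e, hD, mul_one]
    exact M.e_mem _
  obtain ⟨u, hu, hug⟩ := hA.A_NV hg hgV
  obtain ⟨β, hβ⟩ := exists_up' al (al.KQ hu)
  have hu2 : ∀ r l : F, u * M.e ![r, l] * u⁻¹ = M.e ![r + β * l, l] := by
    intro r l
    have h1 := ind2 hβ r l
    rw [up_00, up_01, up_10, up_11, one_mul, zero_mul, zero_add, one_mul] at h1
    exact h1
  refine ⟨⟨-β, fun l => ?_⟩, fun c hc => ?_⟩
  · have h1 := mem_centralizer_iff.1 hug _ (V_le_P V w (M.e_mem ![0, l]))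
    have h2 : M.e ![0 + h l + β * l, l] = M.e ![0, l] := by
      calc M.e ![0 + h l + β * l, l] = u * (g * M.e ![0, l] * g⁻¹) * u⁻¹ := by rw [a.e, hD, mul_one, hu2]
        _ = (u * g * M.e ![0, l]) * (u * g)⁻¹ := by group
        _ = M.e ![0, l] := by rw [← h1]; group
    have h3 := (e2_inj h2).1
    linear_combination h3
  · have h1 := mem_centralizer_iff.1 hug _ (F0_le V (Kx M) w hc)
    have huc : u * c = c * u := mem_centralizer_iff.1 (mem_inf.1 hc).2 u (K_le_X (Kx M) (i₀ M) hu)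
    have h2 : c * M.e ![γ c, 0] = c := by
      calc c * M.e ![γ c, 0] = c * (u * M.e ![γ c, 0] * u⁻¹) := by rw [hu2, mul_zero, add_zero]
        _ = (c * u) * M.e ![γ c, 0] * u⁻¹ := by group
        _ = u * (c * M.e ![γ c, 0]) * u⁻¹ := by rw [← huc]; group
        _ = u * (g * c * g⁻¹) * u⁻¹ := by rw [a.c c hc]
        _ = (u * g * c) * (u * g)⁻¹ := by group
        _ = c := by rw [← h1]; group
    have h3 : M.e ![γ c, 0] = M.e ![0, 0] := by
      rw [e2_zero]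
      exact mul_left_cancel (h2.trans (mul_one c).symm)
    exact (e2_inj h3).1

/-- the elements of the stability group in coordinates -/
theorem exists_act (hA : FA V N (_root_.Cfsg.Agent.Omega.Mix.pt M) (Kx M) (i₀ M) Th w) {g : G}
    (hg : g ∈ AA V (_root_.Cfsg.Agent.Omega.Mix.pt M (i₀ M)) (Kx M (i₀ M)) w) :
    ∃ (h : F → F) (D : F → G) (γ : G → F), Act M (F0 V (Kx M) w) g h D γ := by
  have hline : ∀ r : F, M.e ![r, 0] ∈ _root_.Cfsg.Agent.Omega.Mix.pt M (i₀ M) := fun r => line10_iff.2 ⟨r, rfl⟩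
  have h1 : ∀ l : F, ∃ r : F, ∃ f ∈ F0 V (Kx M) w, g * M.e ![0, l] * g⁻¹ = M.e ![r, l] * f := by
    intro l
    have h2 := hg.1.1.2 _ (V_le_P V w (M.e_mem ![0, l]))
    obtain ⟨ρ, hρ, f, hf, e⟩ := hA.dec_C h2
    obtain ⟨r, rfl⟩ := line10_iff.1 hρ
    refine ⟨r, f, hf, ?_⟩
    calc g * M.e ![0, l] * g⁻¹ = (g * M.e ![0, l] * g⁻¹ * (M.e ![0, l])⁻¹) * M.e ![0, l] := by group
      _ = M.e ![r, 0] * (f * M.e ![0, l]) := by rw [e]; group
      _ = (M.e ![r, 0] * M.e ![0, l]) * f := by rw [F0_comm hA hf (M.e_mem _)]; group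
      _ = M.e ![r, l] * f := by rw [e2_mul, add_zero, zero_add]
  choose h D hD e using h1
  have h2 : ∀ c ∈ F0 V (Kx M) w, ∃ r : F, g * c * g⁻¹ = c * M.e ![r, 0] := by
    intro c hc
    have h3 := hg.1.2.2 c (hA.F0_le_C hc)
    obtain ⟨r, hr⟩ := line10_iff.1 h3
    refine ⟨r, ?_⟩
    calc g * c * g⁻¹ = (g * c * g⁻¹ * c⁻¹) * c := by group
      _ = M.e ![r, 0] * c := by rw [hr]
      _ = c * M.e ![r, 0] := (F0_comm hA hc (M.e_mem _)).symm
  classical
  refine ⟨h, D, fun c => if hc : c ∈ F0 V (Kx M) w then (h2 c hc).choose else 0, fun r l => ?_, fun c hc => ?_, hD⟩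
  · have h3 : g * M.e ![r, 0] * g⁻¹ = M.e ![r, 0] := by
      rw [← mem_centralizer_iff.1 hg.2 _ (hline r), mul_inv_cancel_right]
    have h4 : M.e ![r, l] = M.e ![r, 0] * M.e ![0, l] := by rw [e2_mul, add_zero, zero_add]
    calc g * M.e ![r, l] * g⁻¹ = (g * M.e ![r, 0] * g⁻¹) * (g * M.e ![0, l] * g⁻¹) := by rw [h4]; group
      _ = (M.e ![r, 0] * M.e ![h l, l]) * D l := by rw [h3, e]; group
      _ = _ := by rw [e2_mul, zero_add]
  · rw [dif_pos hc]
    exact (h2 c hc).choose_spec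

/-- `h` is linear -/
theorem h_lin (al : AtLine M ![1, 0]) (hA : FA V N (_root_.Cfsg.Agent.Omega.Mix.pt M) (Kx M) (i₀ M) Th w)
    {g : G} {h : F → F} {D : F → G} {γ : G → F}
    (a : Act M (F0 V (Kx M) w) g h D γ) (hg : g ∈ AA V (_root_.Cfsg.Agent.Omega.Mix.pt M (i₀ M)) (Kx M (i₀ M)) w) :
    (∃ μ, ∀ l, γ (D l) = μ * l) ∧ ∀ l, h l = h 1 * l := by
  have h20 : (2 : F) = 0 := CharTwo.two_eq_zero
  -- `g²`
  obtain ⟨⟨μ, hμ⟩, -⟩ := (Act.mul hA a a).lin al hA (mul_mem hg hg) fun l => F0_sq hA (a.D_mem l)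
  have hμ' : ∀ l, γ (D l) = μ * l := fun l => by
    have := hμ l
    linear_combination this - h l * h20
  refine ⟨⟨μ, hμ'⟩, ?_⟩
  have key : ∀ t : F, ∃ c, ∀ l, h (t * l) = t * h l + c * l := by
    intro t
    by_cases ht0 : t = 0
    · exact ⟨0, fun l => by simp [ht0, (Act.zero hA a).1]⟩
    by_cases ht1 : 1 + t = 0
    · have ht : t = 1 := by linear_combination ht1 - h20
      exact ⟨0, fun l => by rw [ht, one_mul, one_mul, zero_mul, add_zero]⟩
    obtain ⟨x, hx, hxI⟩ := al.ind_X (dg t ht0)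
    obtain ⟨y, hy, hyI⟩ := al.ind_X (dg (1 + t) ht1)
    have ax := Act.dil hA a hx hxI
    have ay := Act.dil hA a hy hyI
    have hN : ∀ {x : G} {t : F} {ht : t ≠ 0}, x ∈ XK (Kx M) → M.Ind x (dg t ht) →
        x * g * x⁻¹ ∈ AA V (_root_.Cfsg.Agent.Omega.Mix.pt M (i₀ M)) (Kx M (i₀ M)) w := by
      intro x t ht hx hxI
      refine hA.norm_A (hA.bP hx) ?_ hg
      show x ∈ normalizer (M.line ![1, 0] : Set G)
      rw [← cj_eq_self_iff]
      have e1 : ap (dg t ht) ![1, 0] = t • ![1, 0] := by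
        apply ext2
        · rw [ap_zero']; simp
        · rw [ap_one']; simp
      have e2 := M.cj_line_of_ind hxI ![1, 0]
      rw [e1, M.line_smul ht] at e2
      exact e2
    have am := Act.mul hA ax (Act.mul hA a ay)
    have hDD : ∀ l, D ((1 + t) * l) = D l * D (t * l) := fun l => by
      rw [add_mul, one_mul, (Act.add hA a _ _).2]
    obtain ⟨⟨β, hβ⟩, -⟩ := am.lin al hA (mul_mem (hN hx hxI) (mul_mem hg (hN hy hyI))) fun l => by
      show D (t * l) * (D l * D ((1 + t) * l)) = 1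
      rw [hDD]
      have c1 := F0_comm' hA (a.D_mem (t * l)) (mul_mem (a.D_mem l) (a.D_mem l))
      calc D (t * l) * (D l * (D l * D (t * l))) = D (t * l) * (D l * D l) * D (t * l) := by group
        _ = (D l * D l) * (D (t * l) * D (t * l)) := by rw [c1]; group
        _ = 1 := by rw [F0_sq hA (a.D_mem l), F0_sq hA (a.D_mem _), one_mul]
    refine ⟨β + μ * (1 + t + t * t), fun l => ?_⟩
    have h1 := hβ l
    have h2 : h ((1 + t) * l) = h l + h (t * l) := by rw [add_mul, one_mul, (Act.add hA a _ _).1]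
    have h3 : γ (D l * D ((1 + t) * l)) = γ (D l) + γ (D ((1 + t) * l)) :=
      Act.g_add hA a (a.D_mem _) (a.D_mem _)
    simp only [h2, h3, hμ'] at h1
    linear_combination h1 - (t * h l + t * h (t * l) + h l + μ * l * (1 + 2 * t + t * t)) * h20
  -- `h (t² l) = t² h l`
  intro l
  obtain ⟨t, ht⟩ : ∃ t : F, l = t * t := FiniteField.isSquare_of_char_two (ringChar.eq F 2) _
  obtain ⟨c, hc⟩ := key t
  have h1 := hc (t * 1)
  have h2 := hc 1
  have e : l = t * (t * 1) := by rw [ht, mul_one]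
  rw [e, h1, h2]
  linear_combination (c * t) * h20

/-- **`h = 0`** -/
theorem exists_h0 (al : AtLine M ![1, 0]) (hA : FA V N (_root_.Cfsg.Agent.Omega.Mix.pt M) (Kx M) (i₀ M) Th w)
    {δ : G} (hδ : δ ∈ AA V (_root_.Cfsg.Agent.Omega.Mix.pt M (i₀ M)) (Kx M (i₀ M)) w)
    (hon : ∀ f ∈ F0 V (Kx M) w, ∃ u ∈ V, ∃ v ∈ V, f = v * (δ * u * δ⁻¹)) :
    ∃ (δ' : G) (D : F → G) (γ : G → F), Act M (F0 V (Kx M) w) δ' (fun _ => 0) D γ ∧
      (∃ μ, ∀ l, γ (D l) = μ * l) ∧ ∀ f ∈ F0 V (Kx M) w, ∃ l, D l = f := by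
  have h20 : (2 : F) = 0 := CharTwo.two_eq_zero
  obtain ⟨h, D, γ, a⟩ := exists_act hA hδ
  obtain ⟨⟨μ, hμ⟩, hh⟩ := h_lin al hA a hδ
  obtain ⟨t, ht, htI⟩ := al.full (up (h 1)) (ap_up_e _)
  have hta : Act M (F0 V (Kx M) w) t (fun l => h 1 * l) (fun _ => 1) (fun _ => 0) := by
    refine ⟨fun r l => ?_, fun c hc => ?_, fun l => one_mem _⟩
    · have h1 := ind2 htI r l
      rw [up_00, up_01, up_10, up_11, one_mul, zero_mul, zero_add, one_mul] at h1
      rw [h1, mul_one]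
    · have h1 : t * c = c * t := mem_centralizer_iff.1 (mem_inf.1 hc).2 t (K_le_X (Kx M) (i₀ M) ht)
      rw [h1, mul_inv_cancel_right, e2_zero, mul_one]
  have am := Act.mul hA hta a
  refine ⟨t * δ, D, γ, ?_, ⟨μ, hμ⟩, fun f hf => ?_⟩
  · refine ⟨fun r l => ?_, fun c hc => ?_, a.D_mem⟩
    · have h1 := am.e r l
      rw [one_mul] at h1
      rw [h1]
      congr 3
      rw [hh l]
      linear_combination h 1 * l * h20
    · have h1 := am.c c hc
      simp only [zero_add] at h1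
      exact h1
  · obtain ⟨u, hu, v, hv, e⟩ := hon f hf
    obtain ⟨r, l, rfl⟩ := exists_e2 (M := M) hu
    obtain ⟨r', l', rfl⟩ := exists_e2 (M := M) hv
    refine ⟨l, ?_⟩
    rw [a.e] at e
    have h1 : M.e ![(0 : F), 0] * f = M.e ![r' + (r + h l), l' + l] * D l := by
      rw [e2_zero, one_mul, e, ← mul_assoc, e2_mul]
    exact (eu hA hf (a.D_mem l) h1).2.2.symm

/-- **`γ = 0`** -/
theorem gamma_zero (al : AtLine M ![1, 0]) (hA : FA V N (_root_.Cfsg.Agent.Omega.Mix.pt M) (Kx M) (i₀ M) Th w)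
    {δ : G} {D : F → G} {γ : G → F} (a : Act M (F0 V (Kx M) w) δ (fun _ => 0) D γ)
    (hμ : ∃ μ, ∀ l, γ (D l) = μ * l) (hon : ∀ f ∈ F0 V (Kx M) w, ∃ l, D l = f) :
    ∀ c ∈ F0 V (Kx M) w, γ c = 0 := by
  obtain ⟨μ, hμ⟩ := hμ
  have h20 : (2 : F) = 0 := CharTwo.two_eq_zero
  by_cases hμ0 : μ = 0
  · intro c hc
    obtain ⟨l, rfl⟩ := hon c hc
    rw [hμ, hμ0, zero_mul]
  intro c hc
  have al1 := al.all vec10_ne (vec01_ne (F := F))
  obtain ⟨k, hk, hkI⟩ := al1.full (lo 1) (by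
    apply ext2
    · rw [ap_zero']; simp
    · rw [ap_one']; simp)
  let i₁ : _root_.Cfsg.Agent.Omega.Mix.Pt M := ⟨M.line ![0, 1], ![0, 1], vec01_ne, rfl⟩
  have hKX : KX (M.line ![0, 1]) ≤ XK (Kx M) := K_le_X (Kx M) i₁
  have hk2 : ∀ r l : F, k * M.e ![r, l] * k⁻¹ = M.e ![r, r + l] := by
    intro r l
    have h1 := ind2 hkI r l
    rw [lo_00, lo_01, lo_10, lo_11, one_mul, zero_mul, add_zero, one_mul] at h1
    rw [h1]
  have hkf : ∀ f ∈ F0 V (Kx M) w, k * f * k⁻¹ = f := by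
    intro f hf
    rw [mem_centralizer_iff.1 (mem_inf.1 hf).2 k (hKX hk), mul_inv_cancel_right]
  -- `k` centralises `L^δ`
  have hkN : k ∈ normalizer (cj δ (KX (M.line ![0, 1])) : Set G) := by
    rw [cj_KX]
    apply normalizer_le_normalizer_KX
    apply centralizer_le_normalizer
    rw [mem_centralizer_iff]
    intro y hy
    obtain ⟨l, hl⟩ := line01_iff.1 (mem_cj.1 hy)
    have h1 : y = M.e ![0, l] * D l := by
      have h2 := a.e 0 l
      rw [add_zero] at h2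
      rw [← h2, hl]; group
    have h3 : k * y * k⁻¹ = y := by
      calc k * y * k⁻¹ = (k * M.e ![0, l] * k⁻¹) * (k * D l * k⁻¹) := by rw [h1]; group
        _ = y := by rw [hk2, hkf _ (a.D_mem l), zero_add, h1]
    rw [mul_inv_eq_iff_eq_mul] at h3
    exact h3.symm
  -- `c' = δ c δ⁻¹`
  have hc' : δ * c * δ⁻¹ ∈ centralizer (cj δ (KX (M.line ![0, 1])) : Set G) := by
    rw [centralizer_cj, mem_cj]
    have e : δ⁻¹ * (δ * c * δ⁻¹) * δ = c := by group
    rw [e]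
    exact centralizer_le hKX (mem_inf.1 hc).2
  have hz : M.e ![0, γ c] ∈ centralizer (cj δ (KX (M.line ![0, 1])) : Set G) := by
    have h1 := mul_mem (conj_mem_of_normalizer (normalizer_le_normalizer_centralizer _ hkN) hc') (inv_mem hc')
    have h2 : k * (δ * c * δ⁻¹) * k⁻¹ * (δ * c * δ⁻¹)⁻¹ = M.e ![0, γ c] := by
      rw [a.c c hc]
      calc k * (c * M.e ![γ c, 0]) * k⁻¹ * (c * M.e ![γ c, 0])⁻¹
          = (k * c * k⁻¹) * (k * M.e ![γ c, 0] * k⁻¹) * (M.e ![γ c, 0])⁻¹ * c⁻¹ := by group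
        _ = c * (M.e ![γ c, γ c] * (M.e ![γ c, 0])⁻¹) * c⁻¹ := by rw [hkf c hc, hk2, add_zero]; group
        _ = c * M.e ![0, γ c] * c⁻¹ := by
          have h3 : M.e ![γ c, γ c] * (M.e ![γ c, 0])⁻¹ = M.e ![0, γ c] := by
            rw [mul_inv_eq_iff_eq_mul, e2_mul, zero_add, add_zero]
          rw [h3]
        _ = M.e ![0, γ c] := by rw [F0_comm hA hc (M.e_mem _), mul_inv_cancel_right]
    rwa [h2] at h1
  rw [centralizer_cj, mem_cj] at hz
  -- `δ⁻¹ (0, l) δ = (μ l, l) D(l)`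
  set l := γ c with hl
  have hD2 := F0_sq hA (a.D_mem l)
  have h1 : δ⁻¹ * M.e ![0, l] * δ = M.e ![μ * l, l] * D l := by
    have h2 : δ * (M.e ![μ * l, l] * D l) * δ⁻¹ = M.e ![0, l] := by
      calc δ * (M.e ![μ * l, l] * D l) * δ⁻¹ = (δ * M.e ![μ * l, l] * δ⁻¹) * (δ * D l * δ⁻¹) := by group
        _ = (M.e ![μ * l, l] * D l) * (D l * M.e ![μ * l, 0]) := by
          rw [a.e, a.c _ (a.D_mem l), hμ, add_zero]
        _ = M.e ![μ * l, l] * (D l * D l) * M.e ![μ * l, 0] := by group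
        _ = M.e ![μ * l + μ * l, l + 0] := by rw [hD2, mul_one, e2_mul]
        _ = M.e ![0, l] := by
          have h3 : μ * l + μ * l = 0 := by linear_combination (μ * l) * h20
          rw [h3, add_zero]
    rw [← h2]; group
  rw [h1] at hz
  have h2 := mem_centralizer_iff.1 hz k hk
  have h3 : k * (M.e ![μ * l, l] * D l) * k⁻¹ = M.e ![μ * l, l] * D l := by rw [h2, mul_inv_cancel_right]
  have h4 : M.e ![μ * l, μ * l + l] * D l = M.e ![μ * l, l] * D l := by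
    calc M.e ![μ * l, μ * l + l] * D l = (k * M.e ![μ * l, l] * k⁻¹) * (k * D l * k⁻¹) := by
          rw [hk2, hkf _ (a.D_mem l)]
      _ = k * (M.e ![μ * l, l] * D l) * k⁻¹ := by group
      _ = _ := h3
  have h5 := (eu hA (a.D_mem l) (a.D_mem l) h4).2.1
  have h6 : μ * l = 0 := by linear_combination h5
  exact (mul_eq_zero.1 h6).resolve_left hμ0

/-- **some element of `NF` moves `R i`** -/
theorem exists_N (al : AtLine M ![1, 0]) (hA : FA V N (_root_.Cfsg.Agent.Omega.Mix.pt M) (Kx M) (i₀ M) Th w) (h4 : 4 ≤ Nat.card F) :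
    ∃ n ∈ NF V (Kx M) w, n ∉ normalizer (pt M (i₀ M) : Set G) := by
  obtain ⟨δ₀, hδ₀, hon₀⟩ := hA.exists_delta al.fq (al.h4 h4)
  obtain ⟨δ, D, γ, a, hμ, hon⟩ := exists_h0 al hA hδ₀ hon₀
  have hγ := gamma_zero al hA a hμ hon
  -- `F0 ≠ 1`
  obtain ⟨f, hf, hf1⟩ : ∃ f ∈ F0 V (Kx M) w, f ≠ 1 := by
    by_contra hcon
    push Not at hcon
    apply hA.wV
    refine eq_of_le_of_card_ge ?_ (by rw [card_cj])
    intro v hv
    obtain ⟨v', hv', f, hf, e⟩ := hA.dec (V'_le_P V w hv)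
    rw [hcon f hf, mul_one] at e
    rw [e]; exact hv'
  obtain ⟨l, rfl⟩ := hon f hf
  obtain ⟨A, hAe⟩ := exists_ap (vec01_ne (F := F)) vec10_ne
  obtain ⟨x, hx, hxI⟩ := al.ind_X A
  have hxe : ∀ c : F, x * M.e ![0, c] * x⁻¹ = M.e ![c, 0] := by
    intro c
    have e1 : (![0, c] : Fin 2 → F) = c • ![0, 1] := by
      apply ext2 <;> simp
    have e2 : (![c, 0] : Fin 2 → F) = c • ![1, 0] := by
      apply ext2 <;> simp
    rw [e1, e2, hxI, ap_smul, hAe]
  have hxf : ∀ f ∈ F0 V (Kx M) w, x * f * x⁻¹ = f := by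
    intro f hf
    rw [mem_centralizer_iff.1 (mem_inf.1 hf).2 x hx, mul_inv_cancel_right]
  have hxf' : ∀ f ∈ F0 V (Kx M) w, x⁻¹ * f * x = f := by
    intro f hf1
    calc x⁻¹ * f * x = x⁻¹ * (x * f * x⁻¹) * x := by rw [hxf f hf1]
      _ = f := by group
  have hδc : ∀ f ∈ F0 V (Kx M) w, δ * f * δ⁻¹ = f := by
    intro f hf
    rw [a.c f hf, hγ f hf, e2_zero, mul_one]
  have hnc : ∀ f ∈ F0 V (Kx M) w, (x * δ * x⁻¹) * f * (x * δ * x⁻¹)⁻¹ = f := by
    intro f hf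
    calc (x * δ * x⁻¹) * f * (x * δ * x⁻¹)⁻¹ = x * (δ * (x⁻¹ * f * x) * δ⁻¹) * x⁻¹ := by group
      _ = f := by rw [hxf' f hf, hδc f hf, hxf f hf]
  have hcen : x * δ * x⁻¹ ∈ centralizer (F0 V (Kx M) w : Set G) := by
    rw [mem_centralizer_iff]
    intro f hf
    have h1 := hnc f hf
    rw [mul_inv_eq_iff_eq_mul] at h1
    exact h1.symm
  refine ⟨x * δ * x⁻¹, mem_inf.2 ⟨⟨centralizer_le_normalizer _ hcen, fun y hy => ?_⟩, hcen⟩, fun hn => ?_⟩
  · obtain ⟨v, hv, f, hf, rfl⟩ := hA.dec hy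
    rw [comm_mul (by
      have h1 := hnc f hf
      rw [mul_inv_eq_iff_eq_mul] at h1
      exact h1)]
    obtain ⟨r, c, hrc⟩ := exists_e2 (M := M) (conj_inv_mem_of_normalizer (hA.bt.X_le_NV hx) hv)
    have h1 : x * δ * x⁻¹ * v * (x * δ * x⁻¹)⁻¹ * v⁻¹ = D c := by
      calc x * δ * x⁻¹ * v * (x * δ * x⁻¹)⁻¹ * v⁻¹ = x * (δ * (x⁻¹ * v * x) * δ⁻¹) * x⁻¹ * v⁻¹ := by group
        _ = x * (x⁻¹ * v * x * D c) * x⁻¹ * v⁻¹ := by rw [← hrc, a.e, add_zero]
        _ = v * (x * D c * x⁻¹) * v⁻¹ := by group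
        _ = D c := by
          rw [hxf _ (a.D_mem c), ← F0_comm hA (a.D_mem c) hv, mul_inv_cancel_right]
    rw [h1]
    exact a.D_mem c
  · have h1 : M.e ![l, 0] ∈ _root_.Cfsg.Agent.Omega.Mix.pt M (i₀ M) := line10_iff.2 ⟨l, rfl⟩
    have h2 := conj_mem_of_normalizer hn h1
    have h3 : x * δ * x⁻¹ * M.e ![l, 0] * (x * δ * x⁻¹)⁻¹ = M.e ![l, 0] * D l := by
      have h4 : x⁻¹ * M.e ![l, 0] * x = M.e ![0, l] := by rw [← hxe]; group
      calc x * δ * x⁻¹ * M.e ![l, 0] * (x * δ * x⁻¹)⁻¹ = x * (δ * (x⁻¹ * M.e ![l, 0] * x) * δ⁻¹) * x⁻¹ := by group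
        _ = (x * M.e ![0, l] * x⁻¹) * (x * D l * x⁻¹) := by rw [h4, a.e, add_zero]; group
        _ = _ := by rw [hxe, hxf _ (a.D_mem l)]
    rw [h3] at h2
    have h4 : D l ∈ V := by
      have h5 := mul_mem (inv_mem (M.e_mem ![l, 0])) (M.pt_le _ h2)
      rwa [inv_mul_cancel_left] at h5
    exact hf1 (hA.V_F0 h4 (a.D_mem l))

end rmod

end Cfsg.Agent.Omega.IId.CvBig.Four

end

section


/-!
# CvBig, CASE 2a, all `q`, `k ≥ 3`: (SURV) (helper796)

* `FA.exists_fix` : if `NF` moves `R i`, there is a `T`-invariant `R i ^ n ≠ R i`, `n ∈ NF`;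
* `exists_sv` : (SURV).
-/

set_option autoImplicit false
set_option linter.unusedSectionVars false

namespace Cfsg.Agent.Omega.IId.CvBig.Four

open Subgroup Cfsg.Agent.Omega.BTwo Cfsg.Agent.Omega.IId.Cv.TwoFour

variable {G : Type*} [Group G]

theorem cj_congr {g g' : G} {H : Subgroup G} (h : ∀ y ∈ H, g * y * g⁻¹ = g' * y * g'⁻¹) : cj g H = cj g' H := by
  apply le_antisymm
  · rintro _ ⟨y, hy, rfl⟩
    change g * y * g⁻¹ ∈ _
    rw [h y hy]
    exact conj_mem_cj hy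
  · rintro _ ⟨y, hy, rfl⟩
    change g' * y * g'⁻¹ ∈ _
    rw [← h y hy]
    exact conj_mem_cj hy

namespace FA

variable {ι : Type*} {V L : Subgroup G} {R K : ι → Subgroup G} {i : ι} {Th : Subgroup G} {w : G}
  (h : FA V L R K i Th w)
include h

omit h in
theorem NF_P : NF V K w ≤ normalizer (PP V w : Set G) := inf_le_left.trans (cenMod_normalizes (F0_le _ _ _))

omit h in
theorem NF_c {n f : G} (hn : n ∈ NF V K w) (hf : f ∈ F0 V K w) : n * f = f * n :=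
  (mem_centralizer_iff.1 hn.2 f hf).symm

omit h in
theorem NF_m {n y : G} (hn : n ∈ NF V K w) (hy : y ∈ PP V w) : n * y * n⁻¹ * y⁻¹ ∈ F0 V K w := hn.1.2 y hy

theorem NF_mul {n n' y : G} (hn : n ∈ NF V K w) (hn' : n' ∈ NF V K w) (hy : y ∈ PP V w) :
    n * n' * y * (n * n')⁻¹ = (n' * y * n'⁻¹ * y⁻¹) * (n * y * n⁻¹ * y⁻¹) * y := by
  have h1 := NF_c hn (NF_m hn' hy)
  set f := n' * y * n'⁻¹ * y⁻¹ with hf
  calc n * n' * y * (n * n')⁻¹ = (n * f) * y * n⁻¹ := by rw [hf]; group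
    _ = f * (n * y * n⁻¹ * y⁻¹) * y := by rw [h1]; group

theorem NF_comm {n n' y : G} (hn : n ∈ NF V K w) (hn' : n' ∈ NF V K w) (hy : y ∈ PP V w) :
    n * n' * y * (n * n')⁻¹ = n' * n * y * (n' * n)⁻¹ := by
  rw [h.NF_mul hn hn' hy, h.NF_mul hn' hn hy,
    h.P_comm _ (F0_le V K w (NF_m hn' hy)) _ (F0_le V K w (NF_m hn hy))]

theorem NF_sq {n y : G} (hn : n ∈ NF V K w) (hy : y ∈ PP V w) : n * n * y * (n * n)⁻¹ = y := by
  rw [h.NF_mul hn hn hy, h.P_sq _ (F0_le V K w (NF_m hn hy)), one_mul]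

theorem T_F0 {t : G} (ht : t ∈ Th) : t ∈ normalizer (F0 V K w : Set G) := by
  rw [← cj_eq_self_iff, F0, cj_inf, ← centralizer_cj, cj_eq_self_iff.2 (h.T_P ht),
    cj_eq_self_iff.2 (h.bt.L_le_NX (h.ThL ht))]

theorem T_NF {t n : G} (ht : t ∈ Th) (hn : n ∈ NF V K w) : t * n * t⁻¹ ∈ NF V K w :=
  mem_inf.2 ⟨conj_cenMod (h.T_F0 ht) (h.T_P ht) hn.1,
    conj_mem_of_normalizer (normalizer_le_normalizer_centralizer _ (h.T_F0 ht)) hn.2⟩

theorem exists_fix [Finite G] {T : Subgroup G} (hT : T ≤ Th) {n₀ : G} (hn₀ : n₀ ∈ NF V K w)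
    (hR : n₀ ∉ normalizer (R i : Set G)) :
    ∃ n ∈ NF V K w, cj n (R i) ≠ R i ∧ T ≤ normalizer (cj n (R i) : Set G) := by
  classical
  have hfact : Fact (Nat.Prime 2) := ⟨Nat.prime_two⟩
  let Ω := {H : Subgroup G // ∃ n ∈ NF V K w, H = cj n (R i)}
  have hTR : ∀ t ∈ T, cj t (R i) = R i := fun t ht => cj_eq_self_iff.2 (h.ThR (hT ht))
  have hact : ∀ t ∈ T, ∀ H : Subgroup G, (∃ n ∈ NF V K w, H = cj n (R i)) → ∃ n ∈ NF V K w, cj t H = cj n (R i) := by
    rintro t ht _ ⟨n, hn, rfl⟩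
    refine ⟨t * n * t⁻¹, h.T_NF (hT ht) hn, ?_⟩
    conv_rhs => rw [← hTR t ht]
    rw [← cj_mul, ← cj_mul, inv_mul_cancel_right]
  letI : MulAction T Ω :=
    { smul := fun t H => ⟨cj (t : G) H.1, hact t t.2 H.1 H.2⟩
      one_smul := fun H => Subtype.ext (cj_one H.1)
      mul_smul := fun s t H => Subtype.ext (cj_mul (s : G) t H.1) }
  have hsm : ∀ (t : T) (H : Ω), (t • H).1 = cj (t : G) H.1 := fun t H => rfl
  have : Fintype Ω := Fintype.ofFinite Ω
  -- `|Ω|` is even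
  have hΩP : ∀ H : Ω, H.1 ≤ PP V w := by
    rintro ⟨H, n, hn, rfl⟩
    show cj n (R i) ≤ PP V w
    rw [← cj_eq_self_iff.2 (NF_P hn)]
    exact cj_mono h.R_le_P
  have heven : 2 ∣ Nat.card Ω := by
    let f : Function.End Ω := fun H => ⟨cj n₀ H.1, by
      obtain ⟨n, hn, e⟩ := H.2
      exact ⟨n₀ * n, mul_mem hn₀ hn, by rw [e, cj_mul]⟩⟩
    have hff : f ^ 2 ^ 1 = 1 := by
      rw [pow_one, pow_two]
      funext H
      refine Subtype.ext ?_
      show cj n₀ (cj n₀ H.1) = H.1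
      rw [← cj_mul, cj_congr (g' := 1) fun y hy => ?_, cj_one]
      rw [h.NF_sq hn₀ (hΩP H hy)]; group
    have h1 := Equiv.Perm.card_fixedPoints_modEq (p := 2) (n := 1) hff
    have h2 : Fintype.card f.fixedPoints = 0 := by
      rw [Fintype.card_eq_zero_iff]
      refine ⟨?_⟩
      rintro ⟨⟨H, n, hn, rfl⟩, hH⟩
      have h3 : cj n₀ (cj n (R i)) = cj n (R i) := congrArg Subtype.val hH
      rw [← cj_mul, cj_congr fun y hy => h.NF_comm hn₀ hn (h.R_le_P hy), cj_mul] at h3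
      exact hR (cj_eq_self_iff.1 (cj_injective h3))
    rw [h2] at h1
    rw [Nat.card_eq_fintype_card]
    exact (Nat.modEq_zero_iff_dvd).1 h1
  have hfix : (⟨R i, 1, one_mem _, (cj_one _).symm⟩ : Ω) ∈ MulAction.fixedPoints T Ω := by
    intro t
    refine Subtype.ext ?_
    rw [hsm]
    exact hTR t t.2
  obtain ⟨⟨H, n, hn, rfl⟩, hH, hne⟩ :=
    (h.Th2.to_le hT).exists_fixed_point_of_prime_dvd_card_of_fixed_point Ω heven hfix
  refine ⟨n, hn, fun e => hne (Subtype.ext e.symm), fun t ht => ?_⟩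
  rw [← cj_eq_self_iff]
  exact congrArg Subtype.val (hH ⟨t, ht⟩)

end FA

variable {κ : Type*} {ι : κ → Type*}

/-- **(SURV)** -/
theorem exists_sv [Finite G] {Vf Lf : κ → Subgroup G} {R K : ∀ l, ι l → Subgroup G} {Q : Subgroup G} {o : ∀ l, ι l}
    {T Th : Subgroup G} {i : κ} {w : G} (h : Fr Vf Lf R K Q) (hA : FA (Vf i) (Lf i) (R i) (K i) (o i) Th w)
    (hT : T ≤ Th) (hW : cj w (Vf i) ≤ Wh Vf K Q)
    (hK : ∀ n, T ≤ normalizer (cj n (R i (o i)) : Set G) → T ≤ normalizer (cj n (K i (o i)) : Set G))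
    {n₀ : G} (hn₀ : n₀ ∈ NF (Vf i) (K i) w) (hR : n₀ ∉ normalizer (R i (o i) : Set G)) :
    ∃ Rc Kc, Sv R K Q o T i Rc Kc := by
  obtain ⟨n, hn, hne, hTn⟩ := hA.exists_fix hT hn₀ hR
  have k := h.kt i
  have hPW : PP (Vf i) w ≤ Wh Vf K Q := sup_le (Vf_le_Wh Vf K Q i) hW
  have hRP := hA.R_le_P
  have hnP : n ∈ normalizer (PP (Vf i) w : Set G) := FA.NF_P hn
  have hcP : cj n (R i (o i)) ≤ PP (Vf i) w := by
    rw [← cj_eq_self_iff.2 hnP]
    exact cj_mono hRP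
  -- `c = r θ(r)`
  have hdec : ∀ c ∈ cj n (R i (o i)), ∃ r ∈ R i (o i), r⁻¹ * c ∈ F0 (Vf i) (K i) w := by
    intro c hc
    have hr := mem_cj.1 hc
    refine ⟨n⁻¹ * c * n, hr, ?_⟩
    have h1 := FA.NF_m hn (hRP hr)
    have h2 := hA.P_comm _ (hcP hc) _ (inv_mem (hRP hr))
    have e : n * (n⁻¹ * c * n) * n⁻¹ * (n⁻¹ * c * n)⁻¹ = (n⁻¹ * c * n)⁻¹ * c := by
      rw [← h2]; group
    rwa [e] at h1
  -- `K i` centralises `CP`
  have hKC : ∀ u ∈ K i (o i), ∀ r ∈ R i (o i), u * (n⁻¹ * r * n) = n⁻¹ * r * n * u := by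
    intro u hu r hr
    have h1 := FA.NF_m (inv_mem hn) (hRP hr)
    rw [inv_inv] at h1
    have h2 : u * (n⁻¹ * r * n * r⁻¹) = n⁻¹ * r * n * r⁻¹ * u :=
      mem_centralizer_iff.1 (mem_inf.1 h1).2 u (K_le_X (K i) (o i) hu)
    have h3 := k.QR (o i) u (k.K_Q (o i) hu) r hr
    calc u * (n⁻¹ * r * n) = (u * (n⁻¹ * r * n * r⁻¹)) * r := by group
      _ = n⁻¹ * r * n * r⁻¹ * (u * r) := by rw [h2]; group
      _ = n⁻¹ * r * n * u := by rw [h3]; group
  refine ⟨cj n (R i (o i)), cj n (K i (o i)), ?_⟩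
  refine
    { RcU := fun c hc => ?_
      RcQ := hcP.trans (hPW.trans h.Wh_le_cen)
      Rcd := fun c hc => ?_
      RcX := fun c hc hX => ?_
      card := card_cj _ _
      Kc2 := ?_
      TKc := hK n hTn
      Kcn := fun hle => hne ?_
      Kcc := fun a ha b hb => ?_
      KcR := fun a ha r hr => ?_ }
  · obtain ⟨r, hr, hf⟩ := hdec c hc
    have h1 : r⁻¹ * c ∈ Uc (R i (o i)) :=
      h.mem_Uc_of (h.Wh_le_cen (hPW (F0_le _ _ _ hf))) (mem_inf.1 hf).2 (o i)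
    have e : c = r * (r⁻¹ * c) := by group
    rw [e]
    exact mul_mem (h.R_le_Uc i (o i) hr) h1
  · obtain ⟨r, hr, hf⟩ := hdec c hc
    exact ⟨r, hr, (mem_inf.1 hf).2⟩
  · have hr := mem_cj.1 hc
    obtain ⟨r, hr', hf⟩ := hdec c hc
    have h1 : r ∈ centralizer (XK (K i) : Set G) := by
      have e : r = c * (r⁻¹ * c)⁻¹ := by group
      rw [e]
      exact mul_mem hX (inv_mem (mem_inf.1 hf).2)
    have h2 : r = 1 := h.uniq (k.R_le _ hr') h1
    rw [h2, inv_one, one_mul] at hf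
    have h3 := FA.NF_c hn hf
    have h4 : n⁻¹ * c * n = c := by rw [mul_assoc, ← h3]; group
    rw [h4] at hr
    exact h.uniq (k.R_le _ hr) hX
  · have h1 := k.K_isPGroup (o i)
    rintro ⟨x, hx⟩
    obtain ⟨m, hm⟩ := h1 ⟨_, mem_cj.1 hx⟩
    refine ⟨m, Subtype.ext ?_⟩
    have hm' : (n⁻¹ * x * n) ^ 2 ^ m = 1 := congrArg Subtype.val hm
    change x ^ 2 ^ m = 1
    have e : x = n * (n⁻¹ * x * n) * n⁻¹ := by group
    rw [e, conj_pow, hm', mul_one, mul_inv_cancel]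
  · -- `n` centralises `R`
    refine eq_of_le_of_card_ge ?_ (by rw [card_cj])
    rintro _ ⟨r, hr, rfl⟩
    change n * r * n⁻¹ ∈ R i (o i)
    obtain ⟨j, hj, -⟩ := k.third (o i) (o i)
    obtain ⟨v, hv, hv1⟩ := k.exists_ne j
    obtain ⟨u, hu, hur⟩ := kt_full k (k.R_le j hv) (k.not_mem hj hv hv1) hr
    have hvV := k.R_le j hv
    have h1 : n * u * n⁻¹ ∈ normalizer (Vf i : Set G) := hA.ThV (hT (hle (conj_mem_cj hu)))
    have h2 : n * u * n⁻¹ * v * (n * u * n⁻¹)⁻¹ * v⁻¹ ∈ Vf i := mul_mem (conj_mem_of_normalizer h1 hvV) (inv_mem hvV)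
    have hf := FA.NF_m (inv_mem hn) (V_le_P (Vf i) w hvV)
    rw [inv_inv] at hf
    have huf := mem_centralizer_iff.1 (mem_inf.1 hf).2 u (K_le_X (K i) (o i) hu)
    have h3 : n⁻¹ * v * n = v * (n⁻¹ * v * n * v⁻¹) := by
      have h4 := hA.P_comm _ (F0_le _ _ _ hf) _ (V_le_P (Vf i) w hvV)
      rw [← h4]; group
    have h5 : n * u * n⁻¹ * v * (n * u * n⁻¹)⁻¹ * v⁻¹ = n * r * n⁻¹ := by
      have h6 := comm_mul (g := u) (v := v) huf
      rw [← h3, hur] at h6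
      rw [← h6]; group
    rw [h5] at h2
    have h7 := FA.NF_m hn (hRP hr)
    have h8 : n * r * n⁻¹ * r⁻¹ = 1 := hA.V_F0 (mul_mem h2 (inv_mem (k.R_le _ hr))) h7
    rw [mul_inv_eq_one] at h8
    rw [h8]; exact hr
  · have h1 := k.KQ (o i) _ (k.K_Q _ (mem_cj.1 ha)) _ (mem_cj.1 hb)
    rw [mem_cj]
    have e : n⁻¹ * (a * b * a⁻¹ * b⁻¹) * n =
        (n⁻¹ * a * n) * (n⁻¹ * b * n) * (n⁻¹ * a * n)⁻¹ * (n⁻¹ * b * n)⁻¹ := by group
    rw [e]
    exact h1
  · have h1 := hKC _ (mem_cj.1 ha) r hr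
    calc a * r = n * ((n⁻¹ * a * n) * (n⁻¹ * r * n)) * n⁻¹ := by group
      _ = r * a := by rw [h1]; group

end Cfsg.Agent.Omega.IId.CvBig.Four

end

section


/-!
# CvBig, CASE 2a, all `q`, `k ≥ 3`: the conjugate `V^w` (helper796)

`FS` : the frame over `Th`, Sylow in `N(Vf i) ∩ N(R i)`.

* `FS.step` : from `1 ≠ x ∈ Wh ∩ C(X)` centralised by a 2-group `S' > Th`: `w` with `V^w ≤ Wh`, `[V^w, C_Th(V)] = 1`;
* `FS.fa` : `FA`.
-/

set_option autoImplicit false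
set_option linter.unusedSectionVars false

namespace Cfsg.Agent.Omega.IId.CvBig.Four

open Subgroup Cfsg.Agent.Omega.BTwo Cfsg.Agent.Omega.IId.Cv.TwoFour
open Cfsg.Agent.Omega.F4Leaf.Syl.LocP (exists_step le_of_odd)

universe u

variable {G : Type u} [Group G] {κ : Type*} {ι : κ → Type*}

/-- a 2-group `O ≤ N(V)` normalised by `X` centralises `V` -/
theorem kt_cen_of_two [Finite G] {ι : Type*} {V L : Subgroup G} {R K : ι → Subgroup G} (b : KT V L R K)
    {O : Subgroup G} (hO : IsPGroup 2 O) (hV : O ≤ normalizer (V : Set G))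
    (hX : XK K ≤ normalizer (O : Set G)) : O ≤ centralizer (V : Set G) := by
  have hVp : IsPGroup 2 V := by
    intro x
    refine ⟨1, Subtype.ext ?_⟩
    have := b.V_sq x x.2
    rw [pow_one, pow_two]
    exact this
  obtain ⟨i₀, -⟩ := b.R_cov 1 (one_mem _)
  have hV1 : V ≠ ⊥ := fun h => b.R_ne i₀ (le_bot_iff.1 (h ▸ b.R_le i₀))
  obtain ⟨e, he, he1, hc⟩ := Half.exists_fixed hVp hV1 hO hV
  obtain ⟨j, hj⟩ := b.R_cov e he
  have hW : ∀ x ∈ XK K, ∀ y ∈ V, y ∈ centralizer (O : Set G) → x * y * x⁻¹ ∈ centralizer (O : Set G) :=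
    fun x hx y _ hy => conj_mem_of_normalizer (normalizer_le_normalizer_centralizer _ (hX hx)) hy
  have hec : e ∈ centralizer (O : Set G) := mem_centralizer_iff.2 fun t ht => mul_inv_eq_iff_eq_mul.1 (hc t ht)
  have hR : ∀ a, a ≠ j → R a ≤ centralizer (O : Set G) := by
    intro a ha r hr
    obtain ⟨t, ht, rfl⟩ := kt_full b he (b.not_mem (Ne.symm ha) hj he1) hr
    exact mul_mem (hW t (K_le_X K a ht) e he hec) (inv_mem hec)
  obtain ⟨a, ha, -⟩ := b.third j j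
  obtain ⟨c, hc1, hc2⟩ := b.third j a
  have h1 : V ≤ centralizer (O : Set G) := by
    rw [← b.R_sup a c (Ne.symm hc2)]
    exact sup_le (hR a ha) (hR c hc1)
  exact le_centralizer_iff.1 h1

/-- the frame over `Th` -/
structure FS (Vf Lf : κ → Subgroup G) (R K : ∀ l, ι l → Subgroup G) (Q : Subgroup G) (o : ∀ l, ι l)
    (Th : Subgroup G) (i : κ) : Prop extends Fr Vf Lf R K Q where
  Th2 : IsPGroup 2 Th
  ThV : Th ≤ normalizer (Vf i : Set G)
  ThL : Th ≤ Lf i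
  ThR : Th ≤ normalizer (R i (o i) : Set G)
  syl : ¬ 2 ∣ Th.relIndex (normalizer (Vf i : Set G) ⊓ normalizer (R i (o i) : Set G))
  QTh : Q ≤ Th
  QQTh : ∀ l, QQ (R l (o l)) ≤ Th

/-- the properties of `w` -/
structure Wp (Vf : κ → Subgroup G) (R K : ∀ l, ι l → Subgroup G) (Q : Subgroup G) (o : ∀ l, ι l)
    (Th : Subgroup G) (i : κ) (w : G) : Prop where
  wT : w ∈ normalizer (Th : Set G)
  wR : w ∈ normalizer (R i (o i) : Set G)
  ww : w * w ∈ Th
  wV : cj w (Vf i) ≠ Vf i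
  wW : cj w (Vf i) ≤ Wh Vf K Q
  cT : ∀ s ∈ Th, s ∈ centralizer (Vf i : Set G) → s ∈ centralizer (cj w (Vf i) : Set G)

namespace FS

variable {Vf Lf : κ → Subgroup G} {R K : ∀ l, ι l → Subgroup G} {Q : Subgroup G} {o : ∀ l, ι l} {Th : Subgroup G}
  {i : κ} (h : FS Vf Lf R K Q o Th i)
include h

theorem Q_cen : Q ≤ centralizer (Vf i : Set G) := fun q hq => by
  rw [mem_centralizer_iff]
  exact fun v hv => (h.QC i q hq v hv).symm

theorem KTh : K i (o i) ≤ Th := ((h.kt i).K_Q (o i)).trans (h.QQTh i)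

/-- a subgroup centralised by `C_Th(V)` is in `Wh` -/
theorem Wh_of_cT [Finite G] [Finite κ] {l : κ} (hl : l ≠ i) {A : Subgroup G}
    (hA : ∀ s ∈ Th, s ∈ centralizer (Vf i : Set G) → ∀ y ∈ A, y * s = s * y) : A ≤ Wh Vf K Q := by
  intro y hy
  have h1 : y ∈ centralizer (Q : Set G) := by
    rw [mem_centralizer_iff]
    exact fun q hq => (hA q (h.QTh hq) (h.Q_cen hq) y hy).symm
  have h2 : ∀ s ∈ QQ (R l (o l)), y * s = s * y := fun s hs => hA s (h.QQTh l hs) (by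
    rw [mem_centralizer_iff]
    exact fun v hv => (h.QV' l i hl.symm (o l) s hs v hv).symm) y hy
  have h3 : y ∈ QQ (R l (o l)) := by
    refine h.ch l (o l) (mem_inf.2 ⟨?_, mem_centralizer_iff.2 fun s hs => (h2 s hs).symm⟩)
    apply centralizer_le_normalizer
    rw [mem_centralizer_iff]
    intro r hr
    exact mem_centralizer_iff.1 h1 r (h.V_le_Q l ((h.kt l).R_le _ hr))
  exact h.toFr.Vm hl.symm (mem_Uc h3 h2) h1

/-- **(B)** -/
theorem step_B [Finite G] [Finite κ] {l : κ} (hl : l ≠ i) {O : Subgroup G} (hO : IsPGroup 2 O)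
    (hTO : Th ≤ normalizer (O : Set G)) (hXO : XK (K i) ≤ normalizer (O : Set G))
    (hn : ¬ O ≤ normalizer (Vf i : Set G)) : ∃ w, Wp Vf R K Q o Th i w := by
  have k := h.kt i
  obtain ⟨O₀, hO₀⟩ : ∃ O₀, O₀ = O ⊓ normalizer (Vf i : Set G) := ⟨_, rfl⟩
  have hO₀O : O₀ ≤ O := by rw [hO₀]; exact inf_le_left
  have hO₀V : O₀ ≤ normalizer (Vf i : Set G) := by rw [hO₀]; exact inf_le_right
  have hinf : ∀ {A B C : Subgroup G}, A ≤ normalizer (B : Set G) → A ≤ normalizer (C : Set G) →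
      A ≤ normalizer ((B ⊓ C : Subgroup G) : Set G) := by
    intro A B C h1 h2 a ha
    refine mem_normalizer_of_conj fun x hx => ?_
    exact ⟨conj_mem_of_normalizer (h1 ha) hx.1, conj_mem_of_normalizer (h2 ha) hx.2⟩
  have hX₀ : XK (K i) ≤ normalizer (O₀ : Set G) := by
    rw [hO₀]; exact hinf hXO (k.X_le_NV.trans le_normalizer)
  have hT₀ : Th ≤ normalizer (O₀ : Set G) := by
    rw [hO₀]; exact hinf hTO (h.ThV.trans le_normalizer)
  have hc₀ : O₀ ≤ centralizer (Vf i : Set G) := kt_cen_of_two k (hO.to_le hO₀O) hO₀V hX₀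
  have hO₀T : O₀ ≤ Th := le_of_odd h.Th2 (le_inf h.ThV h.ThR) h.syl (hO.to_le hO₀O)
    (le_inf hO₀V ((hc₀.trans (centralizer_le (k.R_le _))).trans (centralizer_le_normalizer _))) hT₀
  -- `N_O(O₀) > O₀`
  have hlt : ¬ O ≤ O₀ := fun hle => hn (hle.trans hO₀V)
  obtain ⟨w₁, hw₁, hw₁N, hw₁O⟩ := exists_step (hO.to_le hO₀O) hO (hO₀O.trans le_normalizer) hlt
  obtain ⟨b, hb, hbn, hbt⟩ := Cfsg.Agent.Omega.IId.SideOf.exists_fixed_mod (A := O₀) (B := O ⊓ normalizer (O₀ : Set G)) (T := Th)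
    (fun hle => hw₁O (hle ⟨hw₁, hw₁N⟩)) inf_le_right (hO.to_le inf_le_left) h.Th2 hT₀
    (hinf hTO (hT₀.trans le_normalizer))
  obtain ⟨n, hn1, hn2⟩ := exists_pow_sq (hO.to_le (by rw [zpowers_le]; exact (mem_inf.1 hb).1)) hbn
  have hbN : b ∈ normalizer (O₀ : Set G) := (mem_inf.1 hb).2
  have hpow : ∀ m : ℕ, ∀ t ∈ Th, t * b ^ m * t⁻¹ * (b ^ m)⁻¹ ∈ O₀ := by
    intro m
    induction m with
    | zero =>
      intro t _
      rw [pow_zero, mul_one, mul_inv_cancel, inv_one, one_mul]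
      exact one_mem _
    | succ m ih =>
      intro t ht
      have e : t * b ^ (m + 1) * t⁻¹ * (b ^ (m + 1))⁻¹ =
          (t * b ^ m * t⁻¹ * (b ^ m)⁻¹) * (b ^ m * (t * b * t⁻¹ * b⁻¹) * (b ^ m)⁻¹) := by
        rw [pow_succ]; group
      rw [e]
      exact mul_mem (ih t ht) (conj_mem_of_normalizer (pow_mem hbN m) (hbt t ht))
  obtain ⟨w, hw⟩ : ∃ w, w = b ^ n := ⟨_, rfl⟩
  rw [← hw] at hn1 hn2
  have hwO : w ∈ O := by rw [hw]; exact pow_mem (mem_inf.1 hb).1 n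
  have hwN : w ∈ normalizer (O₀ : Set G) := by rw [hw]; exact pow_mem hbN n
  have hwt : ∀ t ∈ Th, t * w * t⁻¹ * w⁻¹ ∈ O₀ := fun t ht => by rw [hw]; exact hpow n t ht
  have hwt' : ∀ s ∈ Th, w * s * w⁻¹ * s⁻¹ ∈ O₀ := by
    intro s hs
    have e : w * s * w⁻¹ * s⁻¹ = (s * w * s⁻¹ * w⁻¹)⁻¹ := by group
    rw [e]
    exact inv_mem (hwt s hs)
  have hwT : w ∈ normalizer (Th : Set G) := by
    refine mem_normalizer_of_conj fun s hs => ?_
    have e : w * s * w⁻¹ = w * s * w⁻¹ * s⁻¹ * s := by group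
    rw [e]
    exact mul_mem (hO₀T (hwt' s hs)) hs
  have hO₀V' : ∀ y ∈ O₀, y ∈ centralizer (cj w (Vf i) : Set G) := by
    intro y hy
    rw [centralizer_cj, mem_cj]
    exact hc₀ (conj_inv_mem_of_normalizer hwN hy)
  have hcT : ∀ s ∈ Th, s ∈ centralizer (Vf i : Set G) → s ∈ centralizer (cj w (Vf i) : Set G) := by
    intro s hs hsc
    rw [centralizer_cj, mem_cj]
    have h1 := conj_inv_mem_of_normalizer hwN (hwt' s hs)
    have e : w⁻¹ * s * w = (w⁻¹ * (w * s * w⁻¹ * s⁻¹) * w)⁻¹ * s := by group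
    rw [e]
    exact mul_mem (inv_mem (hc₀ h1)) hsc
  have hW : cj w (Vf i) ≤ Wh Vf K Q :=
    h.Wh_of_cT hl fun s hs hsc y hy => mem_centralizer_iff.1 (hcT s hs hsc) y hy
  refine ⟨w, hwT, ?_, hO₀T hn2, fun e => hn1 ?_, hW, hcT⟩
  · refine mem_normalizer_of_conj fun r hr => ?_
    obtain ⟨a, ha, -⟩ := k.third (o i) (o i)
    obtain ⟨v, hv, hv1⟩ := k.exists_ne a
    obtain ⟨t, ht, rfl⟩ := kt_full k (k.R_le a hv) (k.not_mem ha hv hv1) hr
    have hv' : w * v * w⁻¹ ∈ cj w (Vf i) := conj_mem_cj (k.R_le a hv)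
    have hvQ : w * v * w⁻¹ ∈ QQ (R i (o i)) := h.toFr.Wh_le_QQ i (o i) (hW hv')
    have h1 := k.KQ (o i) _ hvQ t ht
    set v' := w * v * w⁻¹ with hv'def
    set y := w * t * w⁻¹ * t⁻¹ with hy
    have hyO : y ∈ O₀ := hwt' t (h.KTh ht)
    have h2 : (v' * t * v'⁻¹ * t⁻¹)⁻¹ = t * v' * t⁻¹ * v'⁻¹ := by
      simp only [mul_inv_rev, inv_inv, mul_assoc]
    set ρ := (v' * t * v'⁻¹ * t⁻¹)⁻¹ with hρ
    have hρR : ρ ∈ R i (o i) := inv_mem h1
    have c1 : ρ * y = y * ρ := mem_centralizer_iff.1 (hc₀ hyO) ρ (k.R_le _ hρR)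
    have c2 : v' * y = y * v' := mem_centralizer_iff.1 (hO₀V' y hyO) v' hv'
    have e : w * (t * v * t⁻¹ * v⁻¹) * w⁻¹ = ρ := by
      calc w * (t * v * t⁻¹ * v⁻¹) * w⁻¹ = (y * t) * v' * (y * t)⁻¹ * v'⁻¹ := by rw [hy, hv'def]; group
        _ = y * (t * v' * t⁻¹ * v'⁻¹) * (v' * y⁻¹ * v'⁻¹) := by group
        _ = y * ρ * y⁻¹ := by
          rw [← h2]
          have e3 : v' * y⁻¹ * v'⁻¹ = y⁻¹ := by
            calc v' * y⁻¹ * v'⁻¹ = y⁻¹ * (y * v') * y⁻¹ * v'⁻¹ := by group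
              _ = y⁻¹ * (v' * y) * y⁻¹ * v'⁻¹ := by rw [c2]
              _ = y⁻¹ := by group
          rw [e3]
        _ = ρ := by rw [← c1]; group
    rw [e]
    exact hρR
  · rw [hO₀]
    exact mem_inf.2 ⟨hwO, cj_eq_self_iff.1 e⟩

/-- **(A)** -/
theorem step_A [Finite G] [Finite κ] {l : κ} (hl : l ≠ i) {x u : G} {S' : Subgroup G}
    (hx : x ∈ Wh Vf K Q) (hxX : x ∈ centralizer (XK (K i) : Set G))
    (hch : centralizer ({x} : Set G) ⊓ centralizer (O2 (centralizer ({x} : Set G)) : Set G) ≤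
      O2 (centralizer ({x} : Set G)))
    (hS2 : IsPGroup 2 S') (hTS : Th ≤ S') (huS : u ∈ S') (hux : u ∈ centralizer ({x} : Set G))
    (huT : u ∈ normalizer (Th : Set G)) (huR : u ∈ normalizer (R i (o i) : Set G)) (hun : u ∉ Th)
    (huu : u * u ∈ Th) (hOV : O2 (centralizer ({x} : Set G)) ≤ normalizer (Vf i : Set G)) :
    Wp Vf R K Q o Th i u := by
  have k := h.kt i
  have hfr := h.toFr
  have hxc : ∀ g, g ∈ centralizer ({x} : Set G) ↔ g * x = x * g := fun g => mem_centralizer_singleton_iff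
  have hXx : XK (K i) ≤ centralizer ({x} : Set G) := fun g hg => (hxc g).2 (mem_centralizer_iff.1 hxX g hg)
  have hVx : Vf i ≤ centralizer ({x} : Set G) := fun v hv => (hxc v).2 (h.toFr.Wh_comm (Vf_le_Wh Vf K Q i hv) hx)
  set M := centralizer ({x} : Set G) with hM
  set O := O2 M with hO
  have hMO : M ≤ normalizer (O : Set G) := le_normalizer_O2 M
  have hOc : O ≤ centralizer (Vf i : Set G) := kt_cen_of_two k (O2_isPGroup M) hOV (hXx.trans hMO)
  have hVO : Vf i ≤ O := fun v hv => hch (mem_inf.2 ⟨hVx hv, le_centralizer_iff.1 hOc hv⟩)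
  have hVcO : Vf i ≤ centralizer (O : Set G) := le_centralizer_iff.1 hOc
  have huO : cj u O = O := cj_eq_self_iff.2 (hMO hux)
  have hV'O : cj u (Vf i) ≤ O := by rw [← huO]; exact cj_mono hVO
  have hV'cO : cj u (Vf i) ≤ centralizer (O : Set G) := by
    rw [← huO, centralizer_cj]; exact cj_mono hVcO
  have huV : cj u (Vf i) ≠ Vf i := by
    intro e
    apply hun
    have huV := cj_eq_self_iff.1 e
    have hp : IsPGroup 2 (zpowers u) := hS2.to_le (by rw [zpowers_le]; exact huS)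
    have h1 : IsPGroup 2 (Th ⊔ zpowers u : Subgroup G) :=
      hS2.to_le (sup_le hTS (by rw [zpowers_le]; exact huS))
    have h2 : Th ⊔ zpowers u ≤ Th := le_of_odd h.Th2 (le_inf h.ThV h.ThR) h.syl h1
      (sup_le (le_inf h.ThV h.ThR) (by rw [zpowers_le]; exact mem_inf.2 ⟨huV, huR⟩))
      (le_sup_left.trans le_normalizer)
    exact h2 (mem_sup_right (mem_zpowers u))
  have hV'QR : cj u (Vf i) ≤ QQ (R i (o i)) := by
    have h1 : cj u (QQ (R i (o i))) = QQ (R i (o i)) := cj_eq_self_iff.2 (le_normalizer_O2 _ huR)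
    rw [← h1]
    exact cj_mono (h.VQ' i i (o i))
  have hV'V : ∀ y ∈ cj u (Vf i), ∀ v ∈ Vf i, y * v = v * y := fun y hy v hv =>
    (mem_centralizer_iff.1 (hV'cO hy) v (hVO hv)).symm
  have hV'Q : cj u (Vf i) ≤ Q := by
    intro y hy
    refine h.CQ i (o i) y (hV'QR hy) fun m v hv => ?_
    by_cases hm : m = i
    · subst hm
      exact hV'V y hy v hv
    · exact h.QV' i m hm (o i) y (hV'QR hy) v hv
  -- `[C_Th(V), V'] ≤ R`
  have hsR : ∀ s ∈ Th, s ∈ centralizer (Vf i : Set G) → ∀ y ∈ cj u (Vf i), s * y * s⁻¹ * y⁻¹ ∈ R i (o i) := by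
    intro s hs hsc y hy
    have h1 : u⁻¹ * s * u ∈ Th := conj_inv_mem_of_normalizer huT hs
    have h2 : ∀ r ∈ R i (o i), u⁻¹ * s * u * r = r * (u⁻¹ * s * u) := by
      intro r hr
      have h3 : u * r * u⁻¹ ∈ R i (o i) := conj_mem_of_normalizer huR hr
      have h4 := mem_centralizer_iff.1 hsc _ (k.R_le _ h3)
      calc u⁻¹ * s * u * r = u⁻¹ * (s * (u * r * u⁻¹)) * u := by group
        _ = r * (u⁻¹ * s * u) := by rw [← h4]; group
    obtain ⟨t, ht, htc⟩ := lemA k (h.ThL h1) (h.Th2.to_le (by rw [zpowers_le]; exact h1)) h2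
    have hv := mem_cj.1 hy
    set v := u⁻¹ * y * u with hvdef
    have h5 := mem_centralizer_iff.1 htc v hv
    have h6 : (u⁻¹ * s * u) * v * (u⁻¹ * s * u)⁻¹ * v⁻¹ = t⁻¹ * v * t⁻¹⁻¹ * v⁻¹ := by
      calc (u⁻¹ * s * u) * v * (u⁻¹ * s * u)⁻¹ * v⁻¹
          = t⁻¹ * (t * (u⁻¹ * s * u) * v) * (u⁻¹ * s * u)⁻¹ * v⁻¹ := by group
        _ = t⁻¹ * (v * (t * (u⁻¹ * s * u))) * (u⁻¹ * s * u)⁻¹ * v⁻¹ := by rw [← h5]
        _ = _ := by group
    have h7 := k.QV (o i) t⁻¹ (inv_mem (k.K_Q _ ht)) v hv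
    rw [← h6] at h7
    have h8 := conj_mem_of_normalizer huR h7
    have e : u * ((u⁻¹ * s * u) * v * (u⁻¹ * s * u)⁻¹ * v⁻¹) * u⁻¹ = s * y * s⁻¹ * y⁻¹ := by
      rw [hvdef]; group
    rwa [e] at h8
  -- lines `b ≠ o i`
  have hQN : ∀ b, Q ≤ normalizer (R i b : Set G) := fun b q hq => k.cen_le_N b (h.Q_cen hq)
  have hUc : ∀ b, b ≠ o i → cj u (Vf i) ≤ centralizer (Uc (R i b) : Set G) := by
    intro b hb y hy
    rw [mem_centralizer_iff]
    intro z hz
    have hzQ := hfr.Uc_le_Q i b hz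
    have h1 := hsR z (h.QTh hzQ) (h.Q_cen hzQ) y hy
    have h2 : z * y * z⁻¹ * y⁻¹ ∈ Uc (R i b) := by
      have e : z * y * z⁻¹ * y⁻¹ = z * (y * z⁻¹ * y⁻¹) := by group
      rw [e]
      exact mul_mem hz (conj_mem_of_normalizer (N_Uc _ (hQN b (hV'Q hy))) (inv_mem hz))
    have h3 : z * y * z⁻¹ * y⁻¹ ∈ R i b := by
      refine kt_R_of_cen k (k.R_le _ h1) ?_
      rw [mem_centralizer_iff]
      exact fun t ht => (Uc_comm h2 (k.K_Q b ht)).symm
    have h4 := k.eq_one hb h3 h1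
    rw [mul_inv_eq_one, mul_inv_eq_iff_eq_mul] at h4
    exact h4
  have hQb : ∀ b, b ≠ o i → cj u (Vf i) ≤ QQ (R i b) := by
    intro b hb
    have hxU : x ∈ Uc (R i b) := hfr.mem_Uc_of (hfr.Wh_le_cen hx) hxX b
    have hUM : centralizer (Uc (R i b) : Set G) ≤ M := fun c hc => (hxc c).2 (mem_centralizer_iff.1 hc x hxU).symm
    have h1 : O ⊓ centralizer (O : Set G) ⊓ centralizer (Uc (R i b) : Set G) ≤ QQ (R i b) := by
      refine hfr.le_QQ_of inf_le_right ((O2_isPGroup M).to_le (inf_le_left.trans inf_le_left)) ?_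
      intro c hc y hy
      have hcO := hMO (hUM hc)
      exact mem_inf.2 ⟨mem_inf.2 ⟨conj_mem_of_normalizer hcO (mem_inf.1 (mem_inf.1 hy).1).1,
        conj_mem_of_normalizer (normalizer_le_normalizer_centralizer _ hcO) (mem_inf.1 (mem_inf.1 hy).1).2⟩,
        mul_mem (mul_mem hc (mem_inf.1 hy).2) (inv_mem hc)⟩
    exact (le_inf (le_inf hV'O hV'cO) (hUc b hb)).trans h1
  have hK0 : ∀ b, b ≠ o i → ∀ y ∈ cj u (Vf i), ∀ t ∈ K i b, t ∈ centralizer (Vf i : Set G) → y * t = t * y := by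
    intro b hb y hy t ht htc
    have h1 := hsR t (h.QTh (hfr.K0_le_Q ht htc)) htc y hy
    have h2 := inv_mem (k.KQ b y (hQb b hb hy) t ht)
    have e : (y * t * y⁻¹ * t⁻¹)⁻¹ = t * y * t⁻¹ * y⁻¹ := by group
    rw [e] at h2
    have h3 := k.eq_one hb h2 h1
    rw [mul_inv_eq_one, mul_inv_eq_iff_eq_mul] at h3
    exact h3.symm
  obtain ⟨a, ha, -⟩ := k.third (o i) (o i)
  obtain ⟨b, hb, hba⟩ := k.third (o i) a
  have hsplit : ∀ y ∈ cj u (Vf i), ∃ v ∈ Vf i, v⁻¹ * y ∈ centralizer (XK (K i) : Set G) := fun y hy =>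
    hfr.CU (Ne.symm hba) (hQb a ha hy) (hQb b hb hy) (hK0 a ha y hy) (hK0 b hb y hy)
  have hcT : ∀ s ∈ Th, s ∈ centralizer (Vf i : Set G) → s ∈ centralizer (cj u (Vf i) : Set G) := by
    intro s hs hsc
    rw [mem_centralizer_iff]
    intro y hy
    obtain ⟨v, hv, hc⟩ := hsplit y hy
    set c := v⁻¹ * y with hcdef
    have h1 := hsR s hs hsc y hy
    have h2 : s * c * s⁻¹ * c⁻¹ ∈ centralizer (XK (K i) : Set G) :=
      mul_mem (conj_mem_of_normalizer (normalizer_le_normalizer_centralizer _ (k.L_le_NX (h.ThL hs))) hc)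
        (inv_mem hc)
    have h3 := mem_centralizer_iff.1 hsc v hv
    have e : s * c * s⁻¹ * c⁻¹ = v⁻¹ * (s * y * s⁻¹ * y⁻¹) * v := by
      have e1 : s * v⁻¹ = v⁻¹ * s := by
        calc s * v⁻¹ = v⁻¹ * (v * s) * v⁻¹ := by group
          _ = v⁻¹ * s := by rw [h3]; group
      calc s * c * s⁻¹ * c⁻¹ = (s * v⁻¹) * y * s⁻¹ * y⁻¹ * v := by rw [hcdef]; group
        _ = _ := by rw [e1]; group
    have e2 : v⁻¹ * (s * y * s⁻¹ * y⁻¹) * v = s * y * s⁻¹ * y⁻¹ := by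
      have h4 := k.V_comm _ (k.R_le _ h1) v hv
      calc v⁻¹ * (s * y * s⁻¹ * y⁻¹) * v = v⁻¹ * ((s * y * s⁻¹ * y⁻¹) * v) := by group
        _ = s * y * s⁻¹ * y⁻¹ := by rw [h4]; group
    rw [e, e2] at h2
    have h5 := h.toFr.uniq (k.R_le _ h1) h2
    rw [mul_inv_eq_one, mul_inv_eq_iff_eq_mul] at h5
    exact h5.symm
  exact ⟨huT, huR, huu, huV, h.Wh_of_cT hl fun s hs hsc y hy => mem_centralizer_iff.1 (hcT s hs hsc) y hy, hcT⟩

/-- **(3)** -/
theorem step [Finite G] [Finite κ] {l : κ} (hl : l ≠ i) {x u : G} {S' : Subgroup G}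
    (hx : x ∈ Wh Vf K Q) (hxX : x ∈ centralizer (XK (K i) : Set G))
    (hch : centralizer ({x} : Set G) ⊓ centralizer (O2 (centralizer ({x} : Set G)) : Set G) ≤
      O2 (centralizer ({x} : Set G)))
    (hS2 : IsPGroup 2 S') (hTS : Th ≤ S') (hSx : S' ≤ centralizer ({x} : Set G)) (huS : u ∈ S')
    (huT : u ∈ normalizer (Th : Set G)) (huR : u ∈ normalizer (R i (o i) : Set G)) (hun : u ∉ Th)
    (huu : u * u ∈ Th) : ∃ w, Wp Vf R K Q o Th i w := by
  have hMO := le_normalizer_O2 (centralizer ({x} : Set G))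
  have hXx : XK (K i) ≤ centralizer ({x} : Set G) := fun g hg =>
    mem_centralizer_singleton_iff.2 (mem_centralizer_iff.1 hxX g hg)
  by_cases hOV : O2 (centralizer ({x} : Set G)) ≤ normalizer (Vf i : Set G)
  · exact ⟨u, h.step_A hl hx hxX hch hS2 hTS huS (hSx huS) huT huR hun huu hOV⟩
  · exact h.step_B hl (O2_isPGroup _) ((hTS.trans hSx).trans hMO) (hXx.trans hMO) hOV

/-- `FA` from `w` -/
theorem fa {w : G} (hw : Wp Vf R K Q o Th i w) : FA (Vf i) (Lf i) (R i) (K i) (o i) Th w where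
  bt := h.kt i
  Th2 := h.Th2
  ThV := h.ThV
  ThL := h.ThL
  ThR := h.ThR
  syl := h.syl
  KTh := h.KTh
  wT := hw.wT
  wR := hw.wR
  ww := hw.ww
  wV := hw.wV
  VV' := fun _ hv _ hv' => h.toFr.Wh_comm (Vf_le_Wh Vf K Q i hv) (hw.wW hv')
  split := fun _ hv => h.toFr.dec (hw.wW hv) i
  cT := hw.cT

end FS

end Cfsg.Agent.Omega.IId.CvBig.Four

end

end

private theorem dce_197460f71fbd : _root_.True := by
  try have : _root_.True := by simp only [_root_.Cfsg.Agent.Omega.IId.CvBig.Four.Dh.eq_1]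
  try have : _root_.True := by simp only [_root_.Cfsg.Agent.Omega.IId.CvBig.Four.Jt.eq_1]
  try have : _root_.True := by simp only [_root_.Cfsg.Agent.Omega.IId.CvBig.Four.F0.eq_1]
  try have : _root_.True := by simp only [_root_.Cfsg.Agent.Omega.IId.CvBig.Four.Uc.eq_1]
  exact _root_.True.intro
end

-- part: Mrg/Omega/IId/LFour/Crux
section
prune_inst 0xd11015401422020000180500300004441a000100002b8001f9400b0006c61341a0450f61f0601b000112ae742038002813dc00594038000000008a00411c00a0840a42029248a104270009c0f886400000000000000000000000000000041000000000000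
set_option linter.all false
open scoped Cfsg.Agent.FastGrp


/-!
# The crux of II.d L4 (project OMEGA, `S₅ wr 2`, one-factor `T`-pair): the facts at all duads; `A = ⟨V₁^{C(V₂)}⟩`

`w : Wr S P M₁ M₂`.

* `du i j` : the duad `{i, j}`; `DF M V'` : QUARTER LEMMA, `V ≤ Q_p`, `Q_p` acts as `⟨(i j)⟩`, `K_p` does not act
  trivially, for every duad `p` of `V`; `df₁` : from `Wr` and `K_n ≰ C(V₁)`; `df₂`;
* `ncl H X` : `⟨X^H⟩`;
* `AA` : `A = ⟨V₁^{C(V₂)}⟩`, `A ≤ O₂(C_G(v))` for `1 ≠ v ∈ V₂`, `A` elementary abelian;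
* `fixA` : `C_A(⟨K_p⟩) = 1`.
-/

set_option autoImplicit false
set_option linter.unusedSectionVars false

namespace Cfsg.Agent.Omega.IId.LFour.Crux

open Subgroup Pointwise Cfsg Cfsg.Agent.ZN Cfsg.Agent.Omega.MinPar Cfsg.Agent.Omega.FFThm
open Cfsg.Agent.Omega.S5.Mod Cfsg.Agent.Omega.S5.TT
open Cfsg.Agent.Omega.S5.TT.Pos (na ns as sn n_ne s_ne a_ne n_ne_a n_ne_s a_ne_s e_sq' mem_C)
open Cfsg.Agent.Omega.Half (Amb amb_of_loc)
open Cfsg.Agent.Omega.S5.NatBig (odd_comm no_comm exists_inv)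
open Cfsg.Agent.MinSimple.VModule (mem_zc zc_le zc_comm zc_sq zc_le_zl le_normalizer_o2 o2_isPGroup o2_le le_o2
  normalizer_le_normalizer_zc le_normalizer_zl)
open Cfsg.Agent.Omega.IId.One (Kk mem_Kk conj_Kk Kk_conj le_normalizer_Kk cz mem_cz Kk_le)
open Cfsg.Agent.Omega.IId.Two (le_normalizer_of)

universe u

variable {G : Type u} [Group G]

/-! ### Duads -/

/-- the duad `{i, j}` -/
def du (i j : Fin 5) : Vec := Pi.single i 1 + Pi.single j 1

theorem nn_comp : ∀ p : Equiv.Perm (Fin 5), nn ∘ p.symm = du (p 0) (p 1) := by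
  decide +kernel

theorem exists_perm : ∀ i j : Fin 5, i ≠ j → ∃ p : Equiv.Perm (Fin 5), p 0 = i ∧ p 1 = j := by
  (set_option synthInstance.maxSize 9000 in open scoped Cfsg.Agent.Lib.FastPerm in decide +kernel)

theorem swap_cases : ∀ (i j : Fin 5) (y : Vec),
    (y i = y j ∧ y ∘ (Equiv.swap i j).symm = y) ∨
      (y i ≠ y j ∧ y ∘ (Equiv.swap i j).symm = du i j + y) := by
  decide +kernel

theorem du_ne {V L : Subgroup G} (M : FiveMod V L) {i j : Fin 5} (hij : i ≠ j) : M.e (du i j) ≠ 1 := by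
  rw [Ne, M.ker]
  revert hij; revert i j
  have key : ∀ i j : Fin 5, i ≠ j → ¬ (du i j = 0 ∨ du i j = 1) := by decide +kernel
  exact fun {i j} h => key i j h

/-! ### The facts at all duads of `V` -/

/-- The facts at all duads of `V`; `V'` is the other summand. -/
structure DF {V L : Subgroup G} (M : FiveMod V L) (V' : Subgroup G) : Prop where
  q : ∀ i j, i ≠ j → V' ≤ o2 (centralizer ({M.e (du i j)} : Set G))
  qc : ∀ i j, i ≠ j → o2 (centralizer ({M.e (du i j)} : Set G)) ≤ centralizer (V' : Set G)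
  s : ∀ i j, i ≠ j → V ≤ o2 (centralizer ({M.e (du i j)} : Set G))
  ind : ∀ i j, i ≠ j → ∀ g ∈ o2 (centralizer ({M.e (du i j)} : Set G)),
    M.Ind g 1 ∨ M.Ind g (Equiv.swap i j)
  kq : ∀ i j, i ≠ j → Kk (M.e (du i j)) ≤ o2 (centralizer ({M.e (du i j)} : Set G))
  k : ∀ i j, i ≠ j → ∃ g ∈ Kk (M.e (du i j)), M.Ind g (Equiv.swap i j)

section wr

variable {S : Sylow 2 G} {P V₁ V₂ L₁ L₂ : Subgroup G} {M₁ : FiveMod V₁ L₁} {M₂ : FiveMod V₂ L₂}
variable [Finite G] (wr : Wr S P M₁ M₂)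
include wr

theorem df₁ (hk : ∃ g ∈ Kk (M₁.e nn), M₁.Ind g (Equiv.swap 0 1)) : DF M₁ V₂ := by
  have hnd : M₁.e nn = M₁.e (du 0 1) := congrArg _ (nn_comp 1)
  have key : ∀ i j, i ≠ j → ∃ (p : Equiv.Perm (Fin 5)) (l : G), l ∈ L₁ ∧ M₁.Ind l p ∧ p 0 = i ∧ p 1 = j ∧
      l * M₁.e nn * l⁻¹ = M₁.e (du i j) := by
    intro i j hij
    obtain ⟨p, h0, h1⟩ := exists_perm i j hij
    obtain ⟨l, hl, hi⟩ := M₁.exists_lift p
    have hi : M₁.Ind l p := hi
    exact ⟨p, l, hl, hi, h0, h1, by rw [hi, nn_comp, h0, h1]⟩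
  have hsw : ∀ p : Equiv.Perm (Fin 5), p * Equiv.swap 0 1 * p⁻¹ = Equiv.swap (p 0) (p 1) := fun p =>
    (Equiv.swap_apply_apply p 0 1).symm
  have hpull : ∀ {i j : Fin 5} {l x : G}, l * M₁.e nn * l⁻¹ = M₁.e (du i j) →
      x ∈ o2 (centralizer ({M₁.e (du i j)} : Set G)) →
      ∃ y ∈ o2 (centralizer ({M₁.e nn} : Set G)), x = l * y * l⁻¹ := by
    intro i j l x hl hx
    rw [← hl, Triangle.o2_cent_conj] at hx
    obtain ⟨y, hy, rfl⟩ := hx
    exact ⟨y, hy, rfl⟩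
  have hpush : ∀ {i j : Fin 5} {l x : G}, l * M₁.e nn * l⁻¹ = M₁.e (du i j) →
      x ∈ o2 (centralizer ({M₁.e nn} : Set G)) → l * x * l⁻¹ ∈ o2 (centralizer ({M₁.e (du i j)} : Set G)) := by
    intro i j l x hl hx
    rw [← hl, Triangle.o2_cent_conj]
    exact ⟨x, hx, rfl⟩
  have hn2 : ∀ i j, i ≠ j → M₁.e (du i j) ^ 2 = 1 := fun i j _ => e_sq' M₁ _
  refine ⟨?_, ?_, ?_, ?_, ?_, ?_⟩
  · intro i j hij v hv
    obtain ⟨p, l, hl, hi, h0, h1, h2⟩ := key i j hij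
    have h3 := hpush h2 (wr.quarter hv)
    rwa [wr.L₁_comm hl hv, mul_inv_cancel_right] at h3
  · intro i j hij x hx
    obtain ⟨p, l, hl, hi, h0, h1, h2⟩ := key i j hij
    obtain ⟨y, hy, rfl⟩ := hpull h2 hx
    refine mem_centralizer_iff.2 fun v hv => ?_
    have h3 := mem_centralizer_iff.1 (wr.quarter_cent hy) v hv
    have h4 := wr.L₁_comm hl hv
    have h5 : l⁻¹ * v = v * l⁻¹ := by rw [inv_mul_eq_iff_eq_mul, ← mul_assoc, h4, mul_inv_cancel_right]
    calc v * (l * y * l⁻¹) = (v * l) * y * l⁻¹ := by group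
      _ = l * (v * y) * l⁻¹ := by rw [← h4]; group
      _ = l * y * (v * l⁻¹) := by rw [h3]; group
      _ = l * y * l⁻¹ * v := by rw [← h5]; group
  · intro i j hij v hv
    obtain ⟨p, l, hl, hi, h0, h1, h2⟩ := key i j hij
    have h3 : l⁻¹ * v * l ∈ V₁ := by
      have := (mem_normalizer_iff.1 (inv_mem hi.mem_normalizer) v).1 hv
      rwa [inv_inv] at this
    have h4 := hpush h2 (wr.V₁_le_o2 h3)
    have e : l * (l⁻¹ * v * l) * l⁻¹ = v := by group
    rwa [e] at h4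
  · intro i j hij x hx
    obtain ⟨p, l, hl, hi, h0, h1, h2⟩ := key i j hij
    obtain ⟨y, hy, rfl⟩ := hpull h2 hx
    rcases wr.Q_ind hy with h3 | h3
    · left
      have := (hi.mul h3).mul hi.inv
      rwa [mul_one, mul_inv_cancel] at this
    · right
      have := (hi.mul h3).mul hi.inv
      rwa [hsw, h0, h1] at this
  · intro i j hij
    exact Kk_le_o2 wr.hG (e_sq' M₁ _) (du_ne M₁ hij)
  · intro i j hij
    obtain ⟨p, l, hl, hi, h0, h1, h2⟩ := key i j hij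
    obtain ⟨g, hg, hgi⟩ := hk
    refine ⟨l * g * l⁻¹, conj_Kk h2 hg, ?_⟩
    have := (hi.mul hgi).mul hi.inv
    rwa [hsw, h0, h1] at this

end wr

/-! ### Normal closures -/

/-- `⟨X^H⟩` -/
def ncl (H X : Subgroup G) : Subgroup G := closure {y | ∃ h ∈ H, ∃ x ∈ X, y = h * x * h⁻¹}

/-! ### `A = ⟨V₁^{C(V₂)}⟩` -/

section A

variable {S : Sylow 2 G} {P V₁ V₂ L₁ L₂ : Subgroup G} {M₁ : FiveMod V₁ L₁} {M₂ : FiveMod V₂ L₂}

/-- `A = ⟨V₁^{C(V₂)}⟩` -/
abbrev AA (V₁ V₂ : Subgroup G) : Subgroup G := ncl (centralizer (V₂ : Set G)) V₁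

variable [Finite G] (wr : Wr S P M₁ M₂)

end A

end Cfsg.Agent.Omega.IId.LFour.Crux

private theorem dce_c79c0bff7869 : _root_.True := by
  try have : _root_.True := by simp only [_root_.Cfsg.Agent.Omega.IId.LFour.Crux.ncl.eq_1]
  try have : _root_.True := by simp only [_root_.Cfsg.Agent.Omega.IId.LFour.Crux.AA.eq_1]
  exact _root_.True.intro
end

-- part: Mrg/Omega/NO3S/TwoOne/LThreeC
section
prune_inst 0xc10010400000020000000500100004444a00010000088001d9000a000786124000008860e0a00b0010028a040030000812cc00100000000000000000411800a0802a42001240a10426000980b087580c00000000000000000000000000041000000000000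
set_option linter.all false
open scoped Cfsg.Agent.FastGrp

-- part: Mrg/Omega/NO3S/TwoOne/TIa
section
section


/-!
# NO-3S, `q = 2`, `n = 1`, no `λ`-transvections: `A_l ∩ A_m` (helper409's text #17866, (N1), (N3), (N4))

`h : One T V z`, `NT V`; `A_l` = image of `W_y`, `y ∈ V - ⟨z⟩`, in `H = C_G(z) / K_z`.

* `One.nt_ti_mem` : a line `L` on `z`, `q ∈ L`; an element `≠ 1` of `A_V ∩ A_L` gives `q ∈ ii V` (`L` and `V` are in a
  plane);
* `NP V z` : there is no plane on `V`: the only line on `z` in `ii V` is `V`; `One.nt_ti` : then `L = V`;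
* `One.nt_cent_mem` : `f ∈ C_G(z)`, `[f, a] ∈ K_z` for an `a ∈ W_y - K_z`: `f y f⁻¹ ∈ ii V`; `One.nt_cent` : without planes
  `f ∈ N_G(V)`: `C_H(a) ≤ H_λ` for every `a ∈ A#`;
* `One.plane_inter` (N3) : in a plane `⟨V, u⟩` : an element of `A_V ∩ A_{⟨z, u⟩}` is in `A_{⟨z, y u⟩}`;
* `comm_of_norm` : the abstract form of (N4); `One.nt_comm` (N4): no plane, `A_V` normalises `A_L`: they commute.
-/

set_option autoImplicit false
set_option linter.unusedSectionVars false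

namespace Cfsg.Agent.Omega.NO3S.TwoOne

open Subgroup Cfsg Cfsg.Agent.ZN Cfsg.Agent.MinSimple.Geo Cfsg.Agent.Omega.CaseL
open Cfsg.Agent.ZN.Block (conj_mem_of_normalizer conj_mem_of_normalizer' le_normalizer_of_forall
  mem_normalizer_of)
open scoped commutatorElement

universe u

variable {G : Type u} [Group G]

/-- **(N4)**, abstract form -/
theorem comm_of_norm {H : Type u} [Group H] [Finite H] {A B : Subgroup H} (hcard : Nat.card A = Nat.card B)
    (hB : ∀ b ∈ B, b * b = 1) (hAB : ∀ a ∈ A, ∀ b ∈ B, a * b * a⁻¹ ∈ B)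
    (hd : ∀ a ∈ A, a ∈ B → a = 1)
    (hc : ∀ b ∈ B, (∀ a ∈ A, b * a * b⁻¹ ∈ A) ∨ (∀ a ∈ A, a * b = b * a → a = 1)) :
    ∀ a ∈ A, ∀ b ∈ B, a * b = b * a := by
  intro a ha b hb
  by_cases hb1 : b = 1
  · rw [hb1]; simp
  rcases hc b hb with h1 | h1
  · -- `[a, b] ∈ A ∩ B`
    have h2 : a * b * a⁻¹ * b⁻¹ ∈ B := mul_mem (hAB a ha b hb) (inv_mem hb)
    have h3 : a * b * a⁻¹ * b⁻¹ ∈ A := by
      have e : a * b * a⁻¹ * b⁻¹ = a * (b * a⁻¹ * b⁻¹) := by group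
      rw [e]
      exact mul_mem ha (h1 _ (inv_mem ha))
    have h4 := hd _ h3 h2
    calc a * b = (a * b * a⁻¹ * b⁻¹) * (b * a) := by group
      _ = b * a := by rw [h4, one_mul]
  · exfalso
    -- `a ↦ [a, b]` is injective and misses `b`
    let f : A → B := fun a => ⟨(a : H) * b * (a : H)⁻¹ * b⁻¹, mul_mem (hAB a a.2 b hb) (inv_mem hb)⟩
    have hf : Function.Injective f := by
      intro x y hxy
      have e1 : (x : H) * b * (x : H)⁻¹ * b⁻¹ = (y : H) * b * (y : H)⁻¹ * b⁻¹ := congrArg Subtype.val hxy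
      have e2 : (x : H) * b * (x : H)⁻¹ = (y : H) * b * (y : H)⁻¹ := mul_right_cancel e1
      have e3 : ((y : H)⁻¹ * x) * b = b * ((y : H)⁻¹ * x) := by
        calc ((y : H)⁻¹ * x) * b = (y : H)⁻¹ * ((x : H) * b * (x : H)⁻¹) * x := by group
          _ = b * ((y : H)⁻¹ * x) := by rw [e2]; group
      have e4 := h1 _ (mul_mem (inv_mem y.2) x.2) e3
      exact Subtype.ext (inv_mul_eq_one.mp e4).symm
    have hs : Function.Surjective f := by
      have := Fintype.ofFinite A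
      have := Fintype.ofFinite B
      rw [Nat.card_eq_fintype_card, Nat.card_eq_fintype_card] at hcard
      exact ((Fintype.bijective_iff_injective_and_card f).mpr ⟨hf, hcard⟩).2
    obtain ⟨x, hx⟩ := hs ⟨b, hb⟩
    have e1 : (x : H) * b * (x : H)⁻¹ * b⁻¹ = b := congrArg Subtype.val hx
    have e2 : (x : H) * b * (x : H)⁻¹ = 1 := by
      rw [← hB b hb]
      calc (x : H) * b * (x : H)⁻¹ = ((x : H) * b * (x : H)⁻¹ * b⁻¹) * b := by group
        _ = b * b := by rw [e1]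
    exact hb1 (conj_eq_one_iff.mp e2)

namespace One

variable {T V : Subgroup G} {z p q r : G}

/-- two lines on `z` with a common point `q ≠ z` -/
theorem line_eq (h : One T V z) {L : Subgroup G} (hL : L ∈ lines V z) (hqL : q ∈ L) (hq1 : q ≠ 1)
    (hqz : q ≠ z) (hqV : q ∈ V) : L = V := by
  have hz := h.ln.z_mem
  have hz1 := h.ln.z_ne
  obtain ⟨c, hLc, T', h'⟩ := h.of_line hL hz1
  have h1 : L ≤ V := by
    intro x hx
    by_cases hx1 : x = 1
    · rw [hx1]; exact one_mem _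
    · rcases h'.third hL.2 hz1 hqL hq1 hqz hx hx1 with e | e | e
      · rw [e]; exact hz
      · rw [e]; exact hqV
      · rw [e]; exact mul_mem hz hqV
  have h2 : V ≤ L := by
    intro x hx
    by_cases hx1 : x = 1
    · rw [hx1]; exact one_mem _
    · rcases h.third hz hz1 hqV hq1 hqz hx hx1 with e | e | e
      · rw [e]; exact hL.2
      · rw [e]; exact hqL
      · rw [e]; exact mul_mem hL.2 hqL
  exact le_antisymm h1 h2

end One

end Cfsg.Agent.Omega.NO3S.TwoOne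

end

section


/-!
# NO-3S, `q = 2`, `n = 1`: `|W_z| = 16` (helper225's text #15275 (A)), second part

* `Std.bz_eq` : `B_z = W_z D_l`; `Std.bz_sq` : `B_z` is elementary abelian;
* `Std.kq_rep` : `K_z ∩ C_G(V) = B_z {g_a | a ∈ W_y}`, `g_a = a t a⁻¹ t⁻¹`, `t` a mover of `K_z`;
* `Std.bz_kq` : `[B_z, K_z] ≤ ⟨z⟩`; `Std.uz_le` : `C_{B_z}(K_z) ≤ D_l`;
* `Std.dl_eq`, `Std.bz_eq_ws` : `D_l = V`, `B_z = W_z`; `Std.card_kq` : `|K_z| = 2^7`;
* `Std.large` : `K_z` is extraspecial with centre `⟨z⟩`.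
-/

set_option autoImplicit false
set_option linter.unusedSectionVars false

namespace Cfsg.Agent.Omega.NO3S.TwoOne

open Subgroup Cfsg Cfsg.Agent.ZN Cfsg.Agent.MinSimple.Geo Cfsg.Agent.Omega.CaseL
open Cfsg.Agent.ZN.Block (conj_mem_of_normalizer conj_mem_of_normalizer' le_normalizer_of_forall
  mem_normalizer_of)
open scoped commutatorElement

universe u

variable {G : Type u} [Group G]

namespace Std

variable {T V : Subgroup G} {z p q r : G}

theorem dl_le_bz (h : Std T V z) : dl V ≤ bz V z := fun _ hg => hg z h.z_mem h.z_ne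

theorem V_le_dl (h : Std T V z) : V ≤ dl V := fun _ hv _ hp hp1 =>
  mem_bz.mpr fun _ hw => h.one.V_comm hv (h.one.ws_le_centralizer_V hp hp1 hw)

theorem ws_le_bz (h : Std T V z) : ws V z ≤ bz V z := fun w hw =>
  mem_bz.mpr fun _ hv => h.one.comm h.z_mem h.z_ne w hw _ hv

theorem bz_le_centralizer (h : Std T V z) : bz V z ≤ centralizer (V : Set G) :=
  centralizer_le (h.one.V_le h.z_mem h.z_ne)

/-- `[B_z, W_p] ≤ V` -/
theorem bz_comm' (h : Std T V z) (hp : p ∈ V) (hp1 : p ≠ 1) {b a : G} (hb : b ∈ bz V z)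
    (ha : a ∈ ws V p) : b * a * b⁻¹ * a⁻¹ ∈ V := by
  by_cases hpz : p = z
  · subst hpz
    rw [mem_bz.mp hb a ha, mul_inv_cancel_right, mul_inv_cancel]; exact one_mem _
  · have := inv_mem (h.bz_comm hp hp1 hpz hb ha)
    have e : (a * b * a⁻¹ * b⁻¹)⁻¹ = b * a * b⁻¹ * a⁻¹ := by group
    rwa [e] at this

/-- `B_z = W_z D_l` -/
theorem bz_eq [Finite G] (h : Std T V z) {b : G} (hb : b ∈ bz V z) :
    ∃ w ∈ ws V z, ∃ e ∈ dl V, b = w * e := by
  obtain ⟨d, hd, hf, hdb⟩ := h.exists_d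
  have hdN := centralizer_le_normalizer _ hd
  have hdz : d ∈ centralizer ({z} : Set G) := h.one.cent_le_centralizer h.z_mem hd
  have hVC := h.bz_le_centralizer
  -- `d` is fixed-point-free on all `W_p / V`
  have hf' : ∀ p ∈ V, p ≠ 1 → ∀ w ∈ ws V p, d * w * d⁻¹ * w⁻¹ ∈ V → w ∈ V := by
    intro p hp hp1 w hw hw1
    obtain ⟨g, hg, hgp⟩ := h.one.xl_trans h.z_mem h.z_ne hp hp1
    have hgN := h.one.xl_le_normalizer hg
    have hw0 : g⁻¹ * w * g ∈ ws V z := by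
      have := conj_mem_ws g⁻¹ hw
      have e : g⁻¹ * p * g⁻¹⁻¹ = z := by rw [← hgp]; group
      rwa [e, inv_inv] at this
    have h1 := h.le p hp hp1 (h.one.xl_cent h.z_mem h.z_ne hg hgp hd hw0)
    have e1 : g * (g⁻¹ * w * g) * g⁻¹ = w := by group
    rw [e1] at h1
    have h2 := mul_mem h1 hw1
    have e2 : g * (d * (g⁻¹ * w * g) * d⁻¹) * g⁻¹ * (d * w * d⁻¹)⁻¹ * (d * w * d⁻¹ * w⁻¹) =
        g * (d * (g⁻¹ * w * g) * d⁻¹ * (g⁻¹ * w * g)⁻¹) * g⁻¹ := by group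
    rw [e2] at h2
    have h3 := hf _ hw0 ((mem_normalizer_iff.mp hgN _).mpr h2)
    have h4 := (mem_normalizer_iff.mp hgN _).mp h3
    rwa [e1] at h4
  -- apply `fpf_surj`
  obtain ⟨b', hb', h1⟩ := fpf_surj (B := bz V z) (D := dl V) (d := d)
    ((hVC.trans (centralizer_le_normalizer _)).trans (normalizer_le_normalizer_dl V))
    (by
      intro a ha b hb p hp hp1
      rw [mem_bz]
      intro w hw
      have ha1 := h.bz_comm' hp hp1 ha hw
      have hb1 := h.bz_comm' hp hp1 hb hw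
      set u := a * w * a⁻¹ * w⁻¹ with hu
      set v := b * w * b⁻¹ * w⁻¹ with hv
      have ea : a * w * a⁻¹ = u * w := by rw [hu]; group
      have eb : b * w * b⁻¹ = v * w := by rw [hv]; group
      have hav := h.one.V_comm hb1 (hVC ha)
      have hbu := h.one.V_comm ha1 (hVC hb)
      have hba : b * a * w * (b * a)⁻¹ = v * u * w := by
        calc b * a * w * (b * a)⁻¹ = b * (a * w * a⁻¹) * b⁻¹ := by group
          _ = (b * u) * b⁻¹ * (b * w * b⁻¹) := by rw [ea]; group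
          _ = v * u * w := by rw [← hbu, eb, h.one.ln.comm hb1 ha1]; group
      have hab : a * b * w * (a * b)⁻¹ = v * u * w := by
        calc a * b * w * (a * b)⁻¹ = a * (b * w * b⁻¹) * a⁻¹ := by group
          _ = (a * v) * a⁻¹ * (a * w * a⁻¹) := by rw [eb]; group
          _ = v * u * w := by rw [← hav, ea]; group
      refine comm_of_conj_eq ?_
      have e1 : a * b * a⁻¹ * b⁻¹ * w * (a * b * a⁻¹ * b⁻¹)⁻¹ =
          a * b * ((b * a)⁻¹ * w * (b * a)) * (a * b)⁻¹ := by group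
      have huv : v * u ∈ centralizer (V : Set G) := h.one.V_le_centralizer (mul_mem hb1 ha1)
      have e2 : (b * a)⁻¹ * w * (b * a) = (v * u)⁻¹ * w := by
        have hvc : (b * a) * (v * u)⁻¹ = (v * u)⁻¹ * (b * a) :=
          (h.one.V_comm (inv_mem (mul_mem hb1 ha1)) (hVC (mul_mem hb ha))).symm
        calc (b * a)⁻¹ * w * (b * a) = (b * a)⁻¹ * ((v * u)⁻¹ * (v * u * w)) * (b * a) := by group
          _ = (b * a)⁻¹ * ((v * u)⁻¹ * (b * a)) * w := by rw [← hba]; group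
          _ = (b * a)⁻¹ * ((b * a) * (v * u)⁻¹) * w := by rw [hvc]
          _ = (v * u)⁻¹ * w := by group
      rw [e1, e2]
      have hvc : (a * b) * (v * u)⁻¹ = (v * u)⁻¹ * (a * b) :=
        (h.one.V_comm (inv_mem (mul_mem hb1 ha1)) (hVC (mul_mem ha hb))).symm
      calc a * b * ((v * u)⁻¹ * w) * (a * b)⁻¹ = ((a * b) * (v * u)⁻¹) * w * (a * b)⁻¹ := by group
        _ = (v * u)⁻¹ * (a * b * w * (a * b)⁻¹) := by rw [hvc]; group
        _ = w := by rw [hab]; group)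
    (centralizer_le_normalizer_bz V z hdz) (normalizer_le_normalizer_dl V hdN)
    (by
      intro b hb hb1 p hp hp1
      rw [mem_bz]
      -- `w ↦ [b, w]` is `d`-invariant on `W_p`
      have hβ : ∀ w ∈ ws V p, d * w * d⁻¹ * w⁻¹ ∈ centralizer ({b} : Set G) := by
        intro w hw
        have hw1 := h.bz_comm' hp hp1 hb hw
        set v := b * w * b⁻¹ * w⁻¹ with hv
        have ew : b * w * b⁻¹ = v * w := by rw [hv]; group
        -- `d b d⁻¹ = e b`
        set e := d * b * d⁻¹ * b⁻¹ with he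
        have edb : d * b * d⁻¹ = e * b := by rw [he]; group
        have hev : e * v = v * e := (h.one.V_comm hw1 (h.bz_le_centralizer (h.dl_le_bz hb1))).symm
        have hew : e * (d * w * d⁻¹) = d * w * d⁻¹ * e := by
          have hdp : d * p * d⁻¹ = p := conj_eq_of_comm (h.one.V_comm hp hd).symm
          have h2 := conj_mem_ws d hw
          rw [hdp] at h2
          exact mem_bz.mp (hb1 p hp hp1) _ h2
        have hdv : d * v * d⁻¹ = v := conj_eq_of_comm (h.one.V_comm hw1 hd).symm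
        -- `b (d w d⁻¹) b⁻¹ = v (d w d⁻¹)`
        have h3 : b * (d * w * d⁻¹) * b⁻¹ = v * (d * w * d⁻¹) := by
          calc b * (d * w * d⁻¹) * b⁻¹ = e⁻¹ * ((e * b) * (d * w * d⁻¹) * (e * b)⁻¹) * e := by group
            _ = e⁻¹ * (d * (b * w * b⁻¹) * d⁻¹) * e := by rw [← edb]; group
            _ = e⁻¹ * ((d * v * d⁻¹) * (d * w * d⁻¹)) * e := by rw [ew]; group
            _ = e⁻¹ * (v * (d * w * d⁻¹ * e)) := by rw [hdv]; group
            _ = e⁻¹ * ((v * e) * (d * w * d⁻¹)) := by rw [← hew]; group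
            _ = v * (d * w * d⁻¹) := by rw [← hev]; group
        rw [mem_centralizer_singleton_iff]
        symm
        refine comm_of_conj_eq ?_
        calc b * (d * w * d⁻¹ * w⁻¹) * b⁻¹ = (b * (d * w * d⁻¹) * b⁻¹) * (b * w * b⁻¹)⁻¹ := by group
          _ = v * (d * w * d⁻¹) * (v * w)⁻¹ := by rw [h3, ew]
          _ = v * (d * w * d⁻¹ * w⁻¹) * v⁻¹ := by group
          _ = d * w * d⁻¹ * w⁻¹ := by
            refine conj_eq_of_comm (h.one.V_comm hw1 ?_)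
            have hdp : d * p * d⁻¹ = p := conj_eq_of_comm (h.one.V_comm hp hd).symm
            have h2 := conj_mem_ws d hw
            rw [hdp] at h2
            exact h.one.ws_le_centralizer_V hp hp1 (mul_mem h2 (inv_mem hw))
      intro w hw
      obtain ⟨w', hw', h2⟩ := fpf_surj (B := ws V p) (D := V) (d := d)
        ((h.one.ws_le_centralizer_V hp hp1).trans (centralizer_le_normalizer _))
        (fun a ha b hb => by
          rw [h.one.comm hp hp1 a ha b hb, mul_inv_cancel_right, mul_inv_cancel]; exact one_mem _)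
        (h.one.cent_norm hp hd) hdN (hf' p hp hp1) hw
      have h3 := mul_mem (hβ w' hw') ((h.one.V_le_centralizer h2 |> fun _ =>
        (mem_centralizer_singleton_iff.mpr (h.one.V_comm h2 (hVC hb)) :
          (d * w' * d⁻¹ * w'⁻¹)⁻¹ * w ∈ centralizer ({b} : Set G))))
      have e : d * w' * d⁻¹ * w'⁻¹ * ((d * w' * d⁻¹ * w'⁻¹)⁻¹ * w) = w := by group
      rw [e, mem_centralizer_singleton_iff] at h3
      exact h3.symm) hb
  refine ⟨d * b' * d⁻¹ * b'⁻¹, hdb b' hb', _, h1, by group⟩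

/-- `B_z` is elementary abelian -/
theorem bz_sq [Finite G] (h : Std T V z) : ∀ b ∈ bz V z, b * b = 1 := by
  let N : Subgroup G := closure {x | ∃ b ∈ bz V z, x = b * b}
  have hN : N = ⊥ := by
    refine h.nl N ?_ ?_ ?_
    · refine (closure_le _).mpr ?_
      rintro _ ⟨b, hb, rfl⟩
      have := h.one.cent_le_centralizer h.z_mem (h.bz_le_centralizer hb)
      exact mul_mem this this
    · refine le_normalizer_of_forall fun c hc x hx => ?_
      have key : N ≤ cj c⁻¹ N := by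
        refine (closure_le _).mpr ?_
        rintro _ ⟨b, hb, rfl⟩
        rw [SetLike.mem_coe, mem_cj, inv_inv]
        refine subset_closure ⟨c * b * c⁻¹, conj_mem_of_normalizer (centralizer_le_normalizer_bz V z) hc hb, ?_⟩
        group
      have := key hx
      rwa [mem_cj, inv_inv] at this
    · refine le_normalizer_of_forall fun c hc x hx => ?_
      have key : N ≤ cj c⁻¹ N := by
        refine (closure_le _).mpr ?_
        rintro _ ⟨b, hb, rfl⟩
        obtain ⟨w, hw, e, he, rfl⟩ := h.bz_eq hb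
        have h1 : e * w = w * e := mem_bz.mp (h.dl_le_bz he) w hw
        have h2 : w * e * (w * e) = e * e := by
          calc w * e * (w * e) = w * (e * w) * e := by group
            _ = (w * w) * (e * e) := by rw [h1]; group
            _ = e * e := by rw [h.one.sqz w hw, one_mul]
        rw [SetLike.mem_coe, h2, mem_cj, inv_inv]
        refine subset_closure ⟨c * e * c⁻¹, h.dl_le_bz (conj_mem_dl hc he), ?_⟩
        group
      have := key hx
      rwa [mem_cj, inv_inv] at this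
  intro b hb
  have h1 : b * b ∈ N := subset_closure ⟨b, hb, rfl⟩
  rw [hN] at h1
  exact mem_bot.mp h1

theorem bz_ab [Finite G] (h : Std T V z) {a b : G} (ha : a ∈ bz V z) (hb : b ∈ bz V z) : a * b = b * a := by
  have h1 := h.bz_sq _ (mul_mem ha hb)
  calc a * b = (a * b)⁻¹ := (inv_eq_self h1).symm
    _ = b⁻¹ * a⁻¹ := by group
    _ = b * a := by rw [inv_eq_self (h.bz_sq a ha), inv_eq_self (h.bz_sq b hb)]

theorem bz_le_kq (h : Std T V z) : bz V z ≤ kq V z := fun b hb => by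
  refine h.one.mem_kq h.z_mem ?_ fun w hw => Or.inl (conj_eq_of_comm (mem_bz.mp hb w hw))
  exact mem_bz.mp hb z (h.one.V_le h.z_mem h.z_ne h.z_mem)

theorem ws_le_kq (h : Std T V z) : ws V z ≤ kq V z := h.one.ws_le_kq h.z_mem h.z_ne

/-! ### `K_z ∩ C_G(V)` -/

/-- `g_a` -/
theorem ga_mem (h : Std T V z) (hp : p ∈ V) (hp1 : p ≠ 1) {t a : G} (ht : t ∈ kq V z)
    (ha : a ∈ ws V p) : a * t * a⁻¹ * t⁻¹ ∈ kq V z ∧ a * t * a⁻¹ * t⁻¹ ∈ centralizer (V : Set G) := by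
  have haV := h.one.ws_le_centralizer_V hp hp1 ha
  have haz := h.one.cent_le_centralizer h.z_mem haV
  refine ⟨mul_mem (conj_mem_of_normalizer (centralizer_le_normalizer_kq V z) haz ht) (inv_mem ht), ?_⟩
  have h1 := conj_mem_of_normalizer (normalizer_le_normalizer_centralizer V)
    (h.one.kq_le_normalizer h.z_mem h.z_ne ht) (inv_mem haV)
  have e : a * t * a⁻¹ * t⁻¹ = a * (t * a⁻¹ * t⁻¹) := by group
  rw [e]; exact mul_mem haV h1

/-- the action of `g_a` on `W_z` -/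
theorem ga_conj (h : Std T V z) (hp : p ∈ V) (hp1 : p ≠ 1) {t a w : G} (ht : t ∈ kq V z)
    (ht1 : t ∉ centralizer (V : Set G)) (ha : a ∈ ws V p) (hw : w ∈ ws V z) :
    a * t * a⁻¹ * t⁻¹ * w * (a * t * a⁻¹ * t⁻¹)⁻¹ = if sg z ⁅a, w⁆ = 1 then w else z * w := by
  have haV := h.one.ws_le_centralizer_V hp hp1 ha
  have haa := h.one.sq hp hp1 a ha
  have hcV := h.comm_mem hp hp1 h.z_mem h.z_ne ha hw
  set c := ⁅a, w⁆ with hc
  have hcc := h.one.ln.sq c hcV
  have haw : a * w * a⁻¹ = c * w := by rw [hc, commutatorElement_def]; group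
  have hac : a * c = c * a := (h.one.V_comm hcV haV).symm
  have haw' : a⁻¹ * w * a = c * w := by rw [inv_eq_self haa] at haw ⊢; exact haw
  have hca : c * a⁻¹ = a⁻¹ * c := h.one.V_comm hcV (inv_mem haV)
  have htz := h.one.kq_p ht
  have haz : a * z = z * a := (h.one.V_comm h.z_mem haV).symm
  -- `t⁻¹ w t = u w` with `u ∈ ⟨z⟩`
  obtain ⟨u, hu, huw⟩ : ∃ u ∈ zpowers z, t * w * t⁻¹ = u * w := by
    rcases h.one.kq_cases h.z_mem ht hw with e | e
    · exact ⟨1, one_mem _, by rw [e, one_mul]⟩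
    · exact ⟨z, mem_zpowers z, e⟩
  have huV : u ∈ V := zpowers_le_of_mem h.z_mem hu
  have huu := h.one.ln.sq u huV
  have htu : t * u = u * t := by
    rcases (h.zp h.z_mem).mp hu with e | e
    · rw [e]; simp
    · rw [e]; exact htz
  have htu' : t⁻¹ * u = u * t⁻¹ := inv_comm_of htu
  have hau : a * u = u * a := (h.one.V_comm huV haV).symm
  have hau' : a⁻¹ * u = u * a⁻¹ := inv_comm_of hau
  have huw' : t⁻¹ * w * t = u * w := by
    calc t⁻¹ * w * t = t⁻¹ * (u * (u * w)) * t := by rw [← mul_assoc u u w, huu, one_mul]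
      _ = (t⁻¹ * u) * (t * w * t⁻¹) * t := by rw [← huw]; group
      _ = u * w := by rw [htu']; group
  have e1 : a * t * a⁻¹ * t⁻¹ * w * (a * t * a⁻¹ * t⁻¹)⁻¹ = (t * c * t⁻¹) * c * w := by
    calc a * t * a⁻¹ * t⁻¹ * w * (a * t * a⁻¹ * t⁻¹)⁻¹
        = a * t * (a⁻¹ * (t⁻¹ * w * t) * a) * t⁻¹ * a⁻¹ := by group
      _ = a * t * ((a⁻¹ * u) * w * a) * t⁻¹ * a⁻¹ := by rw [huw']; group
      _ = a * (t * u) * (a⁻¹ * w * a) * t⁻¹ * a⁻¹ := by rw [hau']; group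
      _ = (a * u) * (t * c * t⁻¹) * (t * w * t⁻¹) * a⁻¹ := by rw [htu, haw']; group
      _ = u * (a * (t * c * t⁻¹) * a⁻¹) * (a * (u * w) * a⁻¹) := by rw [hau, huw]; group
      _ = u * (t * c * t⁻¹) * ((a * u) * w * a⁻¹) := by
          have h1 : t * c * t⁻¹ ∈ V := (mem_normalizer_iff.mp (h.one.kq_le_normalizer h.z_mem h.z_ne ht) c).mp hcV
          rw [conj_eq_of_comm (h.one.V_comm h1 haV).symm]; group
      _ = u * (t * c * t⁻¹) * (u * (a * w * a⁻¹)) := by rw [hau]; group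
      _ = (t * c * t⁻¹) * (u * u) * (c * w) := by
          have h1 : t * c * t⁻¹ ∈ V := (mem_normalizer_iff.mp (h.one.kq_le_normalizer h.z_mem h.z_ne ht) c).mp hcV
          rw [haw, h.one.ln.comm huV h1]; group
      _ = (t * c * t⁻¹) * c * w := by rw [huu, mul_one]; group
  rw [e1]
  split_ifs with h1
  · rw [sg_eq_one, h.zp h.z_mem] at h1
    rcases h1 with e | e
    · rw [e]; simp
    · rw [e, conj_eq_of_comm htz, h.zz, one_mul]
  · rw [sg_eq_one, h.zp h.z_mem] at h1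
    push Not at h1
    rw [h.one.move h.z_mem h.z_ne hcV h1.1 h1.2 ht ht1, mul_assoc z c c, hcc, mul_one]

/-- `K_z ∩ C_G(V) = B_z {g_a | a ∈ W_y}` -/
theorem kq_rep [Finite G] (h : Std T V z) (hp : p ∈ V) (hp1 : p ≠ 1) (hpz : p ≠ z) {t k : G} (ht : t ∈ kq V z)
    (ht1 : t ∉ centralizer (V : Set G)) (hk : k ∈ kq V z) (hkV : k ∈ centralizer (V : Set G)) :
    ∃ a ∈ ws V p, ∃ b ∈ bz V z, k = b * (a * t * a⁻¹ * t⁻¹) := by
  classical
  have hVW := h.one.V_le h.z_mem h.z_ne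
  have ab := h.one.comm h.z_mem h.z_ne
  have sq := h.one.sq h.z_mem h.z_ne
  obtain ⟨n, hn, m, hm, hnV, hmV, hnmV, hg⟩ := exists_gn hVW h.one.ln.card_V h.card ab sq
  obtain ⟨a, ha, han, ham⟩ := h.surj h.z_mem h.z_ne hp hp1 hpz hn hm hg
    (if k * n * k⁻¹ = n then 1 else -1) (if k * m * k⁻¹ = m then 1 else -1)
  refine ⟨a, ha, k * (a * t * a⁻¹ * t⁻¹)⁻¹, ?_, by group⟩
  obtain ⟨hg1, hg2⟩ := h.ga_mem hp hp1 ht ha
  set g := a * t * a⁻¹ * t⁻¹ with hgdef
  have hgz := h.one.kq_p hg1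
  have hkz := h.one.kq_p hk
  have key : ∀ w ∈ ws V z, sg z ⁅a, w⁆ = (if k * w * k⁻¹ = w then 1 else -1) → k * g⁻¹ * w = w * (k * g⁻¹) := by
    intro w hw hs
    have h1 := h.ga_conj hp hp1 ht ht1 ha hw
    rw [← hgdef] at h1
    refine comm_of_conj_eq ?_
    have e : k * g⁻¹ * w * (k * g⁻¹)⁻¹ = k * (g⁻¹ * w * g) * k⁻¹ := by group
    rw [e]
    by_cases hkw : k * w * k⁻¹ = w
    · rw [if_pos hkw] at hs
      rw [if_pos hs] at h1
      have : g⁻¹ * w * g = w := by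
        calc g⁻¹ * w * g = g⁻¹ * (g * w * g⁻¹) * g := by rw [h1]
          _ = w := by group
      rw [this, hkw]
    · rw [if_neg hkw] at hs
      rw [if_neg (by rw [hs]; decide)] at h1
      have h2 : g⁻¹ * w * g = z * w := by
        have h3 : g⁻¹ * z = z * g⁻¹ := inv_comm_of hgz
        calc g⁻¹ * w * g = g⁻¹ * (z * (z * w)) * g := by rw [← mul_assoc z z w, h.zz, one_mul]
          _ = (g⁻¹ * z) * (g * w * g⁻¹) * g := by rw [h1]; group
          _ = z * w := by rw [h3]; group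
      have h3 : k * w * k⁻¹ = z * w := (h.one.kq_cases h.z_mem hk hw).resolve_left hkw
      calc k * (g⁻¹ * w * g) * k⁻¹ = (k * z) * w * k⁻¹ := by rw [h2]; group
        _ = z * (k * w * k⁻¹) := by rw [hkz]; group
        _ = w := by rw [h3, ← mul_assoc, h.zz, one_mul]
  have hle : ws V z ≤ centralizer ({k * g⁻¹} : Set G) := by
    refine hg _ (fun v hv => ?_) ?_ ?_
    · rw [mem_centralizer_singleton_iff]
      exact h.one.V_comm hv (mul_mem hkV (inv_mem hg2))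
    · rw [mem_centralizer_singleton_iff]; exact (key n hn han).symm
    · rw [mem_centralizer_singleton_iff]; exact (key m hm ham).symm
  rw [mem_bz]
  intro w hw
  exact (mem_centralizer_singleton_iff.mp (hle hw)).symm

/-- `C_{W_z}(K_z) = ⟨z⟩` -/
theorem cent_ws [Finite G] (h : Std T V z) {w : G} (hw : w ∈ ws V z) (hk : ∀ k ∈ kq V z, k * w = w * k) :
    w ∈ zpowers z := by
  by_contra hwz
  obtain ⟨g, hwL, hw1, hwz', hL, T', h'⟩ := h.line_of hw hwz
  obtain ⟨t, ht, ht1⟩ := h'.one.exists_mover h'.z_mem h'.z_ne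
  rw [kq_cj] at ht
  exact ht1 (h'.one.mem_centralizer_of h'.z_mem h'.z_ne hwL hw1 hwz' (h.one.kq_p ht) (hk t ht))

/-- every `k ∈ K_z` centralises a line on `z` -/
theorem exists_line [Finite G] (h : Std T V z) {k : G} (hk : k ∈ kq V z) :
    ∃ g p : G, p ∈ cj g V ∧ p ≠ 1 ∧ p ≠ z ∧ (∃ T', Std T' (cj g V) z) ∧ k ∈ centralizer (cj g V : Set G) := by
  have hVW := h.one.V_le h.z_mem h.z_ne
  have ab := h.one.comm h.z_mem h.z_ne
  have sq := h.one.sq h.z_mem h.z_ne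
  obtain ⟨n, hn, m, hm, hnV, hmV, hnmV, hg⟩ := exists_gn hVW h.one.ln.card_V h.card ab sq
  have hkz := h.one.kq_p hk
  obtain ⟨w, hw, hwV, hkw⟩ : ∃ w ∈ ws V z, w ∉ V ∧ k * w = w * k := by
    rcases h.one.kq_cases h.z_mem hk hn with e1 | e1
    · exact ⟨n, hn, hnV, comm_of_conj_eq e1⟩
    rcases h.one.kq_cases h.z_mem hk hm with e2 | e2
    · exact ⟨m, hm, hmV, comm_of_conj_eq e2⟩
    refine ⟨n * m, mul_mem hn hm, hnmV, comm_of_conj_eq ?_⟩
    calc k * (n * m) * k⁻¹ = (k * n * k⁻¹) * (k * m * k⁻¹) := by group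
      _ = (z * n) * (z * m) := by rw [e1, e2]
      _ = z * (n * z) * m := by group
      _ = z * (z * n) * m := by rw [ab n hn z (hVW h.z_mem)]
      _ = (z * z) * (n * m) := by group
      _ = n * m := by rw [h.zz, one_mul]
  obtain ⟨g, hwL, hw1, hwz', hL, T', h'⟩ := h.line_of hw (fun e => hwV (zpowers_le_of_mem h.z_mem e))
  exact ⟨g, w, hwL, hw1, hwz', ⟨T', h'⟩,
    h'.one.mem_centralizer_of h'.z_mem h'.z_ne hwL hw1 hwz' hkz hkw⟩

/-- `[B_z, K_z] ≤ ⟨z⟩` -/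
theorem bz_kq [Finite G] (h : Std T V z) {b k : G} (hb : b ∈ bz V z) (hk : k ∈ kq V z) :
    b * k * b⁻¹ * k⁻¹ ∈ zpowers z := by
  obtain ⟨g, p, hp, hp1, hpz, ⟨T', h'⟩, hkL⟩ := h.exists_line hk
  obtain ⟨t, ht, ht1⟩ := h'.one.exists_mover h'.z_mem h'.z_ne
  have hb' : b ∈ bz (cj g V) z := by rw [bz_cj]; exact hb
  have hk' : k ∈ kq (cj g V) z := by rw [kq_cj]; exact hk
  obtain ⟨a, ha, b', hb'', rfl⟩ := h'.kq_rep hp hp1 hpz ht ht1 hk' hkL
  obtain ⟨w, hw, e, he, rfl⟩ := h'.bz_eq hb'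
  obtain ⟨hg1, hg2⟩ := h'.ga_mem hp hp1 ht ha
  set x := a * t * a⁻¹ * t⁻¹ with hx
  -- `e` commutes with `x`
  have hex : e * x = x * e := by
    have h1 : e * a = a * e := mem_bz.mp (he p hp hp1) a ha
    have htp : t * p * t⁻¹ ∈ cj g V :=
      (mem_normalizer_iff.mp (h'.one.kq_le_normalizer h'.z_mem h'.z_ne ht) p).mp hp
    have h2 : e * (t * a⁻¹ * t⁻¹) = t * a⁻¹ * t⁻¹ * e :=
      mem_bz.mp (he _ htp (fun e => hp1 (conj_eq_one_iff.mp e))) _ (conj_mem_ws t (inv_mem ha))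
    have e1 : x = a * (t * a⁻¹ * t⁻¹) := by rw [hx]; group
    rw [e1]
    exact comm_mul_of h1 h2
  have hbb : w * e * b' = b' * (w * e) := h'.bz_ab hb' hb''
  have hb'z : b' * z = z * b' := mem_bz.mp hb'' z (h'.one.V_le h'.z_mem h'.z_ne h'.z_mem)
  have e1 : w * e * (b' * x) * (w * e)⁻¹ * (b' * x)⁻¹ = b' * (w * x * w⁻¹ * x⁻¹) * b'⁻¹ := by
    calc w * e * (b' * x) * (w * e)⁻¹ * (b' * x)⁻¹
        = (w * e * b') * x * e⁻¹ * w⁻¹ * x⁻¹ * b'⁻¹ := by group
      _ = b' * w * (e * x) * e⁻¹ * w⁻¹ * x⁻¹ * b'⁻¹ := by rw [hbb]; group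
      _ = b' * (w * x * w⁻¹ * x⁻¹) * b'⁻¹ := by rw [hex]; group
  rw [e1]
  have h3 : w * x * w⁻¹ * x⁻¹ ∈ zpowers z := by
    have := inv_mem (kq_comm hg1 hw)
    have e : (x * w * x⁻¹ * w⁻¹)⁻¹ = w * x * w⁻¹ * x⁻¹ := by group
    rwa [e] at this
  rw [conj_zpowers (mem_centralizer_singleton_iff.mpr hb'z) h3]
  exact h3

/-- `C_{B_z}(K_z) ≤ D_l` -/
theorem uz_le [Finite G] (h : Std T V z) {u : G} (hu : u ∈ bz V z) (hk : ∀ k ∈ kq V z, k * u = u * k) :
    u ∈ dl V := by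
  obtain ⟨w, hw, e, he, rfl⟩ := h.bz_eq hu
  obtain ⟨y, hy, hy1, hyz⟩ := h.one.ln.exists_y
  obtain ⟨t, ht, ht1⟩ := h.one.exists_mover h.z_mem h.z_ne
  refine mul_mem (h.V_le_dl ?_) he
  refine h.left h.z_mem h.z_ne hy hy1 hyz hw fun a ha => ?_
  have haV := h.one.ws_le_centralizer_V hy hy1 ha
  have haz := h.one.cent_le_centralizer h.z_mem haV
  have hv : ⁅w, a⁆ ∈ V := h.comm_mem h.z_mem h.z_ne hy hy1 hw ha
  rw [← h.one.comm_swap h.z_mem h.z_ne hy hy1 hw ha] at *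
  set v := ⁅a, w⁆ with hvdef
  have hvV : v ∈ V := h.comm_mem hy hy1 h.z_mem h.z_ne ha hw
  have hwa : w * a * w⁻¹ = v * a := by
    rw [hvdef, h.one.comm_swap h.z_mem h.z_ne hy hy1 hw ha, commutatorElement_def]; group
  have hea : e * a = a * e := mem_bz.mp (he y hy hy1) a ha
  have hua : w * e * a * (w * e)⁻¹ = v * a := by
    calc w * e * a * (w * e)⁻¹ = w * (e * a) * e⁻¹ * w⁻¹ := by group
      _ = w * a * w⁻¹ := by rw [hea]; group
      _ = v * a := hwa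
  have ht' : a * t * a⁻¹ ∈ kq V z := conj_mem_of_normalizer (centralizer_le_normalizer_kq V z) haz ht
  have h1 := hk _ ht'
  have h2 := hk _ ht
  set u := w * e with hudef
  have h3 : u * (a * t * a⁻¹) * u⁻¹ = a * t * a⁻¹ := conj_eq_of_comm h1.symm
  have h4 : u * (a * t * a⁻¹) * u⁻¹ = v * (a * t * a⁻¹) * v⁻¹ := by
    have h5 : u * t * u⁻¹ = t := conj_eq_of_comm h2.symm
    calc u * (a * t * a⁻¹) * u⁻¹ = (u * a * u⁻¹) * (u * t * u⁻¹) * (u * a * u⁻¹)⁻¹ := by group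
      _ = v * (a * t * a⁻¹) * v⁻¹ := by rw [hua, h5]; group
  have h5 : v * (a * t * a⁻¹) = a * t * a⁻¹ * v := comm_of_conj_eq (h4.symm.trans h3)
  by_contra hvz
  rw [h.zp h.z_mem] at hvz
  push Not at hvz
  have ht1' : a * t * a⁻¹ ∉ centralizer (V : Set G) := by
    intro hc
    apply ht1
    have := mul_mem (mul_mem (inv_mem haV) hc) haV
    have e : a⁻¹ * (a * t * a⁻¹) * a = t := by group
    rwa [e] at this
  have h6 := h.one.move h.z_mem h.z_ne hvV hvz.1 hvz.2 ht' ht1'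
  rw [conj_eq_of_comm h5.symm] at h6
  exact h.z_ne (by simpa using h6.symm)

end Std

end Cfsg.Agent.Omega.NO3S.TwoOne

end
end

-- part: Mrg/Omega/NO3S/TwoOne/DRel
section
section


/-!
# NO-3S, `q = 2`, `n = 1`: relations between the `D_x` of two lines (helper881's text #17145, (3.0)-(3.3))

`h : One T V z`, `L` another line on `z`.  `D_p = dd V p`, `E_p = ee V p`, `I = ii V`.

* `One.mem_ii_of_move` (3.0) : `g` moves `p ∈ V` to `z p`: `W_p ∩ C(g) ≤ I`;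
* `Spr V L z y q e g` : `y ∈ V`, `q ∈ L`, `e ∈ E_q` (of `L`) moves `y` to `z y`, `g` moves `q` to `z q` and centralises the
  `D_p`, `p ∈ V#` (e.g. `g ∈ F_l = W_z W_y W_s`); in particular `Spr.of_ee` : a symmetric pair;
* `Spr.mem_ii` (3.1) : `d d^e ∈ I_L` for `d ∈ D_y`; `Spr.mem_dd` : it lies in `D_z`;
* (3.2) `Spr.inj`, `Spr.surj`, `Spr.exists_mul` : `D_z = I (D_z ∩ I_L)`;
  `Spr.triv` : `K_p ∩ C_G(V)` centralises `D_q / I` for all points `p`, `q`;
  `Spr.mul_mem_dd` : `d d^k ∈ D_p` for all points `p ≠ q`, `d ∈ D_q`, movers `k ∈ K_p`;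
  `Spr.theta` : `d d^k = d^t` modulo `I` for `d ∈ D_q`, movers `k ∈ K_p`, `t ∈ K_{pq}` : `D_x D_y D_s / I = Δ ⊗ 2`;
* (3.3) `One.dd_le_ii` : `D_y ≤ W_z D_q D_{zq}` implies `D_y = I`.
-/

set_option autoImplicit false
set_option linter.unusedSectionVars false

namespace Cfsg.Agent.Omega.NO3S.TwoOne

open Subgroup Cfsg Cfsg.Agent.ZN Cfsg.Agent.MinSimple.Geo Cfsg.Agent.Omega.CaseL
open Cfsg.Agent.ZN.Block (conj_mem_of_normalizer conj_mem_of_normalizer' le_normalizer_of_forall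
  mem_normalizer_of)

universe u

variable {G : Type u} [Group G]

namespace One

variable {T V : Subgroup G} {z : G} {p q r : G}

/-- (3.0) -/
theorem mem_ii_of_move (h : One T V z) (hp : p ∈ V) (hp1 : p ≠ 1) (hq : q ∈ V) (hq1 : q ≠ 1) (hqp : q ≠ p)
    {g w : G} (hg : g * p * g⁻¹ = q * p) (hw : w ∈ ws V p) (hc : w * g = g * w) : w ∈ ii V := by
  have h1 := conj_mem_ws g hw
  rw [conj_eq_of_comm hc.symm, hg] at h1
  refine h.mem_ii hp hp1 (mul_mem hq hp) (h.mul_ne_one hp hqp) ?_ hw h1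
  intro e
  exact hq1 (by simpa using e)

/-- the elements of all `D_p` commute -/
theorem dd_comm (_ : One T V z) (hq : q ∈ V) (hq1 : q ≠ 1) {a b : G} (ha : a ∈ dd V p)
    (hb : b ∈ dd V q) : a * b = b * a := ha.2 q hq hq1 b hb.1

theorem dd_sq (h : One T V z) (hp : p ∈ V) (hp1 : p ≠ 1) {a : G} (ha : a ∈ dd V p) : a * a = 1 :=
  h.sq hp hp1 a ha.1

theorem dd_inf (h : One T V z) (hp : p ∈ V) (hp1 : p ≠ 1) (hq : q ∈ V) (hq1 : q ≠ 1) (hqp : q ≠ p) {a : G}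
    (ha : a ∈ dd V p) (ha' : a ∈ dd V q) : a ∈ ii V := h.mem_ii hp hp1 hq hq1 hqp ha.1 ha'.1

theorem kq_line {L : Subgroup G} (hL : L ∈ lines V z) (x : G) : kq L x = kq V x := by
  obtain ⟨⟨g, rfl⟩, -⟩ := hL
  exact kq_cj V g x

theorem ws_line {L : Subgroup G} (hL : L ∈ lines V z) (x : G) : ws L x = ws V x := by
  obtain ⟨⟨g, rfl⟩, -⟩ := hL
  exact ws_cj V g x

end One

/-- (3.1), the hypotheses: `y` is a point of `V`, `q` a point of `L`, `e ∈ E_q` moves `y`, `g` moves `q` and centralises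
the `D_p`, `p ∈ V#` -/
structure Spr (V L : Subgroup G) (z y q e g : G) : Prop where
  line : L ∈ lines V z
  hy : y ∈ V
  hy1 : y ≠ 1
  hyz : y ≠ z
  hq : q ∈ L
  hq1 : q ≠ 1
  hqz : q ≠ z
  he : e ∈ ee L q
  ey : e * y * e⁻¹ = z * y
  hg : ∀ p ∈ V, p ≠ 1 → ∀ c ∈ dd V p, c * g = g * c
  gq : g * q * g⁻¹ = z * q

namespace Spr

/-- a symmetric pair -/
theorem of_ee {V L : Subgroup G} {z y q e g y' : G} (hL : L ∈ lines V z) (hy : y ∈ V)
    (hy1 : y ≠ 1) (hyz : y ≠ z) (hq : q ∈ L) (hq1 : q ≠ 1) (hqz : q ≠ z) (he : e ∈ ee L q)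
    (ey : e * y * e⁻¹ = z * y) (hy' : y' ∈ V) (hy1' : y' ≠ 1) (hg : g ∈ ws V y') (gq : g * q * g⁻¹ = z * q) :
    Spr V L z y q e g :=
  ⟨hL, hy, hy1, hyz, hq, hq1, hqz, he, ey, fun _ _ _ _ hc => hc.2 y' hy' hy1' g hg, gq⟩

variable {T V L : Subgroup G} {z y q e g : G} (S : Spr V L z y q e g) (h : One T V z)
include S h

theorem e_kq : e ∈ kq V z := by
  rw [← One.kq_line S.line]
  exact S.he.2 z S.line.2 h.ln.z_ne

theorem e_norm : e ∈ normalizer (V : Set G) := h.kq_le_normalizer h.ln.z_mem h.ln.z_ne (S.e_kq h)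

theorem e_z : e * z * e⁻¹ = z := conj_eq_of_comm (h.kq_p (S.e_kq h))

theorem e_move : e ∉ centralizer (V : Set G) := fun hc => by
  have h1 : e * y * e⁻¹ = y := conj_eq_of_comm (h.V_comm S.hy hc).symm
  rw [S.ey] at h1
  exact h.ln.z_ne (by simpa using h1)

theorem hs : z * y ∈ V := mul_mem h.ln.z_mem S.hy

theorem hs1 : z * y ≠ 1 := h.mul_ne_one S.hy (Ne.symm S.hyz)

theorem hsz : z * y ≠ z := fun e' => S.hy1 (by simpa using e')

theorem hsy : z * y ≠ y := fun e' => h.ln.z_ne (by simpa using e')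

theorem conj_dd {d : G} (hd : d ∈ dd V y) : e * d * e⁻¹ ∈ dd V (z * y) := by
  have := conj_mem_dd (S.e_norm h) hd
  rwa [S.ey] at this

/-- (3.1) `d d^e ∈ I_L` -/
theorem mem_ii {d : G} (hd : d ∈ dd V y) : d * (e * d * e⁻¹) ∈ ii L := by
  obtain ⟨k, -, T', h'⟩ := h.of_line S.line h.ln.z_ne
  have hdd := h.dd_sq S.hy S.hy1 hd
  have hdi : d⁻¹ = d := inv_eq_self hdd
  have hLz : L ≤ ws V z := le_ws S.line
  have hdL : d ∈ centralizer (L : Set G) := by
    rw [mem_centralizer_iff]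
    intro v hv
    exact (hd.2 z h.ln.z_mem h.ln.z_ne v (hLz hv)).symm
  have heq : e ∈ ws L q := S.he.1
  have h1 : d * (e * d * e⁻¹) ∈ ws L q := by
    have e1 : d * (e * d * e⁻¹) = (d * e * d⁻¹) * e⁻¹ := by rw [hdi]; group
    rw [e1]
    exact mul_mem (conj_mem_of_normalizer (h'.cent_norm S.hq) hdL heq) (inv_mem heq)
  have h2 : d * (e * d * e⁻¹) * g = g * (d * (e * d * e⁻¹)) :=
    mul_comm_of (S.hg y S.hy S.hy1 d hd) (S.hg _ (S.hs h) (S.hs1 h) _ (S.conj_dd h hd))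
  exact h'.mem_ii_of_move S.hq S.hq1 S.line.2 h.ln.z_ne (Ne.symm S.hqz) S.gq h1 h2

/-- `d d^e ∈ D_z` -/
theorem mem_dd {d : G} (hd : d ∈ dd V y) : d * (e * d * e⁻¹) ∈ dd V z := by
  refine ⟨?_, fun r hr hr1 b hb => ?_⟩
  · have h1 := S.mem_ii h hd z S.line.2 h.ln.z_ne
    rwa [One.ws_line S.line] at h1
  · exact mul_comm_of (hd.2 r hr hr1 b hb) ((S.conj_dd h hd).2 r hr hr1 b hb)

/-- `d ↦ d d^e` is a homomorphism -/
theorem mul_conj {d d' : G} (hd : d ∈ dd V y) (hd' : d' ∈ dd V y) :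
    (d * d') * (e * (d * d') * e⁻¹) = d * (e * d * e⁻¹) * (d' * (e * d' * e⁻¹)) := by
  have h1 := h.dd_comm (S.hs h) (S.hs1 h) hd' (S.conj_dd h hd)
  calc (d * d') * (e * (d * d') * e⁻¹) = d * (d' * (e * d * e⁻¹)) * (e * d' * e⁻¹) := by group
    _ = d * ((e * d * e⁻¹) * d') * (e * d' * e⁻¹) := by rw [h1]
    _ = d * (e * d * e⁻¹) * (d' * (e * d' * e⁻¹)) := by group

/-- (3.2) `d ↦ d d^e` is injective modulo `I` -/
theorem inj {d : G} (hd : d ∈ dd V y) (h1 : d * (e * d * e⁻¹) ∈ ii V) : d ∈ ii V := by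
  have h2 := S.conj_dd h hd
  have h3 := h.ii_le_dd (S.hs h) (S.hs1 h) h1
  have h4 : d ∈ dd V (z * y) := by
    have := mul_mem h3 (inv_mem h2)
    rwa [mul_inv_cancel_right] at this
  exact h.dd_inf S.hy S.hy1 (S.hs h) (S.hs1 h) (S.hsy h) hd h4

/-- `d ∈ I` implies `d d^e ∈ ⟨z⟩` -/
theorem ii_mem {d : G} (hd : d ∈ ii V) : d * (e * d * e⁻¹) = 1 ∨ d * (e * d * e⁻¹) = z := by
  have hdd : d * d = 1 := h.sqz d (hd z h.ln.z_mem h.ln.z_ne)
  have hzd : d * z = z * d := h.comm h.ln.z_mem h.ln.z_ne d (hd z h.ln.z_mem h.ln.z_ne) z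
    (h.V_le h.ln.z_mem h.ln.z_ne h.ln.z_mem)
  rcases h.kq_cases h.ln.z_mem (S.e_kq h) (hd z h.ln.z_mem h.ln.z_ne) with e1 | e1
  · left; rw [e1, hdd]
  · right
    rw [e1]
    calc d * (z * d) = (d * z) * d := by group
      _ = z * (d * d) := by rw [hzd]; group
      _ = z := by rw [hdd, mul_one]

/-- (3.2) `d ↦ d d^e` maps `D_y / I` onto `D_z / I` -/
theorem surj [Finite G] {c : G} (hc : c ∈ dd V z) : ∃ d ∈ dd V y, c * (d * (e * d * e⁻¹))⁻¹ ∈ ii V := by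
  classical
  have hz := h.ln.z_mem
  have hz1 := h.ln.z_ne
  -- the homomorphism
  have hIz : ii V ≤ dd V z := h.ii_le_dd hz hz1
  have hIy : ii V ≤ dd V y := h.ii_le_dd S.hy S.hy1
  have hn : ((ii V).subgroupOf (dd V z)).Normal := by
    refine ⟨fun a ha b => ?_⟩
    rw [mem_subgroupOf] at ha ⊢
    change (b : G) * a * (b : G)⁻¹ ∈ ii V
    rw [conj_eq_of_comm (h.dd_comm hz hz1 b.2 a.2)]
    exact ha
  let f : dd V y →* dd V z ⧸ (ii V).subgroupOf (dd V z) :=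
    (QuotientGroup.mk' _).comp
      { toFun := fun d => ⟨(d : G) * (e * d * e⁻¹), S.mem_dd h d.2⟩
        map_one' := Subtype.ext (by simp)
        map_mul' := fun a b => Subtype.ext (S.mul_conj h a.2 b.2) }
  have hker : f.ker = (ii V).subgroupOf (dd V y) := by
    ext d
    rw [MonoidHom.mem_ker, mem_subgroupOf]
    change (QuotientGroup.mk' _ _ = 1) ↔ _
    rw [QuotientGroup.mk'_apply, QuotientGroup.eq_one_iff, mem_subgroupOf]
    constructor
    · intro hd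
      exact S.inj h d.2 hd
    · intro hd
      change (d : G) * (e * d * e⁻¹) ∈ ii V
      rcases S.ii_mem h hd with e1 | e1
      · rw [e1]; exact one_mem _
      · rw [e1]; exact h.V_le_ii hz
  -- cardinalities
  have hcard : Nat.card (dd V y) = Nat.card (dd V z) := by
    obtain ⟨k, hk, hky⟩ := h.ln.trans y S.hy S.hy1
    have hle : ∀ {g p : G}, g ∈ normalizer (V : Set G) → cj g (dd V p) ≤ dd V (g * p * g⁻¹) := by
      intro g p hg x hx
      have := conj_mem_dd hg (mem_cj.mp hx)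
      have e1 : g * (g⁻¹ * x * g) * g⁻¹ = x := by group
      rwa [e1] at this
    have h1 : Nat.card (dd V z) ≤ Nat.card (dd V y) := by
      rw [← card_cj k (dd V z), ← hky]
      exact Nat.card_le_card_of_injective _ (inclusion_injective (hle hk))
    have h2 : Nat.card (dd V y) ≤ Nat.card (dd V z) := by
      rw [← card_cj k⁻¹ (dd V y)]
      have h3 := hle (p := y) (inv_mem hk)
      have e1 : k⁻¹ * y * k⁻¹⁻¹ = z := by rw [← hky]; group
      rw [e1] at h3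
      exact Nat.card_le_card_of_injective _ (inclusion_injective h3)
    omega
  have hrange : f.range = ⊤ := by
    have h1 : Nat.card f.range * Nat.card (ii V) = Nat.card (dd V y) := by
      have h2 : f.ker.index = Nat.card f.range := Subgroup.index_ker f
      rw [← h2, hker]
      have h3 : Nat.card ((ii V).subgroupOf (dd V y)) = Nat.card (ii V) :=
        Nat.card_congr (subgroupOfEquivOfLe hIy).toEquiv
      rw [← h3, mul_comm]
      exact card_mul_index _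
    have h4 : Nat.card (dd V z ⧸ (ii V).subgroupOf (dd V z)) * Nat.card (ii V) = Nat.card (dd V z) := by
      have h3 : Nat.card ((ii V).subgroupOf (dd V z)) = Nat.card (ii V) :=
        Nat.card_congr (subgroupOfEquivOfLe hIz).toEquiv
      rw [← h3, mul_comm]
      exact card_mul_index _
    apply Subgroup.eq_top_of_card_eq
    have hpos : 0 < Nat.card (ii V) := Nat.card_pos
    have h5 : Nat.card f.range * Nat.card (ii V) =
        Nat.card (dd V z ⧸ (ii V).subgroupOf (dd V z)) * Nat.card (ii V) := by rw [h1, h4, hcard]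
    exact Nat.eq_of_mul_eq_mul_right hpos h5
  obtain ⟨d, hd⟩ := MonoidHom.range_eq_top.mp hrange (QuotientGroup.mk' _ ⟨c, hc⟩)
  refine ⟨d, d.2, ?_⟩
  have h6 : (QuotientGroup.mk (⟨(d : G) * (e * d * e⁻¹), S.mem_dd h d.2⟩ : dd V z) :
      dd V z ⧸ (ii V).subgroupOf (dd V z)) = QuotientGroup.mk ⟨c, hc⟩ := hd
  rw [QuotientGroup.eq, mem_subgroupOf] at h6
  have h7 : (d * (e * d * e⁻¹))⁻¹ * c ∈ ii V := h6
  have h8 : c * (d * (e * d * e⁻¹))⁻¹ = (d * (e * d * e⁻¹))⁻¹ * c :=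
    h.dd_comm hz hz1 hc (inv_mem (S.mem_dd h d.2))
  rw [h8]; exact h7

/-- (3.2) `D_z = I (D_z ∩ I_L)` -/
theorem exists_mul [Finite G] {c : G} (hc : c ∈ dd V z) : ∃ i ∈ ii V, ∃ j ∈ ii L, j ∈ dd V z ∧ c = i * j := by
  obtain ⟨d, hd, h1⟩ := S.surj h hc
  exact ⟨_, h1, _, S.mem_ii h hd, S.mem_dd h hd, by group⟩

/-- `K_z ∩ C_G(V)` centralises `D_y / I` -/
theorem triv_aux {k d : G} (hk : k ∈ kq V z) (hkV : k ∈ centralizer (V : Set G)) (hd : d ∈ dd V y) :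
    k * d * k⁻¹ * d⁻¹ ∈ ii V := by
  have hz := h.ln.z_mem
  have hz1 := h.ln.z_ne
  have hkn : k ∈ normalizer (V : Set G) := centralizer_le_normalizer _ hkV
  have hky : k * y * k⁻¹ = y := conj_eq_of_comm (h.V_comm S.hy hkV).symm
  have hks : k * (z * y) * k⁻¹ = z * y := conj_eq_of_comm (h.V_comm (S.hs h) hkV).symm
  have hdk : k * d * k⁻¹ ∈ dd V y := by
    have := conj_mem_dd hkn hd
    rwa [hky] at this
  set f := e * d * e⁻¹ with hf
  have hfs : f ∈ dd V (z * y) := S.conj_dd h hd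
  have hfk : k * f * k⁻¹ ∈ dd V (z * y) := by
    have := conj_mem_dd hkn hfs
    rwa [hks] at this
  -- `c = [k, d]`, `c' = [k, f]`, `c c' ∈ ⟨z⟩`
  have hc : k * d * k⁻¹ * d⁻¹ ∈ dd V y := mul_mem hdk (inv_mem hd)
  have hc' : k * f * k⁻¹ * f⁻¹ ∈ dd V (z * y) := mul_mem hfk (inv_mem hfs)
  have hdf := h.dd_comm (S.hs h) (S.hs1 h) hd hfs
  have h1 : k * (d * f) * k⁻¹ = d * f ∨ k * (d * f) * k⁻¹ = z * (d * f) :=
    h.kq_cases hz hk (S.mem_dd h hd).1
  have h2 : k * (d * f) * k⁻¹ * (d * f)⁻¹ = (k * d * k⁻¹ * d⁻¹) * (k * f * k⁻¹ * f⁻¹) := by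
    have h3 := h.dd_comm (S.hs h) (S.hs1 h) (inv_mem hd) hfk
    calc k * (d * f) * k⁻¹ * (d * f)⁻¹ = (k * d * k⁻¹) * ((k * f * k⁻¹) * (d * f)⁻¹) := by group
      _ = (k * d * k⁻¹) * ((k * f * k⁻¹) * (f * d)⁻¹) := by rw [hdf]
      _ = (k * d * k⁻¹) * ((k * f * k⁻¹) * d⁻¹ * f⁻¹) := by rw [mul_inv_rev]; group
      _ = (k * d * k⁻¹) * ((d⁻¹ * (k * f * k⁻¹)) * f⁻¹) := by rw [h3]
      _ = (k * d * k⁻¹ * d⁻¹) * (k * f * k⁻¹ * f⁻¹) := by group
  have h4 : (k * d * k⁻¹ * d⁻¹) * (k * f * k⁻¹ * f⁻¹) ∈ V := by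
    rw [← h2]
    rcases h1 with e1 | e1
    · rw [e1, mul_inv_cancel]; exact one_mem _
    · rw [e1, mul_inv_cancel_right]; exact hz
  have h5 : k * d * k⁻¹ * d⁻¹ ∈ dd V (z * y) := by
    have := mul_mem (h.V_le_dd (S.hs h) (S.hs1 h) h4) (inv_mem hc')
    rwa [mul_inv_cancel_right] at this
  exact h.dd_inf S.hy S.hy1 (S.hs h) (S.hs1 h) (S.hsy h) hc h5

/-- (3.2) `K_p ∩ C_G(V)` centralises `D_r / I` for all points `p`, `r` of `V` -/
theorem triv {p r k d : G} (hp : p ∈ V) (hp1 : p ≠ 1) (hr : r ∈ V) (hr1 : r ≠ 1) (hk : k ∈ kq V p)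
    (hkV : k ∈ centralizer (V : Set G)) (hd : d ∈ dd V r) : k * d * k⁻¹ * d⁻¹ ∈ ii V := by
  have hz := h.ln.z_mem
  have hz1 := h.ln.z_ne
  by_cases hpr : r = p
  · subst hpr
    rcases h.kq_cases hr hk hd.1 with e1 | e1
    · rw [e1, mul_inv_cancel]; exact one_mem _
    · rw [e1, mul_inv_cancel_right]; exact h.V_le_ii hr
  -- conjugate `(p, r)` to `(z, y)`
  obtain ⟨g, hg, hgp, hgr⟩ := h.xl_trans₂ hp hp1 hr hr1 hpr hz hz1 S.hy S.hy1 S.hyz
  have hgn := h.xl_le_normalizer hg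
  have hk' := conj_mem_kq g hk
  have hd' := conj_mem_dd hgn hd
  rw [hgp] at hk'
  rw [hgr] at hd'
  have hkV' : g * k * g⁻¹ ∈ centralizer (V : Set G) :=
    conj_mem_of_normalizer (normalizer_le_normalizer_centralizer V) hgn hkV
  have h1 := S.triv_aux h hk' hkV' hd'
  have h2 := conj_mem_of_normalizer' (normalizer_le_normalizer_ii V) hgn h1
  have e1 : g⁻¹ * (g * k * g⁻¹ * (g * d * g⁻¹) * (g * k * g⁻¹)⁻¹ * (g * d * g⁻¹)⁻¹) * g =
      k * d * k⁻¹ * d⁻¹ := by group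
  rwa [e1] at h2

/-- `d d^k ∈ D_z` for every mover `k ∈ K_z` -/
theorem mul_mem_aux {k d : G} (hk : k ∈ kq V z) (hk1 : k ∉ centralizer (V : Set G)) (hd : d ∈ dd V y) :
    d * (k * d * k⁻¹) ∈ dd V z := by
  have hz := h.ln.z_mem
  have hz1 := h.ln.z_ne
  -- `k = c e`, `c ∈ K_z ∩ C_G(V)`
  have hc1 : k * e⁻¹ ∈ centralizer (V : Set G) := h.mover_coset hz hz1 (S.e_kq h) (S.e_move h) hk hk1
  have hc2 : k * e⁻¹ ∈ kq V z := mul_mem hk (inv_mem (S.e_kq h))
  have h1 := S.triv h hz hz1 (S.hs h) (S.hs1 h) hc2 hc1 (S.conj_dd h hd)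
  set f := e * d * e⁻¹ with hf
  have e1 : k * d * k⁻¹ = ((k * e⁻¹) * f * (k * e⁻¹)⁻¹ * f⁻¹) * f := by rw [hf]; group
  rw [e1]
  have h2 := h.dd_comm S.hy S.hy1 (h.ii_le_dd hz hz1 h1) hd
  have e2 : d * (((k * e⁻¹) * f * (k * e⁻¹)⁻¹ * f⁻¹) * f) =
      ((k * e⁻¹) * f * (k * e⁻¹)⁻¹ * f⁻¹) * (d * f) := by
    rw [← mul_assoc, ← h2, mul_assoc]
  rw [e2]
  exact mul_mem (h.ii_le_dd hz hz1 h1) (S.mem_dd h hd)

/-- (3.2) `d d^k ∈ D_p` for all points `p ≠ r` of `V`, `d ∈ D_r`, movers `k ∈ K_p` -/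
theorem mul_mem_dd {p r k d : G} (hp : p ∈ V) (hp1 : p ≠ 1) (hr : r ∈ V) (hr1 : r ≠ 1) (hrp : r ≠ p)
    (hk : k ∈ kq V p) (hk1 : k ∉ centralizer (V : Set G)) (hd : d ∈ dd V r) :
    d * (k * d * k⁻¹) ∈ dd V p := by
  have hz := h.ln.z_mem
  have hz1 := h.ln.z_ne
  obtain ⟨g, hg, hgp, hgr⟩ := h.xl_trans₂ hp hp1 hr hr1 hrp hz hz1 S.hy S.hy1 S.hyz
  have hgn := h.xl_le_normalizer hg
  have hk' := conj_mem_kq g hk
  have hd' := conj_mem_dd hgn hd
  rw [hgp] at hk'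
  rw [hgr] at hd'
  have hk1' : g * k * g⁻¹ ∉ centralizer (V : Set G) := fun hc => by
    have := conj_mem_of_normalizer' (normalizer_le_normalizer_centralizer V) hgn hc
    have e1 : g⁻¹ * (g * k * g⁻¹) * g = k := by group
    rw [e1] at this
    exact hk1 this
  have h1 := S.mul_mem_aux h hk' hk1' hd'
  have h2 := conj_mem_dd (inv_mem hgn) h1
  have e1 : g⁻¹ * (g * d * g⁻¹ * (g * k * g⁻¹ * (g * d * g⁻¹) * (g * k * g⁻¹)⁻¹)) * g⁻¹⁻¹ =
      d * (k * d * k⁻¹) := by group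
  have e2 : g⁻¹ * z * g⁻¹⁻¹ = p := by rw [← hgp]; group
  rwa [e1, e2] at h2

/-- (3.2) `d d^k = d^t` modulo `I` for `d ∈ D_r`, movers `k ∈ K_p`, `t ∈ K_{pr}` -/
theorem theta {p r k t d : G} (hp : p ∈ V) (hp1 : p ≠ 1) (hr : r ∈ V) (hr1 : r ≠ 1) (hrp : r ≠ p)
    (hk : k ∈ kq V p) (hk1 : k ∉ centralizer (V : Set G)) (ht : t ∈ kq V (p * r))
    (ht1 : t ∉ centralizer (V : Set G)) (hd : d ∈ dd V r) :
    d * (k * d * k⁻¹) * (t * d * t⁻¹)⁻¹ ∈ ii V := by
  have hs : p * r ∈ V := mul_mem hp hr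
  have hs1 : p * r ≠ 1 := h.mul_ne_one hr (Ne.symm hrp)
  have hrs : r ≠ p * r := fun e' => hp1 (by simpa using e'.symm)
  have hps : p ≠ p * r := fun e' => hr1 (by simpa using e'.symm)
  have hpr := h.ln.comm hp hr
  have hpp := h.ln.sq p hp
  have hrr := h.ln.sq r hr
  have htn := h.kq_le_normalizer hs hs1 ht
  have hkn := h.kq_le_normalizer hp hp1 hk
  -- `t` swaps `p` and `r`
  have htp : t * p * t⁻¹ = r := by
    rw [h.move hs hs1 hp hp1 hps ht ht1, hpr, mul_assoc, hpp, mul_one]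
  have htr : t * r * t⁻¹ = p := by
    rw [h.move hs hs1 hr hr1 hrs ht ht1, mul_assoc, hrr, mul_one]
  have hkr : k * r * k⁻¹ = p * r := h.move hp hp1 hr hr1 hrp hk hk1
  have ha1 : t * d * t⁻¹ ∈ dd V p := by
    have := conj_mem_dd htn hd
    rwa [htr] at this
  have ha2 : k * d * k⁻¹ ∈ dd V (p * r) := by
    have := conj_mem_dd hkn hd
    rwa [hkr] at this
  set a1 := t * d * t⁻¹ with ha1'
  set a2 := k * d * k⁻¹ with ha2'
  have hC : d * a2 ∈ dd V p := S.mul_mem_dd h hp hp1 hr hr1 hrp hk hk1 hd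
  have hCt : t * (d * a2) * t⁻¹ ∈ dd V r := by
    have := conj_mem_dd htn hC
    rwa [htp] at this
  have e1 : t * (d * a2) * t⁻¹ = a1 * (t * a2 * t⁻¹) := by rw [ha1']; group
  -- `a1 a2 ∈ D_r`
  have h1 : a1 * a2 ∈ dd V r := by
    rcases h.kq_cases hs ht ha2.1 with e2 | e2
    · rw [e1, e2] at hCt; exact hCt
    · rw [e1, e2] at hCt
      have h3 : a1 * (p * r * a2) = (p * r) * (a1 * a2) := by
        have h4 : a1 * (p * r) = (p * r) * a1 :=
          ha1.2 _ hs hs1 _ (h.V_le hs hs1 hs)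
        rw [← mul_assoc, h4, mul_assoc]
      rw [h3] at hCt
      have h5 := mul_mem (h.V_le_dd hr hr1 (inv_mem hs)) hCt
      rwa [inv_mul_cancel_left] at h5
  -- `d a2 a1⁻¹ = d (a1 a2)⁻¹` : in `D_p ∩ D_r`
  have h6 : a2 * a2 = 1 := h.dd_sq hs hs1 ha2
  have h7 : a1 * a2 = a2 * a1 := h.dd_comm hs hs1 ha1 ha2
  have h8 : d * a2 * a1⁻¹ = d * (a1 * a2)⁻¹ := by
    have h9 : (a1 * a2)⁻¹ = a2 * a1⁻¹ := by
      calc (a1 * a2)⁻¹ = a2⁻¹ * a1⁻¹ := _root_.mul_inv_rev a1 a2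
        _ = a2 * a1⁻¹ := by rw [inv_eq_self h6]
    rw [h9, mul_assoc]
  refine h.dd_inf hp hp1 hr hr1 hrp (mul_mem hC (inv_mem ha1)) ?_
  rw [h8]
  exact mul_mem hd (inv_mem h1)

end Spr

namespace One

variable {T V L : Subgroup G} {z y q e : G}

end One

end Cfsg.Agent.Omega.NO3S.TwoOne

end

section


/-!
# NO-3S, `q = 2`, `n = 1`: THEOREM ALPHA (helper881's texts #17145, section 2, and #18307, section 2)

`h : One T V z`, `hN : NT V` (no `λ`-transvections), `S : Spr V L z y q e g`, `u ∈ I_V ∩ I_L`, `u ∉ V`: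
* `Spr.alpha` : `V ≤ O₂(C_G(u))`;
* `nu u z = ⟨z^{C_G(u)}⟩`; `One.V_le_nu`, `Spr.nu_le`, `Spr.nu_comm` (2.1): `[N ∩ W_p, N ∩ W_r] ≤ ⟨u⟩`, `N = nu u z`;
* `m0 V x = C_{W_x}(K_x)`; `One.exists_mover_cent` : movers of `K_p` which centralise `u`.
-/

set_option autoImplicit false
set_option linter.unusedSectionVars false

namespace Cfsg.Agent.Omega.NO3S.TwoOne

open Subgroup Cfsg Cfsg.Agent.ZN Cfsg.Agent.MinSimple.Geo Cfsg.Agent.Omega.CaseL
open Cfsg.Agent.ZN.Block (conj_mem_of_normalizer conj_mem_of_normalizer' le_normalizer_of_forall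
  mem_normalizer_of)
open scoped commutatorElement

universe u

variable {G : Type u} [Group G]

/-! ### a growing normaliser -/

/-- `A` normalised by `B`, `A`, `B` 2-groups, `R₀ < A ⊔ B`: some element of `A ⊔ B` outside `R₀` normalises `R₀` -/
theorem exists_norm_of_lt [Finite G] {A R₀ : Subgroup G} (hA : IsPGroup 2 A) (hle : R₀ ≤ A) (hne : ¬ A ≤ R₀) :
    ∃ x ∈ A, x ∉ R₀ ∧ x ∈ normalizer (R₀ : Set G) := by
  have : Fact (Nat.Prime 2) := ⟨Nat.prime_two⟩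
  have hlt : R₀.subgroupOf A < ⊤ := by
    refine lt_of_le_of_ne le_top fun e => hne ?_
    exact subgroupOf_eq_top.mp e
  have : Group.IsNilpotent A := hA.isNilpotent
  have h1 := Group.normalizerCondition_of_isNilpotent (G := A) _ hlt
  obtain ⟨x, hx, hxT⟩ := SetLike.exists_of_lt h1
  refine ⟨x, x.2, fun hc => hxT (mem_subgroupOf.mpr hc), ?_⟩
  rw [mem_normalizer_iff] at hx ⊢
  intro t
  constructor
  · intro ht
    exact mem_subgroupOf.mp ((hx ⟨t, hle ht⟩).mp (mem_subgroupOf.mpr ht))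
  · intro ht
    have h2 : (x : G) * t * (x : G)⁻¹ ∈ A := hle ht
    have h3 : t ∈ A := by
      have := mul_mem (mul_mem (inv_mem x.2) h2) x.2
      have e : (x : G)⁻¹ * (x * t * (x : G)⁻¹) * x = t := by group
      rwa [e] at this
    exact mem_subgroupOf.mp ((hx ⟨t, h3⟩).mpr (mem_subgroupOf.mpr ht))

theorem mem_sup_norm {H N : Subgroup G} (hn : H ≤ normalizer (N : Set G)) {x : G}
    (hx : x ∈ H ⊔ N) : ∃ a ∈ H, ∃ b ∈ N, x = a * b := by
  have h1 : x ∈ ((H ⊔ N : Subgroup G) : Set G) := hx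
  rw [coe_mul_of_left_le_normalizer_right H N hn] at h1
  obtain ⟨a, ha, b, hb, hab⟩ := h1
  exact ⟨a, ha, b, hb, hab.symm⟩

/-- a form of the three subgroups lemma -/
theorem three_sub {Γ : Type*} [Group Γ] {K A B : Γ} (h1 : Commute (K * A * K⁻¹ * A⁻¹) A)
    (h2 : Commute (K * A * K⁻¹ * A⁻¹) B) (h3 : Commute (K * B * K⁻¹ * B⁻¹) A)
    (h4 : Commute (K * B * K⁻¹ * B⁻¹) B) (h5 : Commute (K⁻¹ * A * K * A⁻¹) B) :
    K * (A * B * A⁻¹ * B⁻¹) * K⁻¹ = A * B * A⁻¹ * B⁻¹ := by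
  obtain ⟨a, ha⟩ : ∃ a, a = K * A * K⁻¹ * A⁻¹ := ⟨_, rfl⟩
  obtain ⟨b, hb⟩ : ∃ b, b = K * B * K⁻¹ * B⁻¹ := ⟨_, rfl⟩
  rw [← ha] at h1 h2
  rw [← hb] at h3 h4
  have h6 : Commute a⁻¹ (b * B) := by
    have e1 : a⁻¹ = K * (K⁻¹ * A * K * A⁻¹) * K⁻¹ := by rw [ha]; group
    have e2 : b * B = K * B * K⁻¹ := by rw [hb]; group
    rw [e1, e2]
    have := h5.eq
    change K * (K⁻¹ * A * K * A⁻¹) * K⁻¹ * (K * B * K⁻¹) = K * B * K⁻¹ * (K * (K⁻¹ * A * K * A⁻¹) * K⁻¹)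
    calc K * (K⁻¹ * A * K * A⁻¹) * K⁻¹ * (K * B * K⁻¹) = K * ((K⁻¹ * A * K * A⁻¹) * B) * K⁻¹ := by group
      _ = K * (B * (K⁻¹ * A * K * A⁻¹)) * K⁻¹ := by rw [this]
      _ = K * B * K⁻¹ * (K * (K⁻¹ * A * K * A⁻¹) * K⁻¹) := by group
  have h7 : Commute a b := by
    have h8 : Commute a⁻¹ b := by
      have := h6.mul_right (h2.inv_left.inv_right)
      rwa [mul_inv_cancel_right] at this
    rw [← inv_inv a]
    exact h8.inv_left
  have e1 : K * (A * B * A⁻¹ * B⁻¹) * K⁻¹ = (a * A) * (b * B) * (a * A)⁻¹ * (b * B)⁻¹ := by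
    rw [ha, hb]; group
  have e2 : A * b = b * A := h3.eq.symm
  have e3 : A⁻¹ * a⁻¹ = a⁻¹ * A⁻¹ := (h1.inv_left.inv_right).eq.symm
  have e4 : (A * B) * a⁻¹ = a⁻¹ * (A * B) := ((h1.mul_right h2).inv_left).eq.symm
  have e5 : a * b * a⁻¹ = b := by rw [h7.eq]; group
  have e6 : b * (A * B * A⁻¹ * B⁻¹) = (A * B * A⁻¹ * B⁻¹) * b :=
    (((h3.mul_right h4).mul_right h3.inv_right).mul_right h4.inv_right).eq
  rw [e1]
  calc (a * A) * (b * B) * (a * A)⁻¹ * (b * B)⁻¹ = a * (A * b) * B * (A⁻¹ * a⁻¹) * (B⁻¹ * b⁻¹) := by group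
    _ = a * (b * A) * B * (a⁻¹ * A⁻¹) * (B⁻¹ * b⁻¹) := by rw [e2, e3]
    _ = a * b * ((A * B) * a⁻¹) * A⁻¹ * B⁻¹ * b⁻¹ := by group
    _ = a * b * (a⁻¹ * (A * B)) * A⁻¹ * B⁻¹ * b⁻¹ := by rw [e4]
    _ = (a * b * a⁻¹) * (A * B * A⁻¹ * B⁻¹) * b⁻¹ := by group
    _ = (A * B * A⁻¹ * B⁻¹) * b * b⁻¹ := by rw [e5, e6]
    _ = A * B * A⁻¹ * B⁻¹ := by group

/-! ### `C_{W_x}(K_x)` -/

/-- `C_{W_x}(K_x)` -/
def m0 (V : Subgroup G) (x : G) : Subgroup G where
  carrier := {w | w ∈ ws V x ∧ ∀ k ∈ kq V x, k * w = w * k}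
  mul_mem' := fun ha hb => ⟨mul_mem ha.1 hb.1, fun k hk => comm_mul_of (ha.2 k hk) (hb.2 k hk)⟩
  one_mem' := ⟨one_mem _, fun k _ => by simp⟩
  inv_mem' := fun ha => ⟨inv_mem ha.1, fun k hk => comm_inv_of (ha.2 k hk)⟩

theorem conj_mem_m0 {V : Subgroup G} {x w : G} (g : G) (hw : w ∈ m0 V x) : g * w * g⁻¹ ∈ m0 V (g * x * g⁻¹) := by
  refine ⟨conj_mem_ws g hw.1, fun k hk => ?_⟩
  have h1 : g⁻¹ * k * g ∈ kq V x := by
    have := conj_mem_kq g⁻¹ hk
    have e : g⁻¹ * (g * x * g⁻¹) * g⁻¹⁻¹ = x := by group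
    rwa [e, inv_inv] at this
  have h2 := hw.2 _ h1
  calc k * (g * w * g⁻¹) = g * ((g⁻¹ * k * g) * w) * g⁻¹ := by group
    _ = g * (w * (g⁻¹ * k * g)) * g⁻¹ := by rw [h2]
    _ = g * w * g⁻¹ * k := by group

/-- `⟨z^{C_G(u)}⟩` -/
def nu (u z : G) : Subgroup G := closure {a | ∃ c ∈ centralizer ({u} : Set G), a = c * z * c⁻¹}

theorem conj_mem_nu {u z c a : G} (hc : c ∈ centralizer ({u} : Set G)) (ha : a ∈ nu u z) :
    c * a * c⁻¹ ∈ nu u z := by
  refine closure_induction (p := fun a _ => c * a * c⁻¹ ∈ nu u z) ?_ ?_ ?_ ?_ ha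
  · rintro _ ⟨d, hd, rfl⟩
    exact subset_closure ⟨c * d, mul_mem hc hd, by group⟩
  · simp
  · intro a b _ _ ha hb
    have e : c * (a * b) * c⁻¹ = (c * a * c⁻¹) * (c * b * c⁻¹) := by group
    rw [e]; exact mul_mem ha hb
  · intro a _ ha
    have e : c * a⁻¹ * c⁻¹ = (c * a * c⁻¹)⁻¹ := by group
    rw [e]; exact inv_mem ha

theorem mem_nu_self (u z : G) : z ∈ nu u z := subset_closure ⟨1, one_mem _, by simp⟩

namespace One

variable {T V L : Subgroup G} {z : G} {p q r u : G}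

/-- movers in `C(u)` -/
theorem exists_mover_cent [Finite G] (h : One T V z) (hu : u ∈ ii V) (huV : u ∉ V) (hp : p ∈ V) (hp1 : p ≠ 1) :
    ∃ k ∈ kq V p, k ∉ centralizer (V : Set G) ∧ k * u = u * k := by
  obtain ⟨t, ht, ht1⟩ := h.exists_mover hp hp1
  rcases h.kq_cases hp ht (hu p hp hp1) with e | e
  · exact ⟨t, ht, ht1, comm_of_conj_eq e⟩
  · obtain ⟨k, hk, hkV, hku⟩ := h.fu hu huV hp hp1
    refine ⟨k * t, mul_mem hk ht, fun hc => ht1 ?_, comm_of_conj_eq ?_⟩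
    · have := mul_mem (inv_mem hkV) hc
      rwa [inv_mul_cancel_left] at this
    · have hkp : k * p * k⁻¹ = p := conj_eq_of_comm (h.kq_p hk)
      calc k * t * u * (k * t)⁻¹ = k * (t * u * t⁻¹) * k⁻¹ := by group
        _ = (k * p * k⁻¹) * (k * u * k⁻¹) := by rw [e]; group
        _ = (p * p) * u := by rw [hkp, hku]; group
        _ = u := by rw [h.ln.sq p hp, one_mul]

theorem isSub_m0 [Finite G] (h : One T V z) : IsSub V z (m0 V z) where
  z_mem := ⟨h.V_le h.ln.z_mem h.ln.z_ne h.ln.z_mem, fun _ hk => h.kq_p hk⟩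
  le := fun _ hw => hw.1
  norm := by
    refine le_normalizer_of_forall fun c hc w hw => ?_
    have := conj_mem_m0 c hw
    rwa [conj_eq_of_comm (mem_centralizer_singleton_iff.mp hc)] at this

theorem m0_ne [Finite G] (h : One T V z) : m0 V z ≠ ws V z := by
  intro e
  obtain ⟨k, hk, hk1⟩ := h.f1
  apply hk1
  rw [mem_centralizer_iff]
  intro v hv
  have : v ∈ m0 V z := by rw [e]; exact h.V_le h.ln.z_mem h.ln.z_ne hv
  exact (this.2 k hk).symm

/-- `C_{W_x}(K_x) ∩ I = ⟨x⟩` -/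
theorem m0_ii [Finite G] (h : One T V z) {w : G} (hw : w ∈ m0 V z) (hwi : w ∈ ii V) : w = 1 ∨ w = z :=
  h.lemma_i h.isSub_m0 h.m0_ne hw hwi

/-- `C_{W_x}(K_x) ≤ D_x` -/
theorem m0_le_dd [Finite G] (h : One T V z) (hN : NT V) {w : G} (hw : w ∈ m0 V z) : w ∈ dd V z := by
  obtain ⟨y, hy, hy1, hyz⟩ := h.ln.exists_y
  have hz := h.ln.z_mem
  have hz1 := h.ln.z_ne
  have hwW : w ∈ ws V z := hw.1
  have h1 : ∀ b ∈ ws V y, ⁅w, b⁆ ∈ zpowers z := by
    intro b hb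
    have h2 := h.comm_sub h.isSub_m0 h.m0_ne hy hy1 hyz hb hw
    have e : ⁅w, b⁆ = (b * w * b⁻¹ * w⁻¹)⁻¹ := by rw [commutatorElement_def]; group
    rw [e]; exact inv_mem h2
  exact (h.nt_mem_dd hN hz hz1 hy hy1 hyz).mpr ⟨hwW, h1⟩

/-- the same facts at every point -/
theorem m0_ii' [Finite G] (h : One T V z) (hp : p ∈ V) (hp1 : p ≠ 1) {w : G} (hw : w ∈ m0 V p)
    (hwi : w ∈ ii V) : w = 1 ∨ w = p := by
  obtain ⟨g, -, -, hg⟩ := h.point hp hp1
  exact hg.m0_ii hw hwi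

theorem m0_le_dd' [Finite G] (h : One T V z) (hN : NT V) (hp : p ∈ V) (hp1 : p ≠ 1) {w : G}
    (hw : w ∈ m0 V p) : w ∈ dd V p := by
  obtain ⟨g, -, -, hg⟩ := h.point hp hp1
  exact hg.m0_le_dd hN hw

/-- duality: `C_{W_x}(K_x ∩ C(u)) = C_{W_x}(K_x) ⟨u⟩` -/
theorem mem_m0_or (h : One T V z) (hp : p ∈ V) (hu : u ∈ ws V p) {w : G} (hw : w ∈ ws V p)
    (hc : ∀ k ∈ kq V p, k * u = u * k → k * w = w * k) : w ∈ m0 V p ∨ w * u ∈ m0 V p := by
  by_contra hcon
  push Not at hcon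
  obtain ⟨h1, h2⟩ := hcon
  have h1' : ∃ k ∈ kq V p, k * w ≠ w * k := by
    by_contra hn
    push Not at hn
    exact h1 ⟨hw, hn⟩
  have h2' : ∃ k ∈ kq V p, k * (w * u) ≠ w * u * k := by
    by_contra hn
    push Not at hn
    exact h2 ⟨mul_mem hw hu, hn⟩
  obtain ⟨k, hk, hkw⟩ := h1'
  obtain ⟨m, hm, hmw⟩ := h2'
  have hp1 : p ≠ 1 := by
    rintro rfl
    rcases h.kq_cases hp hk hw with e | e
    · exact hkw (comm_of_conj_eq e)
    · rw [one_mul] at e; exact hkw (comm_of_conj_eq e)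
  have hwp : w * p = p * w := h.comm hp hp1 w hw p (h.V_le hp hp1 hp)
  have ekw : k * w * k⁻¹ = p * w := (h.kq_cases hp hk hw).resolve_left fun e => hkw (comm_of_conj_eq e)
  have eku : k * u * k⁻¹ = p * u :=
    (h.kq_cases hp hk hu).resolve_left fun e => hkw (hc k hk (comm_of_conj_eq e))
  have hmu : m * u * m⁻¹ = p * u := by
    refine (h.kq_cases hp hm hu).resolve_left fun e => hmw ?_
    have h3 := hc m hm (comm_of_conj_eq e)
    exact comm_mul_of h3 (comm_of_conj_eq e)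
  have hmw' : m * w * m⁻¹ = w := by
    refine (h.kq_cases hp hm hw).resolve_right fun e => hmw (comm_of_conj_eq ?_)
    calc m * (w * u) * m⁻¹ = (m * w * m⁻¹) * (m * u * m⁻¹) := by group
      _ = p * w * (p * u) := by rw [e, hmu]
      _ = p * (w * p) * u := by group
      _ = (p * p) * (w * u) := by rw [hwp]; group
      _ = w * u := by rw [h.ln.sq p hp, one_mul]
  -- `k m` centralises `u` but not `w`
  have h4 : k * m * u = u * (k * m) := by
    refine comm_of_conj_eq ?_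
    have hkp : k * p * k⁻¹ = p := conj_eq_of_comm (h.kq_p hk)
    calc k * m * u * (k * m)⁻¹ = k * (m * u * m⁻¹) * k⁻¹ := by group
      _ = (k * p * k⁻¹) * (k * u * k⁻¹) := by rw [hmu]; group
      _ = (p * p) * u := by rw [hkp, eku]; group
      _ = u := by rw [h.ln.sq p hp, one_mul]
  have h5 := hc _ (mul_mem hk hm) h4
  have h6 : k * m * w * (k * m)⁻¹ = p * w := by
    calc k * m * w * (k * m)⁻¹ = k * (m * w * m⁻¹) * k⁻¹ := by group
      _ = p * w := by rw [hmw', ekw]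
  rw [conj_eq_of_comm h5] at h6
  exact hp1 (by simpa using h6.symm)

/-! ### `C_G(u)`, `u ∈ I - V` -/

theorem ws_le_cent_u (h : One T V z) (hu : u ∈ ii V) (hp : p ∈ V) (hp1 : p ≠ 1) :
    ws V p ≤ centralizer ({u} : Set G) := by
  intro w hw
  rw [mem_centralizer_singleton_iff]
  exact h.comm hp hp1 w hw u (hu p hp hp1)

theorem V_le_cent_u (h : One T V z) (hu : u ∈ ii V) : V ≤ centralizer ({u} : Set G) :=
  (h.V_le h.ln.z_mem h.ln.z_ne).trans (h.ws_le_cent_u hu h.ln.z_mem h.ln.z_ne)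

/-- one point of `V` in a `C(u)`-invariant subgroup: `V` is in it -/
theorem V_le_of_mem [Finite G] (h : One T V z) (hu : u ∈ ii V) (huV : u ∉ V) {Q : Subgroup G}
    (hQ : centralizer ({u} : Set G) ≤ normalizer (Q : Set G)) (hp : p ∈ V) (hp1 : p ≠ 1) (hpQ : p ∈ Q) :
    V ≤ Q := by
  intro v hv
  by_cases hv1 : v = 1
  · rw [hv1]; exact one_mem _
  obtain ⟨g, -, hgu, hgv⟩ := h.ftwo hu huV hp hp1 hv hv1
  rw [← hgv]
  exact conj_mem_of_normalizer hQ (mem_centralizer_singleton_iff.mpr hgu) hpQ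

theorem V_le_nu [Finite G] (h : One T V z) (hu : u ∈ ii V) (huV : u ∉ V) : V ≤ nu u z := by
  refine h.V_le_of_mem hu huV (le_normalizer_of_forall fun c hc a ha => conj_mem_nu hc ha) h.ln.z_mem
    h.ln.z_ne (mem_nu_self u z)

/-- `W_p ∩ Q ≤ C_{W_p}(K_p) ⟨u⟩` for a `C(u)`-invariant subgroup `Q` with `V ∩ Q = 1` -/
theorem mem_m0_or_of (h : One T V z) (hu : u ∈ ii V) {Q : Subgroup G}
    (hQ : centralizer ({u} : Set G) ≤ normalizer (Q : Set G)) (hp : p ∈ V) (hp1 : p ≠ 1) (hpQ : p ∉ Q) {w : G}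
    (hw : w ∈ ws V p) (hwQ : w ∈ Q) : w ∈ m0 V p ∨ w * u ∈ m0 V p := by
  refine h.mem_m0_or hp (hu p hp hp1) hw fun k hk hku => ?_
  rcases h.kq_cases hp hk hw with e | e
  · exact comm_of_conj_eq e
  · exfalso
    have h1 := conj_mem_of_normalizer hQ (mem_centralizer_singleton_iff.mpr hku) hwQ
    have h2 := mul_mem h1 (inv_mem hwQ)
    rw [e, mul_inv_cancel_right] at h2
    exact hpQ h2

/-- `I ∩ Q ≤ ⟨p, u⟩` -/
theorem ii_inf_of [Finite G] (h : One T V z) (hu : u ∈ ii V) {Q : Subgroup G}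
    (hQ : centralizer ({u} : Set G) ≤ normalizer (Q : Set G)) (hp : p ∈ V) (hp1 : p ≠ 1) (hpQ : p ∉ Q) {w : G}
    (hw : w ∈ ii V) (hwQ : w ∈ Q) : w = 1 ∨ w = p ∨ w = u ∨ w = p * u := by
  have huu : u * u = 1 := h.sq hp hp1 u (hu p hp hp1)
  rcases h.mem_m0_or_of hu hQ hp hp1 hpQ (hw p hp hp1) hwQ with e | e
  · rcases h.m0_ii' hp hp1 e hw with e1 | e1
    · exact Or.inl e1
    · exact Or.inr (Or.inl e1)
  · rcases h.m0_ii' hp hp1 e (mul_mem hw hu) with e1 | e1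
    · right; right; left
      calc w = w * u * u⁻¹ := by group
        _ = u := by rw [e1, one_mul]; exact inv_eq_self huu
    · right; right; right
      calc w = w * u * u⁻¹ := by group
        _ = p * u := by rw [e1, inv_eq_self huu]

/-- Case (a) of ALPHA: `W_z ∩ Q ≤ ⟨u⟩`, `Q = O₂(C_G(u))`, `V ∩ Q = 1` is impossible. -/
theorem alpha_a [Finite G] (h : One T V z) (hN : NT V) (hu : u ∈ ii V) (huV : u ∉ V)
    (hVQ : ∀ v ∈ V, v ∈ o2 (centralizer ({u} : Set G)) → v = 1)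
    (hWQ : ∀ w ∈ ws V z, w ∈ o2 (centralizer ({u} : Set G)) → w = 1 ∨ w = u) : False := by
  classical
  have hz := h.ln.z_mem
  have hz1 := h.ln.z_ne
  set J := centralizer ({u} : Set G) with hJ
  set Q := o2 J with hQdef
  have hQJ : Q ≤ J := o2_le _
  have hQp : IsPGroup 2 Q := isPGroup_o2 _
  have hQn : J ≤ normalizer (Q : Set G) := le_normalizer_o2 _
  have huu : u * u = 1 := h.sq hz hz1 u (hu z hz hz1)
  have hu1 : u ≠ 1 := fun e => huV (e ▸ one_mem V)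
  have huJ : u ∈ J := by rw [hJ, mem_centralizer_singleton_iff]
  have huc : ∀ a ∈ J, a * u = u * a := fun a ha => mem_centralizer_singleton_iff.mp ha
  -- all points of `V`
  have hWQ' : ∀ p ∈ V, p ≠ 1 → ∀ w ∈ ws V p, w ∈ Q → w = 1 ∨ w = u := by
    intro p hp hp1 w hw hwQ
    obtain ⟨c, -, hcu, hcp⟩ := h.ftwo hu huV hp hp1 hz hz1
    have hcJ : c ∈ J := mem_centralizer_singleton_iff.mpr hcu
    have h1 := conj_mem_ws c hw
    rw [hcp] at h1
    have h2 := conj_mem_of_normalizer hQn hcJ hwQ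
    rcases hWQ _ h1 h2 with e | e
    · exact Or.inl (conj_eq_one_iff.mp e)
    · right
      calc w = c⁻¹ * (c * w * c⁻¹) * c := by group
        _ = c⁻¹ * (u * c) := by rw [e]; group
        _ = c⁻¹ * (c * u) := by rw [hcu]
        _ = u := by group
  -- `Q ∩ N_G(V) ≤ C_G(V)`
  have hQ0 : ∀ a ∈ Q, a ∈ normalizer (V : Set G) → a ∈ centralizer (V : Set G) := by
    intro a haQ haN
    rw [mem_centralizer_iff]
    intro v hv
    have h1 : a * v * a⁻¹ * v⁻¹ ∈ V := mul_mem ((mem_normalizer_iff.mp haN v).mp hv) (inv_mem hv)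
    have h2 : a * v * a⁻¹ * v⁻¹ ∈ Q := by
      have e : a * v * a⁻¹ * v⁻¹ = a * (v * a⁻¹ * v⁻¹) := by group
      rw [e]
      exact mul_mem haQ (conj_mem_of_normalizer hQn (h.V_le_cent_u hu hv) (inv_mem haQ))
    have h3 := hVQ _ h1 h2
    have h4 : a * v * a⁻¹ = v := by
      calc a * v * a⁻¹ = (a * v * a⁻¹ * v⁻¹) * v := by group
        _ = v := by rw [h3, one_mul]
    exact (comm_of_conj_eq h4).symm
  -- `[Q ∩ N_G(V), W_p] ≤ ⟨u⟩`
  have hQ1 : ∀ a ∈ Q, a ∈ normalizer (V : Set G) → ∀ p ∈ V, p ≠ 1 → ∀ w ∈ ws V p,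
      a * w * a⁻¹ * w⁻¹ = 1 ∨ a * w * a⁻¹ * w⁻¹ = u := by
    intro a haQ haN p hp hp1 w hw
    refine hWQ' p hp hp1 _ ?_ ?_
    · exact mul_mem (conj_mem_of_normalizer (h.cent_norm hp) (hQ0 a haQ haN) hw) (inv_mem hw)
    · have e : a * w * a⁻¹ * w⁻¹ = a * (w * a⁻¹ * w⁻¹) := by group
      rw [e]
      exact mul_mem haQ (conj_mem_of_normalizer hQn (h.ws_le_cent_u hu hp hp1 hw) (inv_mem haQ))
  -- `Q` does not normalise `V`
  have hQV : ¬ Q ≤ normalizer (V : Set G) := by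
    intro hle
    apply hz1
    refine hVQ z hz ?_
    refine mem_o2_of_stab h.ln.charTwo huu hu1 (h.V_le_cent_u hu hz) fun q hq => ?_
    have h1 := mem_centralizer_iff.mp (hQ0 q hq (hle hq)) z hz
    have e : z * q * z⁻¹ * q⁻¹ = 1 := by rw [h1]; group
    rw [e]; exact one_mem _
  obtain ⟨y, hy, hy1, hyz⟩ := h.ln.exists_y
  -- `F = W_z W_y`
  set F := ws V z ⊔ ws V y with hF
  have hWCz : ws V z ≤ centralizer (V : Set G) := h.ws_le_centralizer_V hz hz1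
  have hWCy : ws V y ≤ centralizer (V : Set G) := h.ws_le_centralizer_V hy hy1
  have hFC : F ≤ centralizer (V : Set G) := sup_le hWCz hWCy
  have hFJ : F ≤ J := sup_le (h.ws_le_cent_u hu hz hz1) (h.ws_le_cent_u hu hy hy1)
  have h2W : ∀ p ∈ V, p ≠ 1 → IsPGroup 2 (ws V p) := by
    rintro p hp hp1 ⟨a, ha⟩
    refine ⟨1, Subtype.ext ?_⟩
    change a ^ 2 ^ 1 = 1
    rw [pow_one, pow_two]
    exact h.sq hp hp1 a ha
  have hF2 : IsPGroup 2 F := (h2W z hz hz1).to_sup_of_normal_left' (h2W y hy hy1)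
    (hWCy.trans (h.cent_norm hz))
  set R₀ := (Q ⊓ normalizer (V : Set G)) ⊔ F with hR₀
  have hR₀N : R₀ ≤ normalizer (V : Set G) := sup_le inf_le_right (hFC.trans (centralizer_le_normalizer _))
  have hA2 : IsPGroup 2 ↥(Q ⊔ F) := hQp.to_sup_of_normal_left' hF2 (hFJ.trans hQn)
  have hR₀A : R₀ ≤ Q ⊔ F := sup_le (inf_le_left.trans le_sup_left) le_sup_right
  obtain ⟨x, hx, hxR, hxn⟩ := exists_norm_of_lt hA2 hR₀A fun hle => hQV (le_sup_left.trans (hle.trans hR₀N))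
  obtain ⟨f, hf, k, hk, hxe⟩ := mem_sup_norm (hFJ.trans hQn) (show x ∈ F ⊔ Q by rwa [sup_comm])
  have hFR : F ≤ R₀ := le_sup_right
  have hkn : k ∈ normalizer (R₀ : Set G) := by
    have e : k = f⁻¹ * x := by rw [hxe]; group
    rw [e]
    exact mul_mem (inv_mem (le_normalizer (hFR hf))) hxn
  have hkV : k ∉ normalizer (V : Set G) := fun hc => hxR (by
    rw [hxe]
    exact mul_mem (hFR hf) (le_sup_left (a := Q ⊓ normalizer (V : Set G)) ⟨hk, hc⟩))
  have hkJ := hQJ hk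
  have hcomk : ∀ w ∈ F, k * w * k⁻¹ * w⁻¹ ∈ Q ∧ k * w * k⁻¹ * w⁻¹ ∈ normalizer (V : Set G) := by
    intro w hw
    constructor
    · have e : k * w * k⁻¹ * w⁻¹ = k * (w * k⁻¹ * w⁻¹) := by group
      rw [e]
      exact mul_mem hk (conj_mem_of_normalizer hQn (hFJ hw) (inv_mem hk))
    · exact hR₀N (mul_mem ((mem_normalizer_iff.mp hkn w).mp (hFR hw)) (inv_mem (hFR hw)))
  have hcomk' : ∀ w ∈ F, k⁻¹ * w * k * w⁻¹ ∈ Q ∧ k⁻¹ * w * k * w⁻¹ ∈ normalizer (V : Set G) := by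
    intro w hw
    constructor
    · have e : k⁻¹ * w * k * w⁻¹ = k⁻¹ * (w * k * w⁻¹) := by group
      rw [e]
      exact mul_mem (inv_mem hk) (conj_mem_of_normalizer hQn (hFJ hw) hk)
    · exact hR₀N (mul_mem ((mem_normalizer_iff''.mp hkn w).mp (hFR hw)) (inv_mem (hFR hw)))
  -- work in `J / ⟨u⟩`
  have hZn : ((zpowers u).subgroupOf J).Normal := by
    refine ⟨fun a ha b => ?_⟩
    rw [mem_subgroupOf] at ha ⊢
    change (b : G) * a * (b : G)⁻¹ ∈ zpowers u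
    obtain ⟨n, hn⟩ := mem_zpowers_iff.mp ha
    have hb : Commute (b : G) (u ^ n) := (show Commute (b : G) u from huc b b.2).zpow_right n
    rw [← hn, hb.eq, mul_inv_cancel_right]
    exact zpow_mem (mem_zpowers u) n
  let π : J →* J ⧸ (zpowers u).subgroupOf J := QuotientGroup.mk' _
  have hπ : ∀ x : J, π x = 1 ↔ (x : G) ∈ zpowers u := fun x => by
    rw [QuotientGroup.mk'_apply, QuotientGroup.eq_one_iff, mem_subgroupOf]
  have hπc : ∀ a b : J, ((a : G) * b * (a : G)⁻¹ * (b : G)⁻¹ = 1 ∨ (a : G) * b * (a : G)⁻¹ * (b : G)⁻¹ = u) →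
      Commute (π a) (π b) := by
    intro a b hab
    have h1 : π (a * b * a⁻¹ * b⁻¹) = 1 := by
      rw [hπ]
      change (a : G) * b * (a : G)⁻¹ * (b : G)⁻¹ ∈ zpowers u
      rcases hab with e | e
      · rw [e]; exact one_mem _
      · rw [e]; exact mem_zpowers u
    rw [map_mul, map_mul, map_mul, map_inv, map_inv] at h1
    change π a * π b = π b * π a
    calc π a * π b = (π a * π b * (π a)⁻¹ * (π b)⁻¹) * (π b * π a) := by group
      _ = π b * π a := by rw [h1, one_mul]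
  have hcomm : ∀ a ∈ ws V z, ∀ b ∈ ws V y, k * ⁅a, b⁆ * k⁻¹ * ⁅a, b⁆⁻¹ ∈ zpowers u := by
    intro a ha b hb
    have haF : a ∈ F := (le_sup_left : ws V z ≤ F) ha
    have hbF : b ∈ F := (le_sup_right : ws V y ≤ F) hb
    have haJ := hFJ haF
    have hbJ := hFJ hbF
    let K' : J := ⟨k, hkJ⟩
    let A' : J := ⟨a, haJ⟩
    let B' : J := ⟨b, hbJ⟩
    have c1 := hcomk a haF
    have c2 := hcomk b hbF
    have c3 := hcomk' a haF
    have g1 : Commute (π K' * π A' * (π K')⁻¹ * (π A')⁻¹) (π A') := by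
      have := hπc (K' * A' * K'⁻¹ * A'⁻¹) A' (hQ1 _ c1.1 c1.2 z hz hz1 a ha)
      rwa [map_mul, map_mul, map_mul, map_inv, map_inv] at this
    have g2 : Commute (π K' * π A' * (π K')⁻¹ * (π A')⁻¹) (π B') := by
      have := hπc (K' * A' * K'⁻¹ * A'⁻¹) B' (hQ1 _ c1.1 c1.2 y hy hy1 b hb)
      rwa [map_mul, map_mul, map_mul, map_inv, map_inv] at this
    have g3 : Commute (π K' * π B' * (π K')⁻¹ * (π B')⁻¹) (π A') := by
      have := hπc (K' * B' * K'⁻¹ * B'⁻¹) A' (hQ1 _ c2.1 c2.2 z hz hz1 a ha)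
      rwa [map_mul, map_mul, map_mul, map_inv, map_inv] at this
    have g4 : Commute (π K' * π B' * (π K')⁻¹ * (π B')⁻¹) (π B') := by
      have := hπc (K' * B' * K'⁻¹ * B'⁻¹) B' (hQ1 _ c2.1 c2.2 y hy hy1 b hb)
      rwa [map_mul, map_mul, map_mul, map_inv, map_inv] at this
    have g5 : Commute ((π K')⁻¹ * π A' * π K' * (π A')⁻¹) (π B') := by
      have := hπc (K'⁻¹ * A' * K' * A'⁻¹) B' (hQ1 _ c3.1 c3.2 y hy hy1 b hb)
      rwa [map_mul, map_mul, map_mul, map_inv, map_inv] at this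
    have g6 := three_sub g1 g2 g3 g4 g5
    have g7 : π (K' * (A' * B' * A'⁻¹ * B'⁻¹) * K'⁻¹ * (A' * B' * A'⁻¹ * B'⁻¹)⁻¹) = 1 := by
      simp only [map_mul, map_inv]
      rw [g6, mul_inv_cancel]
    have g8 := (hπ _).mp g7
    rw [commutatorElement_def]
    exact g8
  -- `[k, v] ∈ ⟨u⟩` for `v ∈ V`
  have hkv : ∀ v ∈ V, k * v * k⁻¹ = v ∨ k * v * k⁻¹ = u * v := by
    let C : Subgroup G :=
      { carrier := {v | v ∈ J ∧ k * v * k⁻¹ * v⁻¹ ∈ zpowers u}
        mul_mem' := by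
          rintro a b ⟨ha, ha1⟩ ⟨hb, hb1⟩
          refine ⟨mul_mem ha hb, ?_⟩
          have e : k * (a * b) * k⁻¹ * (a * b)⁻¹ = (k * a * k⁻¹ * a⁻¹) * (a * (k * b * k⁻¹ * b⁻¹) * a⁻¹) := by
            group
          rw [e]
          refine mul_mem ha1 ?_
          rw [conj_zpowers (z := u) ha hb1]
          exact hb1
        one_mem' := ⟨one_mem _, by simp⟩
        inv_mem' := by
          rintro a ⟨ha, ha1⟩
          refine ⟨inv_mem ha, ?_⟩
          have e : k * a⁻¹ * k⁻¹ * a⁻¹⁻¹ = a⁻¹ * (k * a * k⁻¹ * a⁻¹)⁻¹ * a⁻¹⁻¹ := by group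
          rw [e, conj_zpowers (z := u) (inv_mem ha) (inv_mem ha1)]
          exact inv_mem ha1 }
    have hle : ⁅ws V z, ws V y⁆ ≤ C := by
      rw [commutator_le]
      intro a ha b hb
      refine ⟨?_, hcomm a ha b hb⟩
      have haJ := h.ws_le_cent_u hu hz hz1 ha
      have hbJ := h.ws_le_cent_u hu hy hy1 hb
      rw [commutatorElement_def]
      exact mul_mem (mul_mem (mul_mem haJ hbJ) (inv_mem haJ)) (inv_mem hbJ)
    intro v hv
    have h1 := (hle (h.nt_V_le hN hz hz1 hy hy1 hyz hv)).2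
    rcases (mem_zpowers_iff_of_mul_self huu).mp h1 with e | e
    · left
      calc k * v * k⁻¹ = (k * v * k⁻¹ * v⁻¹) * v := by group
        _ = v := by rw [e, one_mul]
    · right
      calc k * v * k⁻¹ = (k * v * k⁻¹ * v⁻¹) * v := by group
        _ = u * v := by rw [e]
  -- `v₀` is moved, `p` is fixed
  obtain ⟨v₀, hv₀, hv₀k⟩ : ∃ v ∈ V, k * v * k⁻¹ = u * v := by
    by_contra hcon
    push Not at hcon
    apply hkV
    refine mem_normalizer_fintype fun v hv => ?_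
    rcases hkv v hv with e | e
    · rw [e]; exact hv
    · exact absurd e (hcon v hv)
  have hv₀1 : v₀ ≠ 1 := by
    rintro rfl
    rw [mul_one, mul_one, mul_inv_cancel] at hv₀k
    exact hu1 hv₀k.symm
  have huv₀ : u * v₀ = v₀ * u := (huc v₀ (h.V_le_cent_u hu hv₀)).symm
  obtain ⟨p, hp, hp1, hpk⟩ : ∃ p ∈ V, p ≠ 1 ∧ k * p * k⁻¹ = p := by
    obtain ⟨v₁, hv₁, hv₁1, hv₁0⟩ := h.exists_q hv₀ hv₀1
    rcases hkv v₁ hv₁ with e | e
    · exact ⟨v₁, hv₁, hv₁1, e⟩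
    · refine ⟨v₀ * v₁, mul_mem hv₀ hv₁, h.mul_ne_one hv₁ (Ne.symm hv₁0), ?_⟩
      calc k * (v₀ * v₁) * k⁻¹ = (k * v₀ * k⁻¹) * (k * v₁ * k⁻¹) := by group
        _ = (u * v₀) * (u * v₁) := by rw [hv₀k, e]
        _ = (v₀ * u) * (u * v₁) := by rw [huv₀]
        _ = v₀ * (u * u) * v₁ := by group
        _ = v₀ * v₁ := by rw [huu, mul_one]
  obtain ⟨m, -, hmV, hmu⟩ := h.fu hu huV hv₀ hv₀1
  have hmp : m * p * m⁻¹ = p := conj_eq_of_comm (h.V_comm hp hmV).symm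
  have hLu : u ∈ cj (m⁻¹ * k) V := by
    rw [mem_cj]
    have e : (m⁻¹ * k)⁻¹ * u * (m⁻¹ * k) = k⁻¹ * (m * u * m⁻¹) * k := by group
    rw [e, hmu, ← huv₀, ← hv₀k]
    have e2 : k⁻¹ * (k * v₀ * k⁻¹) * k = v₀ := by group
    rw [e2]; exact hv₀
  have hLp : p ∈ cj (m⁻¹ * k) V := by
    rw [mem_cj]
    have e : (m⁻¹ * k)⁻¹ * p * (m⁻¹ * k) = k⁻¹ * (m * p * m⁻¹) * k := by group
    have e2 : k⁻¹ * p * k = p := by
      calc k⁻¹ * p * k = k⁻¹ * (k * p * k⁻¹) * k := by rw [hpk]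
        _ = p := by group
    rw [e, hmp, e2]; exact hp
  obtain ⟨-, -, T', h'⟩ := h.of_line (L := cj (m⁻¹ * k) V) (p := u) ⟨⟨_, rfl⟩, hLu⟩ hu1
  exact hp1 (hVQ p hp (h'.ln.V_le_o2 hLp))

end One

namespace Spr

variable {T V L : Subgroup G} {z y q e g u : G}

/-- **THEOREM ALPHA.** -/
theorem alpha [Finite G] (S : Spr V L z y q e g) (h : One T V z) (hN : NT V) (hu : u ∈ ii V) (hu' : u ∈ ii L)
    (huV : u ∉ V) : V ≤ o2 (centralizer ({u} : Set G)) := by
  classical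
  have hz := h.ln.z_mem
  have hz1 := h.ln.z_ne
  set J := centralizer ({u} : Set G) with hJ
  set Q := o2 J with hQdef
  have hQn : J ≤ normalizer (Q : Set G) := le_normalizer_o2 _
  have huu : u * u = 1 := h.sq hz hz1 u (hu z hz hz1)
  have hu1 : u ≠ 1 := fun e' => huV (e' ▸ one_mem V)
  by_contra hVQ
  -- no point of `V` is in `Q`
  have hVQ' : ∀ v ∈ V, v ∈ Q → v = 1 := by
    intro v hv hvQ
    by_contra hv1
    exact hVQ (h.V_le_of_mem hu huV hQn hv hv1 hvQ)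
  -- `u ∈ Q`
  have huQ : u ∈ Q := by
    have h1 : IsPGroup 2 (zpowers u) := isPGroup_zpowers huu
    have h2 : zpowers u ≤ J := by
      rw [zpowers_le, hJ, mem_centralizer_singleton_iff]
    refine le_o2 h2 h1 ?_ (mem_zpowers u)
    refine le_normalizer_of_forall fun c hc x hx => ?_
    rw [conj_zpowers (z := u) hc hx]
    exact hx
  by_cases hcase : ∀ w ∈ ws V z, w ∈ Q → w = 1 ∨ w = u
  · exact h.alpha_a hN hu huV hVQ' hcase
  push Not at hcase
  obtain ⟨w, hw, hwQ, hw1, hwu⟩ := hcase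
  have hzQ : z ∉ Q := fun hc => hz1 (hVQ' z hz hc)
  -- `m ∈ C_{W_z}(K_z) ∩ Q`, `m ≠ 1, z`
  obtain ⟨m, hm, hmQ, hm1⟩ : ∃ m ∈ m0 V z, m ∈ Q ∧ m ≠ 1 := by
    rcases h.mem_m0_or_of hu hQn hz hz1 hzQ hw hwQ with e1 | e1
    · exact ⟨w, e1, hwQ, hw1⟩
    · refine ⟨w * u, e1, mul_mem hwQ huQ, fun e2 => hwu ?_⟩
      calc w = w * u * u⁻¹ := by group
        _ = u := by rw [e2, one_mul]; exact inv_eq_self huu
  have hmz : m ≠ z := fun e' => hzQ (e' ▸ hmQ)
  have hmI : m ∉ ii V := fun hc => by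
    rcases h.m0_ii hm hc with e' | e'
    · exact hm1 e'
    · exact hmz e'
  have hs := S.hs h
  have hs1 := S.hs1 h
  have hsy := S.hsy h
  have hsz := S.hsz h
  have hzy := h.ln.comm hz S.hy
  have hyy := h.ln.sq y S.hy
  have hzz := h.ln.zz
  -- movers in `C(u)`
  obtain ⟨t, ht, ht1, htu⟩ := h.exists_mover_cent hu huV hs hs1
  obtain ⟨k, hk, hk1, hku⟩ := h.exists_mover_cent hu huV hz hz1
  have htJ : t ∈ J := mem_centralizer_singleton_iff.mpr htu
  have hkJ : k ∈ J := mem_centralizer_singleton_iff.mpr hku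
  have htn := h.kq_le_normalizer hs hs1 ht
  have hkn := h.kq_le_normalizer hz hz1 hk
  have htz : t * z * t⁻¹ = y := by
    rw [h.move hs hs1 hz hz1 (Ne.symm hsz) ht ht1, hzy, mul_assoc, hzz, mul_one]
  have hty : t * y * t⁻¹ = z := by
    rw [h.move hs hs1 S.hy S.hy1 (Ne.symm hsy) ht ht1, mul_assoc, hyy, mul_one]
  have hky : k * y * k⁻¹ = z * y := h.move hz hz1 S.hy S.hy1 S.hyz hk hk1
  -- `a = m^t`, `b = a^k`
  set a := t * m * t⁻¹ with ha
  have hay : a ∈ m0 V y := by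
    have := conj_mem_m0 t hm
    rwa [htz] at this
  have haQ : a ∈ Q := conj_mem_of_normalizer hQn htJ hmQ
  set b := k * a * k⁻¹ with hb
  have hbs : b ∈ m0 V (z * y) := by
    have := conj_mem_m0 k hay
    rwa [hky] at this
  have hbQ : b ∈ Q := conj_mem_of_normalizer hQn hkJ haQ
  have hmD := h.m0_le_dd' hN hz hz1 hm
  have haD := h.m0_le_dd' hN S.hy S.hy1 hay
  have hbD := h.m0_le_dd' hN hs hs1 hbs
  have hmm : m * m = 1 := h.dd_sq hz hz1 hmD
  have haa : a * a = 1 := h.dd_sq S.hy S.hy1 haD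
  have hbb : b * b = 1 := h.dd_sq hs hs1 hbD
  have hab := h.dd_comm hs hs1 haD hbD
  have ham := h.dd_comm hz hz1 haD hmD
  have hbm := h.dd_comm hz hz1 hbD hmD
  -- `r = a b m ∈ I ∩ Q`
  have hr : a * b * m ∈ ii V := by
    have h1 := S.theta h hz hz1 S.hy S.hy1 S.hyz hk hk1 ht ht1 haD
    -- `t a t⁻¹ = m` modulo `I`
    have h2 : t * a * t⁻¹ * m⁻¹ ∈ ii V := by
      have h3 : t * t ∈ kq V (z * y) := mul_mem ht ht
      have h4 : t * t ∈ centralizer (V : Set G) := by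
        refine h.mem_centralizer_of hz hz1 S.hy S.hy1 S.hyz (comm_of_conj_eq ?_) (comm_of_conj_eq ?_)
        · calc t * t * z * (t * t)⁻¹ = t * (t * z * t⁻¹) * t⁻¹ := by group
            _ = z := by rw [htz, hty]
        · calc t * t * y * (t * t)⁻¹ = t * (t * y * t⁻¹) * t⁻¹ := by group
            _ = y := by rw [hty, htz]
      have h5 := S.triv h hs hs1 hz hz1 h3 h4 hmD
      have e1 : t * t * m * (t * t)⁻¹ * m⁻¹ = t * a * t⁻¹ * m⁻¹ := by rw [ha]; group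
      rwa [e1] at h5
    have h6 := mul_mem h1 h2
    have e1 : a * (k * a * k⁻¹) * (t * a * t⁻¹)⁻¹ * (t * a * t⁻¹ * m⁻¹) = a * b * m := by
      rw [← hb]
      calc a * b * (t * a * t⁻¹)⁻¹ * (t * a * t⁻¹ * m⁻¹) = a * b * m⁻¹ := by group
        _ = a * b * m := by rw [inv_eq_self hmm]
    rwa [e1] at h6
  have hrQ : a * b * m ∈ Q := mul_mem (mul_mem haQ hbQ) hmQ
  have hru : a * b * m = 1 ∨ a * b * m = u := by
    rcases h.ii_inf_of hu hQn hz hz1 hzQ hr hrQ with e1 | e1 | e1 | e1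
    · exact Or.inl e1
    · exact absurd (e1 ▸ hrQ) hzQ
    · exact Or.inr e1
    · exfalso
      apply hzQ
      have h1 := mul_mem hrQ (inv_mem huQ)
      rwa [e1, mul_inv_cancel_right] at h1
  -- (1.1)
  have h1 := S.mem_ii h haD
  -- `a^e = b v`, `v ∈ ⟨s⟩`
  have hae : e * a * e⁻¹ ∈ m0 V (z * y) := by
    have := conj_mem_m0 e hay
    rwa [S.ey] at this
  have h2 : e * a * e⁻¹ * b⁻¹ ∈ ii V := by
    have h3 : e * k⁻¹ ∈ kq V z := mul_mem (S.e_kq h) (inv_mem hk)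
    have h4 : e * k⁻¹ ∈ centralizer (V : Set G) :=
      h.mover_coset hz hz1 hk hk1 (S.e_kq h) (S.e_move h)
    have h5 := S.triv h hz hz1 hs hs1 h3 h4 hbD
    have e1 : e * k⁻¹ * b * (e * k⁻¹)⁻¹ * b⁻¹ = e * a * e⁻¹ * b⁻¹ := by rw [hb]; group
    rwa [e1] at h5
  have h3 : e * a * e⁻¹ * b⁻¹ = 1 ∨ e * a * e⁻¹ * b⁻¹ = z * y :=
    h.m0_ii' hs hs1 (mul_mem hae (inv_mem hbs)) h2
  -- `m v ∈ I_L`
  have hLz : z ∈ L := S.line.2
  obtain ⟨-, -, T', h'⟩ := h.of_line S.line hz1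
  have huL : ∀ {x : G}, (x = 1 ∨ x = u) → x ∈ ii L := by
    rintro x (rfl | rfl)
    · exact one_mem _
    · exact hu'
  -- `a b = r m`
  have habm : a * b = (a * b * m) * m := by
    calc a * b = a * b * (m * m) := by rw [hmm, mul_one]
      _ = (a * b * m) * m := by group
  have hm0L : m ∈ m0 L z := by
    refine ⟨by rw [One.ws_line S.line]; exact hm.1, fun k hk => hm.2 k ?_⟩
    rwa [One.kq_line S.line] at hk
  rcases h3 with e1 | e1
  · -- `a^e = b`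
    have e2 : e * a * e⁻¹ = b := by
      calc e * a * e⁻¹ = (e * a * e⁻¹ * b⁻¹) * b := by group
        _ = b := by rw [e1, one_mul]
    rw [e2, habm] at h1
    have h4 : m ∈ ii L := by
      have := mul_mem (inv_mem (huL hru)) h1
      rwa [inv_mul_cancel_left] at this
    rcases h'.m0_ii hm0L h4 with e' | e'
    · exact hm1 e'
    · exact hmz e'
  · -- `a^e = s b`
    have e2 : e * a * e⁻¹ = (z * y) * b := by
      calc e * a * e⁻¹ = (e * a * e⁻¹ * b⁻¹) * b := by group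
        _ = (z * y) * b := by rw [e1]
    have hsa : a * (z * y) = (z * y) * a := haD.2 _ hs hs1 _ (h.V_le hs hs1 hs)
    have e3 : a * (e * a * e⁻¹) = (a * b * m) * (m * (z * y)) := by
      have hms : m * (z * y) = (z * y) * m := hmD.2 _ hs hs1 _ (h.V_le hs hs1 hs)
      rw [e2]
      calc a * ((z * y) * b) = (a * (z * y)) * b := by group
        _ = (z * y) * (a * b) := by rw [hsa]; group
        _ = (z * y) * ((a * b * m) * m) := by rw [← habm]
        _ = (a * b * m) * (m * (z * y)) := by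
          have hsb : b * (z * y) = (z * y) * b := hbD.2 _ hs hs1 _ (h.V_le hs hs1 hs)
          rw [hms]
          calc (z * y) * (a * b * m * m) = ((z * y) * a) * b * m * m := by group
            _ = (a * (z * y)) * b * m * m := by rw [hsa]
            _ = a * ((z * y) * b) * m * m := by group
            _ = a * (b * (z * y)) * m * m := by rw [hsb]
            _ = a * b * ((z * y) * m) * m := by group
            _ = a * b * (m * (z * y)) * m := by rw [hms]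
            _ = a * b * m * ((z * y) * m) := by group
    rw [e3] at h1
    have h4 : m * (z * y) ∈ ii L := by
      have := mul_mem (inv_mem (huL hru)) h1
      rwa [inv_mul_cancel_left] at this
    -- `W_q` centralises `z y`
    have hmL := h'.m0_le_dd (hN.of_lines S.line) hm0L
    have h5 : m * (z * y) * e = e * (m * (z * y)) :=
      h'.comm S.hq S.hq1 _ (h4 q S.hq S.hq1) e S.he.1
    have h6 : m * e = e * m := hmL.2 q S.hq S.hq1 e S.he.1
    have h7 : (z * y) * e = e * (z * y) := by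
      calc (z * y) * e = m⁻¹ * (m * (z * y) * e) := by group
        _ = m⁻¹ * (e * (m * (z * y))) := by rw [h5]
        _ = m⁻¹ * (e * m) * (z * y) := by group
        _ = m⁻¹ * (m * e) * (z * y) := by rw [h6]
        _ = e * (z * y) := by group
    have h8 : e * (z * y) * e⁻¹ = z * y := conj_eq_of_comm h7.symm
    have h9 : e * (z * y) * e⁻¹ = z * (z * y) := by
      calc e * (z * y) * e⁻¹ = (e * z * e⁻¹) * (e * y * e⁻¹) := by group
        _ = z * (z * y) := by rw [S.e_z h, S.ey]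
    rw [h8] at h9
    exact hz1 (by simpa using h9.symm)

/-- (2.1) `N = ⟨z^{C(u)}⟩ ≤ O₂(C_G(u))` -/
theorem nu_le [Finite G] (S : Spr V L z y q e g) (h : One T V z) (hN : NT V) (hu : u ∈ ii V) (hu' : u ∈ ii L)
    (huV : u ∉ V) : nu u z ≤ o2 (centralizer ({u} : Set G)) := by
  have h1 := S.alpha h hN hu hu' huV h.ln.z_mem
  refine (closure_le _).mpr ?_
  rintro _ ⟨c, hc, rfl⟩
  exact conj_mem_of_normalizer (le_normalizer_o2 _) hc h1

/-- (2.1) `[N ∩ W_p, N ∩ W_r] ≤ ⟨u⟩` -/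
theorem nu_comm [Finite G] (S : Spr V L z y q e g) (h : One T V z) (hN : NT V) (hu : u ∈ ii V)
    (hu' : u ∈ ii L) (huV : u ∉ V) {p r a b : G} (hp : p ∈ V) (hp1 : p ≠ 1) (hr : r ∈ V) (hr1 : r ≠ 1)
    (hrp : r ≠ p) (ha : a ∈ nu u z) (ha' : a ∈ ws V p) (hb : b ∈ nu u z) (hb' : b ∈ ws V r) :
    a * b * a⁻¹ * b⁻¹ = 1 ∨ a * b * a⁻¹ * b⁻¹ = u := by
  have hN2 : IsPGroup 2 (nu u z) := (isPGroup_o2 _).to_le (S.nu_le h hN hu hu' huV)
  set N := nu u z with hNdef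
  set N' := ⁅N, N⁆ with hN'
  have hNn : centralizer ({u} : Set G) ≤ normalizer (N : Set G) :=
    le_normalizer_of_forall fun c hc a ha => conj_mem_nu hc ha
  have hN'n : centralizer ({u} : Set G) ≤ normalizer (N' : Set G) := by
    refine le_normalizer_of_forall fun c hc a ha => ?_
    have hle : N' ≤ cj c⁻¹ N' := by
      rw [hN', commutator_le]
      intro x hx y hy
      rw [mem_cj, inv_inv]
      have e1 : c * ⁅x, y⁆ * c⁻¹ = ⁅c * x * c⁻¹, c * y * c⁻¹⁆ := by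
        simp only [commutatorElement_def]; group
      rw [e1]
      exact commutator_mem_commutator (conj_mem_nu hc hx) (conj_mem_nu hc hy)
    have := mem_cj.mp (hle ha)
    rwa [inv_inv] at this
  have hVN := h.V_le_nu hu huV
  -- no point of `V` is in `N'`
  have hpt : ∀ v ∈ V, v ≠ 1 → v ∉ N' := by
    intro v hv hv1 hvN
    have hzN' : z ∈ N' := h.V_le_of_mem hu huV hN'n hv hv1 hvN h.ln.z_mem
    have hle : N ≤ N' := by
      refine (closure_le _).mpr ?_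
      rintro _ ⟨c, hc, rfl⟩
      exact conj_mem_of_normalizer hN'n hc hzN'
    have : Fact (Nat.Prime 2) := ⟨Nat.prime_two⟩
    have hnil : Group.IsNilpotent N := hN2.isNilpotent
    have hsol : Group.IsSolvable N := inferInstance
    have h1 : commutator N = ⊤ := by
      rw [eq_top_iff]
      intro x _
      have h2 : (x : G) ∈ ⁅N, N⁆ := hle x.2
      have h3 : (commutator N).map N.subtype = ⁅N, N⁆ := by
        rw [_root_.commutator_def, map_commutator, ← MonoidHom.range_eq_map, range_subtype]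
      rw [← h3] at h2
      obtain ⟨x', hx', e1⟩ := h2
      have : x' = x := Subtype.ext e1
      rwa [← this]
    have h4 : Subsingleton N := by
      by_contra hns
      rw [not_subsingleton_iff_nontrivial] at hns
      exact (Group.IsSolvable.commutator_lt_top_of_nontrivial N).ne h1
    have h5 : (⟨z, mem_nu_self u z⟩ : N) = 1 := Subsingleton.elim _ _
    exact h.ln.z_ne (congrArg Subtype.val h5)
  have hc1 : a * b * a⁻¹ * b⁻¹ ∈ N' := by
    have := commutator_mem_commutator ha hb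
    rwa [commutatorElement_def] at this
  have hc2 : a * b * a⁻¹ * b⁻¹ ∈ ii V := by
    have := h.comm_ii_mem hp hp1 hr hr1 ha' hb'
    rwa [commutatorElement_def] at this
  have huu : u * u = 1 := h.sq hp hp1 u (hu p hp hp1)
  have hdis : ∀ {p : G}, p ∈ V → p ≠ 1 → a * b * a⁻¹ * b⁻¹ = 1 ∨ a * b * a⁻¹ * b⁻¹ = u ∨
      a * b * a⁻¹ * b⁻¹ = p * u := by
    intro p hp hp1
    rcases h.ii_inf_of hu hN'n hp hp1 (hpt p hp hp1) hc2 hc1 with e1 | e1 | e1 | e1
    · exact Or.inl e1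
    · exact absurd (e1 ▸ hc1) (hpt p hp hp1)
    · exact Or.inr (Or.inl e1)
    · exact Or.inr (Or.inr e1)
  rcases hdis hp hp1 with e1 | e1 | e1
  · exact Or.inl e1
  · exact Or.inr e1
  · rcases hdis hr hr1 with e2 | e2 | e2
    · exact Or.inl e2
    · exact Or.inr e2
    · rw [e1] at e2
      exact absurd (mul_right_cancel e2) (Ne.symm hrp)

end Spr

end Cfsg.Agent.Omega.NO3S.TwoOne

end

section


/-!
# NO-3S, `q = 2`, `n = 1`: helper409's relation (N6) (text #18223)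

`h : One T V z`, `L` another line on `z`, `q` a point of `L`; `D_x > I` : some `d ∈ D_y` (`y` a point of `V`) is not in `I`.
`S : Spr L L₂ z q₁ y₂ e₂ g₂` : the relations (3.2) of `DRel.lean` hold on the line `L`.
* `One.nsix` : `e ∈ E_y` moves `q`, `w ∈ W_q` ⟹ `e` commutes with `w y w⁻¹`;
* `One.nsix_of` : the same with `hF` instead of `S` (some `g ∈ C(D_p, p ∈ L#)`, e.g. `g ∈ F_L`, moves `y`, or
  `[y, W_q] ≤ ⟨z⟩`);
* `One.nsix_ee` : (N6) `λ_L ∉ Ē_V ⟹ [λ_V, A_L] ≤ Ē_V`, from `hF` and (N1) in the form `hΦ` (for `a, b ∈ W_z - E_z` some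
  `e ∈ E_y` moves both).
-/

set_option autoImplicit false
set_option linter.unusedSectionVars false

namespace Cfsg.Agent.Omega.NO3S.TwoOne

open Subgroup Cfsg Cfsg.Agent.ZN Cfsg.Agent.MinSimple.Geo Cfsg.Agent.Omega.CaseL
open Cfsg.Agent.ZN.Block (conj_mem_of_normalizer conj_mem_of_normalizer' le_normalizer_of_forall
  mem_normalizer_of)

universe u

variable {G : Type u} [Group G]

namespace One

variable {T V L L₂ : Subgroup G} {z y q e w d q₁ y₂ e₂ g₂ : G}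

/-- `d d^k ∈ I` for a mover `k ∈ K_z` and `d ∈ D_y` implies `d ∈ I` -/
theorem mem_ii_of_mover (h : One T V z) (hy : y ∈ V) (hy1 : y ≠ 1) (hyz : y ≠ z) {k : G} (hk : k ∈ kq V z)
    (hk1 : k ∉ centralizer (V : Set G)) (hd : d ∈ dd V y) (h1 : d * (k * d * k⁻¹) ∈ ii V) : d ∈ ii V := by
  have hz := h.ln.z_mem
  have hz1 := h.ln.z_ne
  have hs : z * y ∈ V := mul_mem hz hy
  have hs1 : z * y ≠ 1 := h.mul_ne_one hy (Ne.symm hyz)
  have hsy : z * y ≠ y := fun e' => hz1 (by simpa using e')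
  have h2 : k * d * k⁻¹ ∈ dd V (z * y) := by
    have := conj_mem_dd (h.kq_le_normalizer hz hz1 hk) hd
    rwa [h.move hz hz1 hy hy1 hyz hk hk1] at this
  have h3 := h.ii_le_dd hs hs1 h1
  have h4 : d ∈ dd V (z * y) := by
    have := mul_mem h3 (inv_mem h2)
    rwa [mul_inv_cancel_right] at this
  exact h.dd_inf hy hy1 hs hs1 hsy hd h4

/-- an element of `D_y` centralises `W_z` -/
theorem dd_cent (h : One T V z) (hd : d ∈ dd V y) : d ∈ centralizer ((ws V z : Subgroup G) : Set G) := by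
  rw [mem_centralizer_iff]
  intro b hb
  exact (hd.2 z h.ln.z_mem h.ln.z_ne b hb).symm

/-- `[D_y, W_q] ≤ D_q` for a point `q` of another line `L` on `z` -/
theorem comm_mem_dd (h : One T V z) (hL : L ∈ lines V z) (hq : q ∈ L) (hq1 : q ≠ 1) (hqz : q ≠ z)
    (hd : d ∈ dd V y) (hw : w ∈ ws V q) : d * w * d⁻¹ * w⁻¹ ∈ dd L q := by
  have hz := h.ln.z_mem
  have hz1 := h.ln.z_ne
  obtain ⟨k, -, T', h'⟩ := h.of_line hL hz1
  have hLz : L ≤ ws V z := le_ws hL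
  have hdW := h.dd_cent hd
  have hdL : d ∈ centralizer (L : Set G) := centralizer_le hLz hdW
  have hwL : w ∈ ws L q := by rw [ws_line hL]; exact hw
  have hwc : w ∈ centralizer ({z} : Set G) :=
    h'.cent_le_centralizer hL.2 (h'.ws_le_centralizer_V hq hq1 hwL)
  have h1 : d * w * d⁻¹ * w⁻¹ ∈ ws L q :=
    mul_mem (conj_mem_of_normalizer (h'.cent_norm hq) hdL hwL) (inv_mem hwL)
  have h2 : d * w * d⁻¹ * w⁻¹ ∈ centralizer ((ws V z : Subgroup G) : Set G) := by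
    have e1 : d * w * d⁻¹ * w⁻¹ = d * (w * d⁻¹ * w⁻¹) := by group
    rw [e1]
    refine mul_mem hdW (conj_mem_of_normalizer (L := centralizer ({z} : Set G)) ?_ hwc (inv_mem hdW))
    exact (centralizer_le_normalizer_ws V z).trans (normalizer_le_normalizer_centralizer _)
  refine h'.mem_dd hq hq1 hL.2 hz1 (Ne.symm hqz) h1 fun b hb => ?_
  rw [ws_line hL] at hb
  exact (mem_centralizer_iff.mp h2 b hb).symm

/-- **(N6), one element.** -/
theorem nsix (h : One T V z) (hL : L ∈ lines V z) (hy : y ∈ V) (hy1 : y ≠ 1) (hyz : y ≠ z) (hq : q ∈ L)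
    (hq1 : q ≠ 1) (hqz : q ≠ z) (S : Spr L L₂ z q₁ y₂ e₂ g₂) (hd : d ∈ dd V y)
    (hdI : d ∉ ii V) (he : e ∈ ee V y) (eq : e * q * e⁻¹ = z * q) (hw : w ∈ ws V q) :
    e * (w * y * w⁻¹) = w * y * w⁻¹ * e := by
  have hz := h.ln.z_mem
  have hz1 := h.ln.z_ne
  obtain ⟨k, -, T', h'⟩ := h.of_line hL hz1
  have hzL : z ∈ L := hL.2
  have hLz : L ≤ ws V z := le_ws hL
  have hdW := h.dd_cent hd
  have hwL : w ∈ ws L q := by rw [ws_line hL]; exact hw
  have hwc : w ∈ centralizer ({z} : Set G) :=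
    h'.cent_le_centralizer hzL (h'.ws_le_centralizer_V hq hq1 hwL)
  have hek : e ∈ kq V z := he.2 z hz hz1
  have hekL : e ∈ kq L z := by rw [kq_line hL]; exact hek
  have heL : e ∉ centralizer (L : Set G) := fun hc => by
    have h1 : e * q * e⁻¹ = q := conj_eq_of_comm (h'.V_comm hq hc).symm
    rw [eq] at h1
    exact hz1 (by simpa using h1)
  have hde : d * e = e * d := h.comm hy hy1 d hd.1 e he.1
  -- `D' = [d, w] ∈ D_q`
  set D' := d * w * d⁻¹ * w⁻¹ with hD'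
  have hDq : D' ∈ dd L q := h.comm_mem_dd hL hq hq1 hqz hd hw
  have hDD : D' * D' = 1 := h'.dd_sq hq hq1 hDq
  -- `X = [D', e] ∈ D_z^L`
  have hX0 : D' * (e * D' * e⁻¹) ∈ dd L z := S.mul_mem_dd h' hzL hz1 hq hq1 hqz hekL heL hDq
  -- `X` is in `W_y`
  have hXy : D' * (e * D' * e⁻¹) ∈ ws V y := by
    have hDi : D'⁻¹ = D' := inv_eq_self hDD
    have hDV : D' ∈ centralizer (V : Set G) := by
      rw [mem_centralizer_iff]
      intro v hv
      have h1 := hDq.2 z hzL hz1 v (by rw [ws_line hL]; exact h.V_le hz hz1 hv)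
      exact h1.symm
    have e1 : D' * (e * D' * e⁻¹) = (D' * e * D'⁻¹) * e⁻¹ := by rw [hDi]; group
    rw [e1]
    exact mul_mem (conj_mem_of_normalizer (h.cent_norm hy) hDV he.1) (inv_mem he.1)
  have hXz : D' * (e * D' * e⁻¹) ∈ ws V z := by rw [← ws_line hL]; exact hX0.1
  have hXI : D' * (e * D' * e⁻¹) ∈ ii V := h.mem_ii hy hy1 hz hz1 (Ne.symm hyz) hXy hXz
  -- `g = w⁻¹ e w e⁻¹ ∈ K_z`, `[g, d] = X`
  set g := w⁻¹ * e * w * e⁻¹ with hg
  have hgk : g ∈ kq V z := by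
    refine mul_mem ?_ (inv_mem hek)
    exact conj_mem_of_normalizer' (centralizer_le_normalizer_kq V z) hwc hek
  have hdd : d * d = 1 := h.dd_sq hy hy1 hd
  have hdi : d⁻¹ = d := inv_eq_self hdd
  have hgd : d * (g * d * g⁻¹) = D' * (e * D' * e⁻¹) := by
    have hXw : D' * (e * D' * e⁻¹) * w = w * (D' * (e * D' * e⁻¹)) := hX0.2 q hq hq1 w hwL
    have e1 : e * D' * e⁻¹ = d * ((e * w * e⁻¹) * d⁻¹ * (e * w * e⁻¹)⁻¹) := by
      have e0 : e⁻¹ * d⁻¹ * e = d⁻¹ := by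
        have h1 : d⁻¹ * e = e * d⁻¹ := inv_comm_of hde
        rw [mul_assoc, h1]; group
      calc e * D' * e⁻¹ = (e * d) * w * d⁻¹ * w⁻¹ * e⁻¹ := by rw [hD']; group
        _ = (d * e) * w * d⁻¹ * w⁻¹ * e⁻¹ := by rw [hde]
        _ = d * (e * w * d⁻¹ * w⁻¹ * e⁻¹) := by group
        _ = d * (e * w * (e⁻¹ * d⁻¹ * e) * w⁻¹ * e⁻¹) := by rw [e0]
        _ = d * ((e * w * e⁻¹) * d⁻¹ * (e * w * e⁻¹)⁻¹) := by group
    have hDi : D' = w * d * w⁻¹ * d⁻¹ := by
      calc D' = D'⁻¹ := (inv_eq_self hDD).symm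
        _ = w * d * w⁻¹ * d⁻¹ := by rw [hD']; group
    have e2 : D' * (e * D' * e⁻¹) = w * (d * (g * d⁻¹ * g⁻¹)) * w⁻¹ := by
      rw [e1]
      calc D' * (d * ((e * w * e⁻¹) * d⁻¹ * (e * w * e⁻¹)⁻¹))
          = (w * d * w⁻¹ * d⁻¹) * (d * ((e * w * e⁻¹) * d⁻¹ * (e * w * e⁻¹)⁻¹)) := by rw [← hDi]
        _ = w * (d * (g * d⁻¹ * g⁻¹)) * w⁻¹ := by rw [hg]; group
    calc d * (g * d * g⁻¹) = d * (g * d⁻¹ * g⁻¹) := by rw [hdi]
      _ = w⁻¹ * (D' * (e * D' * e⁻¹)) * w := by rw [e2]; group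
      _ = w⁻¹ * (D' * (e * D' * e⁻¹) * w) := by group
      _ = D' * (e * D' * e⁻¹) := by rw [hXw]; group
  have hgV : g ∈ centralizer (V : Set G) := by
    by_contra hc
    exact hdI (h.mem_ii_of_mover hy hy1 hyz hgk hc hd (by rw [hgd]; exact hXI))
  have hey : e * y = y * e := h.comm hy hy1 e he.1 y (h.V_le hy hy1 hy)
  have hgy : y * g = g * y := mem_centralizer_iff.mp hgV y hy
  have hye : e⁻¹ * y = y * e⁻¹ := inv_comm_of hey
  calc e * (w * y * w⁻¹) = w * (w⁻¹ * e * w * y * e⁻¹) * e * w⁻¹ := by group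
    _ = w * (w⁻¹ * e * w * (y * e⁻¹)) * e * w⁻¹ := by group
    _ = w * (w⁻¹ * e * w * (e⁻¹ * y)) * e * w⁻¹ := by rw [hye]
    _ = w * (g * y) * e * w⁻¹ := by rw [hg]; group
    _ = w * (y * g) * e * w⁻¹ := by rw [hgy]
    _ = w * y * w⁻¹ * e := by rw [hg]; group

/-- (N6), one element; `F_L ∩ K_z` moves `y` or `[y, W_q] ≤ ⟨z⟩` -/
theorem nsix_of (h : One T V z) (hL : L ∈ lines V z) (hy : y ∈ V) (hy1 : y ≠ 1) (hyz : y ≠ z) (hq : q ∈ L)
    (hq1 : q ≠ 1) (hqz : q ≠ z)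
    (hF : (∃ g, (∀ p ∈ L, p ≠ 1 → ∀ c ∈ dd L p, c * g = g * c) ∧ g * y * g⁻¹ = z * y) ∨
      ∀ w ∈ ws V q, w * y * w⁻¹ = y ∨ w * y * w⁻¹ = z * y)
    (hd : d ∈ dd V y) (hdI : d ∉ ii V) (he : e ∈ ee V y) (eq : e * q * e⁻¹ = z * q) (hw : w ∈ ws V q) :
    e * (w * y * w⁻¹) = w * y * w⁻¹ * e := by
  have hz := h.ln.z_mem
  have hz1 := h.ln.z_ne
  have hey : e * y = y * e := h.comm hy hy1 e he.1 y (h.V_le hy hy1 hy)
  rcases hF with ⟨g, hg, gy⟩ | hF
  · obtain ⟨k, hk, -, -⟩ := h.of_line hL hz1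
    have hVL : V ∈ lines L z := ⟨⟨k⁻¹, by rw [hk, cj_cj, inv_mul_cancel, cj_one]⟩, hz⟩
    have S : Spr L V z q y e g :=
      ⟨hVL, hq, hq1, hqz, hy, hy1, hyz, he, eq, hg, gy⟩
    exact h.nsix hL hy hy1 hyz hq hq1 hqz S hd hdI he eq hw
  · rcases hF w hw with e1 | e1
    · rw [e1]; exact hey
    · rw [e1]
      have hez : e * z = z * e := h.comm hy hy1 e he.1 z (h.V_le hy hy1 hz)
      calc e * (z * y) = (e * z) * y := by group
        _ = (z * e) * y := by rw [hez]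
        _ = z * (e * y) := by group
        _ = z * (y * e) := by rw [hey]
        _ = z * y * e := by group

/-- **(N6)** `D_x > I`, `λ_L ∉ Ē_V ⟹ [λ_V, A_L] ≤ Ē_V`.  `hΦ` is (N1) : `E_y` induces all functionals of `E_z^⊥` on
`W_z`. -/
theorem nsix_ee (h : One T V z) (hL : L ∈ lines V z) (hy : y ∈ V) (hy1 : y ≠ 1) (hyz : y ≠ z) (hq : q ∈ L)
    (hq1 : q ≠ 1) (hqz : q ≠ z)
    (hΦ : ∀ a ∈ ws V z, a ∉ ee V z → ∀ b ∈ ws V z, b ∉ ee V z →
      ∃ e ∈ ee V y, e * a ≠ a * e ∧ e * b ≠ b * e)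
    (hF : (∃ g, (∀ p ∈ L, p ≠ 1 → ∀ c ∈ dd L p, c * g = g * c) ∧ g * y * g⁻¹ = z * y) ∨
      ∀ w ∈ ws V q, w * y * w⁻¹ = y ∨ w * y * w⁻¹ = z * y)
    (hd : d ∈ dd V y) (hdI : d ∉ ii V) (hqE : q ∉ ee V z) (hw : w ∈ ws V q) :
    w * y * w⁻¹ * y⁻¹ ∈ ee V z := by
  have hz := h.ln.z_mem
  have hz1 := h.ln.z_ne
  obtain ⟨k, -, T', h'⟩ := h.of_line hL hz1
  have hLz : L ≤ ws V z := le_ws hL
  have hwL : w ∈ ws L q := by rw [ws_line hL]; exact hw
  have hwc : w ∈ centralizer ({z} : Set G) :=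
    h'.cent_le_centralizer hL.2 (h'.ws_le_centralizer_V hq hq1 hwL)
  have hyW : y ∈ ws V z := h.V_le hz hz1 hy
  have hbW : w * y * w⁻¹ * y⁻¹ ∈ ws V z :=
    mul_mem (conj_mem_of_normalizer (centralizer_le_normalizer_ws V z) hwc hyW) (inv_mem hyW)
  by_contra hb
  obtain ⟨e, he, h1, h2⟩ := hΦ q (hLz hq) hqE _ hbW hb
  have eq : e * q * e⁻¹ = z * q := by
    rcases h.kq_cases hz (he.2 z hz hz1) (hLz hq) with e1 | e1
    · exact absurd (comm_of_conj_eq e1) h1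
    · exact e1
  have h3 := h.nsix_of hL hy hy1 hyz hq hq1 hqz hF hd hdI he eq hw
  have hey : e * y⁻¹ = y⁻¹ * e := comm_inv_of (h.comm hy hy1 e he.1 y (h.V_le hy hy1 hy))
  exact h2 (comm_mul_of h3 hey)

end One

end Cfsg.Agent.Omega.NO3S.TwoOne

end
end

-- part: Mrg/Omega/NO3S/TwoOne/LThreeC
section
section


/-!
# NO-3S, `q = 2`, `n = 1`: `|W_z| = 16` (helper225's text #15275 (A)), third part

* `Std.dl_eq`, `Std.bz_eq_ws` : `D_l = V`, `B_z = W_z`; `Std.card_kq` : `|K_z| = 2^7`;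
* `Std.large`, `Std.o2_eq` : `K_z = O₂(C_G(z))` is extraspecial with centre `⟨z⟩`;
* `Std.extra` : `Omega.Exits.Extra z 3`.
-/

set_option autoImplicit false
set_option linter.unusedSectionVars false

namespace Cfsg.Agent.Omega.NO3S.TwoOne

open Subgroup Cfsg Cfsg.Agent.ZN Cfsg.Agent.MinSimple.Geo Cfsg.Agent.Omega.CaseL
open Cfsg.Agent.ZN.Block (conj_mem_of_normalizer conj_mem_of_normalizer' le_normalizer_of_forall
  mem_normalizer_of)
open scoped commutatorElement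

universe u

variable {G : Type u} [Group G]

namespace Std

variable {T V : Subgroup G} {z p q r : G}

/-- `U_z = C_{B_z}(K_z)` -/
abbrev uz (V : Subgroup G) (z : G) : Subgroup G := bz V z ⊓ centralizer (kq V z : Set G)

theorem mem_ck {V : Subgroup G} {z g : G} : g ∈ centralizer (kq V z : Set G) ↔ ∀ k ∈ kq V z, k * g = g * k :=
  mem_centralizer_iff

/-- `U_z ∩ U_y = 1` -/
theorem uz_inf [Finite G] (h : Std T V z) (hq : q ∈ V) (hq1 : q ≠ 1) (hqz : q ≠ z) : uz V z ⊓ uz V q = ⊥ := by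
  rw [eq_bot_iff]
  rintro u ⟨⟨hu, huz⟩, ⟨-, huq⟩⟩
  replace huz := mem_ck.mp huz
  replace huq := mem_ck.mp huq
  let F : Subgroup G :=
    { carrier := {f | f ∈ dl V ∧ ∀ p ∈ V, p ≠ 1 → ∀ k ∈ kq V p, k * f = f * k}
      mul_mem' := by
        rintro a b ⟨ha, ha1⟩ ⟨hb, hb1⟩
        exact ⟨mul_mem ha hb, fun p hp hp1 k hk => comm_mul_of (ha1 p hp hp1 k hk) (hb1 p hp hp1 k hk)⟩
      one_mem' := ⟨one_mem _, fun p hp hp1 k hk => by simp⟩
      inv_mem' := by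
        rintro a ⟨ha, ha1⟩
        exact ⟨inv_mem ha, fun p hp hp1 k hk => comm_inv_of (ha1 p hp hp1 k hk)⟩ }
  have hDn : F ≤ normalizer (V : Set G) := fun d hd =>
    centralizer_le_normalizer _ (h.bz_le_centralizer (h.dl_le_bz hd.1))
  have hN : normalizer (V : Set G) ≤ normalizer (F : Set G) := by
    refine le_normalizer_of_forall fun g hg d hd => ?_
    refine ⟨conj_mem_dl hg hd.1, fun p hp hp1 k hk => ?_⟩
    have hk' : g⁻¹ * k * g ∈ kq V (g⁻¹ * p * g) := by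
      have := conj_mem_kq g⁻¹ hk
      rwa [inv_inv] at this
    have := hd.2 _ ((mem_normalizer_iff''.mp hg p).mp hp) (conj_ne_one hp1) _ hk'
    calc k * (g * d * g⁻¹) = g * ((g⁻¹ * k * g) * d) * g⁻¹ := by group
      _ = g * (d * (g⁻¹ * k * g)) * g⁻¹ := by rw [this]
      _ = g * d * g⁻¹ * k := by group
  have hF : F = ⊥ := by
    by_contra hne
    have hz := h.one.ln.z_mem_of_normal hDn hN hne
    obtain ⟨k, hk, hk1⟩ := h.one.exists_mover hq hq1
    have e1 := h.one.move hq hq1 h.z_mem h.z_ne (Ne.symm hqz) hk hk1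
    rw [conj_eq_of_comm (hz.2 q hq hq1 k hk)] at e1
    exact hq1 (by simpa using e1.symm)
  have : u ∈ F := by
    refine ⟨h.uz_le hu huz, fun p hp hp1 k hk => ?_⟩
    rcases h.one.third h.z_mem h.z_ne hq hq1 hqz hp hp1 with e | e | e
    · rw [e] at hk; exact huz k hk
    · rw [e] at hk; exact huq k hk
    · obtain ⟨t, ht, -, ht2⟩ := h.one.exists_move h.z_mem h.z_ne hq hq1 hqz
      have h1 : t⁻¹ * k * t ∈ kq V q := by
        have h2 := conj_mem_kq t⁻¹ hk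
        have e3 : t⁻¹ * p * t⁻¹⁻¹ = q := by rw [e, ← ht2]; group
        rwa [e3, inv_inv] at h2
      have h2 := huz t ht
      have h3 := huq _ h1
      have h4 := mul_comm_of (mul_comm_of h2 h3) (inv_comm_of h2)
      have e4 : t * (t⁻¹ * k * t) * t⁻¹ = k := by group
      rwa [e4] at h4
  rw [hF] at this
  exact this

/-- the two pairings -/
theorem card_aux [Finite G] (h : Std T V z) :
    2 * Nat.card (kq V z) = 16 * Nat.card (bz V z) ∧ Nat.card (bz V z) = 4 * Nat.card (dl V) ∧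
      Nat.card (dl V) = 2 * Nat.card (uz V z) := by
  have hVW := h.one.V_le h.z_mem h.z_ne
  have hab : ∀ a ∈ bz V z, ∀ b ∈ kq V z, a * b = b * a ∨ a * b = z * (b * a) := by
    intro a ha b hb
    rcases (h.zp h.z_mem).mp (h.bz_kq ha hb) with e | e
    · left
      calc a * b = (a * b * a⁻¹ * b⁻¹) * (b * a) := by group
        _ = b * a := by rw [e, one_mul]
    · right
      calc a * b = (a * b * a⁻¹ * b⁻¹) * (b * a) := by group
        _ = z * (b * a) := by rw [e]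
  have hzK : ∀ b ∈ kq V z, z * b = b * z := fun b hb => (h.one.kq_p hb).symm
  have hzB : ∀ b ∈ bz V z, z * b = b * z := fun b hb => hzK b (h.bz_le_kq hb)
  have h1 := MinSimple.BTwoD.pairing (A := ws V z) (B := kq V z) h.zz h.z_ne
    (fun a ha => hzB a (h.ws_le_bz ha)) hzK (fun a ha b hb => hab a (h.ws_le_bz ha) b hb)
  have h2 := MinSimple.BTwoD.pairing (A := bz V z) (B := kq V z) h.zz h.z_ne hzB hzK hab
  have e1 : ws V z ⊓ centralizer (kq V z : Set G) = zpowers z := by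
    apply le_antisymm
    · rintro w ⟨hw, hwk⟩
      exact h.cent_ws hw (mem_ck.mp hwk)
    · rw [zpowers_le]
      exact ⟨hVW h.z_mem, mem_ck.mpr fun k hk => h.one.kq_p hk⟩
  have e2 : kq V z ⊓ centralizer (ws V z : Set G) = bz V z := inf_eq_right.mpr h.bz_le_kq
  have e3 : kq V z ⊓ centralizer (bz V z : Set G) = bz V z := by
    apply le_antisymm
    · rintro k ⟨-, hk⟩
      exact centralizer_le h.ws_le_bz hk
    · intro b hb
      exact ⟨h.bz_le_kq hb, mem_centralizer_iff.mpr fun c hc => h.bz_ab hc hb⟩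
  have e4 : Nat.card (zpowers z) = 2 := by
    rw [Nat.card_zpowers]
    exact orderOf_eq_prime (by rw [pow_two]; exact h.zz) h.z_ne
  rw [e1, e2, e4, h.card] at h1
  rw [e3] at h2
  have e5 : ws V z ⊔ dl V = bz V z := by
    refine le_antisymm (sup_le h.ws_le_bz h.dl_le_bz) fun b hb => ?_
    obtain ⟨w, hw, e, he, rfl⟩ := h.bz_eq hb
    exact mul_mem (mem_sup_left hw) (mem_sup_right he)
  have e6 : ws V z ⊓ dl V = V := by
    apply le_antisymm
    · rintro w ⟨hw, hwd⟩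
      obtain ⟨y, hy, hy1, hyz⟩ := h.one.ln.exists_y
      exact h.le z h.z_mem h.z_ne (h.one.dd_le_ee z
        (h.one.mem_dd h.z_mem h.z_ne hy hy1 hyz hw (mem_bz.mp (hwd y hy hy1))))
    · exact le_inf hVW h.V_le_dl
  have h3 := Block.card_sup_mul_card_inf (H := ws V z) (N := dl V)
    (((h.one.ws_le_centralizer_V h.z_mem h.z_ne).trans (centralizer_le_normalizer _)).trans
      (normalizer_le_normalizer_dl V))
  rw [e5, e6, h.card, h.one.ln.card_V] at h3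
  have hB : 0 < Nat.card (bz V z) := Nat.card_pos
  have h4 : Nat.card (bz V z) = 4 * Nat.card (dl V) := by omega
  refine ⟨h1, h4, ?_⟩
  have h5 : Nat.card (kq V z) = 8 * Nat.card (bz V z) := by omega
  rw [h5] at h2
  have h6 : Nat.card (bz V z) * (8 * Nat.card (uz V z)) = Nat.card (bz V z) * Nat.card (bz V z) := by
    rw [← h2]; ring
  have h7 := Nat.eq_of_mul_eq_mul_left hB h6
  omega

/-- `D_l = V` -/
theorem dl_eq [Finite G] (h : Std T V z) : dl V = V := by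
  obtain ⟨y, hy, hy1, hyz⟩ := h.one.ln.exists_y
  obtain ⟨T', h'⟩ := h.point hy hy1
  obtain ⟨-, -, h1⟩ := h.card_aux
  obtain ⟨-, -, h2⟩ := h'.card_aux
  have hu : uz V z ≤ dl V := fun u hu => h.uz_le hu.1 (mem_ck.mp hu.2)
  have hu' : uz V y ≤ dl V := fun u hu => h'.uz_le hu.1 (mem_ck.mp hu.2)
  have h3 := Block.card_sup_mul_card_inf (H := uz V z) (N := uz V y) (by
    refine le_normalizer_of_forall fun g hg v hv => ?_
    have h4 : g * v = v * g := h.bz_ab hg.1 (h.dl_le_bz (hu' hv))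
    rw [conj_eq_of_comm h4]; exact hv)
  rw [h.uz_inf hy hy1 hyz, Subgroup.card_bot, mul_one] at h3
  have h4 := Nat.le_of_dvd Nat.card_pos (card_dvd_of_le (sup_le hu hu'))
  have h5 : Nat.card (uz V z) = Nat.card (uz V y) := by omega
  have h6 : 0 < Nat.card (uz V z) := Nat.card_pos
  have h7 : Nat.card (dl V) ≤ 4 := by
    rw [h3, ← h5, h1] at h4
    have h8 : Nat.card (uz V z) ≤ 2 := Nat.le_of_mul_le_mul_right h4 h6
    omega
  exact (eq_of_le_of_card_ge h.V_le_dl (by rw [h.one.ln.card_V]; exact h7)).symm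

/-- `B_z = W_z` -/
theorem bz_eq_ws [Finite G] (h : Std T V z) : bz V z = ws V z := by
  refine le_antisymm (fun b hb => ?_) h.ws_le_bz
  obtain ⟨w, hw, e, he, rfl⟩ := h.bz_eq hb
  rw [h.dl_eq] at he
  exact mul_mem hw (h.one.V_le h.z_mem h.z_ne he)

/-- `|K_z| = 2^7` -/
theorem card_kq [Finite G] (h : Std T V z) : Nat.card (kq V z) = 2 ^ 7 := by
  obtain ⟨h1, -, -⟩ := h.card_aux
  rw [h.bz_eq_ws, h.card] at h1
  omega

/-! ### `K_z / ⟨z⟩` is elementary abelian -/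

theorem zc (_ : Std T V z) {x k : G} (hx : x ∈ zpowers z) (hk : k ∈ kq V z) : k * x * k⁻¹ = x :=
  conj_zpowers (kq_le_centralizer V z hk) hx

/-- the images of `a ∈ W_y` under a mover -/
theorem ta_mem (h : Std T V z) (hp : p ∈ V) (hp1 : p ≠ 1) (hpz : p ≠ z) {t a : G} (ht : t ∈ kq V z)
    (ht1 : t ∉ centralizer (V : Set G)) (ha : a ∈ ws V p) : t * a * t⁻¹ ∈ ws V (z * p) := by
  have := conj_mem_ws t ha
  rwa [h.one.move h.z_mem h.z_ne hp hp1 hpz ht ht1] at this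

/-- the square of a mover is trivial on `W_y / V` -/
theorem tt_ta (h : Std T V z) (hp : p ∈ V) (hp1 : p ≠ 1) (hpz : p ≠ z) {t a : G} (ht : t ∈ kq V z)
    (ht1 : t ∉ centralizer (V : Set G)) (ha : a ∈ ws V p) :
    ∃ v ∈ V, t * (t * a * t⁻¹) * t⁻¹ = v * a := by
  have hmv := h.one.move h.z_mem h.z_ne hp hp1 hpz ht ht1
  have htz : t * z * t⁻¹ = z := conj_eq_of_comm (h.one.kq_p ht)
  have h1 : t * t * p * (t * t)⁻¹ = p := by
    calc t * t * p * (t * t)⁻¹ = t * (t * p * t⁻¹) * t⁻¹ := by group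
      _ = t * (z * p) * t⁻¹ := by rw [hmv]
      _ = (t * z * t⁻¹) * (t * p * t⁻¹) := by group
      _ = p := by rw [htz, hmv, ← mul_assoc, h.zz, one_mul]
  have htx := kq_le_xl h.z_mem h.z_ne ht
  have h2 := h.le p hp hp1 (h.one.xl_fix hp hp1 (mul_mem htx htx) h1 ha)
  exact ⟨_, h2, by group⟩

/-- `v ∈ V` commuting with a mover is in `⟨z⟩` -/
theorem fix_mem (h : Std T V z) {t v : G} (ht : t ∈ kq V z) (ht1 : t ∉ centralizer (V : Set G)) (hv : v ∈ V)
    (hc : t * v * t⁻¹ = v) : v ∈ zpowers z := by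
  by_contra hvz
  rw [h.zp h.z_mem] at hvz
  push Not at hvz
  rw [h.one.move h.z_mem h.z_ne hv hvz.1 hvz.2 ht ht1] at hc
  exact h.z_ne (by simpa using hc)

/-- `[tat⁻¹, b] = t [a, tbt⁻¹] t⁻¹` modulo nothing: the key identity -/
theorem ta_comm (h : Std T V z) (hp : p ∈ V) (hp1 : p ≠ 1) (hpz : p ≠ z) {t a b : G} (ht : t ∈ kq V z)
    (ht1 : t ∉ centralizer (V : Set G)) (ha : a ∈ ws V p) (hb : b ∈ ws V p) :
    t * ⁅a, t * b * t⁻¹⁆ * t⁻¹ = ⁅t * a * t⁻¹, b⁆ := by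
  obtain ⟨v, hv, e⟩ := h.tt_ta hp hp1 hpz ht ht1 hb
  have hzp : z * p ∈ V := mul_mem h.z_mem hp
  have hzp1 : z * p ≠ 1 := h.one.mul_ne_one hp (Ne.symm hpz)
  rw [conjugate_commutatorElement, e]
  have ha' := h.ta_mem hp hp1 hpz ht ht1 ha
  rw [h.one.comm_mul_right hzp hzp1 hp hp1 ha' (h.one.V_le hp hp1 hv) hb]
  have h1 : ⁅t * a * t⁻¹, v⁆ = 1 := commutatorElement_eq_one_iff_mul_comm.mpr
    (h.one.V_comm hv (h.one.ws_le_centralizer_V hzp hzp1 ha')).symm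
  rw [h1, one_mul]

theorem ga_sq (h : Std T V z) (hp : p ∈ V) (hp1 : p ≠ 1) (hpz : p ≠ z) {t a : G} (ht : t ∈ kq V z)
    (ht1 : t ∉ centralizer (V : Set G)) (ha : a ∈ ws V p) :
    a * t * a⁻¹ * t⁻¹ * (a * t * a⁻¹ * t⁻¹) ∈ zpowers z := by
  have hzp : z * p ∈ V := mul_mem h.z_mem hp
  have hzp1 : z * p ≠ 1 := h.one.mul_ne_one hp (Ne.symm hpz)
  have ha' := h.ta_mem hp hp1 hpz ht ht1 ha
  have haa := h.one.sq hp hp1 a ha
  have haa' := h.one.sq hzp hzp1 _ ha'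
  have e1 : a * t * a⁻¹ * t⁻¹ * (a * t * a⁻¹ * t⁻¹) = ⁅a, t * a * t⁻¹⁆ := by
    have e2 : a * t * a⁻¹ * t⁻¹ = a * (t * a * t⁻¹)⁻¹ := by group
    rw [e2, commutatorElement_def, inv_eq_self haa', inv_eq_self haa]
    group
  rw [e1]
  refine h.fix_mem ht ht1 (h.comm_mem hp hp1 hzp hzp1 ha ha') ?_
  rw [h.ta_comm hp hp1 hpz ht ht1 ha ha, h.one.comm_swap hp hp1 hzp hzp1 ha ha']

theorem ga_comm (h : Std T V z) (hp : p ∈ V) (hp1 : p ≠ 1) (hpz : p ≠ z) {t a b : G} (ht : t ∈ kq V z)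
    (ht1 : t ∉ centralizer (V : Set G)) (ha : a ∈ ws V p) (hb : b ∈ ws V p) :
    ⁅a * t * a⁻¹ * t⁻¹, b * t * b⁻¹ * t⁻¹⁆ ∈ zpowers z := by
  have hzp : z * p ∈ V := mul_mem h.z_mem hp
  have hzp1 : z * p ≠ 1 := h.one.mul_ne_one hp (Ne.symm hpz)
  have ha' := h.ta_mem hp hp1 hpz ht ht1 ha
  have hb' := h.ta_mem hp hp1 hpz ht ht1 hb
  have haa' := inv_eq_self (h.one.sq hzp hzp1 _ ha')
  have hbb' := inv_eq_self (h.one.sq hzp hzp1 _ hb')
  have ea : a * t * a⁻¹ * t⁻¹ = a * (t * a * t⁻¹) := by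
    have : a * t * a⁻¹ * t⁻¹ = a * (t * a * t⁻¹)⁻¹ := by group
    rw [this, haa']
  have eb : b * t * b⁻¹ * t⁻¹ = b * (t * b * t⁻¹) := by
    have : b * t * b⁻¹ * t⁻¹ = b * (t * b * t⁻¹)⁻¹ := by group
    rw [this, hbb']
  rw [ea, eb]
  have key := h.ta_comm hp hp1 hpz ht ht1 ha hb
  set a' := t * a * t⁻¹ with ha'd
  set b' := t * b * t⁻¹ with hb'd
  have hv : ⁅a, b'⁆ ∈ V := h.comm_mem hp hp1 hzp hzp1 ha hb'
  have hv' : ⁅a', b⁆ ∈ V := h.comm_mem hzp hzp1 hp hp1 ha' hb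
  have hab := h.one.comm hp hp1 a ha b hb
  have hab' := h.one.comm hzp hzp1 a' ha' b' hb'
  have haV := h.one.ws_le_centralizer_V hp hp1 ha
  have hbV := h.one.ws_le_centralizer_V hp hp1 hb
  set v := ⁅a, b'⁆ with hvd
  set v' := ⁅a', b⁆ with hvd'
  have e1 : a * b' = v * b' * a := by rw [hvd, commutatorElement_def]; group
  have e2 : a' * b = v' * b * a' := by rw [hvd', commutatorElement_def]; group
  have c1 := h.one.V_comm hv' haV
  have c2 := h.one.V_comm hv hbV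
  have e3 : a * a' * (b * b') = (v' * v) * (b * b' * (a * a')) := by
    calc a * a' * (b * b') = a * (a' * b) * b' := by group
      _ = (a * v') * b * a' * b' := by rw [e2]; group
      _ = v' * (a * b) * (a' * b') := by rw [← c1]; group
      _ = v' * b * (a * b') * a' := by rw [hab, hab']; group
      _ = v' * (b * v) * b' * a * a' := by rw [e1]; group
      _ = (v' * v) * (b * b' * (a * a')) := by rw [← c2]; group
  have e4 : ⁅a * a', b * b'⁆ = v' * v := by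
    rw [commutatorElement_def, e3]; group
  rw [e4, ← key]
  by_cases hvz : v ∈ zpowers z
  · rw [zc h hvz ht]; exact mul_mem hvz hvz
  · have hvz' := hvz
    rw [h.zp h.z_mem] at hvz'
    push Not at hvz'
    rw [h.one.move h.z_mem h.z_ne hv hvz'.1 hvz'.2 ht ht1, mul_assoc, h.one.ln.sq v hv, mul_one]
    exact mem_zpowers z

theorem comm_mul_zp (h : Std T V z) {k k' g : G} (hk : k ∈ kq V z) (h1 : ⁅k, g⁆ ∈ zpowers z)
    (h2 : ⁅k', g⁆ ∈ zpowers z) : ⁅k * k', g⁆ ∈ zpowers z := by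
  have e : ⁅k * k', g⁆ = (k * ⁅k', g⁆ * k⁻¹) * ⁅k, g⁆ := by simp only [commutatorElement_def]; group
  rw [e, h.zc h2 hk]
  exact mul_mem h2 h1

theorem comm_symm_zp {z k k' : G} (h1 : ⁅k, k'⁆ ∈ zpowers z) : ⁅k', k⁆ ∈ zpowers z := by
  rw [← commutatorElement_inv]; exact inv_mem h1

theorem ws_comm_zp (_ : Std T V z) {w k : G} (hw : w ∈ ws V z) (hk : k ∈ kq V z) : ⁅w, k⁆ ∈ zpowers z := by
  refine comm_symm_zp ?_
  exact kq_comm hk hw

/-- `k, k' ∈ K_z ∩ C_G(V)` -/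
theorem kq_cV [Finite G] (h : Std T V z) {k k' : G} (hk : k ∈ kq V z) (hkV : k ∈ centralizer (V : Set G))
    (hk' : k' ∈ kq V z) (hkV' : k' ∈ centralizer (V : Set G)) :
    ⁅k, k'⁆ ∈ zpowers z ∧ k * k ∈ zpowers z := by
  obtain ⟨y, hy, hy1, hyz⟩ := h.one.ln.exists_y
  obtain ⟨t, ht, ht1⟩ := h.one.exists_mover h.z_mem h.z_ne
  obtain ⟨a, ha, b, hb, rfl⟩ := h.kq_rep hy hy1 hyz ht ht1 hk hkV
  obtain ⟨a', ha', b', hb', rfl⟩ := h.kq_rep hy hy1 hyz ht ht1 hk' hkV'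
  rw [h.bz_eq_ws] at hb hb'
  have h1 := h.ga_comm hy hy1 hyz ht ht1 ha ha'
  have h2 := h.ga_sq hy hy1 hyz ht ht1 ha
  have hg := (h.ga_mem hy hy1 ht ha).1
  have hg' := (h.ga_mem hy hy1 ht ha').1
  set g := a * t * a⁻¹ * t⁻¹ with hgd
  set g' := a' * t * a'⁻¹ * t⁻¹ with hgd'
  refine ⟨h.comm_mul_zp (h.ws_le_kq hb) (h.ws_comm_zp hb hk') ?_, ?_⟩
  · exact comm_symm_zp (h.comm_mul_zp (h.ws_le_kq hb') (h.ws_comm_zp hb' hg) (comm_symm_zp h1))
  · have e : b * g * (b * g) = b * (g * b * g⁻¹ * b⁻¹) * b⁻¹ * (b * b) * (g * g) := by group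
    rw [e, h.one.sqz b hb, mul_one, h.zc (kq_comm hg hb) (h.ws_le_kq hb)]
    exact mul_mem (kq_comm hg hb) h2

/-- `k, k' ∈ K_z` centralise a common line -/
theorem exists_line₂ [Finite G] (h : Std T V z) {k k' : G} (hk : k ∈ kq V z) (hk' : k' ∈ kq V z) :
    ∃ g : G, (∃ T', Std T' (cj g V) z) ∧ k ∈ centralizer (cj g V : Set G) ∧
      k' ∈ centralizer (cj g V : Set G) := by
  have hVW := h.one.V_le h.z_mem h.z_ne
  have key : ∀ k ∈ kq V z, (centralizer ({k} : Set G)).relIndex (ws V z) ≤ 2 := by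
    intro k hk
    refine relIndex_le_two fun a ha b hb ha' hb' => ?_
    rw [mem_centralizer_singleton_iff] at ha' hb' ⊢
    have h1 := (h.one.kq_cases h.z_mem hk ha).resolve_left (fun e => ha' (comm_of_conj_eq e).symm)
    have h2 := (h.one.kq_cases h.z_mem hk hb).resolve_left (fun e => hb' (comm_of_conj_eq e).symm)
    symm
    refine comm_of_conj_eq ?_
    have haz := h.one.comm h.z_mem h.z_ne a ha z (hVW h.z_mem)
    calc k * (a * b) * k⁻¹ = (k * a * k⁻¹) * (k * b * k⁻¹) := by group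
      _ = z * (a * z) * b := by rw [h1, h2]; group
      _ = (z * z) * (a * b) := by rw [haz]; group
      _ = a * b := by rw [h.zz, one_mul]
  set C := centralizer ({k} : Set G) ⊓ centralizer ({k'} : Set G) with hC
  have h1 : C.relIndex (ws V z) ≤ 4 := by
    refine (relIndex_inf_le (H := centralizer ({k} : Set G)) (K := centralizer ({k'} : Set G))).trans ?_
    exact Nat.mul_le_mul (key k hk) (key k' hk')
  obtain ⟨w, hw, hwC, hwz⟩ : ∃ w ∈ ws V z, w ∈ C ∧ w ∉ zpowers z := by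
    by_contra hcon
    push Not at hcon
    have h2 : C ⊓ ws V z ≤ zpowers z := fun w hw => hcon w hw.2 hw.1
    have h3 := relIndex_mul_card (inf_le_right : C ⊓ ws V z ≤ ws V z)
    rw [inf_relIndex_right, h.card] at h3
    have h4 := Nat.le_of_dvd Nat.card_pos (card_dvd_of_le h2)
    have e4 : Nat.card (zpowers z) = 2 := by
      rw [Nat.card_zpowers]
      exact orderOf_eq_prime (by rw [pow_two]; exact h.zz) h.z_ne
    rw [e4] at h4
    have := Nat.mul_le_mul h1 h4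
    omega
  obtain ⟨g, hwL, hw1, hwz', hL, T', h'⟩ := h.line_of hw hwz
  refine ⟨g, ⟨T', h'⟩, ?_, ?_⟩
  · exact h'.one.mem_centralizer_of h'.z_mem h'.z_ne hwL hw1 hwz' (h.one.kq_p hk)
      (mem_centralizer_singleton_iff.mp hwC.1).symm
  · exact h'.one.mem_centralizer_of h'.z_mem h'.z_ne hwL hw1 hwz' (h.one.kq_p hk')
      (mem_centralizer_singleton_iff.mp hwC.2).symm

theorem kq_comm_sq [Finite G] (h : Std T V z) {k k' : G} (hk : k ∈ kq V z) (hk' : k' ∈ kq V z) :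
    ⁅k, k'⁆ ∈ zpowers z ∧ k * k ∈ zpowers z := by
  obtain ⟨g, ⟨T', h'⟩, h1, h2⟩ := h.exists_line₂ hk hk'
  exact h'.kq_cV (by rw [kq_cj]; exact hk) h1 (by rw [kq_cj]; exact hk') h2

theorem large [Finite G] (h : Std T V z) : Cfsg.Agent.Co2Type.Quad.Large (kq V z) z where
  z_mem := h.ws_le_kq (h.one.V_le h.z_mem h.z_ne h.z_mem)
  z_ne := h.z_ne
  z_sq := h.zz
  comm_z := fun _ hx => h.one.kq_p hx
  conj_mem := fun g hg x hx => conj_mem_of_normalizer (centralizer_le_normalizer_kq V z)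
    (mem_centralizer_singleton_iff.mpr hg) hx
  sq := fun x hx => (h.zp h.z_mem).mp (h.kq_comm_sq hx hx).2
  comm := by
    intro x hx y hy
    have hzz := h.one.kq_p (mul_mem hy hx)
    rcases (h.zp h.z_mem).mp (h.kq_comm_sq hx hy).1 with e | e
    · exact Or.inl (commutatorElement_eq_one_iff_mul_comm.mp e)
    · right
      calc x * y = ⁅x, y⁆ * (y * x) := by rw [commutatorElement_def]; group
        _ = y * x * z := by rw [e, hzz]
  cent := by
    intro x _ hc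
    have h1 : x ∈ bz V z := mem_bz.mpr fun w hw => hc w (h.ws_le_kq hw)
    rw [h.bz_eq_ws] at h1
    exact (h.zp h.z_mem).mp (h.cent_ws h1 fun k hk => (hc k hk).symm)
  self := by
    intro g _ hc
    have h1 : g ∈ bz V z := mem_bz.mpr fun w hw => hc w (h.ws_le_kq hw)
    exact h.bz_le_kq h1

/-- `O₂(C_G(z)) = K_z` -/
theorem o2_eq [Finite G] (h : Std T V z) : o2 (centralizer ({z} : Set G)) = kq V z := by
  have hfact : Fact (Nat.Prime 2) := ⟨Nat.prime_two⟩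
  apply le_antisymm
  · refine h.one.le_kq (Block.o2_le _) (le_normalizer_o2 _) fun r hr => ?_
    obtain ⟨n, hn⟩ := Block.o2_isPGroup (centralizer ({z} : Set G)) ⟨r, hr⟩
    refine ⟨n, ?_⟩
    have : r ^ 2 ^ n = 1 := congrArg Subtype.val hn
    rw [this]; exact one_mem _
  · have hp : IsPGroup 2 (kq V z) := IsPGroup.of_card h.card_kq
    exact Block.le_o2 hp (kq_le_centralizer V z) (centralizer_le_normalizer_kq V z)

/-- **`O₂(C_G(z))` is extraspecial of order `2^7`** -/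
theorem extra [Finite G] (h : Std T V z) : Exits.Extra z 3 := by
  have L := h.large
  have hcard : Nat.card ↥(o2 (centralizer ({z} : Set G))) = 2 ^ 7 := by rw [h.o2_eq, h.card_kq]
  rw [← h.o2_eq] at L
  have hE : IsExtraspecial 2 ↥(o2 (centralizer ({z} : Set G))) := by
    refine Cfsg.Agent.J2.ExtQuot.isExtraspecial_two (Block.o2_isPGroup _) L.card_center ?_ ?_
    · intro x
      rw [L.mem_center]
      rcases L.sq x x.2 with e | e
      · left; simpa [pow_two] using e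
      · right; simpa [pow_two] using e
    · obtain ⟨y, hy, hy1, hyz⟩ := h.one.ln.exists_y
      obtain ⟨t, ht, ht1⟩ := h.one.exists_mover h.z_mem h.z_ne
      have hyK : y ∈ o2 (centralizer ({z} : Set G)) := by
        rw [h.o2_eq]; exact h.ws_le_kq (h.one.V_le h.z_mem h.z_ne hy)
      have htK : t ∈ o2 (centralizer ({z} : Set G)) := by rw [h.o2_eq]; exact ht
      refine ⟨⟨t, htK⟩, ⟨y, hyK⟩, fun e => ?_⟩
      have e1 : t * y = y * t := congrArg Subtype.val e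
      have e2 := h.one.move h.z_mem h.z_ne hy hy1 hyz ht ht1
      rw [conj_eq_of_comm e1] at e2
      exact h.z_ne (by simpa using e2.symm)
  refine ⟨orderOf_eq_prime (by rw [pow_two]; exact h.zz) h.z_ne,
    Cfsg.Agent.J2.ExtQuot.isExtraspecial_of_equiv (Pair.o2Equiv z) hE, ?_⟩
  rw [← hcard]
  exact (Nat.card_congr (Pair.o2Equiv z).toEquiv).symm

/-- the exit -/
theorem known [Finite G] [IsSimpleGroup G] (h : Std T V z) (hna : ¬ IsMulCommutative G)
    (h62 : Exits.St1762.{u}) : IsKnownSimple' G := h.extra.known_three h.one.ln.charTwo hna h62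

end Std

end Cfsg.Agent.Omega.NO3S.TwoOne

end

section


/-!
# NO-3S, `q = 2`, `n = 1`: `|W_z| = 16` implies `|A| = 4`

`Tw2 T V z` : `One T V z`, `|W_z| = 16`, `|A| = |W_z : E_z| = 2`.  `Tw2.false` : this is impossible.

For a point `p` collinear with `z` let `F_p = ff V z p = {w ∈ W_z | [w, W_p] ≤ ⟨z⟩}`; it has index 2 in `W_z`, and an
`a ∈ W_p` acts on `W_z/⟨z⟩` as the transvection with axis `F_p` and centre `p` (`Tw2.facts`); `q ∈ F_p` iff `p ∈ F_q`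
(`Tw2.symm`).  `comb`: two points `r`, `α` with `F_r = F_α` and `1 ≠ rα ∈ F_p` for all `p`, so that the product of the
two transvections contradicts faithfulness (`One.faithful`).
-/

set_option autoImplicit false
set_option linter.unusedSectionVars false

namespace Cfsg.Agent.Omega.NO3S.TwoOne

open Subgroup Cfsg Cfsg.Agent.ZN Cfsg.Agent.MinSimple.Geo Cfsg.Agent.Omega.CaseL
open Cfsg.Agent.ZN.Block (conj_mem_of_normalizer conj_mem_of_normalizer' le_normalizer_of_forall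
  mem_normalizer_of)
open scoped commutatorElement

universe u

variable {G : Type u} [Group G]

/-! ### combinatorics -/

theorem card_zpowers_sup_le [Finite G] {W B : Subgroup G} (ab : ∀ a ∈ W, ∀ b ∈ W, a * b = b * a)
    (sq : ∀ a ∈ W, a * a = 1) {a : G} (ha : a ∈ W) (hB : B ≤ W) :
    Nat.card ↥(zpowers a ⊔ B) ≤ 2 * Nat.card B := by
  have hle : zpowers a ≤ normalizer (B : Set G) := by
    refine le_normalizer_of_forall fun g hg v hv => ?_
    rw [ab g (zpowers_le_of_mem ha hg) v (hB hv), mul_inv_cancel_right]; exact hv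
  have h1 := Block.card_sup_mul_card_inf hle
  have h2 : Nat.card (zpowers a) ≤ 2 := by
    rw [Nat.card_zpowers]
    exact Nat.le_of_dvd (by norm_num) (orderOf_dvd_of_pow_eq_one (by rw [pow_two]; exact sq a ha))
  have h3 : 0 < Nat.card ↥(zpowers a ⊓ B) := Nat.card_pos
  calc Nat.card ↥(zpowers a ⊔ B) = Nat.card ↥(zpowers a ⊔ B) * 1 := (mul_one _).symm
    _ ≤ Nat.card ↥(zpowers a ⊔ B) * Nat.card ↥(zpowers a ⊓ B) := Nat.mul_le_mul_left _ h3
    _ = Nat.card (zpowers a) * Nat.card B := h1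
    _ ≤ 2 * Nat.card B := Nat.mul_le_mul_right _ h2

/-- the elements of a group of order at most 4 -/
theorem mem_four [Finite G] {D : Subgroup G} (hD : Nat.card D ≤ 4) {p q : G} (hp : p ∈ D) (hq : q ∈ D)
    (hp1 : p ≠ 1) (hq1 : q ≠ 1) (hpq : p ≠ q) (hpq1 : p * q ≠ 1) {v : G} (hv : v ∈ D) :
    v = 1 ∨ v = p ∨ v = q ∨ v = p * q := by
  have hpqp : p * q ≠ p := fun e => hq1 (by simpa using e)
  have hpqq : p * q ≠ q := fun e => hp1 (by simpa using e)
  have h1 : ({1, p, q, p * q} : Set G) ⊆ (D : Set G) := by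
    rintro x (rfl | rfl | rfl | rfl)
    · exact D.one_mem
    · exact hp
    · exact hq
    · exact D.mul_mem hp hq
  have h2 : ({1, p, q, p * q} : Set G).ncard = 4 := by
    rw [Set.ncard_insert_of_notMem, Set.ncard_insert_of_notMem, Set.ncard_pair (Ne.symm hpqq)]
    · rintro (e | e)
      · exact hpq e
      · exact hpqp e.symm
    · rintro (e | e | e)
      · exact hp1 e.symm
      · exact hq1 e.symm
      · exact hpq1 e.symm
  have h3 : (D : Set G).ncard ≤ 4 := hD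
  have h4 : ({1, p, q, p * q} : Set G) = D := Set.eq_of_subset_of_ncard_le h1 (by rw [h2]; exact h3)
    (Set.toFinite _)
  have : v ∈ ({1, p, q, p * q} : Set G) := by rw [h4]; exact hv
  simpa using this

/-- the combinatorial part -/
theorem comb [Finite G] {W : Subgroup G} {z : G} {N : Set G} {F : G → Subgroup G}
    (hc : Nat.card W = 16) (ab : ∀ a ∈ W, ∀ b ∈ W, a * b = b * a) (sq : ∀ a ∈ W, a * a = 1) (hz : z ∈ W)
    (hz1 : z ≠ 1) (hN : ∀ p ∈ N, p ∈ W) (hN1 : ∀ p ∈ N, p ∉ zpowers z)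
    (hgen : ∀ X : Subgroup G, z ∈ X → (∀ p ∈ N, p ∈ X) → W ≤ X)
    (hFW : ∀ p ∈ N, F p ≤ W) (hFz : ∀ p ∈ N, z ∈ F p) (hFp : ∀ p ∈ N, p ∈ F p)
    (hFi : ∀ p ∈ N, ∀ a ∈ W, ∀ b ∈ W, a ∉ F p → b ∉ F p → a * b ∈ F p) (hFn : ∀ p ∈ N, ¬ W ≤ F p)
    (hzF : ∀ p ∈ N, F (z * p) = F p) (hsym : ∀ p ∈ N, ∀ q ∈ N, q ∈ F p → p ∈ F q)
    (hmul : ∀ p ∈ N, ∀ q ∈ N, q ∉ F p → p * q ∈ N ∧ F p ⊓ F q ≤ F (p * q)) (hne : N.Nonempty) :
    ∃ r ∈ N, ∃ s ∈ N, F r = F s ∧ r * s ∉ zpowers z ∧ ∀ p ∈ N, r * s ∈ F p := by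
  have hzz := sq z hz
  have zp : ∀ {x : G}, x ∈ zpowers z ↔ x = 1 ∨ x = z := mem_zpowers_iff_of_mul_self hzz
  obtain ⟨y, hy⟩ := hne
  obtain ⟨q, hq, hqy⟩ : ∃ q ∈ N, q ∉ F y := by
    by_contra hcon
    push Not at hcon
    exact hFn y hy (hgen _ (hFz y hy) hcon)
  have hyq : y ∉ F q := fun e => hqy (hsym q hq y hy e)
  obtain ⟨hyqN, hDyq⟩ := hmul y hy q hq hqy
  have hyW := hN y hy
  have hqW := hN q hq
  have hyy := sq y hyW
  have hqq := sq q hqW
  set D := F y ⊓ F q with hD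
  have hDW : D ≤ W := inf_le_left.trans (hFW y hy)
  have hzD : z ∈ D := ⟨hFz y hy, hFz q hq⟩
  -- `B = {y, q, y q}`
  have hDB : ∀ b, (b = y ∨ b = q ∨ b = y * q) → b ∈ N ∧ D ≤ F b := by
    rintro b (rfl | rfl | rfl)
    · exact ⟨hy, inf_le_left⟩
    · exact ⟨hq, inf_le_right⟩
    · exact ⟨hyqN, hDyq⟩
  -- the cosets of `D`
  have hcos : ∀ w ∈ W, w ∈ D ∨ ∃ b, (b = y ∨ b = q ∨ b = y * q) ∧ w * b ∈ D := by
    intro w hw
    by_cases h1 : w ∈ F y <;> by_cases h2 : w ∈ F q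
    · exact Or.inl ⟨h1, h2⟩
    · exact Or.inr ⟨y, Or.inl rfl, mul_mem h1 (hFp y hy), hFi q hq w hw y hyW h2 hyq⟩
    · exact Or.inr ⟨q, Or.inr (Or.inl rfl), hFi y hy w hw q hqW h1 hqy, mul_mem h2 (hFp q hq)⟩
    · refine Or.inr ⟨y * q, Or.inr (Or.inr rfl), ?_, ?_⟩
      · refine hFi y hy w hw _ (mul_mem hyW hqW) h1 fun e => hqy ?_
        exact (mul_mem_cancel_left (hFp y hy)).mp e
      · have : w * (y * q) = (w * y) * q := by group
        rw [this]
        exact mul_mem (hFi q hq w hw y hyW h2 hyq) (hFp q hq)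
  -- `|D| ≤ 4`
  have hD4 : Nat.card D ≤ 4 := by
    have hDy : D ≤ F y := inf_le_left
    have h1 := relIndex_mul_card hDy
    have h2 := relIndex_mul_card (hFW y hy)
    have h3 : D.relIndex (F y) ≠ 1 := fun e => hyq (relIndex_eq_one.mp e (hFp y hy)).2
    have h4 : D.relIndex (F y) ≠ 0 := relIndex_ne_zero' _ _
    have h5 : (F y).relIndex W ≠ 1 := fun e => hFn y hy (relIndex_eq_one.mp e)
    have h6 : (F y).relIndex W ≠ 0 := relIndex_ne_zero' _ _
    have h7 : 2 ≤ D.relIndex (F y) := by omega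
    have h8 : 2 ≤ (F y).relIndex W := by omega
    have h9 := Nat.mul_le_mul_right (Nat.card D) h7
    have h10 := Nat.mul_le_mul_right (Nat.card (F y)) h8
    omega
  -- `D = ⟨z, d⟩`
  have hDd : ∀ d ∈ D, d ∉ zpowers z → ∀ X : Subgroup G, z ∈ X → d ∈ X → D ≤ X := by
    intro d hd hdz X hzX hdX v hv
    rw [zp] at hdz
    push Not at hdz
    have hzd1 : z * d ≠ 1 := fun e => hdz.2 (by
      rw [mul_eq_one_iff_eq_inv.mp e]
      exact (inv_eq_self (sq d (hDW hd))).symm)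
    rcases mem_four hD4 hzD hd hz1 hdz.1 (Ne.symm hdz.2) hzd1 hv with e | e | e | e
    · rw [e]; exact one_mem _
    · rw [e]; exact hzX
    · rw [e]; exact hdX
    · rw [e]; exact mul_mem hzX hdX
  -- an element `r ∈ N` outside `D`
  have hrb : ∀ r ∈ N, ∀ b, (b = y ∨ b = q ∨ b = y * q) → r * b ∈ D → r * b ∈ F r ∧ r = (r * b) * b := by
    intro r hr b hb hd
    obtain ⟨hbN, hDb⟩ := hDB b hb
    have hbb := sq b (hN b hbN)
    have e1 : r = (r * b) * b := by rw [mul_assoc, hbb, mul_one]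
    have h1 : r ∈ F b := by rw [e1]; exact mul_mem (hDb hd) (hFp b hbN)
    exact ⟨mul_mem (hFp r hr) (hsym b hbN r hr h1), e1⟩
  -- Claim A
  have hA : ∀ r ∈ N, D ≤ F r := by
    intro r hr
    rcases hcos r (hN r hr) with h1 | ⟨b, hb, hd⟩
    · exact hDd r h1 (hN1 r hr) _ (hFz r hr) (hFp r hr)
    · obtain ⟨h1, e1⟩ := hrb r hr b hb hd
      obtain ⟨hbN, hDb⟩ := hDB b hb
      by_cases hdz : r * b ∈ zpowers z
      · rcases zp.mp hdz with e | e
        · rw [e, one_mul] at e1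
          rw [e1]; exact hDb
        · rw [e] at e1
          rw [e1, hzF b hbN]; exact hDb
      · exact hDd _ hd hdz _ (hFz r hr) h1
  -- `r ∈ N - ⟨z, y, q⟩`
  set Y := zpowers y ⊔ (zpowers q ⊔ zpowers z) with hY
  have hYc : Nat.card Y ≤ 8 := by
    have h0 : zpowers z ≤ W := zpowers_le_of_mem hz
    have h1 := card_zpowers_sup_le ab sq hqW h0
    have h2 : Nat.card Y ≤ 2 * Nat.card ↥(zpowers q ⊔ zpowers z) :=
      card_zpowers_sup_le ab sq hyW (sup_le (zpowers_le_of_mem hqW) h0)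
    have h3 : Nat.card (zpowers z) ≤ 2 := by
      rw [Nat.card_zpowers]
      exact Nat.le_of_dvd (by norm_num) (orderOf_dvd_of_pow_eq_one (by rw [pow_two]; exact hzz))
    omega
  have hyY : y ∈ Y := mem_sup_left (mem_zpowers y)
  have hqY : q ∈ Y := mem_sup_right (mem_sup_left (mem_zpowers q))
  have hzY : zpowers z ≤ Y := (le_sup_right : zpowers z ≤ zpowers q ⊔ zpowers z).trans le_sup_right
  obtain ⟨r, hr, hrY⟩ : ∃ r ∈ N, r ∉ Y := by
    by_contra hcon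
    push Not at hcon
    have h1 := hgen Y (hzY (mem_zpowers z)) hcon
    have h2 := Nat.le_of_dvd Nat.card_pos (card_dvd_of_le h1)
    omega
  rcases hcos r (hN r hr) with h1 | ⟨b, hb, hd⟩
  · exfalso
    apply hFn r hr
    have hyr : y ∈ F r := hsym y hy r hr h1.1
    have hqr : q ∈ F r := hsym q hq r hr h1.2
    intro w hw
    rcases hcos w hw with h2 | ⟨b, hb, hd⟩
    · exact hA r hr h2
    · have hbr : b ∈ F r := by
        rcases hb with rfl | rfl | rfl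
        · exact hyr
        · exact hqr
        · exact mul_mem hyr hqr
      exact (mul_mem_cancel_right hbr).mp (hA r hr hd)
  · obtain ⟨hbN, hDb⟩ := hDB b hb
    obtain ⟨h1, e1⟩ := hrb r hr b hb hd
    have hbY : b ∈ Y := by
      rcases hb with rfl | rfl | rfl
      · exact hyY
      · exact hqY
      · exact mul_mem hyY hqY
    refine ⟨r, hr, b, hbN, ?_, ?_, fun p hp => hA p hp hd⟩
    · -- `F r = F b`
      have key : ∀ w ∈ W, (w ∈ F r ↔ w ∈ F b) := by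
        intro w hw
        rcases hcos w hw with h2 | ⟨c, hc, hd'⟩
        · exact ⟨fun _ => hA b hbN h2, fun _ => hA r hr h2⟩
        · obtain ⟨hcN, hDc⟩ := hDB c hc
          have hcW := hN c hcN
          have e2 : w = (w * c) * c := by rw [mul_assoc, sq c hcW, mul_one]
          have h3 : c ∈ F r ↔ c ∈ F b := by
            constructor
            · intro h4
              have h5 := hsym r hr c hcN h4
              rw [e1] at h5
              exact hsym c hcN b hbN ((mul_mem_cancel_left (hDc hd)).mp h5)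
            · intro h4
              have h5 := hsym b hbN c hcN h4
              have h6 : r ∈ F c := by rw [e1]; exact mul_mem (hDc hd) h5
              exact hsym c hcN r hr h6
          rw [e2, mul_mem_cancel_left (hA r hr hd'), mul_mem_cancel_left (hA b hbN hd')]
          exact h3
      ext w
      constructor
      · exact fun hw => (key w (hFW r hr hw)).mp hw
      · exact fun hw => (key w (hFW b hbN hw)).mpr hw
    · intro hdz
      apply hrY
      rw [e1]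
      exact mul_mem (hzY hdz) hbY

/-! ### the hyperplanes `F_p` -/

/-- `F_p = {w ∈ W_z | [w, W_p] ≤ ⟨z⟩}` -/
def ff (V : Subgroup G) (z p : G) : Subgroup G where
  carrier := {w | w ∈ ws V z ∧ w ∈ centralizer ({z} : Set G) ∧ ∀ a ∈ ws V p, ⁅a, w⁆ ∈ zpowers z}
  mul_mem' := by
    rintro v w ⟨hv, hvz, hv1⟩ ⟨hw, hwz, hw1⟩
    refine ⟨mul_mem hv hw, mul_mem hvz hwz, fun a ha => ?_⟩
    have e : ⁅a, v * w⁆ = ⁅a, v⁆ * (v * ⁅a, w⁆ * v⁻¹) := by simp only [commutatorElement_def]; group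
    rw [e, conj_zpowers hvz (hw1 a ha)]
    exact mul_mem (hv1 a ha) (hw1 a ha)
  one_mem' := ⟨one_mem _, one_mem _, fun a ha => by simp⟩
  inv_mem' := by
    rintro w ⟨hw, hwz, hw1⟩
    refine ⟨inv_mem hw, inv_mem hwz, fun a ha => ?_⟩
    have e : ⁅a, w⁻¹⁆ = w⁻¹ * ⁅a, w⁆⁻¹ * w⁻¹⁻¹ := by simp only [commutatorElement_def]; group
    rw [e, conj_zpowers (inv_mem hwz) (inv_mem (hw1 a ha))]
    exact inv_mem (hw1 a ha)

theorem ff_cj (V : Subgroup G) (g z p : G) : ff (cj g V) z p = ff V z p := by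
  ext w
  change (w ∈ _ ∧ _ ∧ ∀ a ∈ ws (cj g V) p, _) ↔ _
  rw [ws_cj, ws_cj]
  rfl

theorem conj_mem_ff {V : Subgroup G} {z p g w : G} (hg : g ∈ centralizer ({z} : Set G)) (hw : w ∈ ff V z p) :
    g * w * g⁻¹ ∈ ff V z (g * p * g⁻¹) := by
  refine ⟨conj_mem_of_normalizer (centralizer_le_normalizer_ws V z) hg hw.1,
    mul_mem (mul_mem hg hw.2.1) (inv_mem hg), fun a ha => ?_⟩
  have h1 : g⁻¹ * a * g ∈ ws V p := by
    have := conj_mem_ws g⁻¹ ha
    have e : g⁻¹ * (g * p * g⁻¹) * g⁻¹⁻¹ = p := by group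
    rwa [e, inv_inv] at this
  have h2 := hw.2.2 _ h1
  have e : ⁅a, g * w * g⁻¹⁆ = g * ⁅g⁻¹ * a * g, w⁆ * g⁻¹ := by simp only [commutatorElement_def]; group
  rw [e, conj_zpowers hg h2]; exact h2

theorem ee_cj (V : Subgroup G) (g x : G) : cj g (ee V x) = ee (cj g V) (g * x * g⁻¹) := by
  ext w
  rw [mem_cj]
  constructor
  · rintro ⟨h1, h2⟩
    refine ⟨?_, fun q hq hq1 => ?_⟩
    · rw [ws_cj]
      have := conj_mem_ws g h1
      have e : g * (g⁻¹ * w * g) * g⁻¹ = w := by group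
      rwa [e] at this
    · rw [mem_cj] at hq
      have := conj_mem_kq g (h2 _ hq (conj_ne_one hq1))
      have e : g * (g⁻¹ * w * g) * g⁻¹ = w := by group
      have e' : g * (g⁻¹ * q * g) * g⁻¹ = q := by group
      rw [e, e'] at this
      rw [kq_cj]; exact this
  · rintro ⟨h1, h2⟩
    refine ⟨?_, fun q hq hq1 => ?_⟩
    · rw [ws_cj] at h1
      have := conj_mem_ws g⁻¹ h1
      have e : g⁻¹ * (g * x * g⁻¹) * g⁻¹⁻¹ = x := by group
      rwa [e, inv_inv] at this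
    · have h3 := h2 (g * q * g⁻¹) (conj_mem_cj hq) (fun e => hq1 (conj_eq_one_iff.mp e))
      rw [kq_cj] at h3
      have := conj_mem_kq g⁻¹ h3
      have e : g⁻¹ * (g * q * g⁻¹) * g⁻¹⁻¹ = q := by group
      rwa [e, inv_inv] at this

/-- `|W_z| = 16`, `|A| = 2` -/
structure Tw2 (T V : Subgroup G) (z : G) : Prop where
  one : One T V z
  card : Nat.card (ws V z) = 16
  two : (ee V z).relIndex (ws V z) = 2

namespace Tw2

variable {T V : Subgroup G} {z p q r : G}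

theorem conj (h : Tw2 T V z) (g : G) : Tw2 (cj g T) (cj g V) (g * z * g⁻¹) where
  one := h.one.conj g
  card := by rw [ws_cj, ← cj_ws, card_cj]; exact h.card
  two := by rw [← ee_cj, ws_cj, ← cj_ws, relIndex_cj]; exact h.two

theorem z_mem (h : Tw2 T V z) : z ∈ V := h.one.ln.z_mem

theorem z_ne (h : Tw2 T V z) : z ≠ 1 := h.one.ln.z_ne

theorem zz (h : Tw2 T V z) : z * z = 1 := h.one.ln.zz

theorem zp (h : Tw2 T V z) {x : G} : x ∈ zpowers z ↔ x = 1 ∨ x = z :=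
  mem_zpowers_iff_of_mul_self h.zz

theorem line (h : Tw2 T V z) {L : Subgroup G} (hL : L ∈ lines V z) : ∃ g, L = cj g V ∧ ∃ T', Tw2 T' L z := by
  obtain ⟨c, hc, rfl⟩ := h.one.ln.exists_of_mem_lines hL
  have h1 := h.conj c
  rw [conj_eq_of_comm (mem_centralizer_singleton_iff.mp hc)] at h1
  exact ⟨c, rfl, _, h1⟩

/-- the line of a point -/
theorem line_nb (h : Tw2 T V z) (hp : p ∈ nb V z) :
    ∃ g : G, p ∈ cj g V ∧ p ≠ 1 ∧ p ≠ z ∧ cj g V ∈ lines V z ∧ ∃ T', Tw2 T' (cj g V) z := by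
  obtain ⟨L, hL, hpL, hp1, hpz⟩ := hp
  obtain ⟨g, rfl, hT⟩ := h.line hL
  exact ⟨g, hpL, hp1, hpz, hL, hT⟩

/-- two elements of `V - ⟨z⟩` -/
theorem mul_mem_zp (h : Tw2 T V z) {v w : G} (hv : v ∈ V) (hw : w ∈ V)
    (hv' : v ∉ zpowers z) (hw' : w ∉ zpowers z) : v * w ∈ zpowers z := by
  rw [h.zp] at hv' hw' ⊢
  push Not at hv' hw'
  rcases h.one.third h.z_mem h.z_ne hv hv'.1 hv'.2 hw hw'.1 with e | e | e
  · exact absurd e hw'.2
  · left; rw [e, h.one.ln.sq v hv]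
  · right
    rw [e, h.one.ln.comm h.z_mem hv, ← mul_assoc, h.one.ln.sq v hv, one_mul]

/-- the action of `W_p` on `W_z`, `p ∈ V` -/
theorem facts [Finite G] (h : Tw2 T V z) (hp : p ∈ V) (hp1 : p ≠ 1) (hpz : p ≠ z) :
    (∃ w ∈ ws V z, w ∉ ff V z p) ∧ (∀ w ∈ ws V z, ∀ w' ∈ ws V z, w ∉ ff V z p → w' ∉ ff V z p →
      w * w' ∈ ff V z p) ∧ ∃ a ∈ ws V p, ∀ w ∈ ws V z, ⁅a, w⁆ ∈ V ∧ (⁅a, w⁆ ∈ zpowers z ↔ w ∈ ff V z p) := by
  have hz := h.z_mem
  have hz1 := h.z_ne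
  have hVW := h.one.V_le hz hz1
  have hcz := h.one.ws_le_cent
  have h2 : (ee V p).relIndex (ws V p) = 2 := by rw [h.one.relIndex_ee_ws hp hp1 hz hz1]; exact h.two
  obtain ⟨a, ha, haE⟩ := SetLike.not_le_iff_exists.mp (h.one.not_ws_le_ee hp hp1)
  have hpi : ((ee V p).subgroupOf (ws V p)).index = 2 := h2
  have hcos : ∀ b ∈ ws V p, b ∈ ee V p ∨ b * a⁻¹ ∈ ee V p := by
    intro b hb
    by_cases hbE : b ∈ ee V p
    · exact Or.inl hbE
    · right
      have := Subgroup.mul_mem_iff_of_index_two hpi (a := ⟨b, hb⟩) (b := ⟨a⁻¹, inv_mem ha⟩)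
      rw [mem_subgroupOf, mem_subgroupOf, mem_subgroupOf] at this
      exact this.mpr ⟨fun e => absurd e hbE, fun e => absurd (inv_mem_iff.mp e) haE⟩
  have hE : ∀ e ∈ ee V p, ∀ w ∈ ws V z, ⁅e, w⁆ ∈ zpowers z := fun e he w hw => kq_comm (he.2 z hz hz1) hw
  have hsplit : ∀ b ∈ ws V p, ∀ w ∈ ws V z, ∃ x ∈ zpowers z, ⁅b, w⁆ = x ∨ ⁅b, w⁆ = x * ⁅a, w⁆ := by
    intro b hb w hw
    rcases hcos b hb with h3 | h3
    · exact ⟨_, hE b h3 w hw, Or.inl rfl⟩
    · refine ⟨_, hE _ h3 w hw, Or.inr ?_⟩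
      rw [← h.one.comm_mul_left hp hp1 hz hz1 (ee_le_ws V p h3) ha hw, inv_mul_cancel_right]
  have hff : ∀ w ∈ ws V z, (⁅a, w⁆ ∈ zpowers z ↔ w ∈ ff V z p) := by
    intro w hw
    constructor
    · intro h3
      refine ⟨hw, hcz hw, fun b hb => ?_⟩
      obtain ⟨x, hx, e | e⟩ := hsplit b hb w hw
      · rw [e]; exact hx
      · rw [e]; exact mul_mem hx h3
    · exact fun h3 => h3.2.2 a ha
  have hVF : V ≤ ff V z p := fun v hv => (hff v (hVW hv)).mp (by
    rw [commutatorElement_eq_one_iff_mul_comm.mpr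
      (h.one.V_comm hv (h.one.ws_le_centralizer_V hp hp1 ha)).symm]
    exact one_mem _)
  -- some commutator is in `V - ⟨z⟩`
  obtain ⟨w₀, hw₀, hw₀V, hw₀z⟩ : ∃ w ∈ ws V z, ⁅a, w⁆ ∈ V ∧ ⁅a, w⁆ ∉ zpowers z := by
    obtain ⟨w, hw, b, hb, h3, h4⟩ := h.one.exists_lambda hz hz1 hp hp1 hpz
    rw [← h.one.comm_swap hz hz1 hp hp1 hw hb] at h3 h4
    obtain ⟨x, hx, e | e⟩ := hsplit b hb w hw
    · exact absurd (by rw [e]; exact hx) h4
    · have hxV := zpowers_le_of_mem hz hx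
      refine ⟨w, hw, ?_, fun h5 => h4 (by rw [e]; exact mul_mem hx h5)⟩
      rw [e] at h3
      exact (mul_mem_cancel_left hxV).mp h3
  have hw₀F : w₀ ∉ ff V z p := fun e => hw₀z ((hff w₀ hw₀).mpr e)
  have hφ : ∀ w ∈ ws V z, ⁅a, w⁆ ∈ V := by
    intro w₁ hw₁
    by_contra hcon
    have hci := h.one.comm_ii_mem hp hp1 hz hz1 ha hw₁
    have hc1 : ⁅a, w₁⁆ ∈ ff V z p := (hff _ (ii_le hz hz1 hci)).mp (by
      rw [commutatorElement_eq_one_iff_mul_comm.mpr (h.one.comm hp hp1 a ha _ (ii_le hp hp1 hci))]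
      exact one_mem _)
    have hw₁F : w₁ ∉ ff V z p := fun e => hcon (zpowers_le_of_mem hz ((hff w₁ hw₁).mpr e))
    have h3 := mul_mem_of_card_lt hVF (fun w hw => hw.1) h.one.ln.card_V h.card (fun hle => hcon (hle hc1))
      hw₀ hw₁ hw₀F hw₁F
    have h4 := (hff _ (mul_mem hw₀ hw₁)).mpr h3
    rw [h.one.comm_mul_right hp hp1 hz hz1 ha hw₀ hw₁] at h4
    exact hcon ((mul_mem_cancel_left hw₀V).mp (zpowers_le_of_mem hz h4))
  refine ⟨⟨w₀, hw₀, hw₀F⟩, fun w hw w' hw' h3 h4 => ?_, a, ha, fun w hw => ⟨hφ w hw, hff w hw⟩⟩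
  refine (hff _ (mul_mem hw hw')).mp ?_
  rw [h.one.comm_mul_right hp hp1 hz hz1 ha hw hw']
  exact h.mul_mem_zp (hφ w hw) (hφ w' hw') (fun e => h3 ((hff w hw).mp e)) (fun e => h4 ((hff w' hw').mp e))

/-- `|W_p : W_p ∩ K_z| = 2`, `p ∈ V` -/
theorem index_two [Finite G] (h : Tw2 T V z) (hp : p ∈ V) (hp1 : p ≠ 1) (hpz : p ≠ z) {b c : G}
    (hb : b ∈ ws V p) (hc : c ∈ ws V p) (hbc : b ∈ kq V z ↔ c ∈ kq V z) : b * c⁻¹ ∈ kq V z := by
  have hz := h.z_mem
  have hz1 := h.z_ne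
  have h2 : (ee V p).relIndex (ws V p) = 2 := by rw [h.one.relIndex_ee_ws hp hp1 hz hz1]; exact h.two
  have hpi : ((ee V p).subgroupOf (ws V p)).index = 2 := h2
  have hE : ∀ x ∈ ws V p, (x ∈ ee V p ↔ x ∈ kq V z) := fun x hx =>
    ⟨fun h3 => h3.2 z hz hz1, fun h3 => h.one.mem_ee hp hp1 hz hz1 (Ne.symm hpz) hx h3⟩
  have := Subgroup.mul_mem_iff_of_index_two hpi (a := ⟨b, hb⟩) (b := ⟨c⁻¹, inv_mem hc⟩)
  rw [mem_subgroupOf, mem_subgroupOf, mem_subgroupOf] at this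
  rw [← hE _ (mul_mem hb (inv_mem hc))]
  refine this.mpr ?_
  change b ∈ ee V p ↔ c⁻¹ ∈ ee V p
  rw [inv_mem_iff, hE b hb, hE c hc]
  exact hbc

theorem nb_ws {V : Subgroup G} {z p : G} (hp : p ∈ nb V z) : p ∈ ws V z := by
  obtain ⟨L, hL, hpL, -, -⟩ := hp
  exact le_ws hL hpL

theorem nb_not (h : Tw2 T V z) (hp : p ∈ nb V z) : p ∉ zpowers z := by
  obtain ⟨L, hL, hpL, hp1, hpz⟩ := hp
  rw [h.zp]
  push Not
  exact ⟨hp1, hpz⟩

theorem zmul_nb (h : Tw2 T V z) (hp : p ∈ nb V z) : z * p ∈ nb V z := by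
  obtain ⟨L, hL, hpL, hp1, hpz⟩ := hp
  refine ⟨L, hL, mul_mem hL.2 hpL, fun e => hpz ?_, fun e => hp1 (by simpa using e)⟩
  have := mul_eq_one_iff_eq_inv.mp e
  rw [inv_eq_self (h.one.sqz p (le_ws hL hpL))] at this
  exact this.symm

/-- the facts for an arbitrary point collinear with `z` -/
theorem facts' [Finite G] (h : Tw2 T V z) (hp : p ∈ nb V z) :
    (∃ w ∈ ws V z, w ∉ ff V z p) ∧ (∀ w ∈ ws V z, ∀ w' ∈ ws V z, w ∉ ff V z p → w' ∉ ff V z p →
      w * w' ∈ ff V z p) ∧ ∃ a ∈ ws V p, a * z = z * a ∧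
        (∀ w ∈ ws V z, w ∈ ff V z p → a * w * a⁻¹ * w⁻¹ ∈ zpowers z) ∧
        (∀ w ∈ ws V z, w ∉ ff V z p → a * w * a⁻¹ * w⁻¹ = p ∨ a * w * a⁻¹ * w⁻¹ = z * p) ∧
        p ∈ ff V z p := by
  have hp' := hp
  obtain ⟨g, hpL, hp1, hpz, hL, T', h'⟩ := h.line_nb hp'
  obtain ⟨h1, h2, a, ha, h3⟩ := h'.facts hpL hp1 hpz
  rw [ff_cj, ws_cj] at h1
  rw [ff_cj, ws_cj] at h2
  rw [ws_cj] at ha
  have h3' : ∀ w ∈ ws V z, ⁅a, w⁆ ∈ cj g V ∧ (⁅a, w⁆ ∈ zpowers z ↔ w ∈ ff V z p) := by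
    intro w hw
    have := h3 w (by rw [ws_cj]; exact hw)
    rwa [ff_cj] at this
  have haz : a * z = z * a := mem_centralizer_singleton_iff.mp (h.one.nb_le_cent hp' ha)
  refine ⟨h1, h2, a, ha, haz, fun w hw hwF => ((h3' w hw).2.mpr hwF), fun w hw hwF => ?_, ?_⟩
  · obtain ⟨h4, h5⟩ := h3' w hw
    have h6 : ⁅a, w⁆ ∉ zpowers z := fun e => hwF (h5.mp e)
    rw [h.zp] at h6
    push Not at h6
    exact (h'.one.third h'.z_mem h'.z_ne hpL hp1 hpz h4 h6.1).resolve_left h6.2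
  · refine ⟨le_ws hL hpL, h.one.ws_le_cent (le_ws hL hpL), fun b hb => ?_⟩
    have hb' : b ∈ ws (cj g V) p := by rw [ws_cj]; exact hb
    rw [commutatorElement_eq_one_iff_mul_comm.mpr
      (h'.one.comm hpL hp1 b hb' p (h'.one.V_le hpL hp1 hpL))]
    exact one_mem _

/-- a mover of a line -/
theorem mover [Finite G] (h : Tw2 T V z) (hp : p ∈ nb V z) : ∃ t ∈ kq V z, t * p * t⁻¹ = z * p := by
  obtain ⟨g, hpL, hp1, hpz, hL, T', h'⟩ := h.line_nb hp
  obtain ⟨t, ht, -, ht2⟩ := h'.one.exists_move h'.z_mem h'.z_ne hpL hp1 hpz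
  rw [kq_cj] at ht
  exact ⟨t, ht, ht2⟩

theorem z_ff [Finite G] (h : Tw2 T V z) (hp : p ∈ nb V z) : z ∈ ff V z p := by
  have hzw := h.one.V_le h.z_mem h.z_ne h.z_mem
  refine ⟨hzw, h.one.ws_le_cent hzw, fun a ha => ?_⟩
  rw [commutatorElement_eq_one_iff_mul_comm.mpr (mem_centralizer_singleton_iff.mp (h.one.nb_le_cent hp ha))]
  exact one_mem _

theorem ff_zmul [Finite G] (h : Tw2 T V z) (hp : p ∈ nb V z) : ff V z (z * p) = ff V z p := by
  have hz := h.z_mem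
  have key : ∀ p ∈ nb V z, ff V z p ≤ ff V z (z * p) := by
    intro p hp w hw
    obtain ⟨t, ht, ht2⟩ := h.mover hp
    have h1 := conj_mem_ff (kq_le_centralizer V z ht) hw
    rw [ht2] at h1
    rcases h.one.kq_cases hz ht hw.1 with e | e
    · rwa [e] at h1
    · rw [e] at h1
      exact (mul_mem_cancel_left (h.z_ff (h.zmul_nb hp))).mp h1
  refine le_antisymm ?_ (key p hp)
  have := key _ (h.zmul_nb hp)
  rwa [← mul_assoc, h.zz, one_mul] at this

/-- `q ∈ F_p` implies `p ∈ F_q` -/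
theorem symm [Finite G] (h : Tw2 T V z) (hp : p ∈ nb V z) (hq : q ∈ nb V z) (hqp : q ∈ ff V z p) :
    p ∈ ff V z q := by
  obtain ⟨⟨w, hw, hwF⟩, -, a, ha, haz, h1, h2, -⟩ := h.facts' hp
  have hpW := nb_ws hp
  have hqW := nb_ws hq
  have hCn := centralizer_le_normalizer_kq V z
  have hCw := centralizer_le_normalizer_ws V z
  have haC : a ∈ centralizer ({z} : Set G) := mem_centralizer_singleton_iff.mpr haz
  refine ⟨hpW, h.one.ws_le_cent hpW, fun b hb => ?_⟩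
  have hbC : b ∈ centralizer ({z} : Set G) := h.one.nb_le_cent hq hb
  have hbz : b * z = z * b := mem_centralizer_singleton_iff.mp hbC
  -- `s ∈ K_z` with `s q s⁻¹ = a q a⁻¹`
  obtain ⟨s, hs, hsq⟩ : ∃ s ∈ kq V z, s * q * s⁻¹ = a * q * a⁻¹ := by
    rcases h.zp.mp (h1 q hqW hqp) with e | e
    · refine ⟨1, one_mem _, ?_⟩
      have : a * q * a⁻¹ = q := by
        calc a * q * a⁻¹ = (a * q * a⁻¹ * q⁻¹) * q := by group
          _ = q := by rw [e, one_mul]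
      rw [this]; simp
    · obtain ⟨t, ht, ht2⟩ := h.mover hq
      refine ⟨t, ht, ?_⟩
      rw [ht2]
      calc z * q = (a * q * a⁻¹ * q⁻¹) * q := by rw [e]
        _ = a * q * a⁻¹ := by group
  have hsC := kq_le_centralizer V z hs
  -- `κ = a b a⁻¹ b⁻¹ ∈ K_z`
  obtain ⟨g, hqL, hq1, hqz, hL, T', h'⟩ := h.line_nb hq
  have hκ : a * b * a⁻¹ * b⁻¹ ∈ kq V z := by
    set c := s⁻¹ * (a * b * a⁻¹) * s with hc
    have hcw : c ∈ ws V q := by
      have h3 := conj_mem_ws s⁻¹ (conj_mem_ws a hb)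
      have e : s⁻¹ * (a * q * a⁻¹) * s⁻¹⁻¹ = q := by rw [← hsq]; group
      rwa [e, inv_inv] at h3
    have hiff : c ∈ kq V z ↔ b ∈ kq V z := by
      constructor
      · intro h3
        have h4 := conj_mem_of_normalizer' hCn haC (conj_mem_of_normalizer hCn hsC h3)
        have e : a⁻¹ * (s * c * s⁻¹) * a = b := by rw [hc]; group
        rwa [e] at h4
      · intro h3
        exact conj_mem_of_normalizer' hCn hsC (conj_mem_of_normalizer hCn haC h3)
    have h3 : c * b⁻¹ ∈ kq V z := by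
      have := h'.index_two (b := c) (c := b) hqL hq1 hqz (by rw [ws_cj]; exact hcw)
        (by rw [ws_cj]; exact hb) (by rw [kq_cj]; exact hiff)
      rwa [kq_cj] at this
    have hcC : c ∈ centralizer ({z} : Set G) := h.one.nb_le_cent hq hcw
    have h4 := mul_mem (mul_mem hs (conj_mem_of_normalizer hCn hcC (inv_mem hs))) h3
    have e : s * (c * s⁻¹ * c⁻¹) * (c * b⁻¹) = a * b * a⁻¹ * b⁻¹ := by rw [hc]; group
    rwa [e] at h4
  set κ := a * b * a⁻¹ * b⁻¹ with hκd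
  obtain ⟨gp, hpL, hp1, hpz, hpLn, -⟩ := h.line_nb hp
  -- `[a, x] ∈ L_p = {1, z, p, z p}` for `x ∈ W_z`
  have hLp : ∀ x ∈ ws V z, a * x * a⁻¹ * x⁻¹ ∈ cj gp V := by
    intro x hx
    by_cases hxF : x ∈ ff V z p
    · exact zpowers_le_of_mem hpLn.2 (h1 x hx hxF)
    · rcases h2 x hx hxF with e | e
      · rw [e]; exact hpL
      · rw [e]; exact mul_mem hpLn.2 hpL
  have hw' : b * w * b⁻¹ ∈ ws V z := conj_mem_of_normalizer hCw hbC hw
  -- `b [a, w] b⁻¹ ∈ L_p`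
  have h5 : b * (a * w * a⁻¹ * w⁻¹) * b⁻¹ ∈ cj gp V := by
    set w' := b * w * b⁻¹ with hw'd
    have h6 := hLp w' hw'
    set y := a * w' * a⁻¹ with hyd
    have hy : y ∈ ws V z := conj_mem_of_normalizer hCw haC hw'
    have e1 : b * (a * w * a⁻¹ * w⁻¹) * b⁻¹ = (κ⁻¹ * y * κ⁻¹⁻¹ * y⁻¹) * (y * w'⁻¹) := by
      rw [hκd, hyd, hw'd]; group
    rw [e1]
    exact mul_mem (zpowers_le_of_mem hpLn.2 (kq_comm (inv_mem hκ) hy)) h6
  have h6 : b * p * b⁻¹ ∈ cj gp V := by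
    rcases h2 w hw hwF with e | e
    · rwa [e] at h5
    · rw [e] at h5
      have e1 : b * (z * p) * b⁻¹ = z * (b * p * b⁻¹) := by
        calc b * (z * p) * b⁻¹ = (b * z) * p * b⁻¹ := by group
          _ = z * (b * p * b⁻¹) := by rw [hbz]; group
      rw [e1] at h5
      exact (mul_mem_cancel_left hpLn.2).mp h5
  obtain ⟨-, -, Tg, hg⟩ := h.line hpLn
  have h7 : b * p * b⁻¹ = p ∨ b * p * b⁻¹ = z * p := by
    rcases hg.one.ln.four hpLn.2 hpL h.z_ne hp1 (Ne.symm hpz) h6 with e | e | e | e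
    · exact absurd (conj_eq_one_iff.mp e) hp1
    · exfalso
      apply hpz
      calc p = b⁻¹ * (b * p * b⁻¹) * b := by group
        _ = b⁻¹ * (z * b) := by rw [e]; group
        _ = z := by rw [← hbz]; group
    · exact Or.inl e
    · exact Or.inr e
  rw [commutatorElement_def]
  rcases h7 with e | e
  · rw [e, mul_inv_cancel]; exact one_mem _
  · rw [e, mul_inv_cancel_right]; exact mem_zpowers z

theorem pmul [Finite G] (h : Tw2 T V z) (hp : p ∈ nb V z) (hq : q ∈ nb V z) (hqp : q ∉ ff V z p) :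
    p * q ∈ nb V z ∧ ff V z p ⊓ ff V z q ≤ ff V z (p * q) := by
  obtain ⟨-, -, a, ha, haz, h1, h2, hpp⟩ := h.facts' hp
  have hqW := nb_ws hq
  have haC : a ∈ centralizer ({z} : Set G) := mem_centralizer_singleton_iff.mpr haz
  have h3 := conj_mem_nb haC hq
  have h4 : ff V z p ⊓ ff V z q ≤ ff V z (a * q * a⁻¹) := by
    rintro d ⟨hdp, hdq⟩
    have h5 := conj_mem_ff haC hdq
    have h6 := h1 d hdp.1 hdp
    have h7 := mul_mem (inv_mem (zpowers_le_of_mem (h.z_ff h3) h6)) h5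
    have e : (a * d * a⁻¹ * d⁻¹)⁻¹ * (a * d * a⁻¹) = d := by group
    rwa [e] at h7
  rcases h2 q hqW hqp with e | e
  · have e1 : a * q * a⁻¹ = p * q := by
      calc a * q * a⁻¹ = (a * q * a⁻¹ * q⁻¹) * q := by group
        _ = p * q := by rw [e]
    rw [e1] at h3 h4
    exact ⟨h3, h4⟩
  · have e1 : a * q * a⁻¹ = z * (p * q) := by
      calc a * q * a⁻¹ = (a * q * a⁻¹ * q⁻¹) * q := by group
        _ = z * (p * q) := by rw [e, mul_assoc]
    have h5 := h.zmul_nb h3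
    rw [e1, ← mul_assoc, h.zz, one_mul] at h5
    rw [e1, h.ff_zmul h5] at h4
    exact ⟨h5, h4⟩

/-- **`|W_z| = 16` implies `|A| ≠ 2`** -/
theorem false [Finite G] (h : Tw2 T V z) : False := by
  have hz := h.z_mem
  have hz1 := h.z_ne
  have hVW := h.one.V_le hz hz1
  have ab := h.one.comm hz hz1
  have sq := h.one.sq hz hz1
  obtain ⟨y, hy, hy1, hyz⟩ := h.one.ln.exists_y
  obtain ⟨r, hr, s, hs, hrs, hd, hD⟩ := comb (W := ws V z) (z := z) (N := nb V z) (F := ff V z)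
    h.card ab sq (hVW hz) hz1 (fun p hp => nb_ws hp) (fun p hp => h.nb_not hp)
    (fun X hzX hX => ws_le fun L hL x hx => by
      by_cases hxz : x ∈ zpowers z
      · exact zpowers_le_of_mem hzX hxz
      · rw [h.zp] at hxz
        push Not at hxz
        exact hX x ⟨L, hL, hx, hxz.1, hxz.2⟩)
    (fun p _ w hw => hw.1) (fun p hp => h.z_ff hp)
    (fun p hp => (h.facts' hp).2.2.choose_spec.2.2.2.2)
    (fun p hp a ha b hb h1 h2 => (h.facts' hp).2.1 a ha b hb h1 h2)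
    (fun p hp hle => by
      obtain ⟨w, hw, hwF⟩ := (h.facts' hp).1
      exact hwF (hle hw))
    (fun p hp => h.ff_zmul hp) (fun p hp q hq hqp => h.symm hp hq hqp)
    (fun p hp q hq hqp => h.pmul hp hq hqp)
    ⟨y, h.one.mem_nb hy hy1 hyz⟩
  obtain ⟨⟨w₀, hw₀, hw₀F⟩, -, a, ha, haz, a1, a2, hrr⟩ := h.facts' hr
  obtain ⟨-, -, b, hb, hbz, b1, b2, hss⟩ := h.facts' hs
  rw [← hrs] at b1 b2 hss
  have hrW := nb_ws hr
  have hsW := nb_ws hs
  have hsr := ab s hsW r hrW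
  have haC : a ∈ centralizer ({z} : Set G) := mem_centralizer_singleton_iff.mpr haz
  have hzcm : zpowers z ≤ cm V z := zpowers_le.mpr h.one.isSub_cm.z_mem
  have hdcm : r * s ∈ cm V z := ⟨mul_mem hrW hsW, h.one.ws_le_cent (mul_mem hrW hsW),
    fun y hy a ha => (hD y hy).2.2 a ha⟩
  have hzF : zpowers z ≤ ff V z r := zpowers_le.mpr (h.z_ff hr)
  have hsplit : ∀ w, a * b * w * (a * b)⁻¹ * w⁻¹ = a * (b * w * b⁻¹ * w⁻¹) * a⁻¹ * (a * w * a⁻¹ * w⁻¹) :=
    fun w => by group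
  have hin : ∀ w ∈ ws V z, w ∈ ff V z r → a * b * w * (a * b)⁻¹ * w⁻¹ ∈ zpowers z := by
    intro w hw hwF
    rw [hsplit, conj_zpowers haC (b1 w hw hwF)]
    exact mul_mem (b1 w hw hwF) (a1 w hw hwF)
  have hout : ∀ w ∈ ws V z, w ∉ ff V z r → ∃ e ∈ zpowers z, a * b * w * (a * b)⁻¹ * w⁻¹ = e * (r * s) := by
    intro w hw hwF
    obtain ⟨e1, he1, h1⟩ : ∃ e ∈ zpowers z, a * w * a⁻¹ * w⁻¹ = e * r := by
      rcases a2 w hw hwF with e | e
      · exact ⟨1, one_mem _, by rw [e, one_mul]⟩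
      · exact ⟨z, mem_zpowers z, e⟩
    obtain ⟨e2, he2, h2⟩ : ∃ e ∈ zpowers z, b * w * b⁻¹ * w⁻¹ = e * s := by
      rcases b2 w hw hwF with e | e
      · exact ⟨1, one_mem _, by rw [e, one_mul]⟩
      · exact ⟨z, mem_zpowers z, e⟩
    have hx : e2 * s ∈ ff V z r := mul_mem (hzF he2) hss
    have h3 := a1 _ hx.1 hx
    refine ⟨(a * (e2 * s) * a⁻¹ * (e2 * s)⁻¹) * (e2 * e1), mul_mem h3 (mul_mem he2 he1), ?_⟩
    rw [hsplit, h1, h2]
    have he1W : e1 ∈ ws V z := zpowers_le_of_mem (hVW hz) he1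
    calc a * (e2 * s) * a⁻¹ * (e1 * r)
        = (a * (e2 * s) * a⁻¹ * (e2 * s)⁻¹) * (e2 * (s * e1) * r) := by group
      _ = (a * (e2 * s) * a⁻¹ * (e2 * s)⁻¹) * (e2 * e1) * (s * r) := by rw [ab s hsW e1 he1W]; group
      _ = (a * (e2 * s) * a⁻¹ * (e2 * s)⁻¹) * (e2 * e1) * (r * s) := by rw [hsr]
  have hgK : a * b ∈ kq V z := by
    refine h.one.faithful (mul_mem haC (mem_centralizer_singleton_iff.mpr hbz)) fun w hw => ?_
    by_cases hwF : w ∈ ff V z r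
    · exact hzcm (hin w hw hwF)
    · obtain ⟨e, he, h1⟩ := hout w hw hwF
      rw [h1]
      exact mul_mem (hzcm he) hdcm
  obtain ⟨e, he, h1⟩ := hout w₀ hw₀ hw₀F
  have h2 := kq_comm hgK hw₀
  rw [h1] at h2
  exact hd ((mul_mem_cancel_left he).mp h2)

end Tw2

end Cfsg.Agent.Omega.NO3S.TwoOne

end

section


/-!
# NO-3S, `q = 2`, `n = 1`: `|W_z| = 16` (helper225's text #15275 (A)): the exit

* `One.std` : `One T V z`, `|W_z| = 16` and nonlocality give `Std T V z` (`|A| = 4`, `E_p = V`);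
* `One.extra_card` : `O₂(C_G(z)) = K_z` is extraspecial of order `2^7`; `One.known_card` : `G` is known (S1762:
  `L₅(2)`, `M₂₄`, `He`);
* `known_of_card` : the same in terms of `Hyp S P`.
-/

set_option autoImplicit false

namespace Cfsg.Agent.Omega.NO3S.TwoOne

open Subgroup Cfsg Cfsg.Agent.ZN Cfsg.Agent.MinSimple.Geo Cfsg.Agent.Omega.CaseL
open Cfsg.Agent.ZN.Block (conj_mem_of_normalizer conj_mem_of_normalizer' le_normalizer_of_forall
  mem_normalizer_of)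

universe u

section

variable {G : Type u} [Group G] {T V : Subgroup G} {z : G}

/-- nonlocality for all subgroups of `C_G(z)`, in characteristic 2 type -/
theorem nonloc_of [Finite G] (hc : IsCharacteristicTwoType G) (hz : z * z = 1) (hz1 : z ≠ 1)
    (nl : ∀ N : Subgroup G, IsPGroup 2 N → centralizer ({z} : Set G) ≤ normalizer (N : Set G) →
      normalizer (V : Set G) ≤ normalizer (N : Set G) → N = ⊥)
    {N : Subgroup G} (hN : N ≤ centralizer ({z} : Set G))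
    (h1 : centralizer ({z} : Set G) ≤ normalizer (N : Set G))
    (h2 : normalizer (V : Set G) ≤ normalizer (N : Set G)) : N = ⊥ := by
  have h0 := ZN.normalizer_le_normalizer_o2 N
  have hb : o2 N = ⊥ := nl _ (Block.o2_isPGroup N) (h1.trans h0) (h2.trans h0)
  set C := centralizer ({z} : Set G) with hC
  have hQ : N ⊓ o2 C = ⊥ := by
    rw [eq_bot_iff, ← hb]
    refine Block.le_o2 ((Block.o2_isPGroup C).to_le inf_le_right) inf_le_left ?_
    refine le_normalizer_of_forall fun n hn x hx => ⟨?_, ?_⟩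
    · exact N.mul_mem (N.mul_mem hn hx.1) (N.inv_mem hn)
    · exact conj_mem_of_normalizer (Block.le_normalizer_o2 C) (hN hn) hx.2
  rw [eq_bot_iff]
  intro n hn
  have hnC := hN hn
  have hcen : n ∈ centralizer (o2 C : Set G) := by
    rw [mem_centralizer_iff]
    intro q hq
    have hqC := Block.o2_le C hq
    have h3 : n * q * n⁻¹ * q⁻¹ ∈ N ⊓ o2 C := by
      refine ⟨?_, ?_⟩
      · have e : n * q * n⁻¹ * q⁻¹ = n * (q * n⁻¹ * q⁻¹) := by group
        rw [e]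
        exact N.mul_mem hn (conj_mem_of_normalizer h1 hqC (N.inv_mem hn))
      · exact (o2 C).mul_mem (conj_mem_of_normalizer (Block.le_normalizer_o2 C) hnC hq) ((o2 C).inv_mem hq)
    rw [hQ, mem_bot] at h3
    calc q * n = (n * q * n⁻¹ * q⁻¹)⁻¹ * (n * q) := by group
      _ = n * q := by rw [h3]; group
  have h4 : n ∈ o2 C := inf_centralizer_o2_le hc (isTwoLocal_centralizer hz hz1) ⟨hnC, hcen⟩
  rw [← hQ]
  exact ⟨hn, h4⟩

namespace One

/-- `|W_z| = 16` implies `|A| = 4` -/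
theorem ee_card [Finite G] (h : One T V z) (h16 : Nat.card (ws V z) = 16) :
    (ee V z).relIndex (ws V z) = 4 := by
  have hz := h.ln.z_mem
  have hz1 := h.ln.z_ne
  have h1 := relIndex_mul_card (ee_le_ws V z)
  have h2 := relIndex_mul_card (h.V_le_ee hz hz1)
  rw [h.ln.card_V] at h2
  rw [h16] at h1
  have h3 : (ee V z).relIndex (ws V z) ≠ 1 := fun e => h.not_ws_le_ee hz hz1 (relIndex_eq_one.mp e)
  have h4 : (ee V z).relIndex (ws V z) ≠ 2 := fun e => Tw2.false ⟨h, h16, e⟩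
  have h5 : (ee V z).relIndex (ws V z) ∣ 4 := by
    refine ⟨V.relIndex (ee V z), ?_⟩
    rw [← h2] at h1
    have h6 : (ee V z).relIndex (ws V z) * V.relIndex (ee V z) * 4 = 4 * 4 := by
      rw [mul_assoc]; exact h1
    exact (Nat.eq_of_mul_eq_mul_right (by norm_num) h6).symm
  have h6 := Nat.le_of_dvd (by norm_num) h5
  interval_cases h7 : (ee V z).relIndex (ws V z) <;> omega

theorem card_ws_point (h : One T V z) {p : G} (hp : p ∈ V) (hp1 : p ≠ 1) :
    Nat.card (ws V p) = Nat.card (ws V z) := by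
  obtain ⟨g, -, hg, -⟩ := h.point hp hp1
  rw [← hg, ← cj_ws, card_cj]

theorem ee_le_V [Finite G] (h : One T V z) (h16 : Nat.card (ws V z) = 16) {p : G} (hp : p ∈ V)
    (hp1 : p ≠ 1) : ee V p ≤ V := by
  have h1 := h.ee_card h16
  rw [h.relIndex_ee_ws h.ln.z_mem h.ln.z_ne hp hp1] at h1
  have h2 := relIndex_mul_card (ee_le_ws V p)
  rw [h1, h.card_ws_point hp hp1, h16] at h2
  have h3 : Nat.card (ee V p) = 4 := by omega
  exact (eq_of_le_of_card_ge (h.V_le_ee hp hp1) (by rw [h3, h.ln.card_V])).ge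

theorem std [Finite G] (h : One T V z) (h16 : Nat.card (ws V z) = 16)
    (nl : ∀ N : Subgroup G, IsPGroup 2 N → centralizer ({z} : Set G) ≤ normalizer (N : Set G) →
      normalizer (V : Set G) ≤ normalizer (N : Set G) → N = ⊥) : Std T V z where
  one := h
  card := h16
  le := fun _ hp hp1 => h.ee_le_V h16 hp hp1
  nl := fun _ h1 h2 h3 => nonloc_of h.ln.charTwo h.ln.zz h.ln.z_ne nl h1 h2 h3

/-- **`|W_z| = 16`: the exit S1762.** -/
theorem known_card [Finite G] [IsSimpleGroup G] (h : One T V z) (h16 : Nat.card (ws V z) = 16)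
    (nl : ∀ N : Subgroup G, IsPGroup 2 N → centralizer ({z} : Set G) ≤ normalizer (N : Set G) →
      normalizer (V : Set G) ≤ normalizer (N : Set G) → N = ⊥)
    (hna : ¬ IsMulCommutative G) (h62 : Exits.St1762.{u}) : IsKnownSimple' G :=
  (h.std h16 nl).known hna h62

end One

end

open Cfsg.Agent.Omega.MinPar Cfsg.Agent.Omega.FrameNOFF

/-- **`|W_z| = 16`** in terms of `Hyp S P`. -/
theorem known_of_card {G : Type u} [Group G] [Finite G] {S : Sylow 2 G} {P : Subgroup G}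
    (h : Hyp S P) (hc : Nat.card (zl (S : Subgroup G) P) = 4) {z : G}
    (h1 : One (S : Subgroup G) (zl (S : Subgroup G) P) z) (hz : z ∈ zc (S : Subgroup G))
    (h16 : Nat.card (WW (S : Subgroup G) P) = 16) (h62 : Exits.St1762.{u}) : IsKnownSimple' G := by
  have := h.ctx.simple
  have hz1 := h1.ln.z_ne
  have hC := centralizer_singleton_eq_CZ h hc hz hz1
  refine h1.known_card (by rw [ws_four h hc hz hz1]; exact h16) (fun N h2 h3 h4 => ?_) ?_ h62
  · rw [hC] at h3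
    exact h.nonLoc N h2 ((le_normalizer_zl _ _).trans h4) h3
  · exact h.ctx.nonComm

end Cfsg.Agent.Omega.NO3S.TwoOne

end

section


/-!
# NO-3S, `q = 2`, `n = 1`, no `λ`-transvections: the relation `λ' ∈ C_M(A_λ)` is symmetric
(helper507, bb #18693, (SYM1), (SYM2); no hypothesis on planes, on `|A|` or on `D_x`)

`h : One T V z`, `NT V`, `L` a line on `z`, `y ∈ V`, `q ∈ L` points `≠ z`.

* `One.not_mem_dd_of_move` (SYM1) : some `e ∈ E_q` moves `y` implies `q ∉ D_z(V)`;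
* `One.ee_of_dd` (SYM1) : `q ∈ D_z(V)` implies `y ∈ E_z(L)`;
* `One.dd_symm`, `One.dd_iff` (SYM2) : `q ∈ D_z(V)` iff `y ∈ D_z(L)`;
* `One.inf_le_ee` : `y ∉ I_L` implies `W_y ∩ W_q ≤ E_y ∩ E_q` (`A_λ ∩ A_λ' = 1`);
* `One.comm_mem_ee` : `q ∈ D_z(V)`, `y ∉ I_L` imply `[W_y, W_q] ≤ E_y ∩ E_q` (`[A_λ, A_λ'] = 1`).
-/

set_option autoImplicit false
set_option linter.unusedSectionVars false

namespace Cfsg.Agent.Omega.NO3S.TwoOne

open Subgroup Cfsg Cfsg.Agent.ZN Cfsg.Agent.MinSimple.Geo Cfsg.Agent.Omega.CaseL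
open Cfsg.Agent.ZN.Block (conj_mem_of_normalizer conj_mem_of_normalizer' le_normalizer_of_forall
  mem_normalizer_of)
open scoped commutatorElement

universe u

variable {G : Type u} [Group G]

/-- `|A|` is the same for all lines -/
theorem relIndex_ee_line {V : Subgroup G} (g x : G) :
    (ee (cj g V) (g * x * g⁻¹)).relIndex (ws (cj g V) (g * x * g⁻¹)) = (ee V x).relIndex (ws V x) := by
  have key : ∀ (U : Subgroup G) (g x : G), ∀ w ∈ ee U x, g * w * g⁻¹ ∈ ee (cj g U) (g * x * g⁻¹) := by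
    intro U g x w hw
    refine ⟨by rw [ws_cj]; exact conj_mem_ws g hw.1, fun q hq hq1 => ?_⟩
    have h1 := hw.2 _ (mem_cj.mp hq) (conj_ne_one hq1)
    have h2 := conj_mem_kq g h1
    have e : g * (g⁻¹ * q * g) * g⁻¹ = q := by group
    rwa [e, ← kq_cj U g] at h2
  have h1 : cj g (ee V x) = ee (cj g V) (g * x * g⁻¹) := by
    apply le_antisymm
    · intro w hw
      have := key V g x _ (mem_cj.mp hw)
      have e : g * (g⁻¹ * w * g) * g⁻¹ = w := by group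
      rwa [e] at this
    · intro w hw
      rw [mem_cj]
      have := key (cj g V) g⁻¹ _ w hw
      have e1 : cj g⁻¹ (cj g V) = V := by rw [cj_cj, inv_mul_cancel, cj_one]
      have e2 : g⁻¹ * (g * x * g⁻¹) * g⁻¹⁻¹ = x := by group
      rw [e1, e2, inv_inv] at this
      exact this
  rw [← h1, ws_cj, ← cj_ws, relIndex_cj]

namespace One

variable {T V L : Subgroup G} {z y q : G}

theorem relIndex_line [Finite G] (h : One T V z) (hL : L ∈ lines V z) {p q : G} (hp : p ∈ V) (hp1 : p ≠ 1)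
    (hq : q ∈ L) (hq1 : q ≠ 1) : (ee L q).relIndex (ws L q) = (ee V p).relIndex (ws V p) := by
  obtain ⟨g, rfl, T', h'⟩ := h.of_line hL h.ln.z_ne
  have h1 := h'.relIndex_ee_ws hq hq1 (conj_mem_cj (g := g) hp) (fun e => hp1 (conj_eq_one_iff.mp e))
  rw [h1, relIndex_ee_line]

theorem mem_lines_symm (h : One T V z) (hL : L ∈ lines V z) : V ∈ lines L z := by
  obtain ⟨⟨g, rfl⟩, -⟩ := hL
  exact ⟨⟨g⁻¹, by rw [cj_cj, inv_mul_cancel, cj_one]⟩, h.ln.z_mem⟩

/-- **(SYM1)** if some `e ∈ E_q` moves `y` then `q ∉ D_z(V)` -/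
theorem not_mem_dd_of_move [Finite G] (h : One T V z) (hN : NT V) (hL : L ∈ lines V z) (hy : y ∈ V)
    (hy1 : y ≠ 1) (hyz : y ≠ z) (hq : q ∈ L) (hq1 : q ≠ 1) (hqz : q ≠ z) {e : G} (he : e ∈ ee L q)
    (hey : e * y * e⁻¹ = z * y) : q ∉ dd V z := by
  intro hqD
  have hz := h.ln.z_mem
  have hz1 := h.ln.z_ne
  obtain ⟨-, -, T', h'⟩ := h.of_line hL hz1
  have hNL : NT L := hN.of_lines hL
  have hek : e ∈ kq V z := by
    have := he.2 z h'.ln.z_mem hz1
    rwa [kq_of_lines hL] at this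
  have hzy : z * y ∈ V := mul_mem hz hy
  have hzy1 : z * y ≠ 1 := h.mul_ne_one hy (Ne.symm hyz)
  have hez : e * z * e⁻¹ = z := conj_eq_of_comm (h.kq_p hek)
  -- `w^e ∈ W_{zy}`
  have hwe : ∀ w ∈ ws V y, e * w * e⁻¹ ∈ ws V (z * y) := by
    intro w hw
    have := conj_mem_ws e hw
    rwa [hey] at this
  -- `w w^e ∈ E_q`
  have key : ∀ w ∈ ws V y, w * (e * w * e⁻¹) ∈ ee L q := by
    intro w hw
    refine h'.mem_ee hq hq1 h'.ln.z_mem hz1 (Ne.symm hqz) ?_ ?_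
    · have hww : w⁻¹ = w := inv_eq_self (h.sq hy hy1 w hw)
      have hwq : w * q = q * w := (hqD.2 y hy hy1 w hw).symm
      have h1 := conj_mem_ws (V := L) w he.1
      rw [conj_eq_of_comm hwq] at h1
      have e1 : w * (e * w * e⁻¹) = w * e * w⁻¹ * e⁻¹ := by rw [hww]; group
      rw [e1]
      exact mul_mem h1 (inv_mem he.1)
    · rw [kq_of_lines hL]
      exact h.mul_conj_kq hz hy hy1 hek hw
  -- elements of `V` commute with `w w^e`
  have hV : ∀ w ∈ ws V y, ∀ v ∈ V, v * (w * (e * w * e⁻¹)) = w * (e * w * e⁻¹) * v := by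
    intro w hw v hv
    exact (mul_comm_of (h.V_comm hv (h.ws_le_centralizer_V hy hy1 hw)).symm
      (h.V_comm hv (h.ws_le_centralizer_V hzy hzy1 (hwe w hw))).symm).symm
  -- the homomorphism
  have hn : ((dd L q).subgroupOf (ee L q)).Normal := by
    refine ⟨fun a ha b => ?_⟩
    rw [mem_subgroupOf] at ha ⊢
    change (b : G) * a * (b : G)⁻¹ ∈ dd L q
    rw [conj_eq_of_comm (h'.comm hq hq1 _ b.2.1 _ a.2.1)]
    exact ha
  have hmul : ∀ a ∈ ws V y, ∀ b ∈ ws V y, (a * (e * a * e⁻¹) * (b * (e * b * e⁻¹)))⁻¹ *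
      (a * b * (e * (a * b) * e⁻¹)) ∈ dd L q := by
    intro a ha b hb
    have h1 : (a * (e * a * e⁻¹) * (b * (e * b * e⁻¹)))⁻¹ * (a * b * (e * (a * b) * e⁻¹)) ∈ ee L q :=
      mul_mem (inv_mem (mul_mem (key a ha) (key b hb))) (key _ (mul_mem ha hb))
    refine h'.ii_le_dd hq hq1 (h'.mem_ii h'.ln.z_mem hz1 hq hq1 hqz ?_ h1.1)
    rw [ws_of_lines hL]
    -- `= [b, a^e]` conjugated by `w^e`
    have h2 := h.comm_ii_mem hzy hzy1 hy hy1 (inv_mem (hwe a ha)) hb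
    have h3 := (h2 z hz hz1)
    have e1 : (a * (e * a * e⁻¹) * (b * (e * b * e⁻¹)))⁻¹ * (a * b * (e * (a * b) * e⁻¹)) =
        (e * b * e⁻¹)⁻¹ * (b⁻¹ * ⁅(e * a * e⁻¹)⁻¹, b⁆ * b) * (e * b * e⁻¹) := by
      simp only [commutatorElement_def]; group
    rw [e1]
    have h4 : b⁻¹ * ⁅(e * a * e⁻¹)⁻¹, b⁆ * b ∈ ws V z := by
      have := conj_mem_of_normalizer (h.cent_norm hz) (inv_mem (h.ws_le_centralizer_V hy hy1 hb)) h3
      rwa [inv_inv] at this
    have := conj_mem_of_normalizer (h.cent_norm hz)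
      (inv_mem (h.ws_le_centralizer_V hzy hzy1 (hwe b hb))) h4
    rwa [inv_inv] at this
  let f : ws V y →* ee L q ⧸ (dd L q).subgroupOf (ee L q) :=
    { toFun := fun w => QuotientGroup.mk ⟨(w : G) * (e * w * e⁻¹), key w w.2⟩
      map_one' := by
        rw [QuotientGroup.eq_one_iff, mem_subgroupOf]
        change (1 : G) * (e * 1 * e⁻¹) ∈ dd L q
        have : (1 : G) * (e * 1 * e⁻¹) = 1 := by group
        rw [this]; exact one_mem _
      map_mul' := fun a b => by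
        rw [← QuotientGroup.mk_mul, eq_comm, QuotientGroup.eq, mem_subgroupOf]
        exact hmul a a.2 b b.2 }
  -- the kernel
  have hker : f.ker ≤ (ee V y).subgroupOf (ws V y) := by
    intro w hw
    rw [MonoidHom.mem_ker] at hw
    change QuotientGroup.mk (⟨(w : G) * (e * w * e⁻¹), key w w.2⟩ : ee L q) = 1 at hw
    rw [QuotientGroup.eq_one_iff, mem_subgroupOf] at hw
    change (w : G) * (e * w * e⁻¹) ∈ dd L q at hw
    rw [mem_subgroupOf, ← h.nt_w1 hN hy hy1]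
    refine h.mem_w1 hy hy1 hz hz1 (Ne.symm hyz) w.2 fun m hm => ?_
    by_contra hcon
    have hmw : (w : G) * m * (w : G)⁻¹ = y * m := by
      rcases h.kq_cases hy (hm.2 y hy hy1) w.2 with e1 | e1
      · exact absurd (comm_of_conj_eq e1).symm hcon
      · have hym : y * m = m * y := h.comm hz hz1 y (h.V_le hz hz1 hy) m hm.1
        have hyy : y * y = 1 := h.ln.sq y hy
        have e2 : m * w = y * w * m := by
          calc m * w = (m * w * m⁻¹) * m := by group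
            _ = y * w * m := by rw [e1]
        have hyw : y * w = w * y := h.V_comm hy (h.ws_le_centralizer_V hy hy1 w.2)
        calc (w : G) * m * (w : G)⁻¹ = (y * y) * (w * m) * (w : G)⁻¹ := by rw [hyy]; group
          _ = y * (y * w * m) * (w : G)⁻¹ := by group
          _ = y * m := by rw [← e2]; group
    have hmz : m ∈ ws V z := hm.1
    -- `w^e` acts as `m ↦ z y m`
    have hzw := h.V_comm hz (h.ws_le_centralizer_V hy hy1 w.2)
    have h5 : e * w * e⁻¹ * m * (e * w * e⁻¹)⁻¹ = z * y * m := by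
      have h6 : ∀ m', m' = m ∨ m' = z * m → (w : G) * m' * (w : G)⁻¹ = y * m' := by
        rintro m' (rfl | rfl)
        · exact hmw
        · have hyz' : y * z = z * y := h.ln.comm hy hz
          calc (w : G) * (z * m) * (w : G)⁻¹ = (w * z) * m * (w : G)⁻¹ := by group
            _ = z * (w * m * (w : G)⁻¹) := by rw [← hzw]; group
            _ = (z * y) * m := by rw [hmw]; group
            _ = y * (z * m) := by rw [← hyz']; group
      have h7 : e⁻¹ * m * e = m ∨ e⁻¹ * m * e = z * m := by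
        have := h.kq_cases hz (inv_mem hek) hmz
        rwa [inv_inv] at this
      have h8 := h6 _ h7
      calc e * w * e⁻¹ * m * (e * w * e⁻¹)⁻¹ = e * ((w : G) * (e⁻¹ * m * e) * (w : G)⁻¹) * e⁻¹ := by group
        _ = (e * y * e⁻¹) * m := by rw [h8]; group
        _ = z * y * m := by rw [hey]
    have h9 : (w : G) * (e * w * e⁻¹) * m * ((w : G) * (e * w * e⁻¹))⁻¹ = z * m := by
      have hyw := h.V_comm hzy (h.ws_le_centralizer_V hy hy1 w.2)
      calc (w : G) * (e * w * e⁻¹) * m * ((w : G) * (e * w * e⁻¹))⁻¹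
          = w * (e * w * e⁻¹ * m * (e * w * e⁻¹)⁻¹) * (w : G)⁻¹ := by group
        _ = (w * (z * y)) * m * (w : G)⁻¹ := by rw [h5]; group
        _ = (z * y) * (w * m * (w : G)⁻¹) := by rw [← hyw]; group
        _ = z * (y * y) * m := by rw [hmw]; group
        _ = z * m := by rw [h.ln.sq y hy, mul_one]
    have h10 := hw.2 z h'.ln.z_mem hz1 m (by rw [ws_of_lines hL]; exact hmz)
    rw [conj_eq_of_comm h10] at h9
    exact hz1 (by simpa using h9.symm)
  -- surjectivity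
  have hrange : f.range = ⊤ := by
    apply Subgroup.eq_top_of_card_eq
    have h1 : f.ker.index = Nat.card f.range := Subgroup.index_ker f
    have h2 : ((ee V y).subgroupOf (ws V y)).index ≤ f.ker.index :=
      Nat.le_of_dvd (Nat.pos_of_ne_zero index_ne_zero_of_finite) (index_dvd_of_le hker)
    have h3 : Nat.card (ee L q ⧸ (dd L q).subgroupOf (ee L q)) = (dd L q).relIndex (ee L q) := rfl
    have h4 : (dd L q).relIndex (ee L q) = (ee L q).relIndex (ws L q) := h'.nt_phi_card hNL hq hq1 hq hq1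
    have h5 := h.relIndex_line hL hy hy1 hq hq1
    have h6 : ((ee V y).subgroupOf (ws V y)).index = (ee V y).relIndex (ws V y) := rfl
    have h7 : Nat.card f.range ≤ Nat.card (ee L q ⧸ (dd L q).subgroupOf (ee L q)) :=
      Nat.card_le_card_of_injective _ Subtype.val_injective
    omega
  obtain ⟨w, hw⟩ := MonoidHom.range_eq_top.mp hrange (QuotientGroup.mk ⟨e, he⟩)
  change QuotientGroup.mk (⟨(w : G) * (e * w * e⁻¹), key w w.2⟩ : ee L q) = _ at hw
  rw [QuotientGroup.eq, mem_subgroupOf] at hw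
  have hd : ((w : G) * (e * w * e⁻¹))⁻¹ * e ∈ dd L q := hw
  have hyLz : y ∈ ws L z := by
    rw [ws_of_lines hL]; exact h.V_le hz hz1 hy
  have h1 := hd.2 z h'.ln.z_mem hz1 y hyLz
  have h2 := hV w w.2 y hy
  have h3 : e * y = y * e := by
    have e1 : e = (w : G) * (e * w * e⁻¹) * (((w : G) * (e * w * e⁻¹))⁻¹ * e) := by group
    have h4 : (w : G) * (e * w * e⁻¹) * (((w : G) * (e * w * e⁻¹))⁻¹ * e) * y =
        y * ((w : G) * (e * w * e⁻¹) * (((w : G) * (e * w * e⁻¹))⁻¹ * e)) :=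
      mul_comm_of h2.symm h1
    rwa [← e1] at h4
  rw [conj_eq_of_comm h3] at hey
  exact hz1 (by simpa using hey.symm)

/-- **(SYM1)** `q ∈ D_z(V)` implies `y ∈ E_z(L)` -/
theorem ee_of_dd [Finite G] (h : One T V z) (hN : NT V) (hL : L ∈ lines V z) (hy : y ∈ V)
    (hy1 : y ≠ 1) (hyz : y ≠ z) (hq : q ∈ L) (hq1 : q ≠ 1) (hqz : q ≠ z) (hqD : q ∈ dd V z) : y ∈ ee L z := by
  by_contra hyE
  have hz1 := h.ln.z_ne
  obtain ⟨-, -, T', h'⟩ := h.of_line hL hz1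
  obtain ⟨e, he, hey⟩ := h'.nt_move_ee (hN.of_lines hL) hq hq1 h'.ln.z_mem hz1 (Ne.symm hqz)
    (by rw [ws_of_lines hL]; exact h.V_le h.ln.z_mem hz1 hy) hyE
  exact h.not_mem_dd_of_move hN hL hy hy1 hyz hq hq1 hqz he hey hqD

/-- `y ∉ I_L` implies `W_y ∩ W_q ≤ E_y` -/
theorem inf_le_ee [Finite G] (h : One T V z) (hN : NT V) (hL : L ∈ lines V z) (hy : y ∈ V)
    (hy1 : y ≠ 1) (hyz : y ≠ z) (hq : q ∈ L) (hq1 : q ≠ 1) (hyI : y ∉ ii L) {c : G}
    (hc : c ∈ ws V y) (hc' : c ∈ ws L q) : c ∈ ee V y := by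
  by_contra hcE
  have hz := h.ln.z_mem
  have hz1 := h.ln.z_ne
  obtain ⟨-, -, T', h'⟩ := h.of_line hL hz1
  obtain ⟨e, he, hec⟩ := h.nt_move_ee hN hz hz1 hy hy1 hyz hc hcE
  apply hyI
  have h1 : ⁅e, c⁆ = y := by rw [commutatorElement_def, hec, mul_inv_cancel_right]
  rw [← h1]
  exact h'.comm_ii_mem h'.ln.z_mem hz1 hq hq1 (by rw [ws_of_lines hL]; exact he.1) hc'

/-- `q ∈ I_V` implies `y ∈ I_L` -/
theorem ii_symm [Finite G] (h : One T V z) (hL : L ∈ lines V z) (hy : y ∈ V)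
    (hy1 : y ≠ 1) (hq : q ∈ L) (hq1 : q ≠ 1) (hqz : q ≠ z) (hqI : q ∈ ii V) : y ∈ ii L := by
  have hz := h.ln.z_mem
  have hz1 := h.ln.z_ne
  obtain ⟨-, -, T', h'⟩ := h.of_line hL hz1
  have hyz' : y ∈ ws L z := by rw [ws_of_lines hL]; exact h.V_le hz hz1 hy
  refine h'.mem_ii h'.ln.z_mem hz1 hq hq1 hqz hyz' ?_
  by_cases hqV : q ∈ V
  · rw [ws_of_lines hL]
    exact h.V_le hqV hq1 hy
  · obtain ⟨U, hU, hVU, hqU, -⟩ := h.exists_plane hqI hqV ⟨L, hL, hq⟩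
    obtain ⟨L', hL', hyL'⟩ := hU.line q hqU y (hVU hy) hq1 hy1 (fun e => hqV (by rw [e]; exact hy))
    rw [ws_of_lines hL]
    exact le_ws hL' hyL'

/-- **(SYM2)** `q ∈ D_z(V)` implies `y ∈ D_z(L)` -/
theorem dd_symm [Finite G] (h : One T V z) (hN : NT V) (hL : L ∈ lines V z) (hy : y ∈ V)
    (hy1 : y ≠ 1) (hyz : y ≠ z) (hq : q ∈ L) (hq1 : q ≠ 1) (hqz : q ≠ z) (hqD : q ∈ dd V z) : y ∈ dd L z := by
  by_contra hyD
  have hz := h.ln.z_mem
  have hz1 := h.ln.z_ne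
  obtain ⟨-, -, T', h'⟩ := h.of_line hL hz1
  have hzL := h'.ln.z_mem
  have hNL : NT L := hN.of_lines hL
  have hyE := h.ee_of_dd hN hL hy hy1 hyz hq hq1 hqz hqD
  have hyI : y ∉ ii L := fun hi => hyD (h'.ii_le_dd hzL hz1 hi)
  have hyq : y * q = q * y := (hqD.2 y hy hy1 y (h.V_le hy hy1 hy)).symm
  have hqq : q * q = 1 := h'.ln.sq q hq
  -- some `c ∈ W_q` moves `y` to `q y`
  obtain ⟨c, hc, hcy⟩ : ∃ c ∈ ws L q, c * y * c⁻¹ = q * y := by
    by_contra hcon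
    push Not at hcon
    apply hyD
    refine h'.mem_dd hzL hz1 hq hq1 hqz hyE.1 fun b hb => ?_
    rcases h'.kq_cases hq (hyE.2 q hq hq1) hb with e1 | e1
    · exact comm_of_conj_eq e1
    · exfalso
      apply hcon b hb
      have hbq : q * b = b * q := h'.V_comm hq (h'.ws_le_centralizer_V hq hq1 hb)
      have e2 : y * b = q * b * y := by
        calc y * b = (y * b * y⁻¹) * y := by group
          _ = q * b * y := by rw [e1]
      calc b * y * b⁻¹ = (q * q) * (b * y) * b⁻¹ := by rw [hqq]; group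
        _ = q * (q * b * y) * b⁻¹ := by group
        _ = q * y := by rw [← e2]; group
  -- `W_y` normalizes `W_q`
  have hWy : ∀ w ∈ ws V y, ∀ b ∈ ws L q, w * b * w⁻¹ ∈ ws L q := by
    intro w hw b hb
    have h1 := conj_mem_ws (V := L) w hb
    rwa [conj_eq_of_comm (hqD.2 y hy hy1 w hw).symm] at h1
  -- `U = C_{W_q}(y)`
  let U : Subgroup G := ws L q ⊓ centralizer ({y} : Set G)
  have hEU : ee L q ≤ U := fun b hb => ⟨hb.1, mem_centralizer_singleton_iff.mpr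
    (h'.ee_comm hq hq1 hzL hz1 hb hyE)⟩
  have hUW : U ≤ ws L q := inf_le_left
  -- `[U, W_y] ≤ E_q`
  have hU : ∀ w ∈ ws V y, ∀ b ∈ U, w * b * w⁻¹ * b⁻¹ ∈ ee L q := by
    intro w hw b hb
    have hbW : b ∈ ws L q := hb.1
    have h1 : w * b * w⁻¹ * b⁻¹ ∈ ws L q := mul_mem (hWy w hw b hbW) (inv_mem hbW)
    have h2 : w * b * w⁻¹ * b⁻¹ ∈ ws V y := by
      have h3 := conj_mem_ws b (inv_mem hw)
      rw [conj_eq_of_comm (mem_centralizer_singleton_iff.mp hb.2)] at h3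
      have e1 : w * b * w⁻¹ * b⁻¹ = w * (b * w⁻¹ * b⁻¹) := by group
      rw [e1]
      exact mul_mem hw h3
    have h3 := h.inf_le_ee hN hL hy hy1 hyz hq hq1 hyI h2 h1
    refine h'.mem_ee hq hq1 hzL hz1 (Ne.symm hqz) h1 ?_
    rw [kq_of_lines hL]
    exact h3.2 z hz hz1
  -- `[w, c] ∈ U`
  have hcU : ∀ w ∈ ws V y, w * c * w⁻¹ * c⁻¹ ∈ U := by
    intro w hw
    have hmem : w * c * w⁻¹ * c⁻¹ ∈ ws L q := mul_mem (hWy w hw c hc) (inv_mem hc)
    refine ⟨hmem, mem_centralizer_singleton_iff.mpr ?_⟩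
    apply comm_of_conj_eq
    have hwy : w * y * w⁻¹ = y := conj_eq_of_comm
      (h.V_comm hy (h.ws_le_centralizer_V hy hy1 hw)).symm
    have hwq : w * q * w⁻¹ = q := conj_eq_of_comm (hqD.2 y hy hy1 w hw).symm
    have hcq : c * q * c⁻¹ = q := conj_eq_of_comm
      (h'.V_comm hq (h'.ws_le_centralizer_V hq hq1 hc)).symm
    have hcq' : c⁻¹ * q * c = q := by
      calc c⁻¹ * q * c = c⁻¹ * (c * q * c⁻¹) * c := by rw [hcq]
        _ = q := by group
    have hwq' : w⁻¹ * q * w = q := by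
      calc w⁻¹ * q * w = w⁻¹ * (w * q * w⁻¹) * w := by rw [hwq]
        _ = q := by group
    have hwy' : w⁻¹ * y * w = y := by
      calc w⁻¹ * y * w = w⁻¹ * (w * y * w⁻¹) * w := by rw [hwy]
        _ = y := by group
    have hcy' : c⁻¹ * y * c = q * y := by
      have e1 : y = q * (c⁻¹ * y * c) := by
        calc y = c⁻¹ * (c * y * c⁻¹) * c := by group
          _ = (c⁻¹ * q * c) * (c⁻¹ * y * c) := by rw [hcy]; group
          _ = q * (c⁻¹ * y * c) := by rw [hcq']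
      calc c⁻¹ * y * c = (q * q) * (c⁻¹ * y * c) := by rw [hqq, one_mul]
        _ = q * (q * (c⁻¹ * y * c)) := by group
        _ = q * y := by rw [← e1]
    calc w * c * w⁻¹ * c⁻¹ * y * (w * c * w⁻¹ * c⁻¹)⁻¹
        = w * (c * (w⁻¹ * (c⁻¹ * y * c) * w) * c⁻¹) * w⁻¹ := by group
      _ = w * (c * ((w⁻¹ * q * w) * (w⁻¹ * y * w)) * c⁻¹) * w⁻¹ := by rw [hcy']; group
      _ = w * ((c * q * c⁻¹) * (c * y * c⁻¹)) * w⁻¹ := by rw [hwq', hwy']; group
      _ = w * (q * (q * y)) * w⁻¹ := by rw [hcq, hcy]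
      _ = w * y * w⁻¹ := by rw [← mul_assoc q q y, hqq, one_mul]
      _ = y := hwy
  -- the homomorphism `w ↦ [w, c]` into `U / E_q`
  have hn : ((ee L q).subgroupOf U).Normal := by
    refine ⟨fun a ha b => ?_⟩
    rw [mem_subgroupOf] at ha ⊢
    change (b : G) * a * (b : G)⁻¹ ∈ ee L q
    rw [conj_eq_of_comm (h'.comm hq hq1 _ b.2.1 _ a.2.1)]
    exact ha
  have hmul : ∀ a ∈ ws V y, ∀ b ∈ ws V y, ((a * c * a⁻¹ * c⁻¹) * (b * c * b⁻¹ * c⁻¹))⁻¹ *
      (a * b * c * (a * b)⁻¹ * c⁻¹) ∈ ee L q := by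
    intro a ha b hb
    have h1 := hU a ha _ (hcU b hb)
    have h2 := h'.comm hq hq1 _ (hcU a ha).1 _ (hcU b hb).1
    have h3 := h'.comm hq hq1 _ (hcU a ha).1 _ h1.1
    set u := a * c * a⁻¹ * c⁻¹ with hu
    set v := b * c * b⁻¹ * c⁻¹ with hv
    have e1 : a * b * c * (a * b)⁻¹ * c⁻¹ = (a * v * a⁻¹ * v⁻¹) * v * u := by
      rw [hu, hv]; group
    have e2 : (u * v)⁻¹ * (a * b * c * (a * b)⁻¹ * c⁻¹) = (u * v)⁻¹ * (a * v * a⁻¹ * v⁻¹) * (u * v) := by
      rw [e1, h2]; group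
    rw [e2]
    have h4 : (u * v)⁻¹ * (a * v * a⁻¹ * v⁻¹) = (a * v * a⁻¹ * v⁻¹) * (u * v)⁻¹ :=
      h'.comm hq hq1 _ (inv_mem (mul_mem (hcU a ha).1 (hcU b hb).1)) _ h1.1
    rw [h4, inv_mul_cancel_right]
    exact h1
  let f : ws V y →* U ⧸ (ee L q).subgroupOf U :=
    { toFun := fun w => QuotientGroup.mk ⟨(w : G) * c * (w : G)⁻¹ * c⁻¹, hcU w w.2⟩
      map_one' := by
        rw [QuotientGroup.eq_one_iff, mem_subgroupOf]
        change (1 : G) * c * (1 : G)⁻¹ * c⁻¹ ∈ ee L q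
        have : (1 : G) * c * (1 : G)⁻¹ * c⁻¹ = 1 := by group
        rw [this]; exact one_mem _
      map_mul' := fun a b => by
        rw [← QuotientGroup.mk_mul, eq_comm, QuotientGroup.eq, mem_subgroupOf]
        exact hmul a a.2 b b.2 }
  -- some `w ∈ W_y - E_y` commutes with `c` modulo `E_q`
  obtain ⟨w, hw, hwE, hwc⟩ : ∃ w ∈ ws V y, w ∉ ee V y ∧ w * c * w⁻¹ * c⁻¹ ∈ ee L q := by
    by_contra hcon
    push Not at hcon
    have hker : f.ker ≤ (ee V y).subgroupOf (ws V y) := by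
      intro w hw
      rw [MonoidHom.mem_ker] at hw
      change QuotientGroup.mk (⟨(w : G) * c * (w : G)⁻¹ * c⁻¹, hcU w w.2⟩ : U) = 1 at hw
      rw [QuotientGroup.eq_one_iff, mem_subgroupOf] at hw
      by_contra hwE
      exact hcon w w.2 hwE hw
    have h1 : f.ker.index = Nat.card f.range := Subgroup.index_ker f
    have h2 : ((ee V y).subgroupOf (ws V y)).index ≤ f.ker.index :=
      Nat.le_of_dvd (Nat.pos_of_ne_zero index_ne_zero_of_finite) (index_dvd_of_le hker)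
    have h3 : Nat.card (U ⧸ (ee L q).subgroupOf U) = (ee L q).relIndex U := rfl
    have h5 := h.relIndex_line hL hy hy1 hq hq1
    have h6 : ((ee V y).subgroupOf (ws V y)).index = (ee V y).relIndex (ws V y) := rfl
    have h7 : Nat.card f.range ≤ Nat.card (U ⧸ (ee L q).subgroupOf U) :=
      Nat.card_le_card_of_injective _ Subtype.val_injective
    have h8 : (ee L q).relIndex U * U.relIndex (ws L q) = (ee L q).relIndex (ws L q) :=
      relIndex_mul_relIndex _ _ _ hEU hUW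
    have h9 : U.relIndex (ws L q) ≠ 1 := by
      intro e1
      rw [relIndex_eq_one] at e1
      have h10 := mem_centralizer_singleton_iff.mp (e1 hc).2
      rw [conj_eq_of_comm h10] at hcy
      exact hq1 (by simpa using hcy.symm)
    have h10 : U.relIndex (ws L q) ≠ 0 := relIndex_ne_zero' _ _
    have h11 : (ee L q).relIndex U ≠ 0 := relIndex_ne_zero' _ _
    have h12 : 2 * (ee L q).relIndex U ≤ (ee L q).relIndex (ws L q) := by
      rw [← h8, mul_comm 2]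
      exact Nat.mul_le_mul_left _ (by omega)
    omega
  -- `y = [e, w]`, conjugate by `c`
  obtain ⟨e, he, hew⟩ := h.nt_move_ee hN hz hz1 hy hy1 hyz hw hwE
  have hcz : c * z * c⁻¹ = z := conj_eq_of_comm (h'.V_comm hzL (h'.ws_le_centralizer_V hq hq1 hc)).symm
  have he' : c * e * c⁻¹ ∈ ws V z := by
    have := conj_mem_ws c he.1
    rwa [hcz] at this
  set k := w * c * w⁻¹ * c⁻¹ with hk
  have hkz : k⁻¹ ∈ kq V z := by
    have := hwc.2 z hzL hz1
    rw [kq_of_lines hL] at this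
    exact inv_mem this
  have hcw : c * w * c⁻¹ = k⁻¹ * w := by rw [hk]; group
  set e' := c * e * c⁻¹ with he'd
  have h1 : q * y = (e' * k⁻¹ * e'⁻¹ * k) * (k⁻¹ * ⁅e', w⁆ * k) := by
    have h2 : e' * (k⁻¹ * w) * e'⁻¹ = q * y * (k⁻¹ * w) := by
      calc e' * (k⁻¹ * w) * e'⁻¹ = c * (e * w * e⁻¹) * c⁻¹ := by rw [← hcw, he'd]; group
        _ = (c * y * c⁻¹) * (c * w * c⁻¹) := by rw [hew]; group
        _ = q * y * (k⁻¹ * w) := by rw [hcy, hcw]
    calc q * y = (q * y * (k⁻¹ * w)) * (k⁻¹ * w)⁻¹ := by group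
      _ = e' * (k⁻¹ * w) * e'⁻¹ * (k⁻¹ * w)⁻¹ := by rw [← h2]
      _ = (e' * k⁻¹ * e'⁻¹ * k) * (k⁻¹ * ⁅e', w⁆ * k) := by
          simp only [commutatorElement_def]; group
  have h2 : ⁅e', w⁆ ∈ ii V := h.comm_ii_mem hz hz1 hy hy1 he' hw
  have h3 : k⁻¹ * ⁅e', w⁆ * k ∈ ii V := by
    have h4 := h.kq_cases hz hkz (h2 z hz hz1)
    rw [inv_inv] at h4
    rcases h4 with e1 | e1
    · rw [e1]; exact h2
    · rw [e1]; exact mul_mem (h.V_le_ii hz) h2
  have h4 : e' * k⁻¹ * e'⁻¹ * k ∈ ii V := by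
    have h5 := h.kq_cases hz hkz (inv_mem he')
    rw [inv_inv] at h5
    have e1 : e' * k⁻¹ * e'⁻¹ * k = e' * (k⁻¹ * e'⁻¹ * k) := by group
    rw [e1]
    rcases h5 with e2 | e2
    · rw [e2, mul_inv_cancel]; exact one_mem _
    · have hze : z * e' = e' * z := h.comm hz hz1 z (h.V_le hz hz1 hz) e' he'
      rw [e2, ← mul_assoc, ← hze, mul_inv_cancel_right]
      exact h.V_le_ii hz
  have h5 : q ∈ ii V := by
    have h6 : q * y ∈ ii V := by rw [h1]; exact mul_mem h4 h3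
    have := mul_mem h6 (inv_mem (h.V_le_ii hy))
    rwa [mul_inv_cancel_right] at this
  exact hyI (h.ii_symm hL hy hy1 hq hq1 hqz h5)

/-- **(SYM2)** `q ∈ D_z(V)` iff `y ∈ D_z(L)` -/
theorem dd_iff [Finite G] (h : One T V z) (hN : NT V) (hL : L ∈ lines V z) (hy : y ∈ V)
    (hy1 : y ≠ 1) (hyz : y ≠ z) (hq : q ∈ L) (hq1 : q ≠ 1) (hqz : q ≠ z) : q ∈ dd V z ↔ y ∈ dd L z := by
  refine ⟨h.dd_symm hN hL hy hy1 hyz hq hq1 hqz, fun hyD => ?_⟩
  obtain ⟨-, -, T', h'⟩ := h.of_line hL h.ln.z_ne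
  exact h'.dd_symm (hN.of_lines hL) (h.mem_lines_symm hL) hq hq1 hqz hy hy1 hyz hyD

end One

end Cfsg.Agent.Omega.NO3S.TwoOne

end

section


/-!
# NO-3S, `q = 2`, `n = 1`, no `λ`-transvections, `D_x > I`: the relation `λ' ∈ Ē_λ` is symmetric
(helper507, bb #18693, (a+); from helper409's (N6) = `NSix.lean` and `SymRel.lean`; planes allowed)

* `One.nt_move_two` : two elements of `W_z - E_z` are moved by one `e ∈ E_y`;
* `One.nsix_nt` : (N6) without side conditions;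
* `One.not_mem_ee_symm`, `One.ee_iff` : `D_x > I` implies `q ∈ E_z(V)` iff `y ∈ E_z(L)`.
-/

set_option autoImplicit false
set_option linter.unusedSectionVars false

namespace Cfsg.Agent.Omega.NO3S.TwoOne

open Subgroup Cfsg Cfsg.Agent.ZN Cfsg.Agent.MinSimple.Geo Cfsg.Agent.Omega.CaseL
open Cfsg.Agent.ZN.Block (conj_mem_of_normalizer conj_mem_of_normalizer' le_normalizer_of_forall
  mem_normalizer_of)
open scoped commutatorElement

universe u

variable {G : Type u} [Group G]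

namespace One

variable {T V L : Subgroup G} {z y q d w : G}

/-- (N1): two elements of `W_z - E_z` are moved by one `e ∈ E_y` -/
theorem nt_move_two [Finite G] (h : One T V z) (hN : NT V) (hy : y ∈ V) (hy1 : y ≠ 1) (hyz : y ≠ z) {a b : G}
    (ha : a ∈ ws V z) (haE : a ∉ ee V z) (hb : b ∈ ws V z) (hbE : b ∉ ee V z) :
    ∃ e ∈ ee V y, e * a ≠ a * e ∧ e * b ≠ b * e := by
  have hz := h.ln.z_mem
  have hz1 := h.ln.z_ne
  obtain ⟨e, he, hea⟩ := h.nt_move_ee hN hy hy1 hz hz1 (Ne.symm hyz) ha haE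
  obtain ⟨f, hf, hfb⟩ := h.nt_move_ee hN hy hy1 hz hz1 (Ne.symm hyz) hb hbE
  have hne : ∀ {k c : G}, k * c * k⁻¹ = z * c → k * c ≠ c * k := fun {k c} h1 h2 => by
    rw [conj_eq_of_comm h2] at h1
    exact hz1 (by simpa using h1.symm)
  by_cases h1 : e * b = b * e
  · by_cases h2 : f * a = a * f
    · refine ⟨e * f, mul_mem he hf, hne ?_, hne ?_⟩
      · calc e * f * a * (e * f)⁻¹ = e * (f * a * f⁻¹) * e⁻¹ := by group
          _ = z * a := by rw [conj_eq_of_comm h2, hea]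
      · have hez : z * e = e * z := h.V_comm hz (h.ws_le_centralizer_V hy hy1 he.1)
        calc e * f * b * (e * f)⁻¹ = e * (f * b * f⁻¹) * e⁻¹ := by group
          _ = (e * z) * b * e⁻¹ := by rw [hfb]; group
          _ = z * (e * b * e⁻¹) := by rw [← hez]; group
          _ = z * b := by rw [conj_eq_of_comm h1]
    · exact ⟨f, hf, h2, hne hfb⟩
  · exact ⟨e, he, hne hea, h1⟩

/-- **(N6)**, no side condition: `D_x > I`, `λ_L ∉ Ē_V ⟹ [λ_V, A_L] ≤ Ē_V` -/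
theorem nsix_nt [Finite G] (h : One T V z) (hN : NT V) (hL : L ∈ lines V z) (hy : y ∈ V) (hy1 : y ≠ 1)
    (hyz : y ≠ z) (hq : q ∈ L) (hq1 : q ≠ 1) (hqz : q ≠ z) (hd : d ∈ dd V y) (hdI : d ∉ ii V)
    (hqE : q ∉ ee V z) (hw : w ∈ ws V q) : w * y * w⁻¹ * y⁻¹ ∈ ee V z := by
  have hz := h.ln.z_mem
  have hz1 := h.ln.z_ne
  obtain ⟨-, -, T', h'⟩ := h.of_line hL hz1
  have hyL : y ∈ ws L z := by rw [ws_of_lines hL]; exact h.V_le hz hz1 hy
  refine h.nsix_ee hL hy hy1 hyz hq hq1 hqz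
    (fun a ha haE b hb hbE => h.nt_move_two hN hy hy1 hyz ha haE hb hbE) ?_ hd hdI hqE hw
  by_cases hyD : y ∈ dd L z
  · exact absurd (h.dd_le_ee z ((h.dd_iff hN hL hy hy1 hyz hq hq1 hqz).mpr hyD)) hqE
  · obtain ⟨g, hg, -, hgy⟩ := h'.nt_move_dd (hN.of_lines hL) h'.ln.z_mem hz1 hyL hyD
    exact Or.inl ⟨g, fun p _ _ c hc => dd_comm_fl hc hg, hgy⟩

/-- **(a+)** `D_x > I`: `q ∉ E_z(V)` implies `y ∉ E_z(L)` -/
theorem not_mem_ee_symm [Finite G] (h : One T V z) (hN : NT V) (hL : L ∈ lines V z) (hy : y ∈ V) (hy1 : y ≠ 1)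
    (hyz : y ≠ z) (hq : q ∈ L) (hq1 : q ≠ 1) (hqz : q ≠ z) (hd : d ∈ dd V y) (hdI : d ∉ ii V)
    (hqE : q ∉ ee V z) : y ∉ ee L z := by
  intro hyE
  have hz1 := h.ln.z_ne
  obtain ⟨-, -, T', h'⟩ := h.of_line hL hz1
  apply hqE
  apply h.dd_le_ee z
  rw [h.dd_iff hN hL hy hy1 hyz hq hq1 hqz]
  refine h'.mem_dd h'.ln.z_mem hz1 hq hq1 hqz hyE.1 fun b hb => ?_
  rcases h'.kq_cases hq (hyE.2 q hq hq1) hb with e1 | e1
  · exact comm_of_conj_eq e1
  · exfalso
    apply hqE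
    have hb' : b ∈ ws V q := by rwa [ws_of_lines hL] at hb
    have h1 := h.nsix_nt hN hL hy hy1 hyz hq hq1 hqz hd hdI hqE hb'
    have hbq : q * b = b * q := h'.V_comm hq (h'.ws_le_centralizer_V hq hq1 hb)
    have e2 : y * b = q * b * y := by
      calc y * b = (y * b * y⁻¹) * y := by group
        _ = q * b * y := by rw [e1]
    have e3 : b * y * b⁻¹ * y⁻¹ = q := by
      calc b * y * b⁻¹ * y⁻¹ = (q * q) * (b * y) * b⁻¹ * y⁻¹ := by rw [h'.ln.sq q hq]; group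
        _ = q * (q * b * y) * b⁻¹ * y⁻¹ := by group
        _ = q := by rw [← e2]; group
    rwa [e3] at h1

/-- `D_x > I` holds on every line -/
theorem exists_dd_line [Finite G] (h : One T V z) (hL : L ∈ lines V z) (hd : d ∈ dd V y)
    (hy : y ∈ V) (hy1 : y ≠ 1) (hdI : d ∉ ii V) (hq : q ∈ L) (hq1 : q ≠ 1) : ∃ c ∈ dd L q, c ∉ ii L := by
  obtain ⟨g, hgL, T', h'⟩ := h.of_line hL h.ln.z_ne
  subst hgL
  have h1 : g * y * g⁻¹ ∈ cj g V := conj_mem_cj hy
  have h2 : g * y * g⁻¹ ≠ 1 := fun e => hy1 (conj_eq_one_iff.mp e)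
  have hd1 : g * d * g⁻¹ ∈ dd (cj g V) (g * y * g⁻¹) := by
    refine ⟨by rw [ws_cj]; exact conj_mem_ws g hd.1, fun r hr hr1 b hb => ?_⟩
    have h3 := conj_mem_ws g⁻¹ hb
    rw [ws_cj, inv_inv] at h3
    have h4 := hd.2 _ (mem_cj.mp hr) (conj_ne_one hr1) _ h3
    calc g * d * g⁻¹ * b = g * (d * (g⁻¹ * b * g)) * g⁻¹ := by group
      _ = g * ((g⁻¹ * b * g) * d) * g⁻¹ := by rw [h4]
      _ = b * (g * d * g⁻¹) := by group
  have hd2 : g * d * g⁻¹ ∉ ii (cj g V) := by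
    intro hi
    apply hdI
    intro p hp hp1
    have h3 := hi _ (conj_mem_cj (g := g) hp) (fun e => hp1 (conj_eq_one_iff.mp e))
    rw [ws_cj] at h3
    have h4 := conj_mem_ws g⁻¹ h3
    have e1 : g⁻¹ * (g * d * g⁻¹) * g⁻¹⁻¹ = d := by group
    have e2 : g⁻¹ * (g * p * g⁻¹) * g⁻¹⁻¹ = p := by group
    rwa [e1, e2] at h4
  obtain ⟨x, hx, hxq⟩ := h'.xl_trans h1 h2 hq hq1
  have hxn := h'.xl_le_normalizer hx
  refine ⟨x * (g * d * g⁻¹) * x⁻¹, ?_, fun hi => hd2 ?_⟩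
  · have := conj_mem_dd hxn hd1
    rwa [hxq] at this
  · have := conj_mem_of_normalizer' (normalizer_le_normalizer_ii _) hxn hi
    have e1 : x⁻¹ * (x * (g * d * g⁻¹) * x⁻¹) * x = g * d * g⁻¹ := by group
    rwa [e1] at this

/-- **(a+)** `D_x > I`: `q ∈ E_z(V)` iff `y ∈ E_z(L)`: the relation `λ' ∈ Ē_λ` is symmetric -/
theorem ee_iff [Finite G] (h : One T V z) (hN : NT V) (hL : L ∈ lines V z) (hy : y ∈ V) (hy1 : y ≠ 1)
    (hyz : y ≠ z) (hq : q ∈ L) (hq1 : q ≠ 1) (hqz : q ≠ z) (hd : d ∈ dd V y) (hdI : d ∉ ii V) :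
    q ∈ ee V z ↔ y ∈ ee L z := by
  constructor
  · intro hqE
    by_contra hyE
    obtain ⟨-, -, T', h'⟩ := h.of_line hL h.ln.z_ne
    obtain ⟨c, hc, hcI⟩ := h.exists_dd_line hL hd hy hy1 hdI hq hq1
    exact h'.not_mem_ee_symm (hN.of_lines hL) (h.mem_lines_symm hL) hq hq1 hqz hy hy1 hyz hc hcI hyE hqE
  · intro hyE
    by_contra hqE
    exact h.not_mem_ee_symm hN hL hy hy1 hyz hq hq1 hqz hd hdI hqE hyE

end One

end Cfsg.Agent.Omega.NO3S.TwoOne

end

section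


/-!
# NO-3S, `TwoOne` / `CompP`, `k ≥ 2`: THEOREM `SIGMA_k` (helper225's text #18607), pure form

`H` acts on the elementary abelian 2-group `M`; `L` = the line vectors, `A l`, `I l`, `al l` (`l ∈ L`) the data of
the line `l`; `SK` = the fields used, in particular (S1) and (S3) for symmetric pairs.

* `SK.sigma` : `a ∈ A l`, `a ≠ 1`, `o ≠ 1` of odd order, `a o a⁻¹ = o⁻¹` imply `o ^ 3 = 1`, `al l (o l) = 1`,
  `a (o l) = o l + l`, `o⁻¹ l = o l + l`.
-/

set_option autoImplicit false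

namespace Cfsg.Agent.Omega.NO3S.TwoOne

/-- the fields used for `SIGMA_k` -/
structure SK {M H : Type*} [AddCommGroup M] [Group H] [DistribMulAction H M] (L : Set M) (A : M → Subgroup H)
    (I : M → AddSubgroup M) (al : M → M → H) : Prop where
  two : ∀ m : M, m + m = 0
  ne0 : ∀ {l : M}, l ∈ L → l ≠ 0
  smul : ∀ (h : H) {l : M}, l ∈ L → h • l ∈ L
  A_conj : ∀ (h : H) {l : M} {a : H}, l ∈ L → a ∈ A l → h * a * h⁻¹ ∈ A (h • l)
  I_conj : ∀ (h : H) {l u : M}, l ∈ L → u ∈ I l → h • u ∈ I (h • l)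
  sq : ∀ {l : M} {a : H}, l ∈ L → a ∈ A l → a * a = 1
  four : ∀ {l : M}, l ∈ L → 4 ≤ Nat.card (A l)
  self : ∀ {l : M}, l ∈ L → l ∈ I l
  fix : ∀ {l : M} {a : H} {u : M}, l ∈ L → a ∈ A l → u ∈ I l → a • u = u
  al_mem : ∀ {l : M}, l ∈ L → ∀ m, al l m ∈ A l
  al_add : ∀ {l : M}, l ∈ L → ∀ m m', al l (m + m') = al l m * al l m'
  al_conj : ∀ {l : M} (h : H), l ∈ L → ∀ m, al (h • l) (h • m) = h * al l m * h⁻¹
  al_ker : ∀ {l : M}, l ∈ L → ∀ m, al l m = 1 ↔ ∀ a ∈ A l, a • m = m ∨ a • m = m + l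
  phi : ∀ {l : M} {a : H}, l ∈ L → a ∈ A l → a ≠ 1 → ∃ e, al l e = 1 ∧ a • e = e + l
  s1 : ∀ {l m e : M}, l ∈ L → m ∈ L → al l m ≠ 1 → al m l ≠ 1 → al l e = 1 → al l m • e = e →
    ∃ j ∈ I m, al l j = 1 ∧ ∀ a ∈ A l, a • j + j = a • e + e
  s3 : ∀ {l m : M} {a : H}, l ∈ L → m ∈ L → al l m ≠ 1 → al m l ≠ 1 → a ∈ A l → al m (a • m + m) ≠ 1 →
    ∃ j ∈ I m, al l j = 1 ∧ al l m • j = j + l

namespace SK

variable {M H : Type*} [AddCommGroup M] [Group H] [DistribMulAction H M] {L : Set M} {A : M → Subgroup H}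
    {I : M → AddSubgroup M} {al : M → M → H} (G : SK L A I al)
include G

theorem two_left (x y : M) : x + (x + y) = y := by
  rw [← add_assoc, G.two, zero_add]

theorem two_right (x y : M) : x + y + y = x := by
  rw [add_assoc, G.two, add_zero]

theorem inv {l : M} {a : H} (hl : l ∈ L) (ha : a ∈ A l) : a⁻¹ = a :=
  inv_eq_of_mul_eq_one_left (G.sq hl ha)

/-- an element of odd order in `A l` is trivial -/
theorem odd_one {l : M} {a : H} (hl : l ∈ L) (ha : a ∈ A l) {n : ℕ} (hn : Odd n) (h1 : a ^ n = 1) : a = 1 := by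
  obtain ⟨k, rfl⟩ := hn
  rw [pow_succ, pow_mul, pow_two, G.sq hl ha, one_pow, one_mul] at h1
  exact h1

/-- functionals are additive -/
theorem phi_add {l e e' : M} {a : H} (hl : l ∈ L) (he : al l e = 1) (he' : al l e' = 1)
    (h1 : a • e = e + l) (h2 : a • e' = e' + l) : al l (e + e') = 1 ∧ a • (e + e') = e + e' := by
  refine ⟨by rw [G.al_add hl, he, he', one_mul], ?_⟩
  rw [smul_add, h1, h2]
  calc e + l + (e' + l) = e + e' + (l + l) := by abel
    _ = e + e' := by rw [G.two, add_zero]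

/-- one element: `c ∉ {1, n}` implies that some functional vanishes on `n`, not on `c` -/
theorem sep {l : M} {n c : H} (hl : l ∈ L) (hn : n ∈ A l) (hc : c ∈ A l) (hc1 : c ≠ 1) (hcn : c ≠ n) :
    ∃ e, al l e = 1 ∧ n • e = e ∧ c • e = e + l := by
  have h0 := G.ne0 hl
  obtain ⟨e₁, he₁, hce₁⟩ := G.phi hl hc hc1
  have hnn := G.sq hl hn
  have hcn' : c * n ≠ 1 := fun e => hcn (by
    calc c = c * (n * n) := by rw [hnn, mul_one]
      _ = n := by rw [← mul_assoc, e, one_mul])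
  obtain ⟨e₂, he₂, hce₂⟩ := G.phi hl (mul_mem hc hn) hcn'
  rcases (G.al_ker hl e₁).mp he₁ n hn with h1 | h1
  · exact ⟨e₁, he₁, h1, hce₁⟩
  · rcases (G.al_ker hl e₂).mp he₂ n hn with h2 | h2
    · refine ⟨e₂, he₂, h2, ?_⟩
      rwa [mul_smul, h2] at hce₂
    · -- `n e₂ = e₂ + l`, `c n e₂ = e₂ + l`
      have hcl : c • l = l := G.fix hl hc (G.self hl)
      have h3 : c • e₂ = e₂ := by
        rw [mul_smul, h2, smul_add, hcl] at hce₂
        exact add_right_cancel hce₂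
      obtain ⟨h4, h5⟩ := G.phi_add hl he₁ he₂ h1 h2
      refine ⟨e₁ + e₂, h4, h5, ?_⟩
      rw [smul_add, hce₁, h3]
      abel

/-- two elements: `c ∉ ⟨n, a⟩` implies that some functional vanishes on `n` and `a`, not on `c` -/
theorem sep2 {l : M} {n a c : H} (hl : l ∈ L) (hn : n ∈ A l) (ha : a ∈ A l) (hc : c ∈ A l) (hc1 : c ≠ 1) (hcn : c ≠ n)
    (hca : c ≠ a) (hcna : c ≠ n * a) : ∃ e, al l e = 1 ∧ n • e = e ∧ a • e = e ∧ c • e = e + l := by
  obtain ⟨e₁, he₁, hn₁, hce₁⟩ := G.sep hl hn hc hc1 hcn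
  have haa := G.sq hl ha
  have hcn' : c * a ≠ 1 := fun e => hca (by
    calc c = c * (a * a) := by rw [haa, mul_one]
      _ = a := by rw [← mul_assoc, e, one_mul])
  have hcn'' : c * a ≠ n := fun e => hcna (by
    calc c = c * (a * a) := by rw [haa, mul_one]
      _ = n * a := by rw [← mul_assoc, e])
  obtain ⟨e₂, he₂, hn₂, hce₂⟩ := G.sep hl hn (mul_mem hc ha) hcn' hcn''
  rcases (G.al_ker hl e₁).mp he₁ a ha with h1 | h1
  · exact ⟨e₁, he₁, hn₁, h1, hce₁⟩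
  · rcases (G.al_ker hl e₂).mp he₂ a ha with h2 | h2
    · refine ⟨e₂, he₂, hn₂, h2, ?_⟩
      rwa [mul_smul, h2] at hce₂
    · have hcl : c • l = l := G.fix hl hc (G.self hl)
      have h3 : c • e₂ = e₂ := by
        rw [mul_smul, h2, smul_add, hcl] at hce₂
        exact add_right_cancel hce₂
      obtain ⟨h4, h5⟩ := G.phi_add hl he₁ he₂ h1 h2
      refine ⟨e₁ + e₂, h4, by rw [smul_add, hn₁, hn₂], h5, ?_⟩
      rw [smul_add, hce₁, h3]
      abel

/-- **THEOREM `SIGMA_k`** -/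
theorem sigma {l : M} {a o : H} (hl : l ∈ L) (ha : a ∈ A l) (ha1 : a ≠ 1) {n : ℕ} (hn : Odd n) (hon : o ^ n = 1)
    (ho1 : o ≠ 1) (hao : a * o * a⁻¹ = o⁻¹) :
    o ^ 3 = 1 ∧ al l (o • l) = 1 ∧ a • o • l = o • l + l ∧ o⁻¹ • l = o • l + l := by
  have h0 := G.ne0 hl
  have haa := G.sq hl ha
  have hai := G.inv hl ha
  have hal : a • l = l := G.fix hl ha (G.self hl)
  -- powers of `o` of odd order
  have hodd : ∀ k : ℕ, o ^ (2 * k) = 1 → o ^ k = 1 := by
    intro k hk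
    obtain ⟨r, hr⟩ := hn
    have h1 : (o ^ k) ^ n = 1 := by rw [← pow_mul, mul_comm, pow_mul, hon, one_pow]
    have h2 : (o ^ k) ^ (2 * r) = 1 := by
      rw [← pow_mul, show k * (2 * r) = (2 * k) * r by ring, pow_mul, hk, one_pow]
    rwa [hr, pow_succ, h2, one_mul] at h1
  have hgen : ∃ k : ℕ, (o * o) ^ k = o := by
    obtain ⟨r, hr⟩ := hn
    refine ⟨r + 1, ?_⟩
    rw [← pow_two, ← pow_mul]
    have : 2 * (r + 1) = n + 1 := by omega
    rw [this, pow_succ, hon, one_mul]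
  have hao' : a * o = o⁻¹ * a := by rw [← hao]; group
  have hoa : o * a = a * o⁻¹ := by
    calc o * a = (a * a) * (o * a) := by rw [haa, one_mul]
      _ = a * (a * o) * a := by group
      _ = a * o⁻¹ * (a * a) := by rw [hao']; group
      _ = a * o⁻¹ := by rw [haa, mul_one]
  have hinv : a * o⁻¹ * a⁻¹ = o := by
    calc a * o⁻¹ * a⁻¹ = (a * o * a⁻¹)⁻¹ := by group
      _ = o := by rw [hao, inv_inv]
  -- a power of `o` in the stabiliser of `l`
  have hstab : ∀ k : ℕ, o ^ k • l = l → o ^ k = 1 := by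
    intro k hk
    have h1 := G.A_conj (o ^ k) hl ha
    rw [hk] at h1
    have h2 : a * (o ^ k * a * (o ^ k)⁻¹) ∈ A l := mul_mem ha h1
    have h3 : a * o ^ k * a⁻¹ = (o ^ k)⁻¹ := by
      rw [← conj_pow, hao, inv_pow]
    have h4 : a * (o ^ k * a * (o ^ k)⁻¹) = (o ^ (2 * k))⁻¹ := by
      calc a * (o ^ k * a * (o ^ k)⁻¹) = (a * o ^ k * a⁻¹) * (a * a) * (o ^ k)⁻¹ := by group
        _ = (o ^ k)⁻¹ * (o ^ k)⁻¹ := by rw [h3, haa, mul_one]
        _ = (o ^ (2 * k))⁻¹ := by rw [two_mul, pow_add, mul_inv_rev]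
    rw [h4] at h2
    have h5 : ((o ^ (2 * k))⁻¹) ^ n = 1 := by
      rw [inv_pow, ← pow_mul, mul_comm, pow_mul, hon, one_pow, inv_one]
    exact hodd k (inv_eq_one.mp (G.odd_one hl h2 hn h5))
  obtain ⟨m, hm⟩ : ∃ m, m = o • l := ⟨_, rfl⟩
  have hmL : m ∈ L := by rw [hm]; exact G.smul o hl
  have hml : m ≠ l := by
    intro e
    apply ho1
    have := hstab 1 (by rw [pow_one, ← hm, e])
    rwa [pow_one] at this
  -- `a m = o⁻¹ l`
  have ham : a • m = o⁻¹ • l := by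
    rw [hm, smul_smul, hao', mul_smul, hal]
  -- `a' = o a o⁻¹ ∈ A_m`
  obtain ⟨a', ha'⟩ : ∃ a', a' = o * a * o⁻¹ := ⟨_, rfl⟩
  have ha'A : a' ∈ A m := by rw [ha', hm]; exact G.A_conj o hl ha
  have haa' : a * a' = o⁻¹ * o⁻¹ := by
    calc a * a' = (a * o * a⁻¹) * (a * a) * o⁻¹ := by rw [ha']; group
      _ = o⁻¹ * o⁻¹ := by rw [hao, haa, mul_one]
  have ha'a : a' * a = o * o := by
    have ha'a' := G.sq hmL ha'A
    calc a' * a = (a * a')⁻¹ := by rw [mul_inv_rev, hai, inv_eq_of_mul_eq_one_left ha'a']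
      _ = o * o := by rw [haa', mul_inv_rev, inv_inv]
  -- fixed by `a` and `a'` implies fixed by `o`
  have hfo : ∀ u : M, a • u = u → a' • u = u → o • u = u := by
    intro u h1 h2
    have h3 : (o * o) • u = u := by rw [← ha'a, mul_smul, h1, h2]
    obtain ⟨k, hk⟩ := hgen
    have h4 : ∀ k : ℕ, (o * o) ^ k • u = u := by
      intro k
      induction k with
      | zero => rw [pow_zero, one_smul]
      | succ k ih => rw [pow_succ, mul_smul, h3, ih]
    have := h4 k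
    rwa [hk] at this
  have hamm : a • m ≠ m := by
    intro e
    have h1 := G.A_conj a hmL ha'A
    rw [e] at h1
    have h2 : a' * (a * a' * a⁻¹) ∈ A m := mul_mem ha'A h1
    have h3 : a' * (a * a' * a⁻¹) = o ^ 4 := by
      calc a' * (a * a' * a⁻¹) = (a' * a) * (a' * a) := by rw [hai]; group
        _ = o ^ 4 := by rw [ha'a]; simp only [pow_succ, pow_zero, one_mul, mul_assoc]
    rw [h3] at h2
    have h4 := G.odd_one hmL h2 hn (by rw [← pow_mul, mul_comm, pow_mul, hon, one_pow])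
    have h5 := hodd 1 (hodd 2 h4)
    rw [pow_one] at h5
    exact ho1 h5
  -- `τ = o a` interchanges `l` and `m`, `a` and `a'`
  have hτl : (o * a) • l = m := by rw [mul_smul, hal, hm]
  have hτm : (o * a) • m = l := by rw [mul_smul, ham, smul_inv_smul]
  have hττ : (o * a) * (o * a) = 1 := by
    calc (o * a) * (o * a) = o * (a * o) * a := by group
      _ = o * (o⁻¹ * a) * a := by rw [hao']
      _ = a * a := by group
      _ = 1 := haa
  have hτi : (o * a)⁻¹ = o * a := inv_eq_of_mul_eq_one_left hττ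
  have hτa : (o * a) * a * (o * a)⁻¹ = a' := by
    calc (o * a) * a * (o * a)⁻¹ = o * (a * a) * a⁻¹ * o⁻¹ := by group
      _ = a' := by rw [haa, ha', hai]; group
  have hsym : al m l ≠ 1 → al l m ≠ 1 := by
    intro h1 h2
    apply h1
    have h3 := G.al_conj (o * a) hl m
    rw [hτl, hτm, h2, mul_one, mul_inv_cancel] at h3
    exact h3
  have hend : al l m = 1 → o ^ 3 = 1 ∧ al l (o • l) = 1 ∧ a • o • l = o • l + l ∧ o⁻¹ • l = o • l + l := by
    intro h1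
    have h2 : a • m = m + l := ((G.al_ker hl m).mp h1 a ha).resolve_left hamm
    have h3 : o⁻¹ • l = m + l := by rw [← ham, h2]
    have h4 : o • m = m + l := by
      have h5 : o • (o⁻¹ • l) = o • (m + l) := by rw [h3]
      rw [smul_inv_smul, smul_add, ← hm] at h5
      calc o • m = o • m + m + m := (G.two_right _ _).symm
        _ = m + l := by rw [← h5, add_comm]
    have h5 : o ^ 3 • l = l := by
      calc o ^ 3 • l = o • o • o • l := by
            rw [smul_smul, smul_smul]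
            congr 1
            simp only [pow_succ, pow_zero, one_mul, mul_assoc]
        _ = o • (m + l) := by rw [← hm, h4]
        _ = (m + l) + m := by rw [smul_add, h4, ← hm]
        _ = l := by rw [add_comm (m + l) m, G.two_left]
    exact ⟨hstab 3 h5, by rw [← hm]; exact h1, by rw [← hm]; exact h2, by rw [← hm]; exact h3⟩
  by_cases hml1 : al l m = 1
  · exact hend hml1
  exfalso
  have hlm1 : al m l ≠ 1 := by
    intro h2
    apply hml1
    have h3 := G.al_conj (o * a) hmL l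
    rw [hτl, hτm, h2, mul_one, mul_inv_cancel] at h3
    exact h3
  -- (*)
  have hstar : ∀ j ∈ I m, a • j = j → j ∈ I l := by
    intro j hj haj
    have h1 := hfo j haj (G.fix hmL ha'A hj)
    have h2 := G.I_conj o⁻¹ hmL hj
    have h3 : o⁻¹ • j = j := by
      calc o⁻¹ • j = o⁻¹ • o • j := by rw [h1]
        _ = j := inv_smul_smul o j
    have h4 : o⁻¹ • m = l := by rw [hm, inv_smul_smul]
    rwa [h3, h4] at h2
  obtain ⟨ν, hν⟩ : ∃ ν, ν = al l m := ⟨_, rfl⟩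
  have hνA : ν ∈ A l := by rw [hν]; exact G.al_mem hl m
  have hne : ∀ {x : M}, x ≠ x + l := fun {x} e => h0 (by
    have := congrArg (fun u => x + u) e
    simp only [G.two, G.two_left] at this
    exact this.symm)
  -- functionals which vanish on `ν` and `a`
  have hvan : ∀ e, al l e = 1 → ν • e = e → a • e = e → ∀ c ∈ A l, c • e ≠ e + l := by
    intro e he hνe hae c hc hce
    obtain ⟨j, hj, -, hf⟩ := G.s1 hl hmL hml1 hlm1 he (by rw [← hν]; exact hνe)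
    have h1 := hf a ha
    rw [hae, G.two] at h1
    have h2 : a • j = j := by
      calc a • j = a • j + j + j := (G.two_right _ _).symm
        _ = j := by rw [h1, zero_add]
    have h3 := G.fix hl hc (hstar j hj h2)
    have h4 := hf c hc
    rw [h3, G.two, hce] at h4
    apply h0
    calc l = e + l + e := by rw [add_comm (e + l) e, G.two_left]
      _ = 0 := h4.symm
  have hA4 : ∀ c ∈ A l, c = 1 ∨ c = ν ∨ c = a ∨ c = ν * a := by
    intro c hc
    by_contra hcon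
    push Not at hcon
    obtain ⟨e, h1, h2, h3, h4⟩ := G.sep2 hl hνA ha hc hcon.1 hcon.2.1 hcon.2.2.1 hcon.2.2.2
    exact hvan e h1 h2 h3 c hc h4
  have hνa : a ≠ ν := by
    intro e
    have h1 : (A l : Set H) ⊆ {1, a} := by
      intro c hc
      rcases hA4 c hc with e1 | e1 | e1 | e1
      · left; exact e1
      · right; rw [e1, ← e]; exact rfl
      · right; exact e1
      · left; rw [e1, ← e, haa]
    have h2 : Nat.card (A l) ≤ 2 := by
      have h3 := Set.ncard_le_ncard h1 (Set.toFinite _)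
      have h4 : ({1, a} : Set H).ncard ≤ 2 := (Set.ncard_insert_le _ _).trans (by rw [Set.ncard_singleton])
      have h5 : (A l : Set H).ncard = Nat.card (A l) := rfl
      omega
    have := G.four hl
    omega
  -- the S3 case is impossible
  have hω1 : al m (a • m + m) = 1 := by
    by_contra hcon
    obtain ⟨j, hj, hj1, hνj⟩ := G.s3 hl hmL hml1 hlm1 ha hcon
    rw [← hν] at hνj
    have h1 : a • j ≠ j := by
      intro e
      have h2 := G.fix hl hνA (hstar j hj e)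
      rw [h2] at hνj
      exact hne hνj
    have h2 : a • j = j + l := ((G.al_ker hl j).mp hj1 a ha).resolve_left h1
    obtain ⟨e, he, hνe, hae⟩ := G.sep hl hνA ha ha1 hνa
    obtain ⟨j', hj', hj'1, hf⟩ := G.s1 hl hmL hml1 hlm1 he (by rw [← hν]; exact hνe)
    have h3 : a • j' = j' + l := by
      have h4 := hf a ha
      rw [hae, add_comm (e + l) e, G.two_left] at h4
      calc a • j' = a • j' + j' + j' := (G.two_right _ _).symm
        _ = j' + l := by rw [h4, add_comm]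
    have h4 : ν • j' = j' := by
      have h5 := hf ν hνA
      rw [hνe, G.two] at h5
      calc ν • j' = ν • j' + j' + j' := (G.two_right _ _).symm
        _ = j' := by rw [h5, zero_add]
    have h5 := (G.phi_add hl hj1 hj'1 h2 h3).2
    have h6 := G.fix hl hνA (hstar _ (add_mem hj hj') h5)
    rw [smul_add, hνj, h4] at h6
    have h7 : j + l + j' = (j + j') + l := by abel
    rw [h7] at h6
    exact hne h6.symm
  obtain ⟨ω, hω⟩ : ∃ ω, ω = a • m + m := ⟨_, rfl⟩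
  rw [← hω] at hω1
  have hω0 : ω ≠ 0 := by
    intro e
    apply hamm
    calc a • m = a • m + m + m := (G.two_right _ _).symm
      _ = m := by rw [← hω, e, zero_add]
  have haω : a • ω = ω := by
    rw [hω, smul_add, smul_smul, haa, one_smul, add_comm]
  have ham' : a • m = m + ω := by
    rw [hω, add_comm (a • m) m, G.two_left]
  have ha'm : a' • m = m := G.fix hmL ha'A (G.self hmL)
  rcases (G.al_ker hmL ω).mp hω1 a' ha'A with h1 | h1
  · -- `ω` is fixed by `o`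
    have h2 := hfo ω haω h1
    have h3 : (o * o) • m = m + ω := by
      rw [← ha'a, mul_smul, ham', smul_add, ha'm, h1]
    have h4 : o ^ 4 • m = m := by
      calc o ^ 4 • m = (o * o) • ((o * o) • m) := by
            rw [smul_smul]
            congr 1
            simp only [pow_succ, pow_zero, one_mul, mul_assoc]
        _ = m := by
          rw [h3, smul_add, h3, mul_smul, h2, h2, G.two_right]
    have h5 : o ^ 4 • l = l := by
      have h6 : o • (o ^ 4 • l) = o • l := by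
        rw [smul_smul, ← pow_succ', pow_succ, mul_smul, ← hm, h4]
      exact smul_left_cancel o h6
    have h6 := hstab 4 h5
    have h7 := hodd 1 (hodd 2 h6)
    rw [pow_one] at h7
    exact ho1 h7
  · -- `ω' = a' l + l`
    obtain ⟨ω', hω'⟩ : ∃ ω', ω' = a' • l + l := ⟨_, rfl⟩
    have hτω : (o * a) • ω = ω' := by
      have h2 : (o * a) • a • m = a' • l := by
        calc (o * a) • a • m = ((o * a) * a * (o * a)⁻¹) • ((o * a) • m) := by
              rw [smul_smul, smul_smul]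
              congr 1
              group
          _ = a' • l := by rw [hτa, hτm]
      rw [hω, smul_add, h2, hτm, hω']
    have hτω' : (o * a) • ω' = ω := by
      rw [← hτω, smul_smul, hττ, one_smul]
    have hτa' : (o * a) * a' * (o * a)⁻¹ = a := by
      calc (o * a) * a' * (o * a)⁻¹ = (o * a) * ((o * a) * a * (o * a)⁻¹) * (o * a)⁻¹ := by rw [hτa]
        _ = ((o * a) * (o * a)) * a * ((o * a) * (o * a))⁻¹ := by group
        _ = a := by rw [hττ]; group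
    have haω' : a • ω' = ω' + l := by
      have h2 : (o * a) • a' • ω = (o * a) • (ω + m) := by rw [h1]
      rw [smul_add, hτω, hτm] at h2
      calc a • ω' = ((o * a) * a' * (o * a)⁻¹) • ((o * a) • ω) := by rw [hτa', hτω]
        _ = (o * a) • a' • ω := by
            rw [smul_smul, smul_smul]
            congr 1
            group
        _ = ω' + l := h2
    have ha'l : a' • l = l + ω' := by
      rw [hω', add_comm (a' • l) l, G.two_left]
    have ha'a' := G.sq hmL ha'A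
    have ha'ω' : a' • ω' = ω' := by
      rw [hω', smul_add, smul_smul, ha'a', one_smul, add_comm]
    -- `{0, l, ω', l + ω'}` is invariant under `o`
    have hoo : ∀ u : M, (u = 0 ∨ u = l ∨ u = ω' ∨ u = l + ω') →
        ((o * o) • u = 0 ∨ (o * o) • u = l ∨ (o * o) • u = ω' ∨ (o * o) • u = l + ω') := by
      intro u hu
      rw [← ha'a, mul_smul]
      rcases hu with e | e | e | e <;> rw [e]
      · left; rw [smul_zero, smul_zero]
      · right; right; right; rw [hal, ha'l]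
      · right; left
        rw [haω', smul_add, ha'ω', ha'l, add_comm l ω', G.two_left]
      · right; right; left
        rw [smul_add, hal, haω', add_comm ω' l, G.two_left, ha'ω']
    have hpw : ∀ k : ℕ, ((o * o) ^ k • l = 0 ∨ (o * o) ^ k • l = l ∨ (o * o) ^ k • l = ω' ∨
        (o * o) ^ k • l = l + ω') := by
      intro k
      induction k with
      | zero => right; left; rw [pow_zero, one_smul]
      | succ k ih => rw [pow_succ', mul_smul]; exact hoo _ ih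
    obtain ⟨k, hk⟩ := hgen
    have h2 := hpw k
    rw [hk, ← hm] at h2
    have hm0 := G.ne0 hmL
    have h3 : m = ω' := by
      rcases h2 with e | e | e | e
      · exact absurd e hm0
      · exact absurd e hml
      · exact e
      · exfalso
        rw [e, smul_add, ha'l, ha'ω', G.two_right] at ha'm
        have h4 : ω' = 0 := by
          have := congrArg (fun u => l + u) ha'm
          simp only [G.two, G.two_left] at this
          exact this.symm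
        apply hω0
        rw [← hτω', h4, smul_zero]
    have h4 : ω = l := by rw [← hτω', ← h3, hτm]
    rw [h4] at hω1
    exact hlm1 hω1

end SK

end Cfsg.Agent.Omega.NO3S.TwoOne

end

section


/-!
# NO-3S, `q = 2`, `n = 1`, no `λ`-transvections: symmetric pairs (helper225's text #18607, (S1), (S2), (S3))

`h : One T V z`, `NT V`, `L` another line on `z`, `y ∈ V`, `q ∈ L` points `≠ z`; the pair `(V, L)` is symmetric:
`y ∉ E_z^L`, `q ∉ E_z^V`.  Planes and `D_x` arbitrary.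

* `One.twin_iff` : `e ∈ E_{pq}`, `a ∈ W_p` and `b ∈ W_q` the same element of `N`: `e` moves `a` iff it moves `b`;
* `One.sig_one` (S1) : for `e ∈ E_y ∩ C(q)` some `j ∈ I_L ∩ E_z` has on `W_y` the functional of `e`;
* `One.sig_two` (S2) : `b ∈ W_y ∩ N_G(L)` is in `E_y` or is (mod `E_y`) the element `q`;
* `One.sig_three` (S3) : if `[q, b₁] ∉ E_z^L` for some `b₁ ∈ W_y` then some `j ∈ I_L ∩ E_z` moves the twin of `q`;
* `One.sig_three'` : then `W_y ∩ N_G(L) ≤ E_y`.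
-/

set_option autoImplicit false
set_option linter.unusedSectionVars false

namespace Cfsg.Agent.Omega.NO3S.TwoOne

open Subgroup Cfsg Cfsg.Agent.ZN Cfsg.Agent.MinSimple.Geo Cfsg.Agent.Omega.CaseL
open Cfsg.Agent.ZN.Block (conj_mem_of_normalizer conj_mem_of_normalizer' le_normalizer_of_forall
  mem_normalizer_of)
open scoped commutatorElement

universe u

variable {G : Type u} [Group G]

/-- the line `L` with everything that is known about it -/
theorem One.line [Finite G] {T V L : Subgroup G} {z : G} (h : One T V z) (hN : NT V) (hL : L ∈ lines V z) :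
    ∃ T', One T' L z ∧ NT L ∧ (∀ x, ws L x = ws V x) ∧ (∀ x, kq L x = kq V x) := by
  obtain ⟨c, hLc, T', h'⟩ := h.of_line hL h.ln.z_ne
  refine ⟨T', h', ?_, fun x => by rw [hLc, ws_cj], fun x => by rw [hLc, kq_cj]⟩
  rw [hLc]; exact NT.conj hN c

namespace One

variable {T V L : Subgroup G} {z y q p : G}

/-- `e ∈ E_{pq}` moves `a ∈ W_p` iff it moves its twin `b ∈ W_q` -/
theorem twin_iff (h : One T V z) (hp : p ∈ V) (hp1 : p ≠ 1) (hq : q ∈ V) (hq1 : q ≠ 1) (hqp : q ≠ p)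
    {e a b : G} (he : e ∈ ee V (p * q)) (ha : a ∈ ws V p) (ht : Tw V p a q b) :
    e * a = a * e ↔ e * b = b * e := by
  have hr : p * q ∈ V := mul_mem hp hq
  have hr1 : p * q ≠ 1 := h.mul_ne_one hq (Ne.symm hqp)
  have hpr : p ≠ p * q := fun e' => hq1 (by simpa using e'.symm)
  have hpp := h.ln.sq p hp
  obtain ⟨t, ht1, -, ht2⟩ := h.exists_move hr hr1 hp hp1 hpr
  have ht3 : t * p * t⁻¹ = q := by rw [ht2, h.ln.comm hp hq, mul_assoc, hpp, mul_one]
  have htx : t ∈ xl V := kq_le_xl hr hr1 ht1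
  have h1 : (t * a * t⁻¹) * b⁻¹ ∈ ee V q := (h.tw_iff hp hp1 ha htx ht3).mp ht
  set b₀ := t * a * t⁻¹ with hb₀
  have hb₀q : b₀ ∈ ws V q := by
    have := conj_mem_ws t ha
    rwa [ht3] at this
  -- `e` commutes with `b₀ b⁻¹`
  have h2 := h.ee_comm hr hr1 hq hq1 he h1
  have h3 : e * b = b * e ↔ e * b₀ = b₀ * e := by
    have e1 : b₀ = (b₀ * b⁻¹) * b := by group
    constructor
    · intro hc
      rw [e1]
      exact comm_mul_of h2 hc
    · intro hc
      have e2 : b = (b₀ * b⁻¹)⁻¹ * b₀ := by group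
      rw [e2]
      exact comm_mul_of (comm_inv_of h2) hc
  rw [h3]
  -- `a b₀ ∈ K_{pq}`
  have h4 : a * b₀ ∈ kq V (p * q) := h.mul_conj_kq hr hp hp1 ht1 ha
  have heV := h.ws_le_centralizer_V hr hr1 he.1
  have h5 : ⁅e, a * b₀⁆ = ⁅e, a⁆ * ⁅e, b₀⁆ := by
    have h6 : ⁅e, b₀⁆ ∈ V := by
      rcases h.ee_cases hq hq1 he hb₀q with e1 | e1
      · rw [e1]; exact one_mem _
      · rw [e1]; exact hq
    have h7 : ⁅e, b₀⁆ * a = a * ⁅e, b₀⁆ := h.V_comm h6 (h.ws_le_centralizer_V hp hp1 ha)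
    calc ⁅e, a * b₀⁆ = ⁅e, a⁆ * (a * ⁅e, b₀⁆) * a⁻¹ := by simp only [commutatorElement_def]; group
      _ = ⁅e, a⁆ * (⁅e, b₀⁆ * a) * a⁻¹ := by rw [h7]
      _ = ⁅e, a⁆ * ⁅e, b₀⁆ := by group
  have h8 : ⁅e, a * b₀⁆ = 1 ∨ ⁅e, a * b₀⁆ = p * q := by
    rcases h.kq_cases hr h4 he.1 with e1 | e1
    · left
      exact commutatorElement_eq_one_iff_mul_comm.mpr (comm_of_conj_eq e1).symm
    · right
      have hrr := h.ln.sq _ hr
      have hre : (p * q) * e = e * (p * q) := h.V_comm hr heV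
      obtain ⟨k, hk⟩ : ∃ k, k = a * b₀ := ⟨_, rfl⟩
      rw [← hk] at e1 ⊢
      have e2 : k * e = (p * q) * e * k := by
        calc k * e = (k * e * k⁻¹) * k := by group
          _ = (p * q) * e * k := by rw [e1]
      have e3 : e * k = (p * q) * (k * e) := by
        calc e * k = ((p * q) * (p * q)) * (e * k) := by rw [hrr, one_mul]
          _ = (p * q) * ((p * q) * e * k) := by group
          _ = (p * q) * (k * e) := by rw [e2]
      calc ⁅e, k⁆ = (e * k) * e⁻¹ * k⁻¹ := by rw [commutatorElement_def]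
        _ = p * q := by rw [e3]; group
  constructor
  · intro hc
    have e1 : ⁅e, a⁆ = 1 := commutatorElement_eq_one_iff_mul_comm.mpr hc
    rw [e1, one_mul] at h5
    apply commutatorElement_eq_one_iff_mul_comm.mp
    rcases h.ee_cases hq hq1 he hb₀q with e2 | e2
    · exact e2
    · exfalso
      rw [e2] at h5
      rw [h5] at h8
      rcases h8 with e3 | e3
      · exact hq1 e3
      · exact hp1 (by simpa using e3.symm)
  · intro hc
    have e1 : ⁅e, b₀⁆ = 1 := commutatorElement_eq_one_iff_mul_comm.mpr hc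
    rw [e1, mul_one] at h5
    apply commutatorElement_eq_one_iff_mul_comm.mp
    rcases h.ee_cases hp hp1 he ha with e2 | e2
    · exact e2
    · exfalso
      rw [e2] at h5
      rw [h5] at h8
      rcases h8 with e3 | e3
      · exact hp1 e3
      · exact hq1 (by simpa using e3.symm)


/-- two movers: the product does not move -/
theorem mv_mul (h : One T V z) (hp : p ∈ V) {k k' w : G} (hk : k ∈ kq V p) (hk' : k' ∈ kq V p)
    (hw : w ∈ ws V p) (h1 : k * w ≠ w * k) (h2 : k' * w ≠ w * k') : k * k' * w = w * (k * k') := by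
  have h3 := (h.kq_or hp hk hw).resolve_left h1
  have h4 := (h.kq_or hp hk' hw).resolve_left h2
  have h5 := h.kq_p hk
  calc k * k' * w = k * (k' * w) := by group
    _ = (k * p) * w * k' := by rw [h4]; group
    _ = p * (k * w) * k' := by rw [h5]; group
    _ = (p * p) * w * k * k' := by rw [h3]; group
    _ = w * (k * k') := by rw [h.ln.sq p hp]; group

theorem mv_mul' (h : One T V z) (hp : p ∈ V) {k w w' : G} (hk : k ∈ kq V p)
    (hw : w ∈ ws V p) (hw' : w' ∈ ws V p) (h1 : k * w ≠ w * k) (h2 : k * w' ≠ w' * k) :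
    k * (w * w') = w * w' * k := by
  have h3 := (h.kq_or hp hk hw).resolve_left h1
  have h4 := (h.kq_or hp hk hw').resolve_left h2
  have h5 : p * w = w * p := h.V_comm hp (h.ws_le_centralizer_V hp (fun e => h1 (by
    have e3 := h3
    rw [e, one_mul] at e3
    exact e3)) hw)
  calc k * (w * w') = (k * w) * w' := by group
    _ = (p * w) * (k * w') := by rw [h3]; group
    _ = w * (p * p) * w' * k := by rw [h4, h5]; group
    _ = w * w' * k := by rw [h.ln.sq p hp]; group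

/-- one `e ∈ E_p` moves `a` and `b`, `a, b ∈ W_q - E_q` -/
theorem move_two [Finite G] (h : One T V z) (hN : NT V) (hp : p ∈ V) (hp1 : p ≠ 1) (hq : q ∈ V)
    (hq1 : q ≠ 1) (hqp : q ≠ p) {a b : G} (ha : a ∈ ws V q) (haE : a ∉ ee V q) (hb : b ∈ ws V q)
    (hbE : b ∉ ee V q) : ∃ e ∈ ee V p, e * a * e⁻¹ = q * a ∧ e * b * e⁻¹ = q * b := by
  obtain ⟨e, he, hea⟩ := h.nt_move_ee hN hp hp1 hq hq1 hqp ha haE
  obtain ⟨f, hf, hfb⟩ := h.nt_move_ee hN hp hp1 hq hq1 hqp hb hbE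
  rcases h.kq_cases hq (he.2 q hq hq1) hb with e1 | e1
  · rcases h.kq_cases hq (hf.2 q hq hq1) ha with e2 | e2
    · refine ⟨e * f, mul_mem he hf, ?_, ?_⟩
      · calc e * f * a * (e * f)⁻¹ = e * (f * a * f⁻¹) * e⁻¹ := by group
          _ = q * a := by rw [e2, hea]
      · calc e * f * b * (e * f)⁻¹ = e * (f * b * f⁻¹) * e⁻¹ := by group
          _ = (e * q) * b * e⁻¹ := by rw [hfb]; group
          _ = q * (e * b * e⁻¹) := by rw [h.kq_p (he.2 q hq hq1)]; group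
          _ = q * b := by rw [e1]
    · exact ⟨f, hf, e2, hfb⟩
  · exact ⟨e, he, hea, e1⟩

end One

/-- a symmetric pair of lines on `z` -/
structure SyP (V L : Subgroup G) (z y q : G) : Prop where
  line : L ∈ lines V z
  hy : y ∈ V
  hy1 : y ≠ 1
  hyz : y ≠ z
  hq : q ∈ L
  hq1 : q ≠ 1
  hqz : q ≠ z
  yL : y ∉ ee L z
  qV : q ∉ ee V z

namespace SyP

variable {T V L : Subgroup G} {z y q : G} (S : SyP V L z y q) (h : One T V z) (hN : NT V)
include S h

theorem q_ws : q ∈ ws V z := le_ws S.line S.hq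

theorem hs : z * y ∈ V := mul_mem h.ln.z_mem S.hy

theorem hs1 : z * y ≠ 1 := h.mul_ne_one S.hy (Ne.symm S.hyz)

theorem hsz : z * y ≠ z := fun e' => S.hy1 (by simpa using e')

/-- the elements of `C_G(V)` which fix `q` centralise `L` -/
theorem cent_L {c : G} (hc : c ∈ centralizer (V : Set G)) (hcq : c * q = q * c) :
    c ∈ centralizer (L : Set G) := by
  obtain ⟨k, hk, T', h'⟩ := h.of_line S.line h.ln.z_ne
  exact h'.mem_centralizer_of S.hq S.hq1 S.line.2 h.ln.z_ne (Ne.symm S.hqz) hcq (h.V_comm h.ln.z_mem hc).symm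

include hN

/-- some `e ∈ E_y` moves `q` -/
theorem exists_e [Finite G] : ∃ e ∈ ee V y, e * q * e⁻¹ = z * q :=
  h.nt_move_ee hN S.hy S.hy1 h.ln.z_mem h.ln.z_ne (Ne.symm S.hyz) (S.q_ws h) S.qV

/-- some `e ∈ E_q` (of `L`) moves `y` -/
theorem exists_f [Finite G] : ∃ e ∈ ee L q, e * y * e⁻¹ = z * y := by
  obtain ⟨T', h', hNL, hws, hkq⟩ := h.line hN S.line
  refine h'.nt_move_ee hNL S.hq S.hq1 S.line.2 h.ln.z_ne (Ne.symm S.hqz) ?_ S.yL
  rw [hws]
  exact h.V_le h.ln.z_mem h.ln.z_ne S.hy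

/-- `f = e_q`, `e ∈ E_y` fixes `q` : `e e^f ∈ I_L` -/
theorem mem_ii [Finite G] {e f : G} (he : e ∈ ee V y) (heq : e * q = q * e) (hf : f ∈ ee L q)
    (hfy : f * y * f⁻¹ = z * y) : e * (f * e * f⁻¹) ∈ ii L := by
  obtain ⟨T', h', hNL, hws, hkq⟩ := h.line hN S.line
  obtain ⟨g, hg, hgq⟩ := S.exists_e h hN
  have hee := h.sq S.hy S.hy1 e he.1
  have hei : e⁻¹ = e := inv_eq_self hee
  have hfV : f ∈ kq V z := by
    rw [← hkq]
    exact hf.2 z S.line.2 h.ln.z_ne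
  have heL := S.cent_L h (h.ws_le_centralizer_V S.hy S.hy1 he.1) heq
  have h1 : e * (f * e * f⁻¹) ∈ ws L q := by
    have e1 : e * (f * e * f⁻¹) = (e * f * e⁻¹) * f⁻¹ := by rw [hei]; group
    rw [e1]
    exact mul_mem (conj_mem_of_normalizer (h'.cent_norm S.hq) heL hf.1) (inv_mem hf.1)
  have h2 : f * e * f⁻¹ ∈ ee V (z * y) := by
    have := conj_mem_ee (h.kq_le_normalizer h.ln.z_mem h.ln.z_ne hfV) he
    rwa [hfy] at this
  have h3 : e * (f * e * f⁻¹) * g = g * (e * (f * e * f⁻¹)) :=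
    mul_comm_of (h.comm S.hy S.hy1 _ he.1 _ hg.1) (h.ee_comm (S.hs h) (S.hs1 h) S.hy S.hy1 h2 hg)
  exact h'.mem_ii_of_move S.hq S.hq1 S.line.2 h.ln.z_ne (Ne.symm S.hqz) hgq h1 h3

/-- **(S1)** -/
theorem one [Finite G] {e : G} (he : e ∈ ee V y) (heq : e * q = q * e) : ∃ j ∈ ii L, j ∈ ee V z ∧
    ∀ a ∈ ws V z, ∀ b ∈ ws V y, Tw V z a y b → (j * b = b * j ↔ e * a = a * e) := by
  obtain ⟨T', h', hNL, hws, hkq⟩ := h.line hN S.line
  obtain ⟨f, hf, hfy⟩ := S.exists_f h hN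
  have hfV : f ∈ kq V z := by
    rw [← hkq]
    exact hf.2 z S.line.2 h.ln.z_ne
  have h0 := S.mem_ii h hN he heq hf hfy
  have h2 : f * e * f⁻¹ ∈ ee V (z * y) := by
    have := conj_mem_ee (h.kq_le_normalizer h.ln.z_mem h.ln.z_ne hfV) he
    rwa [hfy] at this
  refine ⟨_, h0, ⟨?_, fun p hp hp1 => mul_mem (he.2 p hp hp1) (h2.2 p hp hp1)⟩, fun a ha b hb ht => ?_⟩
  · rw [← hws]
    exact ii_le S.line.2 h.ln.z_ne h0
  · have h3 : f * e * f⁻¹ * a = a * (f * e * f⁻¹) ↔ f * e * f⁻¹ * b = b * (f * e * f⁻¹) :=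
      h.twin_iff h.ln.z_mem h.ln.z_ne S.hy S.hy1 S.hyz h2 ha ht
    have h4 : e * b = b * e := h.comm S.hy S.hy1 _ he.1 _ hb
    have h5 : e * (f * e * f⁻¹) * b = b * (e * (f * e * f⁻¹)) ↔
        f * e * f⁻¹ * b = b * (f * e * f⁻¹) := by
      constructor
      · intro hc
        have e1 : f * e * f⁻¹ = e⁻¹ * (e * (f * e * f⁻¹)) := by group
        rw [e1]
        exact mul_comm_of (inv_comm_of h4) hc
      · intro hc
        exact mul_comm_of h4 hc
    rw [h5, ← h3]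
    -- `f e f⁻¹` and `e` act in the same way on `W_z`
    have hze := h.V_comm h.ln.z_mem (h.ws_le_centralizer_V S.hy S.hy1 he.1)
    have hzf := h.kq_p hfV
    constructor
    · intro hc
      rcases h.kq_cases h.ln.z_mem (inv_mem hfV) ha with e1 | e1
      · rw [inv_inv] at e1
        have : e * (f⁻¹ * a * f) = (f⁻¹ * a * f) * e := by
          calc e * (f⁻¹ * a * f) = f⁻¹ * (f * e * f⁻¹ * a) * f := by group
            _ = f⁻¹ * (a * (f * e * f⁻¹)) * f := by rw [hc]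
            _ = (f⁻¹ * a * f) * e := by group
        rwa [e1] at this
      · rw [inv_inv] at e1
        have : e * (f⁻¹ * a * f) = (f⁻¹ * a * f) * e := by
          calc e * (f⁻¹ * a * f) = f⁻¹ * (f * e * f⁻¹ * a) * f := by group
            _ = f⁻¹ * (a * (f * e * f⁻¹)) * f := by rw [hc]
            _ = (f⁻¹ * a * f) * e := by group
        rw [e1] at this
        calc e * a = z⁻¹ * ((z * e) * a) := by group
          _ = z⁻¹ * (e * (z * a)) := by rw [hze]; group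
          _ = z⁻¹ * (z * a * e) := by rw [this]
          _ = a * e := by group
    · intro hc
      rcases h.kq_cases h.ln.z_mem (inv_mem hfV) ha with e1 | e1
      · rw [inv_inv] at e1
        calc f * e * f⁻¹ * a = f * (e * (f⁻¹ * a * f)) * f⁻¹ := by group
          _ = f * ((f⁻¹ * a * f) * e) * f⁻¹ := by rw [e1, hc]
          _ = a * (f * e * f⁻¹) := by group
      · rw [inv_inv] at e1
        have : e * (f⁻¹ * a * f) = (f⁻¹ * a * f) * e := by
          rw [e1]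
          calc e * (z * a) = (e * z) * a := by group
            _ = z * (e * a) := by rw [← hze]; group
            _ = z * a * e := by rw [hc]; group
        calc f * e * f⁻¹ * a = f * (e * (f⁻¹ * a * f)) * f⁻¹ := by group
          _ = f * ((f⁻¹ * a * f) * e) * f⁻¹ := by rw [this]
          _ = a * (f * e * f⁻¹) := by group

/-- `[j, b] ∈ I_L` for `j ∈ I_L`, `b ∈ W_y` normalising `L` -/
theorem not_move [Finite G] {j b : G} (hj : j ∈ ii L) (hjE : j ∈ ee V z) (hb : b ∈ ws V y)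
    (hbq : b * q * b⁻¹ = q ∨ b * q * b⁻¹ = z * q) : j * b = b * j := by
  obtain ⟨T', h', hNL, hws, hkq⟩ := h.line hN S.line
  have hzL : z ∈ L := S.line.2
  have hbb := h.sq S.hy S.hy1 b hb
  have hbi : b⁻¹ = b := inv_eq_self hbb
  have hbz : b * z * b⁻¹ = z := conj_eq_of_comm (h.V_comm h.ln.z_mem (h.ws_le_centralizer_V S.hy S.hy1 hb)).symm
  have hbqL : b * q * b⁻¹ ∈ L := by
    rcases hbq with e | e
    · rw [e]; exact S.hq
    · rw [e]; exact mul_mem hzL S.hq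
  have h1 : ∀ m ∈ L, b * m * b⁻¹ ∈ L := by
    intro m hm
    rcases h'.ln.four hzL S.hq h.ln.z_ne S.hq1 (Ne.symm S.hqz) hm with e | e | e | e
    · rw [e, mul_one, mul_inv_cancel]; exact one_mem _
    · rw [e, hbz]; exact hzL
    · rw [e]; exact hbqL
    · rw [e]
      have e1 : b * (z * q) * b⁻¹ = (b * z * b⁻¹) * (b * q * b⁻¹) := by group
      rw [e1, hbz]
      exact mul_mem hzL hbqL
  have hbN : b ∈ normalizer (L : Set G) := mem_normalizer_of h1 (fun m hm => by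
    have := h1 m hm
    rwa [hbi] at this ⊢)
  have h2 : ⁅j, b⁆ ∈ ii L := by
    have h3 := conj_mem_of_normalizer (normalizer_le_normalizer_ii L) hbN (inv_mem hj)
    have e1 : ⁅j, b⁆ = j * (b * j⁻¹ * b⁻¹) := by rw [commutatorElement_def]; group
    rw [e1]
    exact mul_mem hj h3
  rcases h.ee_cases S.hy S.hy1 hjE hb with e | e
  · exact commutatorElement_eq_one_iff_mul_comm.mp e
  · exfalso
    rw [e] at h2
    exact S.yL (h'.ii_le_ee hzL h.ln.z_ne h2)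

/-- **(S2)** -/
theorem two [Finite G] {b : G} (hb : b ∈ ws V y) (hbq : b * q * b⁻¹ = q ∨ b * q * b⁻¹ = z * q) :
    b ∈ ee V y ∨ Tw V z q y b := by
  have hz := h.ln.z_mem
  have hz1 := h.ln.z_ne
  obtain ⟨a, ha, hta⟩ := h.tw_exists S.hy S.hy1 hz hz1 hb
  have ht := h.tw_symm hta
  have hqw := S.q_ws h
  have key : ∀ e ∈ ee V y, e * q = q * e → e * a = a * e := by
    intro e he heq
    obtain ⟨j, hj, hjE, hf⟩ := S.one h hN he heq
    exact (hf a ha b hb ht).mp (S.not_move h hN hj hjE hb hbq)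
  obtain ⟨e₀, he₀, he₀q⟩ := S.exists_e h hN
  have he₀q' : e₀ * q ≠ q * e₀ := fun e => by
    rw [conj_eq_of_comm e] at he₀q
    exact hz1 (by simpa using he₀q.symm)
  by_cases h0 : e₀ * a = a * e₀
  · left
    have h1 : a ∈ ee V z := by
      rw [← h.nt_w1 hN hz hz1]
      refine h.mem_w1 hz hz1 S.hy S.hy1 S.hyz ha fun e he => ?_
      by_cases heq : e * q = q * e
      · exact (key e he heq).symm
      · have h2 := key _ (mul_mem he he₀) (h.mv_mul hz (he.2 z hz hz1) (he₀.2 z hz hz1) hqw heq he₀q')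
        have e1 : e = (e * e₀) * e₀⁻¹ := by group
        rw [e1]
        exact (mul_comm_of h2 (inv_comm_of h0)).symm
    have h2 := h.tw_trans hta ((h.tw_one hz hz1 S.hy S.hy1 ha).mpr h1)
    have h3 := (h.tw_self S.hy S.hy1 hb).mp h2
    rwa [inv_one, mul_one] at h3
  · right
    have h1 : a * q ∈ ee V z := by
      rw [← h.nt_w1 hN hz hz1]
      refine h.mem_w1 hz hz1 S.hy S.hy1 S.hyz (mul_mem ha hqw) fun e he => ?_
      by_cases heq : e * q = q * e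
      · have h2 := key e he heq
        calc a * q * e = a * (e * q) := by rw [heq]; group
          _ = (a * e) * q := by group
          _ = e * (a * q) := by rw [← h2]; group
      · have h2 := key _ (mul_mem he he₀) (h.mv_mul hz (he.2 z hz hz1) (he₀.2 z hz hz1) hqw heq he₀q')
        have h3 : e * a ≠ a * e := fun h3 => h0 (by
          have e1 : e₀ = e⁻¹ * (e * e₀) := by group
          rw [e1]
          exact mul_comm_of (inv_comm_of h3) h2)
        exact (h.mv_mul' hz (he.2 z hz hz1) ha hqw h3 heq).symm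
    have h2 : Tw V z q z a := by
      rw [h.tw_self hz hz1 hqw, inv_eq_self (h.sq hz hz1 a ha), h.comm hz hz1 q hqw a ha]
      exact h1
    exact h.tw_trans h2 ht

/-- **(S3)** -/
theorem three [Finite G] {b₁ : G} (hb₁ : b₁ ∈ ws V y) (hω : ⁅q, b₁⁆ ∉ ee L z) :
    ∃ j ∈ ii L, j ∈ ee V z ∧ ∀ b ∈ ws V y, Tw V z q y b → j * b ≠ b * j := by
  obtain ⟨T', h', hNL, hws, hkq⟩ := h.line hN S.line
  have hz := h.ln.z_mem
  have hz1 := h.ln.z_ne
  have hzL : z ∈ L := S.line.2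
  have hqw := S.q_ws h
  have hs := S.hs h
  have hs1 := S.hs1 h
  have hωI : ⁅q, b₁⁆ ∈ ii V := h.comm_ii_mem hz hz1 S.hy S.hy1 hqw hb₁
  have hωz : ⁅q, b₁⁆ ∈ ws L z := by rw [hws]; exact ii_le hz hz1 hωI
  have hyz : y ∈ ws L z := by rw [hws]; exact h.V_le hz hz1 S.hy
  obtain ⟨f, hf, hfy, hfω⟩ := h'.move_two hNL S.hq S.hq1 hzL hz1 (Ne.symm S.hqz) hyz S.yL hωz hω
  have hfV : f ∈ kq V z := by
    rw [← hkq]
    exact hf.2 z hzL hz1
  have hff : f * f = 1 := h'.sq S.hq S.hq1 f hf.1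
  have hfq : f * q = q * f := h'.comm S.hq S.hq1 f hf.1 q (h'.V_le S.hq S.hq1 S.hq)
  obtain ⟨ω, hωd⟩ : ∃ ω, ω = ⁅q, b₁⁆ := ⟨_, rfl⟩
  rw [← hωd] at hω hωI hωz hfω
  have hωω : ω * ω = 1 := h.sq S.hy S.hy1 ω (ii_le S.hy S.hy1 hωI)
  have hb1b : b₁ * b₁ = 1 := h.sq S.hy S.hy1 b₁ hb₁
  have hb1i : b₁⁻¹ = b₁ := inv_eq_self hb1b
  have hb1V := h.ws_le_centralizer_V S.hy S.hy1 hb₁
  -- `b₁' = b₁^f`
  obtain ⟨c, hc⟩ : ∃ c, c = f * b₁ * f⁻¹ := ⟨_, rfl⟩
  have hcs : c ∈ ws V (z * y) := by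
    have := conj_mem_ws f hb₁
    rw [hfy] at this
    rwa [hc]
  have hcc : c * c = 1 := h.sq hs hs1 c hcs
  have hci : c⁻¹ = c := inv_eq_self hcc
  have hcV := h.ws_le_centralizer_V hs hs1 hcs
  have hfc : f * c * f⁻¹ = b₁ := by
    rw [hc]
    calc f * (f * b₁ * f⁻¹) * f⁻¹ = (f * f) * b₁ * (f * f)⁻¹ := by group
      _ = b₁ := by rw [hff]; group
  obtain ⟨g₀, hg₀⟩ : ∃ g₀, g₀ = b₁ * c := ⟨_, rfl⟩
  have hg₀k : g₀ ∈ kq V z := by
    rw [hg₀, hc]
    exact h.mul_conj_kq hz S.hy S.hy1 hfV hb₁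
  have hg₀V : g₀ ∈ centralizer (V : Set G) := by rw [hg₀]; exact mul_mem hb1V hcV
  have hfg₀ : f * g₀ * f⁻¹ = g₀⁻¹ := by
    calc f * g₀ * f⁻¹ = (f * b₁ * f⁻¹) * (f * c * f⁻¹) := by rw [hg₀]; group
      _ = c⁻¹ * b₁⁻¹ := by rw [← hc, hfc, hci, hb1i]
      _ = g₀⁻¹ := by rw [hg₀]; group
  -- `b₁ q b₁⁻¹ = ω q`
  have h1 : b₁ * q * b₁⁻¹ = ω * q := by
    have h2 : ⁅b₁, q⁆ = ω := by rw [h.comm_swap hz hz1 S.hy S.hy1 hqw hb₁, hωd]
    calc b₁ * q * b₁⁻¹ = ⁅b₁, q⁆ * q := by rw [commutatorElement_def]; group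
      _ = ω * q := by rw [h2]
  have h2 : c * q * c⁻¹ = z * ω * q := by
    calc c * q * c⁻¹ = f * (b₁ * (f⁻¹ * q * f) * b₁⁻¹) * f⁻¹ := by rw [hc]; group
      _ = f * (b₁ * q * b₁⁻¹) * f⁻¹ := by
        have e1 : f⁻¹ * q * f = q := by
          calc f⁻¹ * q * f = f⁻¹ * (q * f) := by group
            _ = q := by rw [← hfq]; group
        rw [e1]
      _ = (f * ω * f⁻¹) * (f * q * f⁻¹) := by rw [h1]; group
      _ = z * ω * q := by rw [hfω, conj_eq_of_comm hfq]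
  have hzb : z * b₁ = b₁ * z := h.V_comm hz hb1V
  have hb1ω : b₁ * ω = ω * b₁ := h.comm S.hy S.hy1 b₁ hb₁ ω (ii_le S.hy S.hy1 hωI)
  have h3 : g₀ * q * g₀⁻¹ = z * q := by
    calc g₀ * q * g₀⁻¹ = b₁ * (c * q * c⁻¹) * b₁⁻¹ := by rw [hg₀]; group
      _ = (b₁ * z) * ω * q * b₁⁻¹ := by rw [h2]; group
      _ = z * (b₁ * ω) * q * b₁⁻¹ := by rw [← hzb]; group
      _ = z * ω * (b₁ * q * b₁⁻¹) := by rw [hb1ω]; group
      _ = z * (ω * ω) * q := by rw [h1]; group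
      _ = z * q := by rw [hωω, mul_one]
  obtain ⟨e₀, he₀, he₀q⟩ := S.exists_e h hN
  have he₀V := h.ws_le_centralizer_V S.hy S.hy1 he₀.1
  have he₀e : e₀ * e₀ = 1 := h.sq S.hy S.hy1 e₀ he₀.1
  obtain ⟨e₁, he₁⟩ : ∃ e₁, e₁ = f * e₀ * f⁻¹ := ⟨_, rfl⟩
  have he₁E : e₁ ∈ ee V (z * y) := by
    have := conj_mem_ee (h.kq_le_normalizer hz hz1 hfV) he₀
    rw [hfy] at this
    rwa [he₁]
  have he₁e : e₁ * e₁ = 1 := h.sq hs hs1 e₁ he₁E.1
  have hg₁k : g₀ * e₀ ∈ kq V z := mul_mem hg₀k (he₀.2 z hz hz1)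
  have hzz := h.ln.sq z hz
  have hzg₀ : z * g₀ = g₀ * z := h.V_comm hz hg₀V
  have hze₀ : z * e₀ = e₀ * z := h.V_comm hz he₀V
  have hg₁q : (g₀ * e₀) * q = q * (g₀ * e₀) := by
    apply comm_of_conj_eq
    calc g₀ * e₀ * q * (g₀ * e₀)⁻¹ = g₀ * (e₀ * q * e₀⁻¹) * g₀⁻¹ := by group
      _ = (g₀ * z) * q * g₀⁻¹ := by rw [he₀q]; group
      _ = z * (g₀ * q * g₀⁻¹) := by rw [← hzg₀]; group
      _ = (z * z) * q := by rw [h3]; group
      _ = q := by rw [hzz, one_mul]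
  -- `j = [g₁, f] = g₀ e₀ e₁ g₀`
  obtain ⟨j, hj⟩ : ∃ j, j = g₀ * (e₀ * e₁) * g₀ := ⟨_, rfl⟩
  have hj1 : j = (g₀ * e₀) * (f * (g₀ * e₀)⁻¹ * f⁻¹) := by
    have e1 : f * (g₀ * e₀)⁻¹ * f⁻¹ = (f * e₀ * f⁻¹)⁻¹ * (f * g₀ * f⁻¹)⁻¹ := by group
    rw [e1, hfg₀, ← he₁, inv_inv, inv_eq_self he₁e, hj]
    group
  have hjL : j ∈ ws L q := by
    have h4 := S.cent_L h (mul_mem hg₀V he₀V) hg₁q
    have h5 := conj_mem_of_normalizer (h'.cent_norm S.hq) h4 hf.1
    have e1 : j = (g₀ * e₀ * f * (g₀ * e₀)⁻¹) * f⁻¹ := by rw [hj1]; group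
    rw [e1]
    exact mul_mem h5 (inv_mem hf.1)
  -- `j` commutes with `e₀`
  have hje : j * e₀ = e₀ * j := by
    have h4 : e₀ * b₁ = b₁ * e₀ := h.comm S.hy S.hy1 _ he₀.1 _ hb₁
    have h5 : e₀ * e₁ = e₁ * e₀ := h.ee_comm S.hy S.hy1 hs hs1 he₀ he₁E
    rcases h.kq_or hs (he₀.2 _ hs hs1) hcs with e1 | e1
    · have h6 : g₀ * e₀ = e₀ * g₀ := by
        calc g₀ * e₀ = b₁ * (c * e₀) := by rw [hg₀]; group
          _ = (b₁ * e₀) * c := by rw [← e1]; group
          _ = e₀ * g₀ := by rw [← h4, hg₀]; group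
      calc j * e₀ = g₀ * (e₀ * e₁) * (g₀ * e₀) := by rw [hj]; group
        _ = g₀ * (e₀ * e₁) * (e₀ * g₀) := by rw [h6]
        _ = (g₀ * e₀) * (e₁ * e₀) * g₀ := by group
        _ = (e₀ * g₀) * (e₀ * e₁) * g₀ := by rw [h6, h5]
        _ = e₀ * j := by rw [hj]; group
    · have hse := h.V_comm hs he₀V
      have hsg := h.V_comm hs hg₀V
      have hsb := h.V_comm hs hb1V
      have hse1 := h.V_comm hs (h.ws_le_centralizer_V hs hs1 he₁E.1)
      have hss := h.ln.sq _ hs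
      have h6 : e₀ * g₀ = (z * y) * (g₀ * e₀) := by
        calc e₀ * g₀ = (e₀ * b₁) * c := by rw [hg₀]; group
          _ = b₁ * (e₀ * c) := by rw [h4]; group
          _ = (b₁ * (z * y)) * (c * e₀) := by rw [e1]; group
          _ = (z * y) * (g₀ * e₀) := by rw [← hsb, hg₀]; group
      have h7 : g₀ * e₀ = (z * y) * (e₀ * g₀) := by
        rw [h6, ← mul_assoc, hss, one_mul]
      obtain ⟨s, hsd⟩ : ∃ s, s = z * y := ⟨_, rfl⟩
      rw [← hsd] at h6 h7 hse hsg hsb hss hse1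
      calc j * e₀ = g₀ * (e₀ * e₁) * (g₀ * e₀) := by rw [hj]; group
        _ = g₀ * (e₀ * e₁) * (s * (e₀ * g₀)) := by rw [h7]
        _ = g₀ * e₀ * (e₁ * s) * (e₀ * g₀) := by group
        _ = g₀ * e₀ * (s * e₁) * (e₀ * g₀) := by rw [hse1]
        _ = g₀ * (e₀ * s) * (e₁ * e₀) * g₀ := by group
        _ = g₀ * (s * e₀) * (e₁ * e₀) * g₀ := by rw [hse]
        _ = (g₀ * s) * e₀ * (e₁ * e₀) * g₀ := by group
        _ = (s * g₀) * e₀ * (e₁ * e₀) * g₀ := by rw [hsg]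
        _ = s * (g₀ * e₀) * (e₁ * e₀) * g₀ := by group
        _ = s * (s * (e₀ * g₀)) * (e₀ * e₁) * g₀ := by rw [h7, h5]
        _ = (s * s) * (e₀ * (g₀ * (e₀ * e₁) * g₀)) := by group
        _ = e₀ * j := by rw [hss, one_mul, hj]
  have hjI : j ∈ ii L := h'.mem_ii_of_move S.hq S.hq1 hzL hz1 (Ne.symm S.hqz) he₀q hjL hje
  -- `j = g₀² e' e''`, `e' ∈ E_y`, `e'' ∈ E_s`
  have hgn := centralizer_le_normalizer _ hg₀V
  have hgy : g₀⁻¹ * y * g₀ = y := by
    calc g₀⁻¹ * y * g₀ = g₀⁻¹ * (y * g₀) := by group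
      _ = y := by rw [h.V_comm S.hy hg₀V]; group
  have hgs : g₀⁻¹ * (z * y) * g₀ = z * y := by
    calc g₀⁻¹ * (z * y) * g₀ = g₀⁻¹ * ((z * y) * g₀) := by group
      _ = z * y := by rw [h.V_comm hs hg₀V]; group
  obtain ⟨e', he'⟩ : ∃ e', e' = g₀⁻¹ * e₀ * g₀ := ⟨_, rfl⟩
  obtain ⟨e'', he''⟩ : ∃ e'', e'' = g₀⁻¹ * e₁ * g₀ := ⟨_, rfl⟩
  have he'E : e' ∈ ee V y := by
    have := conj_mem_ee (inv_mem hgn) he₀
    rw [inv_inv, hgy] at this
    rwa [he']
  have he''E : e'' ∈ ee V (z * y) := by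
    have := conj_mem_ee (inv_mem hgn) he₁E
    rw [inv_inv, hgs] at this
    rwa [he'']
  have hgg : g₀ * g₀ ∈ ii V := by
    have e1 : g₀ * g₀ = ⁅b₁, c⁆ := by
      rw [commutatorElement_def, hb1i, hci, hg₀]; group
    rw [e1]
    exact h.comm_ii_mem S.hy S.hy1 hs hs1 hb₁ hcs
  have hj2 : j = (g₀ * g₀) * (e' * e'') := by rw [hj, he', he'']; group
  refine ⟨j, hjI, ⟨?_, fun p hp hp1 => ?_⟩, fun b hb htw hc' => ?_⟩
  · rw [← hws]
    exact ii_le hzL hz1 hjI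
  · rw [hj2]
    exact mul_mem ((h.ii_le_ee S.hy S.hy1 hgg).2 p hp hp1) (mul_mem (he'E.2 p hp hp1) (he''E.2 p hp hp1))
  · -- `e''` commutes with `b`, hence with `q`
    have h4 : (g₀ * g₀) * b = b * (g₀ * g₀) := h.comm S.hy S.hy1 _ (ii_le S.hy S.hy1 hgg) _ hb
    have h5 : e' * b = b * e' := h.comm S.hy S.hy1 _ he'E.1 _ hb
    have h6 : e'' * b = b * e'' := by
      have e1 : e'' = (g₀ * g₀ * e')⁻¹ * j := by rw [hj2]; group
      rw [e1]
      exact mul_comm_of (inv_comm_of (mul_comm_of h4 h5)) hc'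
    have h7 := (h.twin_iff hz hz1 S.hy S.hy1 S.hyz he''E hqw htw).mpr h6
    -- but it moves `q`
    have h8 : g₀⁻¹ * q * g₀ = z * q := by
      calc g₀⁻¹ * q * g₀ = g₀⁻¹ * (z * z) * q * g₀ := by rw [hzz]; group
        _ = g₀⁻¹ * z * (z * q) * g₀ := by group
        _ = g₀⁻¹ * z * (g₀ * q * g₀⁻¹) * g₀ := by rw [h3]
        _ = g₀⁻¹ * (z * g₀) * q := by group
        _ = z * q := by rw [hzg₀]; group
    have h9 : e₁ * q * e₁⁻¹ = z * q := by
      calc e₁ * q * e₁⁻¹ = f * (e₀ * (f⁻¹ * q * f) * e₀⁻¹) * f⁻¹ := by rw [he₁]; group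
        _ = f * (e₀ * q * e₀⁻¹) * f⁻¹ := by
          have e1 : f⁻¹ * q * f = q := by
            calc f⁻¹ * q * f = f⁻¹ * (q * f) := by group
              _ = q := by rw [← hfq]; group
          rw [e1]
        _ = (f * z) * q * f⁻¹ := by rw [he₀q]; group
        _ = z * (f * q * f⁻¹) := by rw [h.kq_p hfV]; group
        _ = z * q := by rw [conj_eq_of_comm hfq]
    have h10 : e'' * q * e''⁻¹ = z * q := by
      have hze₁ := h.V_comm hz (h.ws_le_centralizer_V hs hs1 he₁E.1)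
      calc e'' * q * e''⁻¹ = g₀⁻¹ * (e₁ * (g₀ * q * g₀⁻¹) * e₁⁻¹) * g₀ := by rw [he'']; group
        _ = g₀⁻¹ * ((e₁ * z) * q * e₁⁻¹) * g₀ := by rw [h3]; group
        _ = g₀⁻¹ * (z * (e₁ * q * e₁⁻¹)) * g₀ := by rw [← hze₁]; group
        _ = g₀⁻¹ * ((z * z) * q) * g₀ := by rw [h9]; group
        _ = z * q := by rw [hzz, one_mul, h8]
    rw [conj_eq_of_comm h7] at h10
    exact hz1 (by simpa using h10.symm)

/-- (S3) with (S2) -/
theorem three' [Finite G] {b₁ b : G} (hb₁ : b₁ ∈ ws V y) (hω : ⁅q, b₁⁆ ∉ ee L z) (hb : b ∈ ws V y)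
    (hbq : b * q * b⁻¹ = q ∨ b * q * b⁻¹ = z * q) : b ∈ ee V y := by
  rcases S.two h hN hb hbq with e | e
  · exact e
  · obtain ⟨j, hj, hjE, hf⟩ := S.three h hN hb₁ hω
    exact absurd (S.not_move h hN hj hjE hb hbq) (hf b hb e)

end SyP

end Cfsg.Agent.Omega.NO3S.TwoOne

end
end
end

-- part: Mrg/Omega/HTwo/SevenSys_mg
section
prune_inst 0x22020000000000200000000000000000000000000001000000004000008000000000000000000000000000008000000000000000000000000000000000000010000100020008000000000000000000000000000000000000000000000000000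
set_option linter.all false
open scoped Cfsg.Agent.FastGrp

-- part: Mrg/ParSys/Polar/Symp
section
section


/-!
# The polar space of a nondegenerate symplectic form over a finite field of characteristic 2

`Symp g` : `g` is a nondegenerate alternating form over a finite field of characteristic 2.
`perp`, `finrank_perp`, `perp_perp`, `TI` (totally isotropic), `Witt g m` (`m` is the Witt index);
`polSp : PolSp (TI g) m`; `finrank_eq : n = 2m`.
-/

set_option autoImplicit false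
set_option linter.unusedSectionVars false

namespace Cfsg.Agent.ParSys.Polar.Sympl

open Module Cfsg.Agent.ParSys.Polar.Flags

variable {F W : Type*} [Field F] [Finite F] [AddCommGroup W] [Module F W]

/-- a nondegenerate symplectic form, characteristic 2 -/
structure Symp (g : W → W → F) : Prop where
  two : (2 : F) = 0
  self : ∀ x, g x x = 0
  add : ∀ x y z, g (x + y) z = g x z + g y z
  smul : ∀ (s : F) x y, g (s • x) y = s * g x y
  sym : ∀ x y, g y x = g x y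
  nd : ∀ x, (∀ y, g x y = 0) → x = 0

/-- totally isotropic -/
def TI (g : W → W → F) (X : Submodule F W) : Prop := ∀ x ∈ X, ∀ y ∈ X, g x y = 0

/-- `m` is the Witt index -/
def Witt (g : W → W → F) (m : ℕ) : Prop :=
  (∃ X : Submodule F W, TI g X ∧ finrank F X = m) ∧ ∀ X : Submodule F W, TI g X → finrank F X ≤ m

namespace Symp

variable {g : W → W → F} (H : Symp g)

include H

theorem two_self (a : F) : a + a = 0 := by linear_combination a * H.two

theorem two_w (v : W) : v + v = 0 := by rw [← two_smul F, H.two, zero_smul]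

theorem neg_w (v : W) : -v = v := neg_eq_of_add_eq_zero_left (H.two_w v)

theorem sub_w (v u : W) : v - u = v + u := by rw [sub_eq_add_neg, H.neg_w]

theorem eq_of_add {a b : F} (h : a + b = 0) : a = b := by linear_combination h - b * H.two

theorem add_r (x y z : W) : g x (y + z) = g x y + g x z := by
  rw [H.sym (y + z) x, H.add, H.sym x y, H.sym x z]

theorem smul_r (s : F) (x y : W) : g x (s • y) = s * g x y := by
  rw [H.sym, H.smul, ← H.sym]

theorem zero_l (y : W) : g 0 y = 0 := by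
  have := H.smul 0 0 y
  rwa [zero_smul, zero_mul] at this

theorem zero_r (y : W) : g y 0 = 0 := by rw [H.sym, H.zero_l]

theorem zero_comm {x y : W} (h : g x y = 0) : g y x = 0 := by rw [H.sym, h]

theorem ne_comm {x y : W} (h : g x y ≠ 0) : g y x ≠ 0 := fun h' => h (H.zero_comm h')

/-- the orthogonal space -/
def perp (X : Submodule F W) : Submodule F W where
  carrier := {y | ∀ x ∈ X, g y x = 0}
  zero_mem' := fun x _ => H.zero_l x
  add_mem' := fun {a b} ha hb x hx => by rw [H.add, ha x hx, hb x hx, add_zero]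
  smul_mem' := fun s a ha x hx => by rw [H.smul, ha x hx, mul_zero]

theorem mem_perp {X : Submodule F W} {y : W} : y ∈ H.perp X ↔ ∀ x ∈ X, g y x = 0 := Iff.rfl

theorem mem_perp' {X : Submodule F W} {y : W} : y ∈ H.perp X ↔ ∀ x ∈ X, g x y = 0 :=
  ⟨fun h x hx => H.zero_comm (h x hx), fun h x hx => H.zero_comm (h x hx)⟩

theorem perp_anti {X Y : Submodule F W} (h : X ≤ Y) : H.perp Y ≤ H.perp X := fun _ hy x hx => hy x (h hx)

theorem le_perp_comm {X Y : Submodule F W} (h : X ≤ H.perp Y) : Y ≤ H.perp X :=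
  fun _ hy _ hx => H.zero_comm (h hx _ hy)

theorem TI_iff {X : Submodule F W} : TI g X ↔ X ≤ H.perp X := Iff.rfl

theorem mem_perp_span {v y : W} : y ∈ H.perp (F ∙ v) ↔ g y v = 0 := by
  refine ⟨fun h => h v (Submodule.mem_span_singleton_self v), fun h x hx => ?_⟩
  obtain ⟨s, rfl⟩ := Submodule.mem_span_singleton.1 hx
  rw [H.smul_r, h, mul_zero]

theorem mem_perp_sup {X Y : Submodule F W} {y : W} : y ∈ H.perp (X ⊔ Y) ↔ y ∈ H.perp X ∧ y ∈ H.perp Y := by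
  refine ⟨fun h => ⟨H.perp_anti le_sup_left h, H.perp_anti le_sup_right h⟩, fun h x hx => ?_⟩
  obtain ⟨a, ha, b, hb, rfl⟩ := Submodule.mem_sup.1 hx
  rw [H.add_r, h.1 a ha, h.2 b hb, add_zero]

theorem TI_sup {X Y : Submodule F W} (hX : TI g X) (hY : TI g Y) (h : Y ≤ H.perp X) : TI g (X ⊔ Y) := by
  intro x hx y hy
  obtain ⟨a, ha, b, hb, rfl⟩ := Submodule.mem_sup.1 hx
  obtain ⟨a', ha', b', hb', rfl⟩ := Submodule.mem_sup.1 hy
  rw [H.add, H.add_r, H.add_r, hX a ha a' ha', hY b hb b' hb', h hb a' ha', H.zero_comm (h hb' a ha)]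
  simp

theorem TI_span (v : W) : TI g (F ∙ v) := by
  have hv := H.self v
  intro x hx y hy
  obtain ⟨s, rfl⟩ := Submodule.mem_span_singleton.1 hx
  obtain ⟨t, rfl⟩ := Submodule.mem_span_singleton.1 hy
  rw [H.smul, H.smul_r, hv, mul_zero, mul_zero]

theorem TI_sup_span {X : Submodule F W} (hX : TI g X) {v : W} (h : v ∈ H.perp X) :
    TI g (X ⊔ (F ∙ v)) :=
  H.TI_sup hX (H.TI_span v) (by rwa [Submodule.span_singleton_le_iff_mem])

omit H in
theorem _root_.Cfsg.Agent.ParSys.Polar.Sympl.TI.mono {X Y : Submodule F W} (h : X ≤ Y) (hY : TI g Y) : TI g X :=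
  fun x hx y hy => hY x (h hx) y (h hy)

/-- the linear form `g · x` -/
def gl (x : W) : W →ₗ[F] F where
  toFun y := g y x
  map_add' a b := H.add a b x
  map_smul' s a := by rw [H.smul]; rfl

variable [FiniteDimensional F W]

theorem finrank_perp (X : Submodule F W) : finrank F (H.perp X) + finrank F X = finrank F W := by
  apply le_antisymm
  · let ψ : X → Dual F (W ⧸ H.perp X) := fun x =>
      (H.perp X).liftQ (H.gl (x : W)) (fun y hy => hy (x : W) x.2)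
    have hψ : Function.Injective ψ := by
      intro x x' h
      have h1 : ∀ y, g y (x : W) = g y (x' : W) := fun y => by
        have := LinearMap.congr_fun h (Submodule.Quotient.mk y)
        simpa only [ψ, Submodule.liftQ_apply, gl, _root_.LinearMap.coe_mk, _root_.AddHom.coe_mk] using this
      have h2 : (x : W) - x' = 0 := H.nd _ fun y => by
        apply H.zero_comm
        rw [H.sub_w, H.add_r, h1 y, H.two_self]
      exact Subtype.ext (sub_eq_zero.1 h2)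
    have : Finite (Dual F (W ⧸ H.perp X)) := Module.finite_of_finite F
    have h1 := Nat.card_le_card_of_injective ψ hψ
    rw [Module.natCard_eq_pow_finrank (K := F) (V := X),
      Module.natCard_eq_pow_finrank (K := F) (V := Dual F (W ⧸ H.perp X)), Subspace.dual_finrank_eq] at h1
    have h2 := (Nat.pow_le_pow_iff_right (Finite.one_lt_card (α := F))).1 h1
    have h3 := Submodule.finrank_quotient_add_finrank (H.perp X)
    omega
  · let b := Module.finBasis F X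
    let φ : W →ₗ[F] (Fin (finrank F X) → F) := LinearMap.pi fun i => H.gl (b i : W)
    have hk : LinearMap.ker φ = H.perp X := by
      ext y
      rw [LinearMap.mem_ker]
      constructor
      · intro h x hx
        have h1 : ∀ i, g y (b i : W) = 0 := fun i => congrFun h i
        have h2 : (⟨x, hx⟩ : X) ∈ Submodule.span F (Set.range b) := by rw [b.span_eq]; trivial
        have h3 : ∀ z : X, z ∈ Submodule.span F (Set.range b) → g y (z : W) = 0 := by
          intro z hz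
          induction hz using Submodule.span_induction with
          | mem z hz => obtain ⟨i, rfl⟩ := hz; exact h1 i
          | zero => exact H.zero_r y
          | add z z' _ _ h1 h2 => rw [Submodule.coe_add, H.add_r, h1, h2, add_zero]
          | smul s z _ h1 => rw [Submodule.coe_smul, H.smul_r, h1, mul_zero]
        exact h3 _ h2
      · intro h
        funext i
        exact h _ (b i).2
    have h1 := LinearMap.finrank_range_add_finrank_ker φ
    rw [hk] at h1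
    have h2 := Submodule.finrank_le (LinearMap.range φ)
    rw [Module.finrank_fin_fun] at h2
    omega

theorem perp_perp (X : Submodule F W) : H.perp (H.perp X) = X := by
  have h1 := H.finrank_perp X
  have h2 := H.finrank_perp (H.perp X)
  exact (eq_of_rk (H.le_perp_comm le_rfl) (by omega)).symm

theorem exists_ne {X : Submodule F W} {x : W} (hx : x ∉ X) : ∃ z ∈ H.perp X, g z x ≠ 0 := by
  by_contra hcon
  push Not at hcon
  exact hx (by rw [← H.perp_perp X]; exact fun z hz => H.zero_comm (hcon z hz))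

/-- the dimension inequality -/
theorem dl {X Y : Submodule F W} (h : Y ≤ H.perp (X ⊓ Y)) :
    finrank F Y + finrank F ↥(X ⊓ Y) ≤ finrank F ↥(H.perp X ⊓ Y) + finrank F X := by
  have h1 : H.perp X ⊔ Y ≤ H.perp (X ⊓ Y) := sup_le (H.perp_anti inf_le_left) h
  have h2 := Submodule.finrank_mono h1
  have h3 := Submodule.finrank_sup_add_finrank_inf_eq (H.perp X) Y
  have h4 := H.finrank_perp X
  have h5 := H.finrank_perp (X ⊓ Y)
  omega

theorem dl' {X Y : Submodule F W} (h : TI g Y) :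
    finrank F Y + finrank F ↥(X ⊓ Y) ≤ finrank F ↥(H.perp X ⊓ Y) + finrank F X :=
  H.dl (fun _ hy x hx => h _ hy x hx.2)

theorem TI_bot : TI g (⊥ : Submodule F W) := fun x hx y _ => by
  rw [(Submodule.mem_bot F).1 hx]; exact H.zero_l y

theorem exists_witt : ∃ m, Witt g m := by
  classical
  have hb : ∀ X : Submodule F W, TI g X → finrank F X ≤ finrank F W := fun X _ => Submodule.finrank_le X
  let p : ℕ → Prop := fun k => ∃ X : Submodule F W, TI g X ∧ finrank F X = k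
  exact ⟨Nat.findGreatest p (finrank F W),
    Nat.findGreatest_spec (P := p) (hb ⊥ H.TI_bot) ⟨⊥, H.TI_bot, rfl⟩,
    fun X hX => Nat.le_findGreatest (hb X hX) ⟨X, hX, rfl⟩⟩

/-! ### The polar space -/

variable {m : ℕ}

/-- in a maximal totally isotropic subspace `M` there are vectors orthogonal to `Z` outside `X` -/
theorem exists_mem {X Z M : Submodule F W} (hM : TI g M) (hXZ : X ≤ Z ⊓ M) (h : finrank F Z < finrank F M ∨
    (finrank F Z ≤ finrank F M ∧ finrank F X < finrank F ↥(Z ⊓ M)) ∨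
    finrank F Z + finrank F X < finrank F M + finrank F ↥(Z ⊓ M)) : ∃ t ∈ H.perp Z ⊓ M, t ∉ X := by
  by_contra hcon
  push Not at hcon
  have h1 : H.perp Z ⊓ M ≤ X := hcon
  have h2 := Submodule.finrank_mono h1
  have h3 := H.dl' (X := Z) hM
  have h4 := Submodule.finrank_mono hXZ
  omega

theorem ext_one (hm : Witt g m) {X : Submodule F W} (hX : TI g X) (h : finrank F X < m) :
    ∃ Y, TI g Y ∧ X ≤ Y ∧ finrank F Y = finrank F X + 1 := by
  obtain ⟨⟨M, hM, rfl⟩, -⟩ := hm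
  have h3 := H.dl' (X := X) hM
  obtain ⟨t, ⟨ht1, ht2⟩, ht3⟩ : ∃ t ∈ H.perp X ⊓ M, t ∉ X := by
    by_contra hcon
    push Not at hcon
    have h1 : H.perp X ⊓ M ≤ X ⊓ M := le_inf hcon inf_le_right
    have h2 := Submodule.finrank_mono h1
    omega
  exact ⟨X ⊔ (F ∙ t), H.TI_sup_span hX ht1, le_sup_left,
    Submodule.finrank_sup_span_singleton ht3⟩

theorem exists_max (hm : Witt g m) {X : Submodule F W} (hX : TI g X) :
    ∃ Y, TI g Y ∧ X ≤ Y ∧ finrank F Y = m := by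
  have key : ∀ k, ∀ X : Submodule F W, TI g X → finrank F X + k = m → ∃ Y, TI g Y ∧ X ≤ Y ∧ finrank F Y = m := by
    intro k
    induction k with
    | zero => intro X hX h; exact ⟨X, hX, le_rfl, h⟩
    | succ k ih =>
      intro X hX h
      obtain ⟨Y, hY, h1, h2⟩ := H.ext_one hm hX (by omega)
      obtain ⟨Z, hZ, h3, h4⟩ := ih Y hY (by omega)
      exact ⟨Z, hZ, h1.trans h3, h4⟩
  exact key (m - finrank F X) X hX (by have := hm.2 X hX; omega)

/-- the subspace `X^⊥ ∩ Y` in the situation of `ex` -/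
theorem finrank_L (hm : Witt g m) {X Y : Submodule F W} (hX : TI g X) (hY : TI g Y)
    (h1 : finrank F X + 1 = m) (h2 : finrank F Y = m) (h3 : ¬ X ≤ Y) (h4 : finrank F ↥(X ⊓ Y) + 2 = m) :
    finrank F ↥(H.perp X ⊓ Y) + 1 = m ∧ finrank F ↥(X ⊔ (H.perp X ⊓ Y)) = m := by
  have h5 := H.dl' (X := X) hY
  have h6 : finrank F ↥(H.perp X ⊓ Y) < m := by
    rcases (Submodule.finrank_mono (inf_le_right : H.perp X ⊓ Y ≤ Y)).lt_or_eq with h | h
    · rwa [h2] at h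
    · exfalso
      have h7 : Y ≤ H.perp X := by rw [← eq_of_rk inf_le_right h]; exact inf_le_left
      have h8 := hm.2 _ (H.TI_sup hX hY h7)
      have h9 := eq_of_rk (le_sup_right : Y ≤ X ⊔ Y) (by
        have := Submodule.finrank_mono (le_sup_right : Y ≤ X ⊔ Y)
        omega)
      exact h3 (by rw [h9]; exact le_sup_left)
  refine ⟨by omega, ?_⟩
  have h7 := Submodule.finrank_sup_add_finrank_inf_eq X (H.perp X ⊓ Y)
  have h8 : X ⊓ (H.perp X ⊓ Y) = X ⊓ Y := by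
    rw [← inf_assoc, inf_eq_left.2 (H.TI_iff.1 hX)]
  rw [h8] at h7
  omega

/-- **the polar space of a symplectic form** -/
theorem polSp (hm : Witt g m) : PolSp (TI g (F := F)) m where
  bot := H.TI_bot
  down := fun h hY => TI.mono h hY
  ext := fun X hX h => H.ext_one hm hX h
  conn := by
    intro X Y Z hY hZ h1 h2 h3 h4 h5
    obtain ⟨M, hM, h6, h7⟩ := H.exists_max hm hY
    have h8 : X ≤ Z ⊓ M := le_inf h2 (h1.trans h6)
    obtain ⟨t, ⟨ht1, ht2⟩, ht3⟩ := H.exists_mem (X := X) (Z := Z) hM h8 (by omega)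
    refine ⟨X ⊔ (F ∙ t), le_sup_left, Submodule.finrank_sup_span_singleton ht3, ?_, ?_⟩
    · exact TI.mono (sup_le h6 (sup_le (h1.trans h6) (by rwa [Submodule.span_singleton_le_iff_mem]))) hM
    · rw [← sup_assoc, sup_eq_left.2 h2]
      exact H.TI_sup_span hZ ht1
  ex := by
    intro X Y hX hY h1 h2 h3 h4
    obtain ⟨h5, h6⟩ := H.finrank_L hm hX hY h1 h2 h3 h4
    refine ⟨X ⊔ (H.perp X ⊓ Y), H.TI_sup hX (TI.mono (inf_le_right : H.perp X ⊓ Y ≤ Y) hY) inf_le_left, le_sup_left, h6, ?_⟩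
    have h7 : H.perp X ⊓ Y ≤ (X ⊔ (H.perp X ⊓ Y)) ⊓ Y := le_inf le_sup_right inf_le_right
    have h8 := Submodule.finrank_mono h7
    have h9 : finrank F ↥((X ⊔ (H.perp X ⊓ Y)) ⊓ Y) < m := by
      rcases (Submodule.finrank_mono (inf_le_right : (X ⊔ (H.perp X ⊓ Y)) ⊓ Y ≤ Y)).lt_or_eq with h | h
      · rwa [h2] at h
      · exfalso
        have h12 := eq_of_rk (inf_le_right : (X ⊔ (H.perp X ⊓ Y)) ⊓ Y ≤ Y) h
        have h10 : Y ≤ X ⊔ (H.perp X ⊓ Y) := fun v hv => by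
          rw [← h12] at hv; exact hv.1
        have h11 := eq_of_rk h10 (by rw [h6, h2])
        exact h3 (by rw [h11]; exact le_sup_left)
    (clear * - h5 h8 h9; omega)
  uq := by
    intro X Y Z Z' hX hY hZ hZ' h1 h2 h3 h4 h5 h6 h7 h8 h9 h10
    obtain ⟨h11, h12⟩ := H.finrank_L hm hX hY h1 h2 h5 h6
    have key : ∀ Z : Submodule F W, TI g Z → finrank F Z = m → X ≤ Z → finrank F ↥(Z ⊓ Y) + 1 = m →
        X ⊔ (H.perp X ⊓ Y) = Z := by
      intro Z hZ h3 h7 h9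
      have k1 : Z ⊓ Y ≤ H.perp X ⊓ Y := inf_le_inf_right _ (fun z hz x hx => hZ z hz x (h7 hx))
      have k2 := eq_of_rk k1 (by (clear * - h11 h9; omega))
      refine eq_of_rk (sup_le h7 ?_) (by rw [h12, h3])
      rw [← k2]; exact inf_le_left
    rw [← key Z hZ h3 h7 h9, ← key Z' hZ' h4 h8 h10]

/-! ### The dimension -/

theorem finrank_eq (hm : Witt g m) : finrank F W = 2 * m := by
  obtain ⟨X, hX, hXm⟩ := hm.1
  have h1 := H.finrank_perp X
  have h2 := Submodule.finrank_mono (H.TI_iff.1 hX)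
  -- `X^⊥ = X`
  have key : H.perp X ≤ X := by
    intro v hv
    by_contra hvX
    have h3 := hm.2 _ (H.TI_sup_span hX hv)
    rw [Submodule.finrank_sup_span_singleton hvX] at h3
    omega
  have h3 := Submodule.finrank_mono key
  omega

theorem perp_max (hm : Witt g m) {X : Submodule F W} (hX : TI g X) (h : finrank F X = m) : H.perp X = X := by
  have h1 := H.finrank_perp X
  have h2 := H.finrank_eq hm
  exact (eq_of_rk (H.TI_iff.1 hX) (by omega)).symm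

end Symp

end Cfsg.Agent.ParSys.Polar.Sympl

end

section


/-!
# Groups of isometries of a symplectic space which contain the transvections

`SAct rho sigma` : `C` acts linearly on the symplectic space `W` (characteristic 2), preserves the form and induces all
the transvections; `sigma` is the action on the subspaces.

* `act : Act sigma (TI g)`; `siegel` : the Siegel transformations;
* `card_pan` : all the panels of a maximal flag have `|F| + 1` members;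
* `exists_fl_of` : a maximal flag through a given flag of length `k`.
-/

set_option autoImplicit false
set_option linter.unusedSectionVars false

namespace Cfsg.Agent.ParSys.Polar.Sympl

open Module Cfsg.Agent.ParSys.Polar.Flags

variable {F W : Type*} [Field F] [Finite F] [AddCommGroup W] [Module F W]

/-- `C` acts by isometries and induces all the transvections -/
structure SAct {C : Type*} [Group C] (g : W → W → F) (rho : C → W ≃+ W)
    (sigma : C →* Equiv.Perm (Submodule F W)) : Prop where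
  mul : ∀ a b v, rho (a * b) v = rho a (rho b v)
  sig : ∀ c X w, w ∈ sigma c X ↔ ∃ v ∈ X, rho c v = w
  lin : ∀ c (s : F) v, rho c (s • v) = s • rho c v
  iso : ∀ c u v, g (rho c u) (rho c v) = g u v
  tv : ∀ (y : W) (a : F), ∃ c, ∀ v, rho c v = v + (a * g v y) • y

namespace SAct

variable {C : Type*} [Group C] {g : W → W → F} {rho : C → W ≃+ W}
  {sigma : C →* Equiv.Perm (Submodule F W)} (H : Symp g) (A : SAct g rho sigma)

include A

theorem one (v : W) : rho 1 v = v := by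
  have h := A.mul 1 1 v
  rw [mul_one] at h
  exact (rho 1).injective h.symm

theorem mem {c : C} {X : Submodule F W} {v : W} (hv : v ∈ X) : rho c v ∈ sigma c X := (A.sig c X _).2 ⟨v, hv, rfl⟩

theorem mem_iff {c : C} {X : Submodule F W} {v : W} : rho c v ∈ sigma c X ↔ v ∈ X :=
  ⟨fun h => by
    obtain ⟨u, hu, h1⟩ := (A.sig c X _).1 h
    rwa [← (rho c).injective h1], A.mem⟩

theorem card_eq [FiniteDimensional F W] (c : C) (X : Submodule F W) :
    finrank F ↥(sigma c X) = finrank F X := by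
  let e : X → sigma c X := fun v => ⟨rho c (v : W), A.mem v.2⟩
  have he : Function.Bijective e := by
    constructor
    · intro v u h
      exact Subtype.ext ((rho c).injective (congrArg Subtype.val h))
    · rintro ⟨w, hw⟩
      obtain ⟨v, hv, rfl⟩ := (A.sig c X w).1 hw
      exact ⟨⟨v, hv⟩, rfl⟩
  have h1 := Nat.card_congr (Equiv.ofBijective e he)
  rw [Module.natCard_eq_pow_finrank (K := F), Module.natCard_eq_pow_finrank (K := F) (V := ↥(sigma c X))] at h1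
  exact (Nat.pow_right_injective (Finite.one_lt_card (α := F)) h1).symm

theorem eq_of_fix {c : C} {X : Submodule F W} (h : ∀ v ∈ X, rho c v = v) : sigma c X = X := by
  ext w
  rw [A.sig]
  constructor
  · rintro ⟨v, hv, rfl⟩; rwa [h v hv]
  · intro hw; exact ⟨w, hw, h w hw⟩

/-- the image of the span -/
theorem sigma_sup_span {c : C} {X : Submodule F W} {x x' : W} (hX : ∀ v ∈ X, rho c v = v)
    (hx : rho c x = x') :
    sigma c (X ⊔ (F ∙ x)) = X ⊔ (F ∙ x') := by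
  ext w
  rw [A.sig]
  constructor
  · rintro ⟨v, hv, rfl⟩
    obtain ⟨a, ha, b, hb, rfl⟩ := Submodule.mem_sup.1 hv
    obtain ⟨s, rfl⟩ := Submodule.mem_span_singleton.1 hb
    rw [map_add, hX a ha, A.lin, hx]
    exact Submodule.add_mem_sup ha (Submodule.smul_mem _ _ (Submodule.mem_span_singleton_self x'))
  · intro hw
    obtain ⟨a, ha, b, hb, rfl⟩ := Submodule.mem_sup.1 hw
    obtain ⟨s, rfl⟩ := Submodule.mem_span_singleton.1 hb
    refine ⟨a + s • x, Submodule.add_mem_sup ha (Submodule.smul_mem _ _ (Submodule.mem_span_singleton_self x)), ?_⟩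
    rw [map_add, hX a ha, A.lin, hx]

include H

/-- the Siegel transformations -/
theorem siegel {y w : W} (a : F) (hw : g w y = 0) :
    ∃ c, ∀ v, rho c v = v + g v y • w + (g v w + a * g v y) • y := by
  obtain ⟨c₁, h1⟩ := A.tv (y + w) 1
  obtain ⟨c₂, h2⟩ := A.tv w 1
  obtain ⟨c₃, h3⟩ := A.tv y (1 + a)
  have hw' : g y w = 0 := H.zero_comm hw
  refine ⟨c₃ * (c₂ * c₁), fun v => ?_⟩
  rw [A.mul, A.mul, h1, h2, h3]
  simp only [one_mul, H.add, H.smul, H.add_r, H.self, hw, hw', mul_zero, add_zero, zero_add]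
  have e := H.two_w (g v y • y)
  have e1 := H.two_w (g v w • w)
  have e2 : (g v y • w + g v y • w) = 0 := H.two_w _
  have e3 : (g v w • y + g v w • y) = 0 := H.two_w _
  simp only [smul_add, add_smul, mul_smul, one_smul, add_mul, one_mul]
  calc v + (g v y • y + g v w • y + (g v y • w + g v w • w)) + g v w • w + (g v y • y + a • g v y • y)
      = v + g v y • w + (g v w • y + a • g v y • y) + (g v y • y + g v y • y) + (g v w • w + g v w • w) := by abel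
    _ = _ := by rw [e, e1, add_zero, add_zero]

variable [FiniteDimensional F W]

/-- the transitivity, non-orthogonal vectors -/
theorem tr_ne {X : Submodule F W} {x x' : W} (h1 : x ∈ H.perp X) (h1' : x' ∈ H.perp X) (h : g x x' ≠ 0) :
    ∃ c, (∀ v ∈ X, rho c v = v) ∧ sigma c (X ⊔ (F ∙ x)) = X ⊔ (F ∙ x') := by
  obtain ⟨c, hc⟩ := A.tv (x + x') (g x x')⁻¹
  have hX : ∀ v ∈ X, rho c v = v := fun v hv => by
    rw [hc, H.add_r, H.zero_comm (h1 v hv), H.zero_comm (h1' v hv)]; simp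
  refine ⟨c, hX, A.sigma_sup_span hX ?_⟩
  rw [hc, H.add_r, H.self, zero_add, inv_mul_cancel₀ h, one_smul, ← add_assoc, H.two_w, zero_add]

/-- the transitivity -/
theorem tr_span {X : Submodule F W} {x x' : W}
    (h1 : x ∈ H.perp X) (h1' : x' ∈ H.perp X) (h2 : x ∉ X) (h2' : x' ∉ X) :
    ∃ c, (∀ v ∈ X, rho c v = v) ∧ sigma c (X ⊔ (F ∙ x)) = X ⊔ (F ∙ x') := by
  by_cases hb : g x x' = 0
  · obtain ⟨z, hz, hz1, hz2⟩ : ∃ z ∈ H.perp X, g z x ≠ 0 ∧ g z x' ≠ 0 := by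
      obtain ⟨z₁, hz1, hz2⟩ := H.exists_ne h2
      obtain ⟨z₂, hz3, hz4⟩ := H.exists_ne h2'
      by_cases h5 : g z₁ x' = 0
      · by_cases h6 : g z₂ x = 0
        · exact ⟨z₁ + z₂, (H.perp X).add_mem hz1 hz3, by rwa [H.add, h6, add_zero],
            by rwa [H.add, h5, zero_add]⟩
        · exact ⟨z₂, hz3, h6, hz4⟩
      · exact ⟨z₁, hz1, hz2, h5⟩
    obtain ⟨c₁, hc1, hc2⟩ := tr_ne H A h1 hz (H.ne_comm hz1)
    obtain ⟨c₂, hc3, hc4⟩ := tr_ne H A hz h1' hz2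
    refine ⟨c₂ * c₁, fun v hv => by rw [A.mul, hc1 v hv, hc3 v hv], ?_⟩
    rw [map_mul, Equiv.Perm.mul_apply, hc2, hc4]
  · exact tr_ne H A h1 h1' hb

omit A in
/-- a vector generating `Y` over `X` -/
theorem exists_gen {X Y : Submodule F W} (hY : TI g Y) (h : X ≤ Y) (hr : finrank F Y = finrank F X + 1) :
    ∃ x, x ∈ H.perp X ∧ x ∉ X ∧ Y = X ⊔ (F ∙ x) := by
  obtain ⟨x, hx, hxX⟩ : ∃ x ∈ Y, x ∉ X := by
    by_contra hc
    push Not at hc
    have h3 : Y ≤ X := hc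
    have := Submodule.finrank_mono h3
    omega
  refine ⟨x, fun v hv => hY x hx v (h hv), hxX, ?_⟩
  symm
  exact eq_of_rk (sup_le h (by rwa [Submodule.span_singleton_le_iff_mem]))
    (by rw [Submodule.finrank_sup_span_singleton hxX, hr])

/-- **`C` acts on the polar space as required in `Flags`** -/
theorem act : Act sigma (TI g (F := F)) where
  le c X Y h := by
    intro w hw
    obtain ⟨v, hv, rfl⟩ := (A.sig c X w).1 hw
    exact A.mem (h hv)
  rk c X := A.card_eq c X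
  sing c X hX := by
    intro x hx y hy
    obtain ⟨v, hv, rfl⟩ := (A.sig c X x).1 hx
    obtain ⟨u, hu, rfl⟩ := (A.sig c X y).1 hy
    rw [A.iso, hX v hv u hu]
  tr X Y Z hY hZ h1 h2 h3 h4 := by
    obtain ⟨x, hx1, hx2, rfl⟩ := exists_gen H hY h1 h3
    obtain ⟨x', hx1', hx2', rfl⟩ := exists_gen H hZ h2 h4
    obtain ⟨c, hc1, hc2⟩ := tr_span H A hx1 hx1' hx2 hx2'
    exact ⟨c, fun T hT => A.eq_of_fix fun v hv => hc1 v (hT hv), hc2⟩

end SAct

/-! ### Flags and panels -/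

namespace Symp

variable [FiniteDimensional F W] {g : W → W → F} (H : Symp g) {m : ℕ} {f : ℕ → Submodule F W}

include H

omit H in
/-- the number of subspaces between `A` and `D` -/
theorem card_between {A D : Submodule F W} (h : A ≤ D) (hr : finrank F D = finrank F A + 2) :
    Nat.card {X : Submodule F W | A ≤ X ∧ X ≤ D ∧ finrank F X = finrank F A + 1} = Nat.card F + 1 := by
  have hW : Finite W := Module.finite_of_finite F
  have hQ := Finite.one_lt_card (α := F)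
  have h1 := Hermit.card_compl h
  have e : ∀ X : Submodule F W, ∀ v, A ≤ X → v ∈ X → v ∉ A → finrank F X = finrank F A + 1 →
      X = A ⊔ (F ∙ v) := fun X v h1 h2 h3 h4 => by
    symm
    exact eq_of_rk (sup_le h1 (by rwa [Submodule.span_singleton_le_iff_mem]))
      (by rw [Submodule.finrank_sup_span_singleton h3, h4])
  have h2 := Hermit.card_spread (A := A) (X := {X : Submodule F W | A ≤ X ∧ X ≤ D ∧ finrank F X = finrank F A + 1})
    (T := {v : W | v ∈ D ∧ v ∉ A})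
    (b := Nat.card F ^ (finrank F A + 1)) (fun x hx => hx.1)
    (fun x hx => by rw [Module.natCard_eq_pow_finrank (K := F), hx.2.2])
    (fun v => ?_) (fun x hx x' hx' v hv h1 h2 => ?_)
  · rw [Module.natCard_eq_pow_finrank (K := F) (V := ↥A), Module.natCard_eq_pow_finrank (K := F) (V := ↥D), hr] at h1
    rw [Module.natCard_eq_pow_finrank (K := F) (V := ↥A)] at h2
    have hR : 0 < Nat.card F ^ finrank F A := pow_pos (by omega) _
    rw [pow_succ, pow_succ] at h1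
    rw [pow_succ] at h2
    generalize Nat.card {v : W | v ∈ D ∧ v ∉ A} = T at *
    generalize Nat.card {X : Submodule F W | A ≤ X ∧ X ≤ D ∧ finrank F X = finrank F A + 1} = P at *
    generalize Nat.card F ^ finrank F A = R at *
    generalize Nat.card F = Q at *
    zify at h1 h2 hR hQ ⊢
    have h3 : (R : ℤ) * (Q - 1) * (P - (Q + 1)) = 0 := by linear_combination -h2 + h1
    rcases mul_eq_zero.1 h3 with h | h
    · rcases mul_eq_zero.1 h with h | h <;> omega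
    · linarith only [h]
  · constructor
    · rintro ⟨hv, hv'⟩
      exact ⟨hv', A ⊔ (F ∙ v), ⟨le_sup_left, sup_le h (by rwa [Submodule.span_singleton_le_iff_mem]),
        Submodule.finrank_sup_span_singleton hv'⟩, Submodule.mem_sup_right (Submodule.mem_span_singleton_self v)⟩
    · rintro ⟨hv, x, hx, hvx⟩
      exact ⟨hx.2.1 hvx, hv⟩
  · rw [e x v hx.1 h1 hv hx.2.2, e x' v hx'.1 h2 hv hx'.2.2]

/-- **all the panels have `|F| + 1` members** -/
theorem card_pan (hm : Witt g m) (hf : Fl (TI g (F := F)) m f) {j : ℕ} (hj : 1 ≤ j) (hjm : j ≤ m) :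
    Nat.card (Flags.Pan (TI g) m f j) = Nat.card F + 1 := by
  obtain ⟨i, rfl⟩ := Nat.exists_eq_add_of_le' hj
  have hS := H.polSp hm
  rcases hjm.lt_or_eq with hlt | heq
  · have h1 := card_between (hf.le (a := i) (b := i + 2) (by omega) (by omega))
      (by rw [hf.rk _ (by omega), hf.rk _ (by omega)])
    rw [← h1]
    congr 2
    ext X
    rw [hf.rk i (by omega)]
    constructor
    · rintro ⟨-, h2, h3, h4⟩
      exact ⟨h3 i rfl, h4 hlt, h2⟩
    · rintro ⟨h2, h3, h4⟩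
      refine ⟨hS.down h3 (hf.si hS (by omega)), h4, fun d hd => ?_, fun _ => h3⟩
      obtain rfl : d = i := by omega
      exact h2
  · have h0 : finrank F ↥(H.perp (f i)) = finrank F ↥(f i) + 2 := by
      have h1 := H.finrank_perp (f i)
      have h2 := H.finrank_eq hm
      rw [hf.rk i (by omega)] at h1 ⊢
      omega
    have h1 := card_between (H.TI_iff.1 (hf.si hS (d := i) (by omega))) h0
    rw [← h1]
    congr 2
    ext X
    rw [hf.rk i (by omega)]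
    constructor
    · rintro ⟨h1, h2, h3, -⟩
      exact ⟨h3 i rfl, fun v hv x hx => h1 v hv x (h3 i rfl hx), h2⟩
    · rintro ⟨h2, h3, h4⟩
      refine ⟨?_, h4, fun d hd => ?_, fun h => by omega⟩
      · obtain ⟨x, hx, hxX⟩ : ∃ x ∈ X, x ∉ f i := by
          by_contra hc
          push Not at hc
          have h5 : X ≤ f i := hc
          have := Submodule.finrank_mono h5
          rw [hf.rk i (by omega)] at this
          omega
        have e : f i ⊔ (F ∙ x) = X := eq_of_rk (sup_le h2 (by rwa [Submodule.span_singleton_le_iff_mem]))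
          (by rw [Submodule.finrank_sup_span_singleton hxX, h4, hf.rk i (by omega)])
        rw [← e]
        exact H.TI_sup_span (hf.si hS (by omega)) (h3 hx)
      · obtain rfl : d = i := by omega
        exact h2

end Symp

end Cfsg.Agent.ParSys.Polar.Sympl

end

section


/-!
# The stabiliser of a maximal flag in a group of isometries of a symplectic space

`Pol C g rho sigma m f` : `C ≤ G` acts by isometries on the symplectic space `W` (characteristic 2), induces all the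
transvections, `f` is a maximal flag; `B = fst C sigma m f ∅` is the stabiliser of the flag.

* `Pol.siegel_mem` : the Siegel elements of `B`;
* `Pol.card_le` : `|Q| |F|^(m^2) ≤ |B|`, `Q` the kernel;
* `Pol.self_norm` : `B` is self-normalising in `C`;
* `Pol.pow_triv` (`|F| = 2`) : `x ^ (2 ^ (m + 1))` acts trivially, `x ∈ B`;
* `exists_fl_inv` (`|F| = 2`) : a 2-group fixes a maximal flag through a given invariant flag;
* `Pol.rk_two`, `Pol.rk_three`, `Pol.rk_four`, `Pol.relIndex`, `Pol.gen`.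
-/

set_option autoImplicit false
set_option linter.unusedSectionVars false

namespace Cfsg.Agent.ParSys.Polar.Sympl

open Module Cfsg.Agent.ParSys.Polar.Flags Cfsg.Agent.ParSys.Polar.Incid

variable {F W : Type*} [Field F] [Finite F] [AddCommGroup W] [Module F W] {G : Type*} [Group G]

/-- `C` acts on a symplectic space of Witt index `m`, `f` is a maximal flag -/
structure Pol (C : Subgroup G) (g : W → W → F) (rho : ↥C → W ≃+ W)
    (sigma : ↥C →* Equiv.Perm (Submodule F W)) (m : ℕ) (f : ℕ → Submodule F W) : Prop where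
  H : Symp g
  A : SAct g rho sigma
  hm : Witt g m
  hf : Fl (TI g) m f

variable {C : Subgroup G} {g : W → W → F} {rho : ↥C → W ≃+ W}
  {sigma : ↥C →* Equiv.Perm (Submodule F W)} {m : ℕ} {f : ℕ → Submodule F W}

namespace Pol

variable (p : Pol C g rho sigma m f) [FiniteDimensional F W]

include p

theorem polSp : PolSp (TI g (F := F)) m := p.H.polSp p.hm

theorem act : Act sigma (TI g (F := F)) := SAct.act p.H p.A

/-- an element which acts as a Siegel transformation with singular vector in `f i` and centre in `(f i)^⊥` -/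
theorem siegel_fix {i : ℕ} (him : i ≤ m) {y w : W} {a : F} (hy : y ∈ f i)
    (hw : w ∈ p.H.perp (f i)) {c : ↥C}
    (hc : ∀ v, rho c v = v + g v y • w + (g v w + a * g v y) • y) : ∀ d ≤ m, sigma c (f d) = f d := by
  have hym : y ∈ f m := p.hf.le him le_rfl hy
  have H := p.H
  have k2 : ∀ d ≤ m, ∀ v ∈ f d, rho c v = v + g v w • y := fun d hd v hv => by
    rw [hc, p.hf.sing v (p.hf.le hd le_rfl hv) y hym]; simp
  have k3 : ∀ v ∈ f i, g v w = 0 := fun v hv => H.zero_comm (hw v hv)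
  have k4 : ∀ d ≤ m, ∀ v ∈ f d, rho c v ∈ f d := fun d hd v hv => by
    rw [k2 d hd v hv]
    by_cases hdi : d ≤ i
    · rw [k3 v (p.hf.le hdi him hv), zero_smul, add_zero]; exact hv
    · exact Submodule.add_mem _ hv (Submodule.smul_mem _ _ (p.hf.le (by omega) hd hy))
  intro d hd
  apply eq_of_rk
  · intro z hz
    obtain ⟨v, hv, rfl⟩ := (p.A.sig _ _ _).1 hz
    exact k4 d hd v hv
  · exact p.A.card_eq _ _

/-- the Siegel elements of the flag stabiliser -/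
theorem siegel_mem {i : ℕ} (him : i ≤ m) {y w : W} (a : F) (hy : y ∈ f i)
    (hw : w ∈ p.H.perp (f i)) :
    ∃ c : ↥C, (c : G) ∈ fst C sigma m f ∅ ∧ ∀ v, rho c v = v + g v y • w + (g v w + a * g v y) • y := by
  obtain ⟨c, hc⟩ := SAct.siegel p.H p.A (y := y) (w := w) a (hw y hy)
  refine ⟨c, ?_, hc⟩
  rw [coe_mem_fst]
  exact fun d hd _ => p.siegel_fix him hy hw hc d hd

/-- **the order of the flag stabiliser** -/
theorem card_le [Finite G] {Q : Subgroup G} (hQC : Q ≤ C) (hQ : ∀ x (h : x ∈ Q) v, rho ⟨x, hQC h⟩ v = v) :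
    Nat.card Q * Nat.card F ^ (m ^ 2) ≤ Nat.card (fst C sigma m f ∅) := by
  classical
  have hW : Finite W := Module.finite_of_finite F
  have H := p.H
  have hex : ∀ d, ∃ v, d < m → v ∈ f (d + 1) ∧ v ∉ f d := by
    intro d
    by_cases hd : d < m
    · obtain ⟨v, -, h1, h2⟩ := SAct.exists_gen H (p.hf.si p.polSp (d := d + 1) hd) (p.hf.mono d hd)
        (by rw [p.hf.rk _ hd, p.hf.rk _ hd.le])
      exact ⟨v, fun _ => ⟨by rw [h2]; exact Submodule.mem_sup_right (Submodule.mem_span_singleton_self v), h1⟩⟩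
    · exact ⟨0, fun h => absurd h hd⟩
  choose e₀ he₀ using hex
  let e : ℕ → W := fun d => e₀ (d - 1)
  have he1 : ∀ d < m, e (d + 1) ∈ f (d + 1) := fun d hd => (he₀ d hd).1
  have he2 : ∀ d < m, e (d + 1) ∉ f d := fun d hd => (he₀ d hd).2
  obtain ⟨e', he'⟩ := CardU.exists_dual (sg := id) (g := g) (f := f) (e := e) H.add H.smul H.sym
    (fun _ _ => rfl) (fun _ _ => rfl) (fun _ => rfl) (fun w hw => H.nd w fun u => H.zero_comm (hw u))
    p.hf.mono he1 he2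
  -- `f i` is spanned by the `e j`
  have hspan : ∀ i ≤ m, ∀ w, (∀ j, 1 ≤ j → j ≤ i → g w (e j) = 0) → w ∈ H.perp (f i) := by
    intro i
    induction i with
    | zero =>
      intro _ w _ x hx
      rw [p.hf.zero, Submodule.mem_bot] at hx
      rw [hx]; exact H.zero_r w
    | succ i ih =>
      intro hi w hw
      have h1 : f (i + 1) = f i ⊔ (F ∙ e (i + 1)) := by
        symm
        exact eq_of_rk (sup_le (p.hf.mono i hi) (by
          rw [Submodule.span_singleton_le_iff_mem]; exact he1 i hi))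
          (by rw [Submodule.finrank_sup_span_singleton (he2 i hi), p.hf.rk _ hi, p.hf.rk i (by omega)])
      rw [h1, H.mem_perp_sup, H.mem_perp_span]
      exact ⟨ih (by omega) w fun j h1 h2 => hw j h1 (by omega), hw (i + 1) (by omega) le_rfl⟩
  let rho' : G → W → W := fun x v => if h : x ∈ C then rho ⟨x, h⟩ v else v
  have hr : ∀ x (h : x ∈ C) v, rho' x v = rho ⟨x, h⟩ v := fun x h v => dif_pos h
  set U := fst C sigma m f ∅ with hU
  have hUC : ∀ x ∈ U, x ∈ C := fun x hx => hx.1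
  have D : CardU.Dat F id g rho' U m e e' :=
    { one := fun v => by rw [hr 1 C.one_mem]; exact p.A.one v
      mul := fun x hx y hy v => by
        rw [hr _ (mul_mem (hUC x hx) (hUC y hy)), hr x (hUC x hx), hr y (hUC y hy)]
        exact p.A.mul ⟨x, hUC x hx⟩ ⟨y, hUC y hy⟩ v
      sg_one := rfl
      sg_add := fun _ _ => rfl
      g_add := H.add
      g_smul := H.smul
      g_sym := H.sym
      ee' := he'
      tr := fun w => ⟨0, by rw [H.self]; simp⟩
      sieg := by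
        intro i hi1 hi w hw a _
        obtain ⟨d, rfl⟩ := Nat.exists_eq_add_of_le' hi1
        obtain ⟨x, hx, h1⟩ := p.siegel_mem hi a (he1 d hi) (hspan _ hi w fun j h1 h2 => (hw j h1 h2).1)
        exact ⟨x, hx, fun v => by rw [hr x x.2]; exact h1 v⟩ }
  have h1 := D.card_le' (k := m) le_rfl
  have hQU : Nat.card Q ≤ Nat.card (D.Uc m) := by
    have h2 : Q ≤ D.Uc m := fun x hx => by
      have h3 : ∀ v, rho ⟨x, hQC hx⟩ v = v := fun v => hQ x hx v
      refine ⟨⟨hQC hx, fun d _ _ => p.A.eq_of_fix fun v _ => h3 v⟩, fun j _ _ => ?_⟩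
      rw [hr x (hQC hx)]; exact h3 _
    exact Subgroup.card_le_of_le h2
  have hW2 : Nat.card W = Nat.card F ^ (2 * m) := by
    rw [Module.natCard_eq_pow_finrank (K := F), H.finrank_eq p.hm]
  have hF1 := Finite.one_lt_card (α := F)
  have hWs : ∀ i, i < m → Nat.card F ^ (2 * (m - (i + 1)) + 1) ≤
      Nat.card (D.Ws (i + 1)) * Nat.card {a : F // a + id a = 0} := by
    intro i hi
    have h2 := D.card_Ws (i + 1)
    rw [hW2] at h2
    have h3 : Nat.card F ^ (2 * m) = Nat.card F ^ (2 * (m - (i + 1))) * Nat.card F ^ (2 * (i + 1)) := by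
      rw [← pow_add]; congr 1; omega
    rw [h3] at h2
    have h4 := Nat.le_of_mul_le_mul_right h2 (by positivity)
    have h5 : Nat.card {a : F // a + id a = 0} = Nat.card F :=
      Nat.card_congr (Equiv.subtypeUnivEquiv fun a => H.two_self a)
    rw [h5, pow_succ]
    exact Nat.mul_le_mul_right _ h4
  have hprod : ∀ k ≤ m, Nat.card F ^ (k * (2 * m - k)) ≤
      ∏ i ∈ Finset.range k, (Nat.card (D.Ws (i + 1)) * Nat.card {a : F // a + id a = 0}) := by
    intro k hk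
    induction k with
    | zero => simp only [_root_.tsub_zero, _root_.MulZeroClass.zero_mul, _root_.pow_zero, _root_.Finset.range_zero, _root_.id_eq, _root_.Finset.prod_empty, _root_.Std.le_refl]
    | succ k ih =>
      rw [Finset.prod_range_succ]
      refine le_trans ?_ (Nat.mul_le_mul (ih (by omega)) (hWs k (by omega)))
      rw [← pow_add]
      apply le_of_eq
      congr 1
      obtain ⟨r, rfl⟩ : ∃ r, m = (k + 1) + r := ⟨m - (k + 1), by omega⟩
      have e1 : 2 * (k + 1 + r) - (k + 1) = (k + 1) + 2 * r := by omega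
      have e2 : 2 * (k + 1 + r) - k = k + 2 + 2 * r := by omega
      have e3 : k + 1 + r - (k + 1) = r := by omega
      rw [e1, e2, e3]
      ring
  refine le_trans ?_ h1
  rw [mul_comm]
  refine Nat.mul_le_mul ?_ hQU
  have h2 := hprod m le_rfl
  have e : m * (2 * m - m) = m ^ 2 := by
    have : 2 * m - m = m := by omega
    rw [this, pow_two]
  rwa [e] at h2

/-- **the flag stabiliser is self-normalising** -/
theorem self_norm {x : G} (hx : x ∈ C) (h : ∀ b ∈ fst C sigma m f ∅, x⁻¹ * b * x ∈ fst C sigma m f ∅) :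
    x ∈ fst C sigma m f ∅ := by
  have H := p.H
  have hS := p.polSp
  -- the flag `x f` is invariant
  have hinv : ∀ b : ↥C, (b : G) ∈ fst C sigma m f ∅ → ∀ d ≤ m,
      sigma b (sigma ⟨x, hx⟩ (f d)) = sigma ⟨x, hx⟩ (f d) := by
    intro b hb d hd
    have h1 := h b hb
    have e : x⁻¹ * (b : G) * x = (((⟨x, hx⟩ : ↥C)⁻¹ * b * ⟨x, hx⟩ : ↥C) : G) := rfl
    rw [e, coe_mem_fst] at h1
    have h2 := h1 d hd (by simp)
    rw [mul_assoc, map_mul, map_mul, map_inv, Equiv.Perm.mul_apply, Equiv.Perm.mul_apply,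
      Equiv.Perm.inv_eq_iff_eq] at h2
    exact h2
  set c : ↥C := ⟨x, hx⟩ with hc
  have hA := p.act
  have key : ∀ d ≤ m, sigma c (f d) = f d := by
    intro d
    induction d with
    | zero =>
      intro _
      rw [p.hf.zero]
      apply Submodule.finrank_eq_zero.1
      rw [hA.rk]
      exact finrank_bot F W
    | succ d ih =>
      intro hd
      have ih := ih (by omega)
      set X := sigma c (f (d + 1)) with hX
      have hXr : finrank F X = d + 1 := by rw [hX, hA.rk, p.hf.rk _ hd]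
      have hXd : f d ≤ X := by rw [← ih]; exact hA.le c (p.hf.mono d hd)
      have hXt : TI g X := hA.sing c (p.hf.si hS hd)
      obtain ⟨v, hv, hvd⟩ : ∃ v ∈ X, v ∉ f d := by
        by_contra hcon
        push Not at hcon
        have h5 : X ≤ f d := hcon
        have := Submodule.finrank_mono h5
        rw [p.hf.rk d (by omega)] at this
        omega
      obtain ⟨y, hyp, hyd, hfy⟩ := SAct.exists_gen H (p.hf.si hS hd) (p.hf.mono d hd)
        (by rw [p.hf.rk _ hd, p.hf.rk d (by omega)])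
      have hy : y ∈ f (d + 1) := by
        rw [hfy]; exact Submodule.mem_sup_right (Submodule.mem_span_singleton_self y)
      have hsv : ∀ w ∈ H.perp (f (d + 1)), ∀ a : F, g v y • w + (g v w + a * g v y) • y ∈ X := by
        intro w hw a
        obtain ⟨b, hb, hbv⟩ := p.siegel_mem hd a hy hw
        have h1 : rho b v ∈ X := by
          have := p.A.mem (c := b) hv
          rwa [hX, hinv b hb _ hd] at this
        rw [hbv] at h1
        have h2 := X.sub_mem h1 hv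
        have e : v + g v y • w + (g v w + a * g v y) • y - v = g v y • w + (g v w + a * g v y) • y := by abel
        rwa [e] at h2
      by_cases hyX : y ∈ X
      · symm
        refine eq_of_rk ?_ (by rw [hXr, p.hf.rk _ hd])
        rw [hfy]
        exact sup_le hXd (by rwa [Submodule.span_singleton_le_iff_mem])
      · -- `g v y = 0`
        have h0 : g v y = 0 := by
          by_contra hne
          have h1 := hsv 0 (H.perp _).zero_mem 1
          rw [smul_zero, zero_add, H.zero_r, zero_add, one_mul] at h1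
          exact hyX ((Submodule.smul_mem_iff X hne).1 h1)
        have h2 : ∀ w ∈ H.perp (f (d + 1)), g v w = 0 := by
          intro w hw
          by_contra hne
          have h1 := hsv w hw 0
          rw [h0, zero_smul, zero_add, zero_mul, add_zero] at h1
          exact hyX ((Submodule.smul_mem_iff X hne).1 h1)
        have h3 : v ∈ f (d + 1) := by
          rw [← H.perp_perp (f (d + 1))]
          exact h2
        have h4 : X = f d ⊔ (F ∙ v) := by
          symm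
          exact eq_of_rk (sup_le hXd (by rwa [Submodule.span_singleton_le_iff_mem]))
            (by rw [Submodule.finrank_sup_span_singleton hvd, hXr, p.hf.rk d (by omega)])
        refine eq_of_rk ?_ (by rw [hXr, p.hf.rk _ hd])
        rw [h4]
        exact sup_le (p.hf.mono d hd) (by rwa [Submodule.span_singleton_le_iff_mem])
  exact ⟨hx, fun d hd _ => key d hd⟩

/-! ### `|F| = 2` -/

/-- an element of the flag stabiliser acts trivially on the factors of the flag, `|F| = 2` -/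
theorem sub_mem_of_two (hF : Nat.card F = 2) {c : ↥C} (hc : (c : G) ∈ fst C sigma m f ∅) {d : ℕ} (hd : d < m)
    {v : W} (hv : v ∈ f (d + 1)) : rho c v - v ∈ f d := by
  classical
  rw [coe_mem_fst] at hc
  have h1 := hc (d + 1) hd (by simp)
  have h2 := hc d hd.le (by simp)
  have h3 : rho c v ∈ f (d + 1) := by rw [← h1]; exact p.A.mem hv
  have hF1 : ∀ a : F, a = 0 ∨ a = 1 := by
    intro a
    by_contra hcon
    push Not at hcon
    have := Fintype.ofFinite F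
    have h4 : ({0, 1, a} : Finset F).card ≤ 2 := by
      rw [← hF, Nat.card_eq_fintype_card]
      exact Finset.card_le_univ _
    rw [Finset.card_eq_three.2 ⟨0, 1, a, zero_ne_one, Ne.symm hcon.1, Ne.symm hcon.2, rfl⟩] at h4
    omega
  by_cases hvd : v ∈ f d
  · exact Submodule.sub_mem _ (by rw [← h2]; exact p.A.mem hvd) hvd
  -- `f (d+1) = f d + ⟨v⟩`
  have h4 : f (d + 1) = f d ⊔ (F ∙ v) := by
    symm
    exact eq_of_rk (sup_le (p.hf.mono d hd) (by rwa [Submodule.span_singleton_le_iff_mem]))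
      (by rw [Submodule.finrank_sup_span_singleton hvd, p.hf.rk _ hd, p.hf.rk d hd.le])
  rw [h4] at h3
  obtain ⟨a, ha, b, hb, h5⟩ := Submodule.mem_sup.1 h3
  obtain ⟨s, rfl⟩ := Submodule.mem_span_singleton.1 hb
  rcases hF1 s with rfl | rfl
  · exfalso
    rw [zero_smul, add_zero] at h5
    rw [h5] at ha
    rw [← h2, p.A.mem_iff] at ha
    exact hvd ha
  · rw [← h5, one_smul, add_sub_cancel_right]
    exact ha

/-- **the flag stabiliser is a 2-group modulo the kernel**, `|F| = 2` -/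
theorem pow_triv (hF : Nat.card F = 2) {c : ↥C} (hc : (c : G) ∈ fst C sigma m f ∅) (v : W) :
    rho (c ^ 2 ^ (m + 1)) v = v := by
  have hmem : ∀ k : ℕ, ((c ^ k : ↥C) : G) ∈ fst C sigma m f ∅ := fun k => by
    rw [Subgroup.coe_pow]; exact pow_mem hc k
  have key : ∀ d ≤ m, ∀ v ∈ f d, rho (c ^ 2 ^ d) v = v := by
    intro d
    induction d with
    | zero =>
      intro _ v hv
      rw [p.hf.zero, Submodule.mem_bot] at hv
      rw [hv, map_zero]
    | succ d ih =>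
      intro hd v hv
      have h1 := p.sub_mem_of_two hF (hmem (2 ^ d)) hd hv
      have h2 := ih (by omega) _ h1
      rw [pow_succ, pow_mul, pow_two, p.A.mul]
      have h3 : rho (c ^ 2 ^ d) v = v + (rho (c ^ 2 ^ d) v - v) := by abel
      rw [h3, map_add, h2]
      have h4 := p.H.two_w (rho (c ^ 2 ^ d) v - v)
      calc rho (c ^ 2 ^ d) v + (rho (c ^ 2 ^ d) v - v) = v + ((rho (c ^ 2 ^ d) v - v) + (rho (c ^ 2 ^ d) v - v)) := by
            abel
        _ = v := by rw [h4, add_zero]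
  have hm : ∀ v ∈ f m, rho (c ^ 2 ^ m) v = v := key m le_rfl
  have h1 : rho (c ^ 2 ^ m) v - v ∈ f m := by
    rw [← p.H.perp_max p.hm p.hf.sing (p.hf.rk m le_rfl)]
    intro u hu
    have h2 := p.A.iso (c ^ 2 ^ m) v u
    rw [hm u hu] at h2
    rw [p.H.sub_w, p.H.add, h2, p.H.two_self]
  rw [pow_succ, pow_mul, pow_two, p.A.mul]
  have h2 := hm _ h1
  have h3 : rho (c ^ 2 ^ m) v = v + (rho (c ^ 2 ^ m) v - v) := by abel
  rw [h3, map_add, h2]
  have h4 := p.H.two_w (rho (c ^ 2 ^ m) v - v)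
  calc rho (c ^ 2 ^ m) v + (rho (c ^ 2 ^ m) v - v) = v + ((rho (c ^ 2 ^ m) v - v) + (rho (c ^ 2 ^ m) v - v)) := by
        abel
    _ = v := by rw [h4, add_zero]

/-! ### The residues -/

variable {I : Type*} {P : I → Subgroup G} {a b : I} {i j : ℕ}
  (hB : ∀ k, fst C sigma m f ∅ ≤ P k)
  (ha : P a = fst C sigma m f {i}) (hb : P b = fst C sigma m f {j})

include hB ha hb

theorem rk_two (hij : i + 1 < j) (hj : j ≤ m) :
    Rk (fst C sigma m f ∅) P a b 2 ∧ Rk (fst C sigma m f ∅) P b a 2 :=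
  Flags.rk_two p.polSp p.act p.hf hB ha hb hij hj

theorem rk_three (hi : 1 ≤ i) (hij : i + 1 = j) (hj : j < m) :
    Rk (fst C sigma m f ∅) P a b 3 ∧ Rk (fst C sigma m f ∅) P b a 3 :=
  Flags.rk_three p.polSp p.act p.hf hB ha hb hi hij hj

theorem rk_four (hi : 1 ≤ i) (hij : i + 1 = j) (hj : j = m) :
    Rk (fst C sigma m f ∅) P a b 4 ∧ Rk (fst C sigma m f ∅) P b a 4 :=
  Flags.rk_four p.polSp p.act p.hf hB ha hb hi hij hj

omit hB ha hb in
theorem relIndex (hj1 : 1 ≤ j) (hj : j ≤ m) :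
    (fst C sigma m f ∅).relIndex (fst C sigma m f {j}) = Nat.card F + 1 := by
  rw [relIndex_fst p.polSp p.act p.hf hj, p.H.card_pan p.hm p.hf hj1 hj]

omit hB ha hb in
theorem gen (hm1 : 1 ≤ m) {N : Subgroup G} (hN : ∀ j, 1 ≤ j → j ≤ m → fst C sigma m f {j} ≤ N) : C ≤ N :=
  le_of_panels p.polSp p.act p.hf hm1 hN

end Pol

/-! ### Invariant flags -/

section invariant

variable [FiniteDimensional F W] (H : Symp g) {S : Type*} [Group S] {tau : S →* Equiv.Perm (Submodule F W)}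

include H

/-- the number of totally isotropic subspaces of dimension `d + 1` over a given one of dimension `d < m` is odd,
`|F| = 2` -/
theorem odd_over (hF : Nat.card F = 2) (hm : Witt g m) {X : Submodule F W} (hX : TI g X) (hd : finrank F X < m) :
    Odd (Nat.card {Y : Submodule F W | TI g Y ∧ X ≤ Y ∧ finrank F Y = finrank F X + 1}) := by
  have hW : Finite W := Module.finite_of_finite F
  have hle : X ≤ H.perp X := H.TI_iff.1 hX
  have h1 := Hermit.card_compl hle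
  have e : ∀ Y : Submodule F W, ∀ v, X ≤ Y → v ∈ Y → v ∉ X → finrank F Y = finrank F X + 1 →
      Y = X ⊔ (F ∙ v) := fun Y v h1 h2 h3 h4 => by
    symm
    exact eq_of_rk (sup_le h1 (by rwa [Submodule.span_singleton_le_iff_mem]))
      (by rw [Submodule.finrank_sup_span_singleton h3, h4])
  have h2 := Hermit.card_spread (A := X)
    (X := {Y : Submodule F W | TI g Y ∧ X ≤ Y ∧ finrank F Y = finrank F X + 1})
    (T := {v : W | v ∈ H.perp X ∧ v ∉ X})
    (b := Nat.card F ^ (finrank F X + 1)) (fun x hx => hx.2.1)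
    (fun x hx => by rw [Module.natCard_eq_pow_finrank (K := F), hx.2.2])
    (fun v => ?_) (fun x hx x' hx' v hv h1 h2 => ?_)
  · have h3 := H.finrank_perp X
    have h4 := H.finrank_eq hm
    rw [Module.natCard_eq_pow_finrank (K := F) (V := ↥X), Module.natCard_eq_pow_finrank (K := F) (V := ↥(H.perp X)),
      hF] at h1
    rw [Module.natCard_eq_pow_finrank (K := F) (V := ↥X), hF] at h2
    obtain ⟨k, hk⟩ : ∃ k, finrank F ↥(H.perp X) = finrank F X + (k + 1) := ⟨2 * m - 2 * finrank F X - 1, by omega⟩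
    rw [hk, pow_add] at h1
    rw [pow_succ] at h2
    have hR : 0 < 2 ^ finrank F X := pow_pos (by omega) _
    generalize Nat.card {v : W | v ∈ H.perp X ∧ v ∉ X} = T at *
    generalize Nat.card {Y : Submodule F W | TI g Y ∧ X ≤ Y ∧ finrank F Y = finrank F X + 1} = P at *
    generalize 2 ^ finrank F X = R at *
    -- T + R = R 2^(k+1), T + P R = P (R 2)
    have h5 : R * (P + 1) = R * 2 ^ (k + 1) := by linarith only [h1, h2]
    have h6 := Nat.eq_of_mul_eq_mul_left hR h5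
    rw [← Nat.not_even_iff_odd]
    intro hev
    have h7 : Even (2 ^ (k + 1)) := by rw [pow_succ]; exact even_two.mul_left _
    rw [← h6] at h7
    exact absurd h7 (by rw [Nat.not_even_iff_odd]; exact hev.add_one)
  · constructor
    · rintro ⟨hv, hv'⟩
      exact ⟨hv', X ⊔ (F ∙ v), ⟨H.TI_sup_span hX hv, le_sup_left, Submodule.finrank_sup_span_singleton hv'⟩,
        Submodule.mem_sup_right (Submodule.mem_span_singleton_self v)⟩
    · rintro ⟨hv, x, hx, hvx⟩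
      exact ⟨fun y hy => hx.1 v hvx y (hx.2.1 hy), hv⟩
  · rw [e x v hx.2.1 h1 hv hx.2.2, e x' v hx'.2.1 h2 hv hx'.2.2]

/-- **a 2-group fixes a maximal flag through a given invariant flag**, `|F| = 2` -/
theorem exists_fl_inv [Finite S] (hF : Nat.card F = 2) (hm : Witt g m) (hS : IsPGroup 2 S)
    (hle : ∀ s {X Y : Submodule F W}, X ≤ Y → tau s X ≤ tau s Y)
    (hrk : ∀ s (X : Submodule F W), finrank F ↥(tau s X) = finrank F X)
    (hti : ∀ s {X : Submodule F W}, TI g X → TI g (tau s X))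
    {k : ℕ} {f₀ : ℕ → Submodule F W} (h : Fl (TI g (F := F)) k f₀) (hinv : ∀ s, ∀ d ≤ k, tau s (f₀ d) = f₀ d) :
    k ≤ m ∧ ∃ f, Fl (TI g (F := F)) m f ∧ (∀ d ≤ k, f d = f₀ d) ∧ ∀ s, ∀ d ≤ m, tau s (f d) = f d := by
  have hk : k ≤ m := by
    have := hm.2 _ h.sing
    rwa [h.rk k le_rfl] at this
  refine ⟨hk, ?_⟩
  have hfin : Finite W := Module.finite_of_finite F
  have hfs : Finite (Submodule F W) := Finite.of_injective (fun X : Submodule F W => (X : Set W)) SetLike.coe_injective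
  have key : ∀ j, k + j ≤ m → ∃ f, Fl (TI g (F := F)) (k + j) f ∧ (∀ d ≤ k, f d = f₀ d) ∧
      ∀ s, ∀ d ≤ k + j, tau s (f d) = f d := by
    intro j
    induction j with
    | zero => intro _; exact ⟨f₀, h, fun _ _ => rfl, hinv⟩
    | succ j ih =>
      intro hj
      obtain ⟨f, h1, h2, h3⟩ := ih (by omega)
      have hr := h1.rk (k + j) le_rfl
      -- the action on the members over `f (k + j)`
      set Ω : Set (Submodule F W) :=
        {Y : Submodule F W | TI g Y ∧ f (k + j) ≤ Y ∧ finrank F Y = finrank F (f (k + j)) + 1} with hΩ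
      have hmap : ∀ s, ∀ Y ∈ Ω, tau s Y ∈ Ω := by
        rintro s Y ⟨h4, h5, h6⟩
        refine ⟨hti s h4, ?_, by rw [hrk, h6]⟩
        rw [← h3 s (k + j) le_rfl]
        exact hle s h5
      let _ : MulAction S Ω :=
        { smul := fun s Y => ⟨tau s Y.1, hmap s Y.1 Y.2⟩
          one_smul := fun Y => Subtype.ext (by show tau 1 Y.1 = Y.1; rw [map_one]; rfl)
          mul_smul := fun s t Y => Subtype.ext (by
            show tau (s * t) Y.1 = tau s (tau t Y.1)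
            rw [map_mul]; rfl) }
      have hodd := odd_over H hF hm h1.sing (by rw [hr]; omega)
      have hfΩ : Finite Ω := inferInstance
      obtain ⟨⟨Y, hY⟩, hfix⟩ := hS.nonempty_fixed_point_of_prime_not_dvd_card Ω (by
        intro hd
        rw [← Nat.not_even_iff_odd] at hodd
        exact hodd (even_iff_two_dvd.2 hd))
      have hfix' : ∀ s, tau s Y = Y := fun s => congrArg Subtype.val (hfix s)
      obtain ⟨hY1, hY2, hY3⟩ := hY
      refine ⟨Function.update f (k + j + 1) Y, ⟨?_, ?_, ?_⟩, ?_, ?_⟩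
      · intro e he
        rw [Function.update_of_ne (by omega)]
        by_cases h4 : e = k + j
        · subst h4; rw [Function.update_self]; exact hY2
        · rw [Function.update_of_ne (by omega)]; exact h1.mono e (by omega)
      · intro e he
        by_cases h4 : e = k + j + 1
        · subst h4; rw [Function.update_self, hY3, hr]
        · rw [Function.update_of_ne h4]; exact h1.rk e (by omega)
      · show TI g (Function.update f (k + j + 1) Y (k + j + 1))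
        rw [Function.update_self]; exact hY1
      · intro d hd
        rw [Function.update_of_ne (by omega)]; exact h2 d hd
      · intro s d hd
        by_cases h4 : d = k + j + 1
        · subst h4; rw [Function.update_self]; exact hfix' s
        · rw [Function.update_of_ne h4]; exact h3 s d (by omega)
  obtain ⟨j, rfl⟩ := Nat.exists_eq_add_of_le hk
  exact key j le_rfl

end invariant

end Cfsg.Agent.ParSys.Polar.Sympl

end
end

-- part: Mrg/Omega/HTwo/SevenMod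
section
section


/-!
# II.0h1, `q = 2`, (7) of #15507: the symplectic module `U / ⟨z⟩`

From `Res z M U Δ f t`: `Wm A` is the space of the functions `f(u, ·)`, `u ∈ U` (`U / ⟨z⟩`), `cl A u` the class of
`u`, `gf A` the form, `rho A hC` the action of `C ≤ M` by conjugation.

* `symp A : Symp (gf A)`;
* `exists_sact` : `C ≤ M` with `t p ∈ C` for the `p ∈ Δ` acts as required in `Sympl.SAct`;
* `card_U : |U| = 2 |W|`, `exists_pt` : every vector `≠ 0` is the class of exactly one `p ∈ Δ`.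
-/

set_option autoImplicit false
set_option linter.unusedSectionVars false

namespace Cfsg.Agent.Omega.HTwo.Seven

open Subgroup Cfsg.Agent.Omega.BTwo Cfsg.Agent.Omega.HTwo.Eight
open Cfsg.Agent.ParSys.Polar.Sympl Cfsg.Agent.ParSys.Polar.Flags

variable {G : Type*} [Group G] {z : G} {M U : Subgroup G} {Δ : Set G} {f : G → G → ZMod 2} {t : G → G}

theorem zm2 (a : ZMod 2) : a = 0 ∨ a = 1 := by
  revert a; decide

theorem zm2_add (a : ZMod 2) : a + a = 0 := by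
  revert a; decide

/-- the functions `f(u, ·)`, `u ∈ U` -/
def Wm (A : Res z M U Δ f t) : Submodule (ZMod 2) (↥U → ZMod 2) where
  carrier := {φ | ∃ u ∈ U, ∀ v : ↥U, φ v = f u v}
  zero_mem' := ⟨1, one_mem _, fun v => (A.one_f v.2).symm⟩
  add_mem' := by
    rintro φ ψ ⟨u, hu, h1⟩ ⟨v, hv, h2⟩
    exact ⟨u * v, mul_mem hu hv, fun w => by rw [Pi.add_apply, h1, h2, A.f_add u hu v hv w w.2]⟩
  smul_mem' := by
    rintro c φ ⟨u, hu, h1⟩
    rcases zm2 c with rfl | rfl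
    · exact ⟨1, one_mem _, fun v => by rw [Pi.smul_apply, zero_smul, A.one_f v.2]⟩
    · exact ⟨u, hu, fun v => by rw [one_smul, h1]⟩

open Classical in
/-- the class of `u` -/
noncomputable def cl (A : Res z M U Δ f t) (u : G) : ↥(Wm A) :=
  if h : u ∈ U then ⟨fun v => f u v, u, h, fun _ => rfl⟩ else 0

section basic

variable (A : Res z M U Δ f t)

theorem cl_apply {u : G} (hu : u ∈ U) (v : ↥U) : (cl A u : ↥U → ZMod 2) v = f u v := by
  unfold cl
  rw [dif_pos hu]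

theorem exists_cl (w : ↥(Wm A)) : ∃ u ∈ U, cl A u = w := by
  obtain ⟨φ, u, hu, h⟩ := w
  refine ⟨u, hu, Subtype.ext (funext fun v => ?_)⟩
  rw [cl_apply A hu]
  exact (h v).symm

theorem cl_mul {u v : G} (hu : u ∈ U) (hv : v ∈ U) : cl A (u * v) = cl A u + cl A v := by
  apply Subtype.ext
  funext w
  rw [cl_apply A (mul_mem hu hv), A.f_add u hu v hv w w.2]
  show _ = (cl A u : ↥U → ZMod 2) w + (cl A v : ↥U → ZMod 2) w
  rw [cl_apply A hu, cl_apply A hv]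

theorem cl_z : cl A z = 0 := by
  apply Subtype.ext
  funext w
  rw [cl_apply A A.z_U, A.f_z w w.2]
  rfl

theorem cl_one : cl A 1 = 0 := by
  apply Subtype.ext
  funext w
  rw [cl_apply A (one_mem _), A.one_f w.2]
  rfl

theorem cl_eq_zero {u : G} (hu : u ∈ U) : cl A u = 0 ↔ u = 1 ∨ u = z := by
  constructor
  · intro h
    refine A.f_rad u hu fun v hv => ?_
    have := cl_apply A hu ⟨v, hv⟩
    rw [h] at this
    exact this.symm
  · rintro (rfl | rfl)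
    · exact cl_one A
    · exact cl_z A

theorem two_w (w : ↥(Wm A)) : w + w = 0 := by
  apply Subtype.ext
  funext v
  exact zm2_add _

theorem cl_eq {u v : G} (hu : u ∈ U) (hv : v ∈ U) : cl A u = cl A v ↔ v = u ∨ v = u * z := by
  have h1 : cl A u = cl A v ↔ cl A (u * v) = 0 := by
    rw [cl_mul A hu hv]
    constructor
    · intro h; rw [h, two_w]
    · intro h
      calc cl A u = cl A u + (cl A v + cl A v) := by rw [two_w, add_zero]
        _ = (cl A u + cl A v) + cl A v := by rw [add_assoc]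
        _ = cl A v := by rw [h, zero_add]
  rw [h1, cl_eq_zero A (mul_mem hu hv)]
  have e : ∀ x, u * v = x ↔ v = u * x := fun x => by
    constructor
    · rintro rfl; rw [← mul_assoc, A.U_sq u hu, one_mul]
    · rintro rfl; rw [← mul_assoc, A.U_sq u hu, one_mul]
  rw [e, e, mul_one]

/-- every vector `≠ 0` is the class of a `p ∈ Δ` -/
theorem exists_pt {w : ↥(Wm A)} (hw : w ≠ 0) : ∃ p ∈ Δ, cl A p = w := by
  obtain ⟨u, hu, rfl⟩ := exists_cl A w
  rcases A.cover u hu with h | h | h | h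
  · exact absurd ((cl_eq_zero A hu).2 (Or.inl h)) hw
  · exact absurd ((cl_eq_zero A hu).2 (Or.inr h)) hw
  · exact ⟨u, h, rfl⟩
  · exact ⟨u * z, h, by rw [cl_mul A hu A.z_U, cl_z, add_zero]⟩

theorem pt_inj {p q : G} (hp : p ∈ Δ) (hq : q ∈ Δ) (h : cl A p = cl A q) : p = q := by
  rcases (cl_eq A (A.Δ_U p hp) (A.Δ_U q hq)).1 h with h1 | h1
  · exact h1.symm
  · exact absurd (h1 ▸ hq) (A.inj p hp)

theorem cl_pt_ne {p : G} (hp : p ∈ Δ) : cl A p ≠ 0 := fun h => by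
  rcases (cl_eq_zero A (A.Δ_U p hp)).1 h with h1 | h1
  · exact A.Δ_1 (h1 ▸ hp)
  · exact A.Δ_z (h1 ▸ hp)

/-- the form -/
noncomputable def gf (v w : ↥(Wm A)) : ZMod 2 :=
  (v : ↥U → ZMod 2) ⟨(exists_cl A w).choose, (exists_cl A w).choose_spec.1⟩

theorem gf_cl {u v : G} (hu : u ∈ U) (hv : v ∈ U) : gf A (cl A u) (cl A v) = f u v := by
  unfold gf
  rw [cl_apply A hu]
  obtain ⟨hw, h2⟩ := (exists_cl A (cl A v)).choose_spec
  show f u ((exists_cl A (cl A v)).choose) = f u v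
  rw [A.f_symm u hu _ hw, A.f_symm u hu v hv, ← cl_apply A hw ⟨u, hu⟩, ← cl_apply A hv ⟨u, hu⟩, h2]

/-- the form is symplectic -/
theorem symp : Symp (F := ZMod 2) (gf A) where
  two := rfl
  self x := by
    obtain ⟨u, hu, rfl⟩ := exists_cl A x
    rw [gf_cl A hu hu, A.f_self u hu]
  add x y w := by
    obtain ⟨u, hu, rfl⟩ := exists_cl A x
    obtain ⟨v, hv, rfl⟩ := exists_cl A y
    obtain ⟨s, hs, rfl⟩ := exists_cl A w
    rw [← cl_mul A hu hv, gf_cl A (mul_mem hu hv) hs, gf_cl A hu hs, gf_cl A hv hs, A.f_add u hu v hv s hs]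
  smul c x y := by
    rcases zm2 c with rfl | rfl
    · obtain ⟨s, hs, rfl⟩ := exists_cl A y
      rw [zero_smul, zero_mul, ← cl_one A, gf_cl A (one_mem _) hs, A.one_f hs]
    · rw [one_smul, one_mul]
  sym x y := by
    obtain ⟨u, hu, rfl⟩ := exists_cl A x
    obtain ⟨v, hv, rfl⟩ := exists_cl A y
    rw [gf_cl A hu hv, gf_cl A hv hu, A.f_symm v hv u hu]
  nd x h := by
    obtain ⟨u, hu, rfl⟩ := exists_cl A x
    refine (cl_eq_zero A hu).2 (A.f_rad u hu fun v hv => ?_)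
    rw [← gf_cl A hu hv]
    exact h _

/-- `|U| = 2 |W|` -/
theorem card_U [Finite G] : Nat.card U = 2 * Nat.card ↥(Wm A) := by
  classical
  let φ : ↥U → ↥(Wm A) × ZMod 2 → Prop := fun _ _ => True
  -- `U ≃ W × ⟨z⟩`
  have hsec : ∀ w : ↥(Wm A), ∃ u : ↥U, cl A (u : G) = w := fun w => by
    obtain ⟨u, hu, h⟩ := exists_cl A w
    exact ⟨⟨u, hu⟩, h⟩
  choose s hs using hsec
  let F : ↥(Wm A) × ZMod 2 → ↥U := fun x => s x.1 * ⟨pw z x.2, pw_mem A.z_U x.2⟩
  have hclF : ∀ x, cl A (F x : G) = x.1 := by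
    intro x
    show cl A ((s x.1 : G) * pw z x.2) = x.1
    rw [cl_mul A (s x.1).2 (pw_mem A.z_U x.2), hs]
    have : cl A (pw z x.2) = 0 := by
      rcases zm2 x.2 with h | h
      · rw [h, pw_zero, cl_one]
      · rw [h, pw_one, cl_z]
    rw [this, add_zero]
  have hF : Function.Bijective F := by
    constructor
    · intro x y h
      have h1 : x.1 = y.1 := by rw [← hclF x, h, hclF]
      have h2 : (F x : G) = F y := congrArg Subtype.val h
      change (s x.1 : G) * pw z x.2 = (s y.1 : G) * pw z y.2 at h2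
      rw [h1] at h2
      exact Prod.ext h1 (pw_inj A.z1 (mul_left_cancel h2))
    · intro u
      have h1 : cl A (s (cl A (u : G)) : G) = cl A (u : G) := hs _
      rcases (cl_eq A (s (cl A (u : G))).2 u.2).1 h1 with h2 | h2
      · refine ⟨(cl A (u : G), 0), Subtype.ext ?_⟩
        show (s (cl A (u : G)) : G) * pw z 0 = u
        rw [pw_zero, mul_one, ← h2]
      · refine ⟨(cl A (u : G), 1), Subtype.ext ?_⟩
        show (s (cl A (u : G)) : G) * pw z 1 = u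
        rw [pw_one, ← h2]
  rw [← Nat.card_congr (Equiv.ofBijective F hF), Nat.card_prod, Nat.card_zmod, mul_comm]

end basic

section action

variable (A : Res z M U Δ f t) {C : Subgroup G} (hC : C ≤ M)

/-- the representative -/
noncomputable def rp (w : ↥(Wm A)) : G := (exists_cl A w).choose

theorem rp_U (w : ↥(Wm A)) : rp A w ∈ U := (exists_cl A w).choose_spec.1

theorem cl_rp (w : ↥(Wm A)) : cl A (rp A w) = w := (exists_cl A w).choose_spec.2

theorem cl_conj_rp {c u : G} (hc : c ∈ M) (hu : u ∈ U) : cl A (c * rp A (cl A u) * c⁻¹) = cl A (c * u * c⁻¹) := by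
  have h1 := cl_rp A (cl A u)
  have h2 := rp_U A (cl A u)
  obtain ⟨w, hw⟩ : ∃ w, w = rp A (cl A u) := ⟨_, rfl⟩
  rw [← hw] at h1 h2 ⊢
  rcases (cl_eq A h2 hu).1 h1 with h3 | h3
  · rw [← h3]
  · have e : c * u * c⁻¹ = c * w * c⁻¹ * z := by
      have := A.conj_z hc
      calc c * u * c⁻¹ = c * (w * z) * c⁻¹ := by rw [h3]
        _ = c * w * c⁻¹ * (c * z * c⁻¹) := by group
        _ = _ := by rw [this]
    rw [e, cl_mul A (A.U_M c hc _ h2) A.z_U, cl_z, add_zero]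

/-- the action of `C` -/
noncomputable def rho (c : ↥C) : ↥(Wm A) ≃+ ↥(Wm A) where
  toFun w := cl A ((c : G) * rp A w * (c : G)⁻¹)
  invFun w := cl A ((c : G)⁻¹ * rp A w * (c : G))
  left_inv w := by
    have h1 : (c : G) * rp A w * (c : G)⁻¹ ∈ U := A.U_M c (hC c.2) _ (rp_U A w)
    have h2 := cl_conj_rp A (c := (c : G)⁻¹) (inv_mem (hC c.2)) h1
    rw [inv_inv] at h2
    show cl A ((c : G)⁻¹ * rp A (cl A ((c : G) * rp A w * (c : G)⁻¹)) * (c : G)) = w
    rw [h2]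
    have e : (c : G)⁻¹ * ((c : G) * rp A w * (c : G)⁻¹) * (c : G) = rp A w := by group
    rw [e, cl_rp]
  right_inv w := by
    have h1 : (c : G)⁻¹ * rp A w * (c : G) ∈ U := by
      have := A.U_M (c : G)⁻¹ (inv_mem (hC c.2)) _ (rp_U A w)
      rwa [inv_inv] at this
    have h2 := cl_conj_rp A (c := (c : G)) (hC c.2) h1
    show cl A ((c : G) * rp A (cl A ((c : G)⁻¹ * rp A w * (c : G))) * (c : G)⁻¹) = w
    rw [h2]
    have e : (c : G) * ((c : G)⁻¹ * rp A w * (c : G)) * (c : G)⁻¹ = rp A w := by group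
    rw [e, cl_rp]
  map_add' v w := by
    have h1 := cl_conj_rp A (c := (c : G)) (hC c.2) (mul_mem (rp_U A v) (rp_U A w))
    rw [cl_mul A (rp_U A v) (rp_U A w), cl_rp, cl_rp] at h1
    show cl A ((c : G) * rp A (v + w) * (c : G)⁻¹) = _
    rw [h1]
    have e : (c : G) * (rp A v * rp A w) * (c : G)⁻¹ =
        ((c : G) * rp A v * (c : G)⁻¹) * ((c : G) * rp A w * (c : G)⁻¹) := by group
    rw [e, cl_mul A (A.U_M c (hC c.2) _ (rp_U A v)) (A.U_M c (hC c.2) _ (rp_U A w))]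

theorem rho_cl (c : ↥C) {u : G} (hu : u ∈ U) : rho A hC c (cl A u) = cl A ((c : G) * u * (c : G)⁻¹) :=
  cl_conj_rp A (hC c.2) hu

/-- **the action** -/
theorem exists_sact (hT : ∀ p ∈ Δ, t p ∈ C) :
    ∃ sigma : ↥C →* Equiv.Perm (Submodule (ZMod 2) ↥(Wm A)), SAct (gf A) (rho A hC) sigma := by
  have mul : ∀ a b v, rho A hC (a * b) v = rho A hC a (rho A hC b v) := by
    intro a b v
    obtain ⟨u, hu, rfl⟩ := exists_cl A v
    rw [rho_cl A hC _ hu, rho_cl A hC b hu, rho_cl A hC a (A.U_M b (hC b.2) u hu)]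
    congr 1
    rw [Subgroup.coe_mul]
    group
  have lin : ∀ c (s : ZMod 2) v, rho A hC c (s • v) = s • rho A hC c v := by
    intro c s v
    rcases zm2 s with rfl | rfl
    · rw [zero_smul, zero_smul, map_zero]
    · rw [one_smul, one_smul]
  obtain ⟨sigma, hs⟩ := Cfsg.Agent.ParSys.Polar.Hermit.exists_sigma (F := ZMod 2) (rho := rho A hC) mul
    (fun c => ⟨RingHom.id _, fun s v => lin c s v⟩)
  refine ⟨sigma, mul, hs, lin, ?_, ?_⟩
  · intro c u v
    obtain ⟨a, ha, rfl⟩ := exists_cl A u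
    obtain ⟨b, hb, rfl⟩ := exists_cl A v
    rw [rho_cl A hC _ ha, rho_cl A hC _ hb, gf_cl A (A.U_M c (hC c.2) a ha) (A.U_M c (hC c.2) b hb), gf_cl A ha hb,
      A.f_M c (hC c.2) a ha b hb]
  · intro y a
    have h0 : ∀ v, rho A hC (1 : ↥C) v = v := fun v => by
      have h := mul 1 1 v
      rw [mul_one] at h
      exact ((rho A hC (1 : ↥C)).injective h).symm
    by_cases hy : y = 0
    · exact ⟨1, fun v => by rw [h0, hy, smul_zero, add_zero]⟩
    obtain ⟨p, hp, rfl⟩ := exists_pt A hy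
    rcases zm2 a with rfl | rfl
    · exact ⟨1, fun v => by rw [h0, zero_mul, zero_smul, add_zero]⟩
    · refine ⟨⟨t p, hT p hp⟩, fun v => ?_⟩
      obtain ⟨u, hu, rfl⟩ := exists_cl A v
      rw [rho_cl A hC _ hu, gf_cl A hu (A.Δ_U p hp), one_mul]
      show cl A (t p * u * (t p)⁻¹) = _
      rw [A.t_act hp hu, A.f_symm u hu p (A.Δ_U p hp)]
      rcases zm2 (f p u) with h | h
      · rw [h, pw_zero, mul_one, zero_smul, add_zero]
      · rw [h, pw_one, one_smul, cl_mul A hu (A.pz_U hp), cl_mul A (A.Δ_U p hp) A.z_U, cl_z, add_zero]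

end action

end Cfsg.Agent.Omega.HTwo.Seven

end

section


/-!
# II.0h1, `q = 2`, (7) of #15507: the flag of the Sylow group

`S` a Sylow 2-subgroup of `G`, `S ≤ M`, `S ≤ C(r)`.  There is a maximal flag `fl` of `U / ⟨z⟩` with `fl 1 = ⟨r⟩` which
is invariant under `S`; `S` is the stabiliser of the flag in `M`.

* `structure Fg` : the situation; `exists_fg` : existence;
* `Fg.card_S : 2 ^ ((m + 1) ^ 2) ≤ |S|`;
* `Fg.exists_Y` : a subgroup `Y ≤ S` of order at least `2 ^ ((m + 1) ^ 2)` in `U ⟨t p : p ∈ Δ⟩`.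
-/

set_option autoImplicit false
set_option linter.unusedSectionVars false

namespace Cfsg.Agent.Omega.HTwo.Seven

open Subgroup Module Cfsg.Agent.Omega.BTwo Cfsg.Agent.Omega.HTwo.Eight
open Cfsg.Agent.ParSys.Polar.Sympl Cfsg.Agent.ParSys.Polar.Flags

variable {G : Type*} [Group G] {z : G} {M U : Subgroup G} {Δ : Set G} {f : G → G → ZMod 2} {t : G → G}

section

variable (A : Res z M U Δ f t)

/-- an element of `M` which fixes all vectors centralises `U` -/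
theorem cen_of_triv {C : Subgroup G} (hC : C ≤ M) {c : ↥C} (h : ∀ v, rho A hC c v = v) {u : G} (hu : u ∈ U) :
    (c : G) * u = u * (c : G) := by
  have hp : ∀ p ∈ Δ, (c : G) * p = p * (c : G) := by
    intro p hp
    have h1 := h (cl A p)
    rw [rho_cl A hC c (A.Δ_U p hp)] at h1
    exact mul_inv_eq_iff_eq_mul.1 (pt_inj A (A.Δ_M c (hC c.2) p hp) hp h1)
  rcases A.cover u hu with h1 | h1 | h1 | h1
  · rw [h1, mul_one, one_mul]
  · rw [h1]; exact A.mz (hC c.2)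
  · exact hp u h1
  · have h2 := hp _ h1
    have h3 := A.mz (hC c.2)
    have hz := A.zz
    calc (c : G) * u = (c : G) * (u * z) * z := by rw [← mul_assoc, mul_assoc _ z z, hz, mul_one]
      _ = u * z * (c : G) * z := by rw [h2]
      _ = u * z * (z * (c : G)) := by rw [mul_assoc, h3]
      _ = u * (c : G) := by rw [← mul_assoc, mul_assoc u z z, hz, mul_one]

theorem triv_of_cen {C : Subgroup G} (hC : C ≤ M) {c : ↥C} (h : ∀ u ∈ U, (c : G) * u = u * (c : G)) (v : ↥(Wm A)) :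
    rho A hC c v = v := by
  obtain ⟨u, hu, rfl⟩ := exists_cl A v
  rw [rho_cl A hC c hu, h u hu, mul_inv_cancel_right]

/-- the flag stabiliser is a 2-group -/
theorem fst_two {r : G} (O : Out z M U Δ f t r) {C : Subgroup G} (hC : C ≤ M)
    {sigma : ↥C →* Equiv.Perm (Submodule (ZMod 2) ↥(Wm A))} {m : ℕ} {fl : ℕ → Submodule (ZMod 2) ↥(Wm A)}
    [Finite G] (p : Pol C (gf A) (rho A hC) sigma m fl) : IsPGroup 2 (fst C sigma m fl ∅) := by
  rintro ⟨x, hx⟩
  have hxC : x ∈ C := fst_le hx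
  have h1 := p.pow_triv (by rw [Nat.card_zmod]) (c := ⟨x, hxC⟩) hx
  have h2 : ∀ u ∈ U, x ^ 2 ^ (m + 1) * u = u * x ^ 2 ^ (m + 1) := fun u hu =>
    cen_of_triv A hC (c := (⟨x, hxC⟩ : ↥C) ^ 2 ^ (m + 1)) h1 hu
  have h3 := O.C_U _ (pow_mem (hC hxC) _) h2
  refine ⟨m + 2, Subtype.ext ?_⟩
  show x ^ 2 ^ (m + 2) = 1
  have h4 : (2 : ℕ) ^ (m + 2) = 2 ^ (m + 1) * 2 := by rw [pow_succ]
  rw [h4, pow_mul, pow_two]
  exact A.U_sq _ h3

/-- the order of the flag stabiliser -/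
theorem fst_card [Finite G] {C : Subgroup G} (hC : C ≤ M) (hU : U ≤ C)
    {sigma : ↥C →* Equiv.Perm (Submodule (ZMod 2) ↥(Wm A))} {m : ℕ} {fl : ℕ → Submodule (ZMod 2) ↥(Wm A)}
    (p : Pol C (gf A) (rho A hC) sigma m fl) : 2 ^ ((m + 1) ^ 2) ≤ Nat.card (fst C sigma m fl ∅) := by
  have h1 := p.card_le hU (fun x hx v => triv_of_cen A hC (c := ⟨x, hU hx⟩) (fun u hu => A.U_comm x hx u hu) v)
  refine le_trans (le_of_eq ?_) h1
  rw [card_U A, Module.natCard_eq_pow_finrank (K := ZMod 2) (V := ↥(Wm A)), (symp A).finrank_eq p.hm, Nat.card_zmod]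
  ring

/-- the flag of the Sylow group `S` -/
structure Fg (S : Subgroup G) (r : G) (sigma : ↥M →* Equiv.Perm (Submodule (ZMod 2) ↥(Wm A))) (m : ℕ)
    (fl : ℕ → Submodule (ZMod 2) ↥(Wm A)) : Prop where
  pol : Pol M (gf A) (rho A le_rfl) sigma m fl
  one : fl 1 = Submodule.span (ZMod 2) {cl A r}
  bor : fst M sigma m fl ∅ = S
  two : 2 ≤ m

/-- **existence** -/
theorem exists_fg [Finite G] {r : G} (O : Out z M U Δ f t r) (hr : r ∈ Δ) {p : G} (hp : p ∈ Δ) (hpr : p ≠ r)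
    (hf : f r p = 0) (S : Sylow 2 G) (hSM : (S : Subgroup G) ≤ M) (hSr : ∀ s ∈ (S : Subgroup G), s * r = r * s) :
    ∃ sigma m fl, Fg A (S : Subgroup G) r sigma m fl := by
  have H := symp A
  have hrU := A.Δ_U r hr
  obtain ⟨m, hm⟩ := H.exists_witt
  obtain ⟨sigma, hs⟩ := exists_sact A (le_refl M) (fun p hp => A.t_M hp)
  have hact := SAct.act H hs
  let f₀ : ℕ → Submodule (ZMod 2) ↥(Wm A) := fun d => if d = 0 then ⊥ else Submodule.span (ZMod 2) {cl A r}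
  have hf₀ : Fl (TI (gf A) (F := ZMod 2)) 1 f₀ := by
    refine ⟨fun d hd => ?_, fun d hd => ?_, ?_⟩
    · obtain rfl : d = 0 := by omega
      simp only [f₀, if_pos]
      exact bot_le
    · rcases Nat.eq_zero_or_pos d with rfl | hd'
      · simp only [f₀, if_pos]
        exact finrank_bot _ _
      · obtain rfl : d = 1 := by omega
        show finrank (ZMod 2) ↥(Submodule.span (ZMod 2) {cl A r}) = 1
        exact finrank_span_singleton (cl_pt_ne A hr)
    · show TI (gf A) (Submodule.span (ZMod 2) {cl A r})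
      exact H.TI_span _
  let tau : ↥(S : Subgroup G) →* Equiv.Perm (Submodule (ZMod 2) ↥(Wm A)) := sigma.comp (inclusion hSM)
  have hr0 : ∀ s : ↥(S : Subgroup G), rho A le_rfl (inclusion hSM s) (cl A r) = cl A r := fun s => by
    rw [rho_cl A le_rfl _ hrU]
    congr 1
    exact mul_inv_eq_iff_eq_mul.2 (hSr s s.2)
  have hinv : ∀ s, ∀ d ≤ 1, tau s (f₀ d) = f₀ d := by
    intro s d hd
    refine hs.eq_of_fix (c := inclusion hSM s) fun v hv => ?_
    rcases Nat.eq_zero_or_pos d with rfl | hd'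
    · simp only [f₀] at hv
      rw [(Submodule.mem_bot _).1 hv, map_zero]
    · obtain rfl : d = 1 := by omega
      obtain ⟨a, rfl⟩ := Submodule.mem_span_singleton.1 (show v ∈ Submodule.span (ZMod 2) {cl A r} from hv)
      rw [hs.lin, hr0]
  obtain ⟨h1m, fl, hfl, h1, h2⟩ := exists_fl_inv H (tau := tau) (by rw [Nat.card_zmod]) hm S.isPGroup'
    (fun s _ _ h => hact.le (inclusion hSM s) h) (fun s X => hact.rk (inclusion hSM s) X)
    (fun s _ h => hact.sing (inclusion hSM s) h) hf₀ hinv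
  have hpol : Pol M (gf A) (rho A le_rfl) sigma m fl := ⟨H, hs, hm, hfl⟩
  have hle : (S : Subgroup G) ≤ fst M sigma m fl ∅ := fun s hs' =>
    ⟨hSM hs', fun d hd _ => h2 ⟨s, hs'⟩ d hd⟩
  refine ⟨sigma, m, fl, hpol, h1 1 le_rfl, ?_, ?_⟩
  · exact S.is_maximal' (fst_two A O le_rfl hpol) hle
  · -- `m ≥ 2`
    have hpU := A.Δ_U p hp
    have h3 : TI (gf A) (Submodule.span (ZMod 2) {cl A r} ⊔ Submodule.span (ZMod 2) {cl A p}) := by
      refine H.TI_sup_span (H.TI_span _) ?_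
      rw [H.mem_perp_span, gf_cl A hpU hrU, A.f_symm p hpU r hrU, hf]
    have h4 := hm.2 _ h3
    have h5 : cl A p ∉ Submodule.span (ZMod 2) {cl A r} := by
      intro h
      obtain ⟨a, ha⟩ := Submodule.mem_span_singleton.1 h
      rcases zm2 a with rfl | rfl
      · rw [zero_smul] at ha
        exact cl_pt_ne A hp ha.symm
      · rw [one_smul] at ha
        exact hpr (pt_inj A hp hr ha.symm)
    rw [Submodule.finrank_sup_span_singleton h5, finrank_span_singleton (cl_pt_ne A hr)] at h4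
    exact h4

namespace Fg

variable {A} {S : Subgroup G} {r : G} {sigma : ↥M →* Equiv.Perm (Submodule (ZMod 2) ↥(Wm A))} {m : ℕ}
  {fl : ℕ → Submodule (ZMod 2) ↥(Wm A)} (F : Fg A S r sigma m fl)

include F

theorem S_le [Finite G] : S ≤ M := by rw [← F.bor]; exact fst_le

/-- `|S| ≥ 2 ^ ((m + 1) ^ 2)` -/
theorem card_S [Finite G] : 2 ^ ((m + 1) ^ 2) ≤ Nat.card S := by
  have h := fst_card A le_rfl A.U_le_M F.pol
  rwa [F.bor] at h

/-- a large subgroup of `S` in `U ⟨t p : p ∈ Δ⟩` -/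
theorem exists_Y [Finite G] : ∃ Y ≤ S, Y ≤ U ⊔ closure (t '' Δ) ∧ 2 ^ ((m + 1) ^ 2) ≤ Nat.card Y := by
  have hC : U ⊔ closure (t '' Δ) ≤ M := by
    refine sup_le A.U_le_M ((closure_le _).2 ?_)
    rintro _ ⟨p, hp, rfl⟩
    exact A.t_M hp
  obtain ⟨sg, hs⟩ := exists_sact A hC (fun p hp => mem_sup_right (subset_closure ⟨p, hp, rfl⟩))
  have hpol : Pol (U ⊔ closure (t '' Δ)) (gf A) (rho A hC) sg m fl := ⟨F.pol.H, hs, F.pol.hm, F.pol.hf⟩
  refine ⟨fst (U ⊔ closure (t '' Δ)) sg m fl ∅, ?_, fst_le, fst_card A hC le_sup_left hpol⟩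
  rw [← F.bor]
  rintro x ⟨hx, hx'⟩
  refine ⟨hC hx, fun d hd h => ?_⟩
  have h1 := hx' d hd h
  ext w
  have h2 : w ∈ sigma ⟨x, hC hx⟩ (fl d) ↔ w ∈ sg ⟨x, hx⟩ (fl d) := by
    rw [F.pol.A.sig, hs.sig]
    constructor
    · rintro ⟨v, hv, rfl⟩
      obtain ⟨u, hu, rfl⟩ := exists_cl A v
      exact ⟨_, hv, by rw [rho_cl A hC _ hu, rho_cl A le_rfl _ hu]⟩
    · rintro ⟨v, hv, rfl⟩
      obtain ⟨u, hu, rfl⟩ := exists_cl A v
      exact ⟨_, hv, by rw [rho_cl A hC _ hu, rho_cl A le_rfl _ hu]⟩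
  rw [h2, h1]

end Fg

end

end Cfsg.Agent.Omega.HTwo.Seven

end

section


/-!
# II.0h1, `q = 2`, (7) of #15507: the subgroup `R* = ⟨r, s, e⟩ = 2³` of the residue `(0, 1)`, the elements

`r, s ∈ Δ` a line, `l ∈ L_r` with `z^l = t_r`, `e = s^l`.

* `cen_z` : `C(r) ∩ C(s) ≤ C(z)`;
* `cm_e` : `[v, e] = r^{f(s, v)}` for `v ∈ U ∩ Q_r`;
* `conj_w` : `e^w ∈ e s ⟨r⟩` for `w ∈ U ∖ Q_r`;
* `e_Qs` : `e ∈ Q_s`.
-/

set_option autoImplicit false
set_option linter.unusedSectionVars false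

namespace Cfsg.Agent.Omega.HTwo.Seven

open Subgroup Cfsg.Agent.Omega.BTwo Cfsg.Agent.Omega.HTwo.Eight

variable {G : Type*} [Group G] {z : G} {M U : Subgroup G} {Δ : Set G} {f : G → G → ZMod 2} {t : G → G}

theorem ne_one_iff {a : ZMod 2} : a ≠ 0 ↔ a = 1 := by
  revert a; decide

theorem cm_conj (g x y : G) : cm (g * x * g⁻¹) (g * y * g⁻¹) = cm x y := by
  have h : (g * x * g⁻¹) * (g * y * g⁻¹) = (g * y * g⁻¹) * (g * x * g⁻¹) ↔ x * y = y * x := by
    constructor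
    · intro h
      calc x * y = g⁻¹ * ((g * x * g⁻¹) * (g * y * g⁻¹)) * g := by group
        _ = g⁻¹ * ((g * y * g⁻¹) * (g * x * g⁻¹)) * g := by rw [h]
        _ = y * x := by group
    · intro h
      calc (g * x * g⁻¹) * (g * y * g⁻¹) = g * (x * y) * g⁻¹ := by group
        _ = g * (y * x) * g⁻¹ := by rw [h]
        _ = _ := by group
  by_cases h1 : x * y = y * x
  · rw [cm_of h1, cm_of (h.2 h1)]
  · rw [cm, cm, if_neg h1, if_neg (fun h2 => h1 (h.1 h2))]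

/-- the data of the residue `(0, 1)` -/
structure ED (z : G) (M U : Subgroup G) (Δ : Set G) (f : G → G → ZMod 2) (t : G → G) (r s l : G) : Prop where
  A : Res z M U Δ f t
  h3 : Three z Δ t
  O : Out z M U Δ f t r
  r_Δ : r ∈ Δ
  s_Δ : s ∈ Δ
  ne : s ≠ r
  rs : f r s = 0
  l_L : l ∈ Lp U r
  lz : l * z * l⁻¹ = t r

namespace ED

variable {r s l : G} (E : ED z M U Δ f t r s l)

include E

theorem rU : r ∈ U := E.A.Δ_U r E.r_Δ
theorem sU : s ∈ U := E.A.Δ_U s E.s_Δ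
theorem sr : f s r = 0 := by rw [E.A.f_symm s E.sU r E.rU, E.rs]
theorem rQ : r ∈ Qp r := (E.A.Q_f r E.r_Δ r E.rU).2 (E.A.f_self r E.rU)
theorem sQ : s ∈ Qp r := (E.A.Q_f r E.r_Δ s E.sU).2 E.rs
theorem rr : r * r = 1 := E.A.U_sq r E.rU
theorem ss : s * s = 1 := E.A.U_sq s E.sU
theorem r_ne : r ≠ 1 := E.A.p_ne_one E.r_Δ
theorem s_ne : s ≠ 1 := E.A.p_ne_one E.s_Δ
theorem lC : l ∈ Cp r := E.A.L_le E.r_Δ E.l_L

theorem s_N : s ∉ Np z r := fun h => by
  rcases E.O.N_U s h E.sU with h1 | h1 | h1 | h1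
  · exact E.s_ne h1
  · exact E.ne h1
  · exact E.A.p_ne_z E.s_Δ h1
  · exact E.A.inj r E.r_Δ (h1 ▸ E.s_Δ)

/-- `C(r) ∩ C(s) ≤ C(z)` -/
theorem cen_z {h : G} (hh : h ∈ Cp r) (hs : h * s = s * h) : h * z = z * h := by
  by_contra hz
  have hz' : h * z * h⁻¹ ≠ z := fun h1 => hz (mul_inv_eq_iff_eq_mul.1 h1)
  have h1 : s ∈ cj h U := by
    have h2 := conj_mem_cj (g := h) E.sU
    rwa [hs, mul_inv_cancel_right] at h2
  exact E.s_N (E.O.Q_inf h hh hz' s ⟨E.sU, E.sQ⟩ s ⟨h1, E.sQ⟩ (by rw [E.ss]; exact one_mem _)).1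

/-! ### the form -/

theorem cm_one {x : G} : cm x 1 = 0 := cm_of (by rw [mul_one, one_mul])

theorem cm_r {x : G} (hx : x ∈ Qp r) : cm x r = 0 := cm_of (E.A.r_comm E.r_Δ hx).symm

theorem cm_N {x n : G} (hx : x ∈ Qp r) (hn : n ∈ Np z r) : cm x n = 0 :=
  cm_of (Z_comm (E.A.N_Z r E.r_Δ hn) hx).symm

theorem pw_Q {g : G} (hg : g ∈ Qp r) (c : ZMod 2) : pw g c ∈ Qp r := pw_mem hg c

theorem cm_pw {x g : G} (c : ZMod 2) : cm x (pw g c) = c * cm x g := by
  rcases zz2 c with h | h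
  · rw [h, pw_zero, E.cm_one, zero_mul]
  · rw [h, pw_one, one_mul]
where zz2 (a : ZMod 2) : a = 0 ∨ a = 1 := by revert a; decide

theorem cm_right_r {x y : G} (hx : x ∈ Qp r) (hy : y ∈ Qp r) (c : ZMod 2) : cm x (y * pw r c) = cm x y := by
  rw [E.A.cm_mul_right E.r_Δ hx hy (pw_mem E.rQ c), E.cm_pw, E.cm_r hx, mul_zero, add_zero]

theorem cm_left_r {x y : G} (hx : x ∈ Qp r) (hy : y ∈ Qp r) (c : ZMod 2) : cm (x * pw r c) y = cm x y := by
  rw [E.A.cm_symm E.r_Δ, E.cm_right_r hy hx, E.A.cm_symm E.r_Δ]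

theorem cm_conjQ {x y q : G} (hx : x ∈ Qp r) (hy : y ∈ Qp r) (hq : q ∈ Qp r) : cm x (q * y * q⁻¹) = cm x y := by
  rw [E.A.cm_mul_right E.r_Δ hx (mul_mem hq hy) (inv_mem hq), E.A.cm_mul_right E.r_Δ hx hq hy]
  have h : cm x (q * q⁻¹) = 0 := by rw [mul_inv_cancel]; exact E.cm_one
  rw [E.A.cm_mul_right E.r_Δ hx hq (inv_mem hq)] at h
  have h2 : cm x q + cm x y + cm x q⁻¹ = (cm x q + cm x q⁻¹) + cm x y := by ring
  rw [h2, h, zero_add]

theorem conj_pw_r {g : G} (hg : g ∈ Cp r) (c : ZMod 2) : g * pw r c * g⁻¹ = pw r c := by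
  rw [conj_pw, mem_Cp.1 hg, mul_inv_cancel_right]

/-- conjugation by `Q_r` -/
theorem conjQ {q x : G} (hq : q ∈ Qp r) (hx : x ∈ Qp r) : q * x * q⁻¹ = x * pw r (cm q x) := by
  have h1 := E.A.cm_eq E.r_Δ hq hx
  rw [h1]
  have h2 := E.A.pw_r_comm E.r_Δ hx (cm q x)
  calc pw r (cm q x) * (x * q) * q⁻¹ = pw r (cm q x) * x := by group
    _ = x * pw r (cm q x) := h2

/-! ### `L ∩ C(z)` -/

/-- `C(r) ∩ C(z) = K_r U` -/
theorem mem_KU {g : G} (hg : g ∈ Cp r) (hgz : g * z = z * g) : ∃ k ∈ Kp z r, ∃ u ∈ U, g = k * u := by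
  have h1 : g ∈ Kp z r ⊔ U := by
    rw [← E.O.C_rz]
    exact ⟨hg, mem_Cp.2 hgz⟩
  have h2 : U ≤ normalizer (Kp z r : Set G) := by
    intro u hu
    rw [mem_normalizer_iff]
    refine fun k => ⟨fun hk => E.A.K_normal (E.A.U_cen E.r_Δ hu) hk, fun hk => ?_⟩
    have h3 := E.A.K_normal (inv_mem (E.A.U_cen E.r_Δ hu)) hk
    have e : u⁻¹ * (u * k * u⁻¹) * u⁻¹⁻¹ = k := by group
    rwa [e] at h3
  rw [← SetLike.mem_coe, coe_mul_of_right_le_normalizer_left _ _ h2] at h1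
  obtain ⟨k, hk, u, hu, rfl⟩ := h1
  exact ⟨k, hk, u, hu, rfl⟩

/-- `L ∩ C(z) = Q_r U` -/
theorem mem_QU {g : G} (hg : g ∈ Lp U r) (hgz : g * z = z * g) : ∃ q ∈ Qp r, ∃ u ∈ U, g = q * u := by
  obtain ⟨k, hk, u, hu, rfl⟩ := E.mem_KU (E.A.L_le E.r_Δ hg) hgz
  refine ⟨k, ?_, u, hu, rfl⟩
  rw [← E.O.L_K]
  refine mem_inf.2 ⟨?_, hk⟩
  have h1 := mul_mem hg (inv_mem (E.A.U_le_L (r := r) hu))
  rwa [mul_inv_cancel_right] at h1

/-- `g v g⁻¹` modulo `r` depends only on `g z g⁻¹`, `g ∈ L`, `v ∈ U ∩ Q_r` -/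
theorem rho_eq {g g' v : G} (hg : g ∈ Lp U r) (hg' : g' ∈ Lp U r) (e : g * z * g⁻¹ = g' * z * g'⁻¹) (hv : v ∈ U)
    (hvQ : v ∈ Qp r) : ∃ c : ZMod 2, g * v * g⁻¹ = g' * v * g'⁻¹ * pw r c := by
  have h1 : g'⁻¹ * g * z = z * (g'⁻¹ * g) := by
    calc g'⁻¹ * g * z = g'⁻¹ * (g * z * g⁻¹) * g := by group
      _ = g'⁻¹ * (g' * z * g'⁻¹) * g := by rw [e]
      _ = z * (g'⁻¹ * g) := by group
  obtain ⟨q, hq, u, hu, h2⟩ := E.mem_QU (mul_mem (inv_mem hg') hg) h1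
  have h3 : g'⁻¹ * g * v * (g'⁻¹ * g)⁻¹ = v * pw r (cm q v) := by
    rw [h2]
    calc q * u * v * (q * u)⁻¹ = q * (u * v * u⁻¹) * q⁻¹ := by group
      _ = q * v * q⁻¹ := by rw [E.A.U_comm u hu v hv, mul_inv_cancel_right]
      _ = v * pw r (cm q v) := E.conjQ hq hvQ
  refine ⟨cm q v, ?_⟩
  have h4 := E.conj_pw_r (E.A.L_le E.r_Δ hg') (cm q v)
  calc g * v * g⁻¹ = g' * (g'⁻¹ * g * v * (g'⁻¹ * g)⁻¹) * g'⁻¹ := by group
    _ = g' * (v * pw r (cm q v)) * g'⁻¹ := by rw [h3]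
    _ = g' * v * g'⁻¹ * (g' * pw r (cm q v) * g'⁻¹) := by group
    _ = _ := by rw [h4]

theorem conj_Q {g x : G} (hg : g ∈ Cp r) (hx : x ∈ Qp r) : g * x * g⁻¹ ∈ Qp r := by
  have _ := E
  exact Q_normal hg hx

theorem eQ : l * s * l⁻¹ ∈ Qp r := Q_normal E.lC E.sQ

theorem ee : l * s * l⁻¹ * (l * s * l⁻¹) = 1 := by
  calc l * s * l⁻¹ * (l * s * l⁻¹) = l * (s * s) * l⁻¹ := by group
    _ = 1 := by rw [E.ss]; group

theorem e_inv : (l * s * l⁻¹)⁻¹ = l * s * l⁻¹ := inv_eq_of_mul_eq_one_left E.ee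

theorem z_ne_t : z ≠ t r := E.A.z_ne_t E.r_Δ

/-- an element of `U^l ∩ Q_r` which is in `U N_r` is in `N_r` -/
theorem e_N : l * s * l⁻¹ ∉ Np z r := fun h => by
  have h1 := N_normal (inv_mem E.lC) h
  have e : l⁻¹ * (l * s * l⁻¹) * l⁻¹⁻¹ = s := by group
  rw [e] at h1
  exact E.s_N h1

theorem e_not {u : G} (hu : u ∈ U) (huQ : u ∈ Qp r) : u * (l * s * l⁻¹) ∉ Np z r := fun h => by
  have h1 : l * z * l⁻¹ ≠ z := by rw [E.lz]; exact fun h2 => E.z_ne_t h2.symm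
  exact E.e_N (E.O.Q_inf l E.lC h1 u ⟨hu, huQ⟩ _ ⟨conj_mem_cj E.sU, E.eQ⟩ h).2

/-- `r^⊥ ≰ s^⊥` -/
theorem exists_v : ∃ v ∈ U, v ∈ Qp r ∧ f s v = 1 := by
  by_contra hcon
  push Not at hcon
  have h0 : ∀ v ∈ U, f r v = 0 → f s v = 0 := fun v hv h => by
    by_contra h1
    exact hcon v hv ((E.A.Q_f r E.r_Δ v hv).2 h) (ne_one_iff.1 h1)
  obtain ⟨w, hw, hw1⟩ := E.A.exists_f1 E.r_Δ
  have hrs : r * s ∈ U := mul_mem E.rU E.sU
  have key : ∀ u ∈ U, f s u = f r u * f s w := by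
    intro u hu
    rcases z2 (f r u) with h | h
    · rw [h, h0 u hu h, zero_mul]
    · have h1 := h0 (u * w) (mul_mem hu hw) (by rw [E.A.f_add' E.rU hu hw, h, hw1]; decide)
      rw [E.A.f_add' E.sU hu hw] at h1
      rw [h, one_mul]
      have h2 : ∀ a b : ZMod 2, a + b = 0 → a = b := by decide
      exact h2 _ _ h1
  rcases z2 (f s w) with h | h
  · have h1 := E.A.f_rad s E.sU fun u hu => by rw [key u hu, h, mul_zero]
    exact absurd h1 (not_or.2 ⟨E.s_ne, E.A.p_ne_z E.s_Δ⟩)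
  · have h1 := E.A.f_rad _ hrs fun u hu => by
      rw [E.A.f_add r E.rU s E.sU u hu, key u hu, h, mul_one]
      exact ZZ _
    rcases h1 with h1 | h1
    · apply E.ne
      rw [← E.A.inv_eq E.sU]
      exact (mul_eq_one_iff_eq_inv.1 h1).symm
    · refine E.A.inj r E.r_Δ ?_
      have : r * z = s := by rw [← h1, ← mul_assoc, E.rr, one_mul]
      rw [this]
      exact E.s_Δ
where ZZ (a : ZMod 2) : a + a = 0 := by revert a; decide

/-- the pairing identity -/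
theorem pairing {v v₁ : G} (hv : v ∈ U) (hvQ : v ∈ Qp r) (hv₁ : v₁ ∈ U) (hv₁Q : v₁ ∈ Qp r) :
    f s v₁ * cm v (l * s * l⁻¹) + f s v * cm s (l * v₁ * l⁻¹) + f s v * f s v₁ * cm s (l * s * l⁻¹) = 0 := by
  have A := E.A
  have hk := A.t_K E.h3 E.r_Δ E.s_Δ E.rs
  obtain ⟨k, hkd⟩ : ∃ k, k = t s := ⟨_, rfl⟩
  have hkC := A.CN_le E.r_Δ hk
  obtain ⟨e, hed⟩ : ∃ e, e = l * s * l⁻¹ := ⟨_, rfl⟩
  obtain ⟨x, hxd⟩ : ∃ x, x = l * v₁ * l⁻¹ := ⟨_, rfl⟩
  have heQ : e ∈ Qp r := by rw [hed]; exact E.eQ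
  have hxQ : x ∈ Qp r := by rw [hxd]; exact Q_normal E.lC hv₁Q
  have hzQ : z ∈ Qp r := A.N_le_Q E.r_Δ (z_N z r)
  have htQ : t r ∈ Qp r := A.N_le_Q E.r_Δ (A.t_N E.r_Δ)
  rw [← hkd] at hk hkC
  have hq := A.KL E.r_Δ hk E.l_L
  obtain ⟨q, hqd⟩ : ∃ q, q = k * l * k⁻¹ * l⁻¹ := ⟨_, rfl⟩
  rw [← hqd] at hq
  -- the conjugates under `k`
  have hact : ∀ u ∈ U, k * u * k⁻¹ = u * pw (s * z) (f s u) := fun u hu => by
    rw [hkd]; exact A.t_act E.s_Δ hu
  have hkv := hact v hv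
  have hkx : k * x * k⁻¹ = q * (x * pw (e * t r) (f s v₁)) * q⁻¹ := by
    have h1 : l * (v₁ * pw (s * z) (f s v₁)) * l⁻¹ = x * pw (e * t r) (f s v₁) := by
      rw [hxd, hed]
      have e1 : l * (v₁ * pw (s * z) (f s v₁)) * l⁻¹ = l * v₁ * l⁻¹ * (l * pw (s * z) (f s v₁) * l⁻¹) := by group
      rw [e1, conj_pw]
      have e2 : l * (s * z) * l⁻¹ = l * s * l⁻¹ * (l * z * l⁻¹) := by group
      rw [e2, E.lz]
    rw [← h1, ← hact v₁ hv₁, hqd, hxd]
    group
  have h1 := cm_conj k v x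
  have hsz : s * z ∈ Qp r := mul_mem E.sQ hzQ
  have het : e * t r ∈ Qp r := mul_mem heQ htQ
  rw [hkv, hkx, E.cm_conjQ (mul_mem hvQ (pw_mem hsz _)) (mul_mem hxQ (pw_mem het _)) hq,
    A.cm_mul_right E.r_Δ (mul_mem hvQ (pw_mem hsz _)) hxQ (pw_mem het _),
    A.cm_mul_left E.r_Δ hvQ (pw_mem hsz _) hxQ, A.cm_mul_left E.r_Δ hvQ (pw_mem hsz _) (pw_mem het _)] at h1
  have p1 : cm v (pw (e * t r) (f s v₁)) = f s v₁ * cm v e := by
    rw [E.cm_pw, A.cm_mul_right E.r_Δ hvQ heQ htQ, E.cm_N hvQ (A.t_N E.r_Δ), add_zero]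
  have p2 : ∀ y ∈ Qp r, cm (pw (s * z) (f s v)) y = f s v * cm s y := by
    intro y hy
    rw [A.cm_symm E.r_Δ, E.cm_pw, A.cm_mul_right E.r_Δ hy E.sQ hzQ, E.cm_N hy (z_N z r), add_zero,
      A.cm_symm E.r_Δ]
  have p3 : cm s (pw (e * t r) (f s v₁)) = f s v₁ * cm s e := by
    rw [E.cm_pw, A.cm_mul_right E.r_Δ E.sQ heQ htQ, E.cm_N E.sQ (A.t_N E.r_Δ), add_zero]
  rw [p1, p2 _ hxQ, p2 _ (pw_mem het _), p3] at h1
  rw [← hed, ← hxd]
  linear_combination h1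

/-- **`[v, e] = r^{f(s, v)}`** for `v ∈ U ∩ Q_r` -/
theorem cm_e {v : G} (hv : v ∈ U) (hvQ : v ∈ Qp r) : cm v (l * s * l⁻¹) = f s v := by
  obtain ⟨v₁, hv₁, hv₁Q, h1⟩ := E.exists_v
  have h0 : ∀ v ∈ U, v ∈ Qp r → f s v = 0 → cm v (l * s * l⁻¹) = 0 := by
    intro v hv hvQ h
    have := E.pairing hv hvQ hv₁ hv₁Q
    rw [h, h1] at this
    simpa only [_root_.one_mul, _root_.MulZeroClass.zero_mul, _root_.add_zero, _root_.mul_one] using this
  rcases z2 (f s v) with h | h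
  · rw [h, h0 v hv hvQ h]
  · rw [h]
    by_contra hcon
    have hcon' : cm v (l * s * l⁻¹) = 0 := (z2 _).resolve_right hcon
    have hall : ∀ u ∈ cj 1 U ⊓ Qp r, (l * s * l⁻¹) * u = u * (l * s * l⁻¹) := by
      intro u hu
      rw [cj_one] at hu
      symm
      apply cm_zero
      rcases z2 (f s u) with h2 | h2
      · exact h0 u hu.1 hu.2 h2
      · have h4 := h0 (u * v) (mul_mem hu.1 hv) (mul_mem hu.2 hvQ) (by
          rw [E.A.f_add' E.sU hu.1 hv, h2, h]; decide)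
        rwa [E.A.cm_mul_left E.r_Δ hu.2 hvQ E.eQ, hcon', add_zero] at h4
    obtain ⟨u, hu, n, hn, e⟩ := E.O.Q_self 1 (one_mem _) _ E.eQ hall
    rw [cj_one] at hu
    apply E.e_not hu.1 hu.2
    rw [e, ← mul_assoc, E.A.U_sq u hu.1, one_mul]
    exact hn

theorem cm_se : cm s (l * s * l⁻¹) = 0 := by rw [E.cm_e E.sU E.sQ, E.A.f_self s E.sU]

theorem s_e : s * (l * s * l⁻¹) = l * s * l⁻¹ * s := cm_zero E.cm_se

theorem r_e : r * (l * s * l⁻¹) = l * s * l⁻¹ * r := E.A.r_comm E.r_Δ E.eQ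


/-! ### the conjugate of `e` under `U ∖ Q_r` -/

theorem exists_zt : ∃ h ∈ Lp U r, h * z * h⁻¹ = t r ∧ h * t r * h⁻¹ = z := by
  obtain ⟨u, h0, a, c⟩ := E.A.exists_UA E.h3 E.r_Δ
  exact ⟨wrd u a 5, E.A.wrd_L E.r_Δ c 5, E.A.wrd_z c 5, E.A.wrd_t c 5⟩

theorem exists_zty : ∃ h ∈ Lp U r, h * z * h⁻¹ = t r ∧ h * t r * h⁻¹ = r * z * t r := by
  obtain ⟨u, h0, a, c⟩ := E.A.exists_UA E.h3 E.r_Δ
  exact ⟨wrd u a 3, E.A.wrd_L E.r_Δ c 3, E.A.wrd_z c 3, E.A.wrd_t c 3⟩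

/-- the element `a ∈ L`, `z ↔ y`, `t` fixed -/
theorem exists_zy : ∃ h ∈ Lp U r, h * z * h⁻¹ = r * z * t r ∧ h * t r * h⁻¹ = t r ∧
    h * (r * z * t r) * h⁻¹ = z := by
  obtain ⟨u, h0, a, c⟩ := E.A.exists_UA E.h3 E.r_Δ
  exact ⟨wrd u a 2, E.A.wrd_L E.r_Δ c 2, E.A.wrd_z c 2, E.A.wrd_t c 2, E.A.ay c⟩

theorem cm_ls {v : G} (hv : v ∈ U) (hvQ : v ∈ Qp r) : cm (l * v * l⁻¹) s = f s v := by
  obtain ⟨h, hL, h1, h2⟩ := E.exists_zt
  have hhC := E.A.L_le E.r_Δ hL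
  -- `h v h⁻¹ ∼ l v l⁻¹`, `h e h⁻¹ ∼ s`
  obtain ⟨c, hc⟩ := E.rho_eq hL E.l_L (h1.trans E.lz.symm) hv hvQ
  have e1 : h * l * z * (h * l)⁻¹ = 1 * z * 1⁻¹ := by
    calc h * l * z * (h * l)⁻¹ = h * (l * z * l⁻¹) * h⁻¹ := by group
      _ = z := by rw [E.lz, h2]
      _ = 1 * z * 1⁻¹ := by group
  obtain ⟨c', hc'⟩ := E.rho_eq (mul_mem hL E.l_L) (one_mem _) e1 E.sU E.sQ
  have e2 : h * l * s * (h * l)⁻¹ = h * (l * s * l⁻¹) * h⁻¹ := by group
  have e3 : (1 : G) * s * 1⁻¹ = s := by group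
  rw [e2, e3] at hc'
  have h3 := cm_conj h v (l * s * l⁻¹)
  rw [hc, hc', E.cm_left_r (Q_normal E.lC hvQ) (mul_mem E.sQ (pw_mem E.rQ _)), E.cm_right_r (Q_normal E.lC hvQ) E.sQ,
    E.cm_e hv hvQ] at h3
  exact h3

/-- `w ∈ U ∖ Q_r` interchanges `t_r` and `r z t_r` -/
theorem w_t {w : G} (hw : w ∈ U) (hw1 : f r w = 1) : w * t r * w⁻¹ = r * z * t r := by
  rw [E.A.u_act E.r_Δ hw, hw1, pw_one]
  exact E.A.N_comm E.r_Δ (E.A.t_N E.r_Δ) (mul_mem (E.A.p_N E.r_Δ) (z_N z r))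

theorem cm_ld {v w : G} (hv : v ∈ U) (hvQ : v ∈ Qp r) (hw : w ∈ U) (hw1 : f r w = 1) :
    cm (l * v * l⁻¹) (w * (l * s * l⁻¹) * w⁻¹) = f s v := by
  obtain ⟨h, hL, h1, h2⟩ := E.exists_zty
  have hwL := E.A.U_le_L (r := r) hw
  obtain ⟨c, hc⟩ := E.rho_eq hL E.l_L (h1.trans E.lz.symm) hv hvQ
  have e1 : h * l * z * (h * l)⁻¹ = w * l * z * (w * l)⁻¹ := by
    calc h * l * z * (h * l)⁻¹ = h * (l * z * l⁻¹) * h⁻¹ := by group
      _ = w * t r * w⁻¹ := by rw [E.lz, h2, E.w_t hw hw1]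
      _ = w * (l * z * l⁻¹) * w⁻¹ := by rw [E.lz]
      _ = w * l * z * (w * l)⁻¹ := by group
  obtain ⟨c', hc'⟩ := E.rho_eq (mul_mem hL E.l_L) (mul_mem hwL E.l_L) e1 E.sU E.sQ
  have e2 : h * l * s * (h * l)⁻¹ = h * (l * s * l⁻¹) * h⁻¹ := by group
  have e3 : w * l * s * (w * l)⁻¹ = w * (l * s * l⁻¹) * w⁻¹ := by group
  rw [e2, e3] at hc'
  have hdQ : w * (l * s * l⁻¹) * w⁻¹ ∈ Qp r := Q_normal (E.A.U_cen E.r_Δ hw) E.eQ
  have h3 := cm_conj h v (l * s * l⁻¹)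
  rw [hc, hc', E.cm_left_r (Q_normal E.lC hvQ) (mul_mem hdQ (pw_mem E.rQ _)), E.cm_right_r (Q_normal E.lC hvQ) hdQ,
    E.cm_e hv hvQ] at h3
  exact h3

/-- **`e^w ∈ e s ⟨r⟩`** for `w ∈ U ∖ Q_r` -/
theorem conj_w {w : G} (hw : w ∈ U) (hw1 : f r w = 1) :
    ∃ c : ZMod 2, w * (l * s * l⁻¹) * w⁻¹ = l * s * l⁻¹ * s * pw r c := by
  have A := E.A
  have hwC := A.U_cen E.r_Δ hw
  obtain ⟨e, hed⟩ : ∃ e, e = l * s * l⁻¹ := ⟨_, rfl⟩
  obtain ⟨d, hdd⟩ : ∃ d, d = w * e * w⁻¹ := ⟨_, rfl⟩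
  have heQ : e ∈ Qp r := by rw [hed]; exact E.eQ
  have hdQ : d ∈ Qp r := by rw [hdd]; exact Q_normal hwC heQ
  have hww : w * w = 1 := A.U_sq w hw
  have hwi : w⁻¹ = w := A.inv_eq hw
  have hee : e * e = 1 := by rw [hed]; exact E.ee
  have hdd' : d * d = 1 := by
    rw [hdd]
    calc w * e * w⁻¹ * (w * e * w⁻¹) = w * (e * e) * w⁻¹ := by group
      _ = 1 := by rw [hee]; group
  have hwd : w * d * w⁻¹ = e := by
    rw [hdd]
    calc w * (w * e * w⁻¹) * w⁻¹ = (w * w) * e * (w * w)⁻¹ := by group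
      _ = e := by rw [hww]; group
  have hws : w * s * w⁻¹ = s := by rw [A.U_comm w hw s E.sU, mul_inv_cancel_right]
  -- the form
  have ced : cm e d = 0 := by
    have := E.cm_ld E.sU E.sQ hw hw1
    rw [A.f_self s E.sU] at this
    rw [hdd, hed]; exact this
  have cse : cm s e = 0 := by rw [hed]; exact E.cm_se
  have csd : cm s d = 0 := by
    have h1 := cm_conj w s e
    rw [hws, ← hdd, cse] at h1
    exact h1
  have hse : s * e = e * s := cm_zero cse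
  have hsd : s * d = d * s := cm_zero csd
  have hed' : e * d = d * e := cm_zero ced
  -- `g = d e s` is central in `Q_r`
  obtain ⟨g, hgd⟩ : ∃ g, g = d * e * s := ⟨_, rfl⟩
  have hgQ : g ∈ Qp r := by rw [hgd]; exact mul_mem (mul_mem hdQ heQ) E.sQ
  have hl1 : l * z * l⁻¹ ≠ z := by rw [E.lz]; exact fun h2 => E.z_ne_t h2.symm
  have hcen : ∀ x ∈ Qp r, cm x g = 0 := by
    intro x hx
    obtain ⟨u, hu, v', hv', n, hn, rfl⟩ := E.O.Q_gen l E.lC hl1 x hx
    have hnQ : n ∈ Qp r := A.N_le_Q E.r_Δ hn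
    have key : ∀ y ∈ Qp r, cm y g = cm y d + cm y e + cm y s := by
      intro y hy
      rw [hgd, A.cm_mul_right E.r_Δ hy (mul_mem hdQ heQ) E.sQ, A.cm_mul_right E.r_Δ hy hdQ heQ]
    rw [A.cm_mul_left E.r_Δ (mul_mem hu.2 hv'.2) hnQ hgQ, A.cm_mul_left E.r_Δ hu.2 hv'.2 hgQ]
    have h1 : cm u g = 0 := by
      have c1 : cm u e = f s u := by rw [hed]; exact E.cm_e hu.1 hu.2
      have c2 : cm u d = f s u := by
        have h2 := cm_conj w u e
        have h3 : w * u * w⁻¹ = u := by rw [A.U_comm w hw u hu.1, mul_inv_cancel_right]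
        rw [h3, ← hdd, c1] at h2
        exact h2
      rw [key u hu.2, c1, c2, cm_of (A.U_comm u hu.1 s E.sU), add_zero]
      exact TT _
    have h2 : cm v' g = 0 := by
      have hv₀ := mem_cj.1 hv'.1
      have hv₀Q : l⁻¹ * v' * l ∈ Qp r := by
        have := Q_normal (inv_mem E.lC) hv'.2
        rwa [inv_inv] at this
      have ev : v' = l * (l⁻¹ * v' * l) * l⁻¹ := by group
      have c1 : cm v' d = f s (l⁻¹ * v' * l) := by
        conv_lhs => rw [ev, hdd, hed]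
        exact E.cm_ld hv₀ hv₀Q hw hw1
      have c2 : cm v' s = f s (l⁻¹ * v' * l) := by
        conv_lhs => rw [ev]
        exact E.cm_ls hv₀ hv₀Q
      have c3 : cm v' e = 0 := cm_of (A.cj_comm l hv'.1 (by rw [hed]; exact conj_mem_cj E.sU))
      rw [key v' hv'.2, c1, c2, c3, add_zero]
      exact TT _
    have h4 : cm n g = 0 := cm_of (Z_comm (A.N_Z r E.r_Δ hn) hgQ)
    rw [h1, h2, h4, add_zero, add_zero]
  have hgN : g ∈ Np z r := by
    rw [← E.O.Z_N]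
    refine mem_inf.2 ⟨hgQ, ?_⟩
    rw [mem_centralizer_iff]
    exact fun x hx => cm_zero (hcen x hx)
  -- `w` centralises `g`
  have hwg : w * g * w⁻¹ = g := by
    calc w * g * w⁻¹ = (w * d * w⁻¹) * (w * e * w⁻¹) * (w * s * w⁻¹) := by rw [hgd]; group
      _ = e * d * s := by rw [hwd, ← hdd, hws]
      _ = g := by rw [hed', hgd]
  -- `a`
  obtain ⟨a, haL, ha1, ha2, ha3⟩ := E.exists_zy
  have haC := A.L_le E.r_Δ haL
  have hag : ∃ c : ZMod 2, a * g * a⁻¹ = g * pw r c := by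
    -- `a e a⁻¹ ∼ e`, `a s a⁻¹ ∼ d`, `a d a⁻¹ ∼ s`
    have hwL := A.U_le_L (r := r) hw
    have q1 : a * l * z * (a * l)⁻¹ = l * z * l⁻¹ := by
      calc a * l * z * (a * l)⁻¹ = a * (l * z * l⁻¹) * a⁻¹ := by group
        _ = l * z * l⁻¹ := by rw [E.lz, ha2]
    have q2 : a * z * a⁻¹ = w * l * z * (w * l)⁻¹ := by
      rw [ha1, ← E.w_t hw hw1, ← E.lz]; group
    have q3 : a * (w * l) * z * (a * (w * l))⁻¹ = 1 * z * 1⁻¹ := by
      calc a * (w * l) * z * (a * (w * l))⁻¹ = a * (w * (l * z * l⁻¹) * w⁻¹) * a⁻¹ := by group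
        _ = z := by rw [E.lz, E.w_t hw hw1, ha3]
        _ = 1 * z * 1⁻¹ := by group
    obtain ⟨c1, hc1⟩ := E.rho_eq (mul_mem haL E.l_L) E.l_L q1 E.sU E.sQ
    obtain ⟨c2, hc2⟩ := E.rho_eq haL (mul_mem hwL E.l_L) q2 E.sU E.sQ
    obtain ⟨c3, hc3⟩ := E.rho_eq (mul_mem haL (mul_mem hwL E.l_L)) (one_mem _) q3 E.sU E.sQ
    have r1 : a * e * a⁻¹ = e * pw r c1 := by
      rw [hed, ← hc1]; group
    have r2 : a * s * a⁻¹ = d * pw r c2 := by
      rw [hc2, hdd, hed]; group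
    have r3 : a * d * a⁻¹ = s * pw r c3 := by
      have e3 : (1 : G) * s * 1⁻¹ = s := by group
      rw [e3] at hc3
      rw [← hc3, hdd, hed]; group
    have hrr := E.rr
    refine ⟨c3 + c1 + c2, ?_⟩
    have k1 := A.pw_r_comm E.r_Δ heQ c3
    have k2 := A.pw_r_comm E.r_Δ hdQ (c3 + c1)
    calc a * g * a⁻¹ = (a * d * a⁻¹) * (a * e * a⁻¹) * (a * s * a⁻¹) := by rw [hgd]; group
      _ = s * pw r c3 * (e * pw r c1) * (d * pw r c2) := by rw [r1, r2, r3]
      _ = s * (pw r c3 * e) * pw r c1 * d * pw r c2 := by group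
      _ = s * (e * pw r c3) * pw r c1 * d * pw r c2 := by rw [k1]
      _ = s * e * (pw r c3 * pw r c1) * d * pw r c2 := by group
      _ = s * e * (pw r (c3 + c1) * d) * pw r c2 := by rw [← pw_add hrr]; group
      _ = s * e * (d * pw r (c3 + c1)) * pw r c2 := by rw [k2]
      _ = s * e * d * (pw r (c3 + c1) * pw r c2) := by group
      _ = s * e * d * pw r (c3 + c1 + c2) := by rw [← pw_add hrr]
      _ = g * pw r (c3 + c1 + c2) := by
          have : s * e * d = g := by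
            rw [hgd, hse, mul_assoc, hsd, ← mul_assoc, hed']
          rw [this]
  -- `g ∈ ⟨r⟩`
  have hg : g = 1 ∨ g = r := by
    have hzt := A.N_comm E.r_Δ (z_N z r) (A.t_N E.r_Δ)
    have hrt := A.N_comm E.r_Δ (A.p_N E.r_Δ) (A.t_N E.r_Δ)
    have hrz := A.N_comm E.r_Δ (A.p_N E.r_Δ) (z_N z r)
    have hwr : w * r * w⁻¹ = r := by rw [A.U_comm w hw r E.rU, mul_inv_cancel_right]
    have hwz : w * z * w⁻¹ = z := by rw [A.U_comm w hw z A.z_U, mul_inv_cancel_right]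
    have hrz1 : r * z ≠ 1 := A.pz_ne_one E.r_Δ
    have hwt := E.w_t hw hw1
    -- no `t_r`
    have hnt : ∀ x : G, w * x * w⁻¹ = x → g ≠ x * t r := by
      intro x hx h
      have h1 := hwg
      rw [h] at h1
      have h2 : w * (x * t r) * w⁻¹ = (w * x * w⁻¹) * (w * t r * w⁻¹) := by group
      rw [h2, hx, hwt] at h1
      have h4 := mul_left_cancel h1
      have h5 : r * z * t r = 1 * t r := by rw [one_mul]; exact h4
      exact hrz1 (mul_right_cancel h5)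
    -- no `z`
    have hnz : ∀ x : G, a * x * a⁻¹ = x → (x = 1 ∨ x = r) → g ≠ x * z := by
      intro x hx hx1 h
      obtain ⟨c, hc⟩ := hag
      rw [h] at hc
      have h2 : a * (x * z) * a⁻¹ = (a * x * a⁻¹) * (a * z * a⁻¹) := by group
      rw [h2, hx, ha1] at hc
      have h4 : r * z * t r = z * pw r c := mul_left_cancel (by rw [hc, mul_assoc])
      rcases z2 c with h5 | h5
      · rw [h5, pw_zero, mul_one] at h4
        exact A.z_ne_y E.r_Δ h4.symm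
      · rw [h5, pw_one] at h4
        have h6 : t r = 1 := by
          have : r * z * t r = r * z * 1 := by rw [h4, mul_one, hrz]
          exact mul_left_cancel this
        apply A.t_mv E.r_Δ
        intro u _
        rw [h6, one_mul, mul_one]
    have har : a * r * a⁻¹ = r := by rw [mem_Cp.1 haC, mul_inv_cancel_right]
    rcases E.O.N_mem g hgN with (h | h | h | h) | (h | h | h | h)
    · exact Or.inl h
    · exact Or.inr h
    · exact absurd (by rw [one_mul]; exact h) (hnz 1 (by group) (Or.inl rfl))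
    · exact absurd h (hnz r har (Or.inr rfl))
    · exact absurd (by rw [one_mul]; exact h) (hnt 1 (by group))
    · exact absurd h (hnt r hwr)
    · exact absurd h (hnt z hwz)
    · refine absurd h (hnt (r * z) ?_)
      calc w * (r * z) * w⁻¹ = (w * r * w⁻¹) * (w * z * w⁻¹) := by group
        _ = r * z := by rw [hwr, hwz]
  -- the conclusion
  have fin : ∀ c : ZMod 2, g = pw r c → d = e * s * pw r c := by
    intro c hc
    have h1 : d * (e * s) = pw r c := by rw [← hc, hgd]; group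
    have h2 : e * s * (e * s) = 1 := by
      calc e * s * (e * s) = e * (s * e) * s := by group
        _ = e * (e * s) * s := by rw [hse]
        _ = (e * e) * (s * s) := by group
        _ = 1 := by rw [hee, E.ss, one_mul]
    have h3 : pw r c * (e * s) = e * s * pw r c := A.pw_r_comm E.r_Δ (mul_mem heQ E.sQ) c
    calc d = d * (e * s) * (e * s) := by rw [mul_assoc, h2, mul_one]
      _ = e * s * pw r c := by rw [h1, h3]
  rw [← hed, ← hdd]
  rcases hg with h | h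
  · exact ⟨0, fin 0 (by rw [h, pw_zero])⟩
  · exact ⟨1, fin 1 (by rw [h, pw_one])⟩
where TT (a : ZMod 2) : a + a = 0 := by revert a; decide

/-! ### `e ∈ Q_s` -/

theorem rs_Δ : r * s ∈ Δ := E.A.mul0 r E.r_Δ s E.s_Δ (Ne.symm E.ne) E.rs

theorem rs_comm : r * s = s * r := E.A.U_comm r E.rU s E.sU

theorem r_rs : f r (r * s) = 0 := by rw [E.A.f_add' E.rU E.rU E.sU, E.A.f_self r E.rU, E.rs, add_zero]

theorem s_rs : f s (r * s) = 0 := by rw [E.A.f_add' E.sU E.rU E.sU, E.sr, E.A.f_self s E.sU, add_zero]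

/-- the action of `D = t_r t_s t_{rs}` on `U` -/
theorem act_D {u : G} (hu : u ∈ U) : t r * t s * t (r * s) * u * (t r * t s * t (r * s))⁻¹ =
    u * (pw r (f s u) * pw s (f r u)) := by
  have A := E.A
  have hrs := E.rs_Δ
  have hzz := A.zz
  have hrr := E.rr
  have hss := E.ss
  have hrs' := E.rs_comm
  have hrz := A.U_comm r E.rU z A.z_U
  have hsz := A.U_comm s E.sU z A.z_U
  have hrszU : r * s * z ∈ U := A.pz_U hrs
  have e1 : t (r * s) * u * (t (r * s))⁻¹ = u * pw (r * s * z) (f r u + f s u) := by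
    rw [A.t_act hrs hu, A.f_add r E.rU s E.sU u hu]
  have hu1 : u * pw (r * s * z) (f r u + f s u) ∈ U := mul_mem hu (pw_mem hrszU _)
  have hx0 : ∀ x ∈ U, f x (r * s * z) = f x r + f x s := fun x hx => by
    rw [A.f_add' hx (mul_mem E.rU E.sU) A.z_U, A.f_z' hx, add_zero, A.f_add' hx E.rU E.sU]
  have hpw : ∀ x ∈ U, f x (r * s * z) = 0 → ∀ c : ZMod 2, f x (u * pw (r * s * z) c) = f x u := by
    intro x hx h c
    rw [A.f_add' hx hu (pw_mem hrszU c)]
    rcases z2 c with h1 | h1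
    · rw [h1, pw_zero, A.f_one hx, add_zero]
    · rw [h1, pw_one, h, add_zero]
  have e2 : t s * (u * pw (r * s * z) (f r u + f s u)) * (t s)⁻¹ =
      u * pw (r * s * z) (f r u + f s u) * pw (s * z) (f s u) := by
    rw [A.t_act E.s_Δ hu1, hpw s E.sU (by rw [hx0 s E.sU, E.sr, A.f_self s E.sU, add_zero])]
  have hu2 : u * pw (r * s * z) (f r u + f s u) * pw (s * z) (f s u) ∈ U := mul_mem hu1 (pw_mem (A.pz_U E.s_Δ) _)
  have e3 : f r (u * pw (r * s * z) (f r u + f s u) * pw (s * z) (f s u)) = f r u := by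
    rw [A.f_add' E.rU hu1 (pw_mem (A.pz_U E.s_Δ) _),
      hpw r E.rU (by rw [hx0 r E.rU, E.rs, A.f_self r E.rU, add_zero])]
    have : f r (pw (s * z) (f s u)) = 0 := by
      rcases z2 (f s u) with h1 | h1
      · rw [h1, pw_zero, A.f_one E.rU]
      · rw [h1, pw_one, A.f_add' E.rU E.sU A.z_U, E.rs, A.f_z' E.rU, add_zero]
    rw [this, add_zero]
  have e4 : t r * (u * pw (r * s * z) (f r u + f s u) * pw (s * z) (f s u)) * (t r)⁻¹ =
      u * pw (r * s * z) (f r u + f s u) * pw (s * z) (f s u) * pw (r * z) (f r u) := by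
    rw [A.t_act E.r_Δ hu2, e3]
  calc t r * t s * t (r * s) * u * (t r * t s * t (r * s))⁻¹
      = t r * (t s * (t (r * s) * u * (t (r * s))⁻¹) * (t s)⁻¹) * (t r)⁻¹ := by group
    _ = u * pw (r * s * z) (f r u + f s u) * pw (s * z) (f s u) * pw (r * z) (f r u) := by rw [e1, e2, e4]
    _ = u * (pw r (f s u) * pw s (f r u)) := by
      rcases z2 (f r u) with h | h <;> rcases z2 (f s u) with h' | h' <;> rw [h, h']
      · rw [add_zero]; simp only [pw_zero, mul_one]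
      · rw [zero_add]; simp only [pw_zero, pw_one, mul_one]
        have : r * s * z * (s * z) = r := by
          calc r * s * z * (s * z) = r * (s * z) * (s * z) := by group
            _ = r * s * (z * s) * z := by group
            _ = r * s * (s * z) * z := by rw [← hsz]
            _ = r * (s * s) * (z * z) := by group
            _ = r := by rw [hss, hzz, mul_one, mul_one]
        rw [mul_assoc u, this]
      · rw [add_zero]; simp only [pw_zero, pw_one, mul_one, one_mul]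
        have : r * s * z * (r * z) = s := by
          calc r * s * z * (r * z) = r * s * (z * r) * z := by group
            _ = r * s * (r * z) * z := by rw [← hrz]
            _ = s * r * (r * z) * z := by rw [hrs']
            _ = s * (r * r) * (z * z) := by group
            _ = s := by rw [hrr, hzz, mul_one, mul_one]
        rw [mul_assoc u, this]
      · have e0 : (1 : ZMod 2) + 1 = 0 := by decide
        rw [e0]; simp only [pw_zero, pw_one, mul_one]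
        have : s * z * (r * z) = r * s := by
          calc s * z * (r * z) = s * (z * r) * z := by group
            _ = s * (r * z) * z := by rw [← hrz]
            _ = s * r * (z * z) := by group
            _ = r * s := by rw [hzz, mul_one, hrs']
        rw [mul_assoc u, this]

theorem D_M : t r * t s * t (r * s) ∈ M :=
  mul_mem (mul_mem (E.A.t_M E.r_Δ) (E.A.t_M E.s_Δ)) (E.A.t_M E.rs_Δ)

/-- the action of `e` on `U` -/
theorem act_e {u : G} (hu : u ∈ U) : l * s * l⁻¹ * u * (l * s * l⁻¹)⁻¹ = u * (pw r (f s u) * pw s (f r u)) := by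
  have A := E.A
  obtain ⟨e, hed⟩ : ∃ e, e = l * s * l⁻¹ := ⟨_, rfl⟩
  have heQ : e ∈ Qp r := by rw [hed]; exact E.eQ
  have hee : e⁻¹ = e := by rw [hed]; exact E.e_inv
  have heM : e ∈ M := A.Q_M E.r_Δ heQ
  rw [← hed]
  -- `f r u = 0`
  have h0 : ∀ u ∈ U, f r u = 0 → e * u * e⁻¹ = u * (pw r (f s u) * pw s (f r u)) := by
    intro u hu h
    have huQ : u ∈ Qp r := (A.Q_f r E.r_Δ u hu).2 h
    have h1 : cm e u = f s u := by rw [A.cm_symm E.r_Δ, hed]; exact E.cm_e hu huQ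
    rw [h, pw_zero, mul_one, ← h1]
    exact E.conjQ heQ huQ
  -- `w ∈ Δ`, `f r w = 1`
  obtain ⟨w, hw, hw1⟩ := A.exists_q1 E.r_Δ
  have hwU := A.Δ_U w hw
  have hww : w⁻¹ = w := A.inv_eq hwU
  obtain ⟨c, hc⟩ := E.conj_w hwU hw1
  rw [← hed] at hc
  have hse : s * e = e * s := by rw [hed]; exact E.s_e
  -- `e w e⁻¹ = w s r^c`
  have h1 : e * w * e⁻¹ = w * (pw r c * pw s 1) := by
    have h2 : w * e = e * s * pw r c * w := by rw [← hc]; group
    have h3 : pw r c * w = w * pw r c := A.U_comm _ (pw_mem E.rU c) w hwU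
    have h4 : s * w = w * s := A.U_comm s E.sU w hwU
    have h5 : s * pw r c = pw r c * s := A.U_comm s E.sU _ (pw_mem E.rU c)
    have hee' : e * e = 1 := by rw [hed]; exact E.ee
    rw [pw_one]
    calc e * w * e⁻¹ = e * (w * e) := by rw [hee, mul_assoc]
      _ = e * (e * s * pw r c * w) := by rw [h2]
      _ = (e * e) * s * (pw r c * w) := by group
      _ = s * (w * pw r c) := by rw [hee', one_mul, h3]
      _ = (s * w) * pw r c := by group
      _ = w * (s * pw r c) := by rw [h4, mul_assoc]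
      _ = w * (pw r c * s) := by rw [h5]
  have hcs : c = f s w := by
    have h2 : e * w * e⁻¹ ∈ Δ := A.Δ_M e heM w hw
    have h3 := A.Δ_M _ E.D_M w hw
    rw [E.act_D hwU, hw1] at h3
    rw [h1] at h2
    by_contra hne
    -- `x = w r^b s`, `x r` both in `Δ`
    have hcc : c = f s w + 1 := by
      have : ∀ a b : ZMod 2, a ≠ b → a = b + 1 := by decide
      exact this _ _ hne
    obtain ⟨x, hxd⟩ : ∃ x, x = w * (pw r (f s w) * pw s 1) := ⟨_, rfl⟩
    rw [← hxd] at h3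
    have hxU := A.Δ_U x h3
    have h4 : w * (pw r c * pw s 1) = x * r := by
      rw [hxd, hcc, pw_add E.rr, pw_one r]
      have h5 : r * pw s 1 = pw s 1 * r := A.U_comm r E.rU _ (pw_mem E.sU 1)
      calc w * (pw r (f s w) * r * pw s 1) = w * (pw r (f s w) * (r * pw s 1)) := by group
        _ = w * (pw r (f s w) * (pw s 1 * r)) := by rw [h5]
        _ = w * (pw r (f s w) * pw s 1) * r := by group
    rw [h4] at h2
    have h5 : f r x = 1 := by
      rw [hxd, A.f_add' E.rU hwU (mul_mem (pw_mem E.rU _) (pw_mem E.sU _)),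
        A.f_add' E.rU (pw_mem E.rU _) (pw_mem E.sU _), hw1]
      have h6 : f r (pw r (f s w)) = 0 := by
        rcases z2 (f s w) with h7 | h7
        · rw [h7, pw_zero, A.f_one E.rU]
        · rw [h7, pw_one, A.f_self r E.rU]
      rw [h6, pw_one, E.rs, add_zero, add_zero]
    have h6 := A.mul1 r E.r_Δ x h3 h5
    have h7 : r * x = x * r := A.U_comm r E.rU x hxU
    rw [h7] at h6
    exact A.inj _ h2 h6
  -- all `u`
  rcases z2 (f r u) with h | h
  · exact h0 u hu h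
  · have huw : f r (u * w) = 0 := by rw [A.f_add' E.rU hu hwU, h, hw1]; decide
    have h2 := h0 _ (mul_mem hu hwU) huw
    have hwe : e * w * e⁻¹ = w * (pw r (f s w) * pw s 1) := by rw [← hcs]; exact h1
    have h3 : e * u * e⁻¹ = (e * (u * w) * e⁻¹) * (e * w * e⁻¹) := by
      calc e * u * e⁻¹ = e * (u * w) * (w⁻¹ * e⁻¹) := by group
        _ = e * (u * w) * (w * e⁻¹) := by rw [hww]
        _ = _ := by group
    rw [h3, h2, hwe, huw, h, pw_zero, mul_one, A.f_add' E.sU hu hwU, pw_add E.rr]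
    have k1 : pw r (f s u) * pw r (f s w) ∈ U := mul_mem (pw_mem E.rU _) (pw_mem E.rU _)
    have k2 := A.U_comm w hwU _ k1
    have k3 := pw_sq E.rr (f s w)
    have k4 := A.U_sq w hwU
    calc u * w * (pw r (f s u) * pw r (f s w)) * (w * (pw r (f s w) * pw s 1))
        = u * (w * (pw r (f s u) * pw r (f s w))) * w * (pw r (f s w) * pw s 1) := by group
      _ = u * (pw r (f s u) * pw r (f s w) * w) * w * (pw r (f s w) * pw s 1) := by rw [k2]
      _ = u * pw r (f s u) * pw r (f s w) * (w * w) * pw r (f s w) * pw s 1 := by group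
      _ = u * pw r (f s u) * (pw r (f s w) * pw r (f s w)) * pw s 1 := by rw [k4]; group
      _ = u * (pw r (f s u) * pw s 1) := by rw [k3]; group

/-- **`e ∈ Q_s`** -/
theorem e_Qs : l * s * l⁻¹ ∈ Qp s := by
  have A := E.A
  obtain ⟨e, hed⟩ : ∃ e, e = l * s * l⁻¹ := ⟨_, rfl⟩
  obtain ⟨D, hD⟩ : ∃ D, D = t r * t s * t (r * s) := ⟨_, rfl⟩
  have heQ : e ∈ Qp r := by rw [hed]; exact E.eQ
  have heM : e ∈ M := A.Q_M E.r_Δ heQ
  have hee : e * e = 1 := by rw [hed]; exact E.ee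
  have hDM : D ∈ M := by rw [hD]; exact E.D_M
  have hactD : ∀ u ∈ U, D * u * D⁻¹ = u * (pw r (f s u) * pw s (f r u)) := fun u hu => by rw [hD]; exact E.act_D hu
  have hacte : ∀ u ∈ U, e * u * e⁻¹ = u * (pw r (f s u) * pw s (f r u)) := fun u hu => by rw [hed]; exact E.act_e hu
  -- `D⁻¹ e ∈ U`
  have h1 : D⁻¹ * e ∈ U := by
    refine E.O.C_U _ (mul_mem (inv_mem hDM) heM) fun u hu => ?_
    have h2 : e * u * e⁻¹ = D * u * D⁻¹ := by rw [hactD u hu, hacte u hu]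
    calc D⁻¹ * e * u = D⁻¹ * (e * u * e⁻¹) * e := by group
      _ = D⁻¹ * (D * u * D⁻¹) * e := by rw [h2]
      _ = u * (D⁻¹ * e) := by group
  obtain ⟨u, hu⟩ : ∃ u, u = D⁻¹ * e := ⟨_, rfl⟩
  rw [← hu] at h1
  have heD : e = D * u := by rw [hu]; group
  -- `D² = 1`
  have hrs := E.rs_Δ
  have c1 : t r * t s = t s * t r :=
    (mem_centralizer_iff.1 (A.t_K E.h3 E.r_Δ E.s_Δ E.rs)) _ (A.t_N E.r_Δ)
  have c2 : t r * t (r * s) = t (r * s) * t r :=
    (mem_centralizer_iff.1 (A.t_K E.h3 E.r_Δ hrs E.r_rs)) _ (A.t_N E.r_Δ)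
  have c3 : t s * t (r * s) = t (r * s) * t s :=
    (mem_centralizer_iff.1 (A.t_K E.h3 E.s_Δ hrs E.s_rs)) _ (A.t_N E.s_Δ)
  have s1 := A.N_sq r E.r_Δ _ (A.t_N E.r_Δ)
  have s2 := A.N_sq s E.s_Δ _ (A.t_N E.s_Δ)
  have s3 := A.N_sq _ hrs _ (A.t_N hrs)
  have hDD : D * D = 1 := by
    have C1 : Commute (t r) (t s) := c1
    have C2 : Commute (t r) (t (r * s)) := c2
    have C3 : Commute (t s) (t (r * s)) := c3
    have K1 : Commute (t (r * s)) (t r * t s) := (C2.symm).mul_right C3.symm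
    calc D * D = t r * t s * (t (r * s) * (t r * t s)) * t (r * s) := by rw [hD]; group
      _ = t r * t s * (t r * t s * t (r * s)) * t (r * s) := by rw [K1.eq]
      _ = t r * (t s * t r) * t s * (t (r * s) * t (r * s)) := by group
      _ = t r * (t r * t s) * t s * (t (r * s) * t (r * s)) := by rw [← c1]
      _ = (t r * t r) * (t s * t s) * (t (r * s) * t (r * s)) := by group
      _ = 1 := by rw [s1, s2, s3, one_mul, one_mul]
  -- `f s u = 0`
  have hfu : f s u = 0 := by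
    have h2 : u * (pw r (f s u) * pw s (f r u)) * u = 1 := by
      have hDi : D⁻¹ = D := inv_eq_of_mul_eq_one_left hDD
      rw [← hactD u h1, hDi]
      have : D * u * (D * u) = 1 := by rw [← heD]; exact hee
      calc D * u * D * u = D * u * (D * u) := by group
        _ = 1 := this
    have hx : pw r (f s u) * pw s (f r u) ∈ U := mul_mem (pw_mem E.rU _) (pw_mem E.sU _)
    have h4 : pw r (f s u) * pw s (f r u) = 1 := by
      have h5 := A.U_comm u h1 _ hx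
      rw [h5, mul_assoc, A.U_sq u h1, mul_one] at h2
      exact h2
    rcases z2 (f s u) with h5 | h5
    · exact h5
    · exfalso
      rw [h5, pw_one] at h4
      rcases z2 (f r u) with h6 | h6
      · rw [h6, pw_zero, mul_one] at h4
        exact E.r_ne h4
      · rw [h6, pw_one] at h4
        apply E.ne
        rw [← A.inv_eq E.sU]
        exact (mul_eq_one_iff_eq_inv.1 h4).symm
  have huQ : u ∈ Qp s := (A.Q_f s E.s_Δ u h1).2 hfu
  -- `t_r t_{rs} ∈ Q_s`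
  have h2 : t r * t (r * s) ∈ Qp s := by
    obtain ⟨g, hg, hgr⟩ := A.Q_mv s E.s_Δ r E.r_Δ E.ne E.sr
    have hgz : g * z * g⁻¹ = z := A.conj_z (A.Q_M E.s_Δ hg)
    obtain ⟨h, hh, hth⟩ := A.t_ZZ r E.r_Δ
    have htrs : t r ∈ Cp s := mem_Cp.2 (A.t_0 r E.r_Δ s E.sU E.rs)
    have hgh : g * h * g⁻¹ ∈ Cp (r * s) := by
      rw [← hgr, ← cj_Cp]
      exact conj_mem_cj hh
    have hgt : g * t r * g⁻¹ = (g * h * g⁻¹) * z * (g * h * g⁻¹)⁻¹ := by
      calc g * t r * g⁻¹ = g * (h * z * h⁻¹) * g⁻¹ := by rw [← hth]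
        _ = (g * h * g⁻¹) * (g * z * g⁻¹) * (g * h * g⁻¹)⁻¹ := by group
        _ = _ := by rw [hgz]
    have hcomm : t r * (g * t r * g⁻¹)⁻¹ ∈ Qp s := by
      have h4 : t r * g * (t r)⁻¹ ∈ Qp s := Q_normal htrs hg
      have e4 : t r * (g * t r * g⁻¹)⁻¹ = t r * g * (t r)⁻¹ * g⁻¹ := by group
      rw [e4]
      exact mul_mem h4 (inv_mem hg)
    have hinv : (t (r * s))⁻¹ = t (r * s) := A.t_inv hrs
    rcases E.h3 _ hrs _ hgh with h4 | h4 | h4
    · exfalso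
      rw [h4] at hgt
      have h5 : t r = z := by
        have h6 : g * t r * g⁻¹ = g * z * g⁻¹ := by rw [hgt, hgz]
        exact mul_left_cancel (mul_right_cancel h6)
      exact E.z_ne_t h5.symm
    · rw [hgt, h4, hinv] at hcomm
      exact hcomm
    · rw [hgt, h4, mul_inv_rev, hinv, ← mul_assoc] at hcomm
      have h5 : r * s * z ∈ Qp s := by
        rw [A.Q_f s E.s_Δ _ (A.pz_U hrs), A.f_add' E.sU (mul_mem E.rU E.sU) A.z_U, E.s_rs, A.f_z' E.sU, add_zero]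
      have h6 := mul_mem hcomm h5
      rwa [inv_mul_cancel_right] at h6
  rw [← hed, heD, hD]
  refine mul_mem ?_ huQ
  have e5 : t r * t s * t (r * s) = t s * (t r * t (r * s)) := by
    rw [c1, mul_assoc]
  rw [e5]
  exact mul_mem (A.N_le_Q E.s_Δ (A.t_N E.s_Δ)) h2

end ED

end Cfsg.Agent.Omega.HTwo.Seven

end

section


/-!
# II.0h1, `q = 2`, (7) of #15507: the residue `(0, 1)`

`R* = ⟨r, s, e⟩ = 2³`, `V = ⟨r, s⟩`, `H = ⟨L, Q_s, S⟩ ≤ N(R*)`.

* `ED.Rs`, `ED.Vs` : the subgroups `R*`, `V`; `ED.card_Rs`;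
* `structure ES` : the situation with the Sylow group `S`;
* `ES.stab` : the stabiliser of `r`, `V` in `H` is `S`; `ES.stab_r`, `ES.stab_V`;
* `ES.rk` : the residue `(L S, Q_s S)` is the projective plane of `R*`.
-/

set_option autoImplicit false
set_option linter.unusedSectionVars false

namespace Cfsg.Agent.Omega.HTwo.Seven

open Subgroup Cfsg.Agent.Omega.BTwo Cfsg.Agent.Omega.HTwo.Eight

variable {G : Type*} [Group G] {z : G} {M U : Subgroup G} {Δ : Set G} {f : G → G → ZMod 2} {t : G → G}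

theorem norm_of {A B : Subgroup G} (h : ∀ a ∈ A, ∀ b ∈ B, a * b * a⁻¹ ∈ B) : A ≤ normalizer (B : Set G) := by
  intro a ha
  rw [mem_normalizer_iff]
  refine fun b => ⟨h a ha b, fun hb => ?_⟩
  have h1 := h a⁻¹ (A.inv_mem ha) _ hb
  have e : a⁻¹ * (a * b * a⁻¹) * a⁻¹⁻¹ = b := by group
  rwa [e] at h1

theorem conj_norm {B : Subgroup G} {g x : G} (hg : g ∈ normalizer (B : Set G)) (hx : x ∈ B) : g * x * g⁻¹ ∈ B :=
  (mem_normalizer_iff.1 hg x).1 hx

namespace ED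

variable {r s l : G} (E : ED z M U Δ f t r s l)

/-- the elements of `R*` -/
def el (r s l : G) (a b c : ZMod 2) : G := pw r a * pw s b * pw (l * s * l⁻¹) c

include E

theorem el_mul (a b c a' b' c' : ZMod 2) : el r s l a b c * el r s l a' b' c' = el r s l (a + a') (b + b') (c + c') := by
  unfold el
  have hrs : ∀ a b, pw r a * pw s b = pw s b * pw r a := fun a b => E.A.U_comm _ (pw_mem E.rU a) _ (pw_mem E.sU b)
  have hc : ∀ x, (∀ c, pw (l * s * l⁻¹) c * x = x * pw (l * s * l⁻¹) c) ↔ l * s * l⁻¹ * x = x * (l * s * l⁻¹) := by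
    intro x
    constructor
    · intro h
      have := h 1
      rwa [pw_one] at this
    · intro h c
      rcases z2 c with h1 | h1
      · rw [h1, pw_zero, one_mul, mul_one]
      · rw [h1, pw_one, h]
  have her : ∀ c a, pw (l * s * l⁻¹) c * pw r a = pw r a * pw (l * s * l⁻¹) c := by
    intro c a
    refine (hc _).2 ?_ c
    rcases z2 a with h1 | h1
    · rw [h1, pw_zero, one_mul, mul_one]
    · rw [h1, pw_one, E.r_e]
  have hes : ∀ c a, pw (l * s * l⁻¹) c * pw s a = pw s a * pw (l * s * l⁻¹) c := by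
    intro c a
    refine (hc _).2 ?_ c
    rcases z2 a with h1 | h1
    · rw [h1, pw_zero, one_mul, mul_one]
    · rw [h1, pw_one, E.s_e]
  rw [pw_add E.rr, pw_add E.ss, pw_add E.ee]
  calc pw r a * pw s b * pw (l * s * l⁻¹) c * (pw r a' * pw s b' * pw (l * s * l⁻¹) c')
      = pw r a * pw s b * (pw (l * s * l⁻¹) c * pw r a') * pw s b' * pw (l * s * l⁻¹) c' := by group
    _ = pw r a * pw s b * (pw r a' * pw (l * s * l⁻¹) c) * pw s b' * pw (l * s * l⁻¹) c' := by rw [her]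
    _ = pw r a * (pw s b * pw r a') * (pw (l * s * l⁻¹) c * pw s b') * pw (l * s * l⁻¹) c' := by group
    _ = pw r a * (pw r a' * pw s b) * (pw s b' * pw (l * s * l⁻¹) c) * pw (l * s * l⁻¹) c' := by rw [← hrs, hes]
    _ = _ := by group

theorem el_zero : el r s l 0 0 0 = 1 := by
  have _ := E
  unfold el
  rw [pw_zero, pw_zero, pw_zero, one_mul, one_mul]

theorem el_sq (a b c : ZMod 2) : el r s l a b c * el r s l a b c = 1 := by
  have h : ∀ x : ZMod 2, x + x = 0 := by decide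
  rw [E.el_mul, h, h, h, E.el_zero]

theorem e_notU : l * s * l⁻¹ ∉ U := fun h => by
  apply E.e_not h E.eQ
  rw [E.ee]
  exact one_mem _

theorem el_eq_one {a b c : ZMod 2} (h : el r s l a b c = 1) : a = 0 ∧ b = 0 ∧ c = 0 := by
  unfold el at h
  have hc : c = 0 := by
    rcases z2 c with h1 | h1
    · exact h1
    · exfalso
      rw [h1, pw_one] at h
      apply E.e_notU
      have e : l * s * l⁻¹ = (pw r a * pw s b)⁻¹ := eq_inv_of_mul_eq_one_right h
      rw [e]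
      exact inv_mem (mul_mem (pw_mem E.rU a) (pw_mem E.sU b))
  rw [hc, pw_zero, mul_one] at h
  rcases z2 a with h1 | h1 <;> rcases z2 b with h2 | h2 <;> rw [h1, h2] at h ⊢
  · exact ⟨rfl, rfl, hc⟩
  · rw [pw_zero, pw_one, one_mul] at h
    exact absurd h E.s_ne
  · rw [pw_zero, pw_one, mul_one] at h
    exact absurd h E.r_ne
  · rw [pw_one, pw_one] at h
    exfalso
    apply E.ne
    rw [← E.A.inv_eq E.sU]
    exact (mul_eq_one_iff_eq_inv.1 h).symm

theorem el_inj {a b c a' b' c' : ZMod 2} (h : el r s l a b c = el r s l a' b' c') : a = a' ∧ b = b' ∧ c = c' := by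
  have h1 : el r s l (a + a') (b + b') (c + c') = 1 := by
    rw [← E.el_mul, h, E.el_sq]
  obtain ⟨h2, h3, h4⟩ := E.el_eq_one h1
  have key : ∀ x y : ZMod 2, x + y = 0 → x = y := by decide
  exact ⟨key _ _ h2, key _ _ h3, key _ _ h4⟩

/-- `R* = ⟨r, s, e⟩` -/
def Rs : Subgroup G where
  carrier := {x | ∃ a b c, x = el r s l a b c}
  one_mem' := ⟨0, 0, 0, E.el_zero.symm⟩
  mul_mem' := by
    rintro _ _ ⟨a, b, c, rfl⟩ ⟨a', b', c', rfl⟩
    exact ⟨_, _, _, E.el_mul a b c a' b' c'⟩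
  inv_mem' := by
    rintro _ ⟨a, b, c, rfl⟩
    exact ⟨a, b, c, inv_eq_of_mul_eq_one_left (E.el_sq a b c)⟩

theorem mem_Rs {x : G} : x ∈ E.Rs ↔ ∃ a b c, x = el r s l a b c := Iff.rfl

theorem r_Rs : r ∈ E.Rs := ⟨1, 0, 0, by unfold el; rw [pw_one, pw_zero, pw_zero, mul_one, mul_one]⟩

theorem s_Rs : s ∈ E.Rs := ⟨0, 1, 0, by unfold el; rw [pw_one, pw_zero, pw_zero, mul_one, one_mul]⟩

theorem e_Rs : l * s * l⁻¹ ∈ E.Rs := ⟨0, 0, 1, by unfold el; rw [pw_one, pw_zero, pw_zero, one_mul, one_mul]⟩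

theorem Rs_comm {x y : G} (hx : x ∈ E.Rs) (hy : y ∈ E.Rs) : x * y = y * x := by
  obtain ⟨a, b, c, rfl⟩ := hx
  obtain ⟨a', b', c', rfl⟩ := hy
  rw [E.el_mul, E.el_mul, add_comm a, add_comm b, add_comm c]

theorem Rs_sq {x : G} (hx : x ∈ E.Rs) : x * x = 1 := by
  obtain ⟨a, b, c, rfl⟩ := hx
  exact E.el_sq a b c

theorem card_Rs : Nat.card E.Rs = 8 := by
  have e : (ZMod 2 × ZMod 2 × ZMod 2) ≃ E.Rs :=
    Equiv.ofBijective (fun x => ⟨el r s l x.1 x.2.1 x.2.2, x.1, x.2.1, x.2.2, rfl⟩) (by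
      constructor
      · rintro ⟨a, b, c⟩ ⟨a', b', c'⟩ h
        obtain ⟨h1, h2, h3⟩ := E.el_inj (congrArg Subtype.val h)
        simp only at h1 h2 h3
        rw [h1, h2, h3]
      · rintro ⟨_, a, b, c, rfl⟩
        exact ⟨(a, b, c), rfl⟩)
  rw [← Nat.card_congr e, Nat.card_prod, Nat.card_prod, Nat.card_zmod]

theorem conj_Rs {g : G} (h1 : g * r * g⁻¹ ∈ E.Rs) (h2 : g * s * g⁻¹ ∈ E.Rs) (h3 : g * (l * s * l⁻¹) * g⁻¹ ∈ E.Rs)
    {x : G} (hx : x ∈ E.Rs) : g * x * g⁻¹ ∈ E.Rs := by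
  obtain ⟨a, b, c, rfl⟩ := hx
  have e : g * el r s l a b c * g⁻¹ = pw (g * r * g⁻¹) a * pw (g * s * g⁻¹) b * pw (g * (l * s * l⁻¹) * g⁻¹) c := by
    unfold el
    rw [← conj_pw g r a, ← conj_pw g s b, ← conj_pw g (l * s * l⁻¹) c]
    group
  rw [e]
  exact mul_mem (mul_mem (pw_mem h1 a) (pw_mem h2 b)) (pw_mem h3 c)

theorem Rs_le_Qs : E.Rs ≤ Qp s := by
  rintro _ ⟨a, b, c, rfl⟩
  exact mul_mem (mul_mem (pw_mem ((E.A.Q_f s E.s_Δ r E.rU).2 E.sr) a)
    (pw_mem ((E.A.Q_f s E.s_Δ s E.sU).2 (E.A.f_self s E.sU)) b)) (pw_mem E.e_Qs c)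

/-! ### the normaliser of `R*` -/

/-- an element of `L` moves `s` into `s ⟨r⟩`, `e ⟨r⟩`, `e s ⟨r⟩` -/
theorem L_s {g : G} (hg : g ∈ Lp U r) : g * s * g⁻¹ ∈ E.Rs := by
  have hgC := E.A.L_le E.r_Δ hg
  rcases E.h3 r E.r_Δ g hgC with h | h | h
  · obtain ⟨c, hc⟩ := E.rho_eq hg (one_mem _) (by rw [h]; group) E.sU E.sQ
    rw [hc]
    have e3 : (1 : G) * s * 1⁻¹ = s := by group
    rw [e3]
    exact mul_mem E.s_Rs (pw_mem E.r_Rs c)
  · obtain ⟨c, hc⟩ := E.rho_eq hg E.l_L (by rw [h, E.lz]) E.sU E.sQ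
    rw [hc]
    exact mul_mem E.e_Rs (pw_mem E.r_Rs c)
  · obtain ⟨w, hw, hw1⟩ := E.A.exists_f1 E.r_Δ
    have hwL := E.A.U_le_L (r := r) hw
    have e1 : g * z * g⁻¹ = w * l * z * (w * l)⁻¹ := by
      rw [h, ← E.w_t hw hw1, ← E.lz]; group
    obtain ⟨c, hc⟩ := E.rho_eq hg (mul_mem hwL E.l_L) e1 E.sU E.sQ
    obtain ⟨c', hc'⟩ := E.conj_w hw hw1
    have e2 : w * l * s * (w * l)⁻¹ = w * (l * s * l⁻¹) * w⁻¹ := by group
    rw [hc, e2, hc']
    exact mul_mem (mul_mem (mul_mem E.e_Rs E.s_Rs) (pw_mem E.r_Rs c')) (pw_mem E.r_Rs c)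

theorem L_norm_Rs : Lp U r ≤ normalizer (E.Rs : Set G) := by
  refine norm_of fun g hg x hx => E.conj_Rs ?_ (E.L_s hg) ?_ hx
  · rw [mem_Cp.1 (E.A.L_le E.r_Δ hg), mul_inv_cancel_right]
    exact E.r_Rs
  · have e : g * (l * s * l⁻¹) * g⁻¹ = g * l * s * (g * l)⁻¹ := by group
    rw [e]
    exact E.L_s (mul_mem hg E.l_L)

theorem Qs_norm_Rs : Qp s ≤ normalizer (E.Rs : Set G) := by
  refine norm_of fun q hq x hx => ?_
  rcases E.A.Q_comm s E.s_Δ q hq x (E.Rs_le_Qs hx) with h | h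
  · rw [h, mul_inv_cancel_right]
    exact hx
  · rw [h]
    have e : s * (x * q) * q⁻¹ = s * x := by group
    rw [e]
    exact mul_mem E.s_Rs hx

/-- `C(R*) ≤ K_r` -/
theorem cen_K {x : G} (hx : x ∈ centralizer (E.Rs : Set G)) : x ∈ Kp z r := by
  have h : ∀ y ∈ E.Rs, x * y = y * x := fun y hy => (mem_centralizer_iff.1 hx y hy).symm
  have hr := h r E.r_Rs
  have hxC : x ∈ Cp r := mem_Cp.2 hr
  refine (E.A.mem_K E.h3 E.r_Δ).2 ⟨hr, E.cen_z hxC (h s E.s_Rs), ?_⟩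
  have h1 : l⁻¹ * x * l ∈ Cp r := by
    have := mul_mem (mul_mem (inv_mem E.lC) hxC) E.lC
    exact this
  have h2 : l⁻¹ * x * l * s = s * (l⁻¹ * x * l) := by
    have h3 := h _ E.e_Rs
    calc l⁻¹ * x * l * s = l⁻¹ * (x * (l * s * l⁻¹)) * l := by group
      _ = l⁻¹ * (l * s * l⁻¹ * x) * l := by rw [h3]
      _ = s * (l⁻¹ * x * l) := by group
  have h3 := E.cen_z h1 h2
  rw [← E.lz]
  calc x * (l * z * l⁻¹) = l * (l⁻¹ * x * l * z) * l⁻¹ := by group
    _ = l * (z * (l⁻¹ * x * l)) * l⁻¹ := by rw [h3]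
    _ = l * z * l⁻¹ * x := by group

/-- `V = ⟨r, s⟩` -/
def Vs : Subgroup G := four r s E.rr E.ss E.rs_comm

theorem mem_Vs {x : G} : x ∈ E.Vs ↔ x = 1 ∨ x = r ∨ x = s ∨ x = r * s := Iff.rfl

theorem Vs_le : E.Vs ≤ E.Rs := by
  intro x hx
  rcases E.mem_Vs.1 hx with rfl | rfl | rfl | rfl
  · exact one_mem _
  · exact E.r_Rs
  · exact E.s_Rs
  · exact mul_mem E.r_Rs E.s_Rs

theorem Vs_le_U : E.Vs ≤ U := by
  intro x hx
  rcases E.mem_Vs.1 hx with rfl | rfl | rfl | rfl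
  · exact one_mem _
  · exact E.rU
  · exact E.sU
  · exact mul_mem E.rU E.sU

/-- **the adjustment** -/
theorem adjust {x : G} (hx : x ∈ normalizer (E.Rs : Set G)) (hr : x * r = r * x)
    (hs : x * s * x⁻¹ = s ∨ x * s * x⁻¹ = s * r) : ∃ y ∈ Qp r ⊔ U, y * x ∈ centralizer (E.Rs : Set G) := by
  have A := E.A
  -- reduce to `e^x ∈ e V`, then `e^x ∈ e ⟨r⟩`
  have hQ : Qp r ≤ Qp r ⊔ U := le_sup_left
  have hU : U ≤ Qp r ⊔ U := le_sup_right
  have hsU := E.sU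
  have hxr : x * r * x⁻¹ = r := by rw [hr, mul_inv_cancel_right]
  have hsr : ∀ k : ZMod 2, s * pw r k = pw r k * s := fun k => A.U_comm s hsU _ (pw_mem E.rU k)
  have hpr : ∀ g : G, g * r * g⁻¹ = r → ∀ k, g * pw r k * g⁻¹ = pw r k := fun g hg k => by rw [conj_pw, hg]
  obtain ⟨d, hd⟩ : ∃ d : ZMod 2, x * s * x⁻¹ = s * pw r d := by
    rcases hs with h | h
    · exact ⟨0, by rw [pw_zero, mul_one, h]⟩
    · exact ⟨1, by rw [pw_one, h]⟩
  obtain ⟨a, b, c, he⟩ := E.mem_Rs.1 (conj_norm hx E.e_Rs)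
  have hc : c = 1 := by
    rcases z2 c with h | h
    · exfalso
      have h1 : x * (l * s * l⁻¹) * x⁻¹ ∈ E.Vs := by
        rw [he, h]
        unfold el
        rw [pw_zero, mul_one]
        exact mul_mem (pw_mem (E.mem_Vs.2 (Or.inr (Or.inl rfl))) a)
          (pw_mem (E.mem_Vs.2 (Or.inr (Or.inr (Or.inl rfl)))) b)
      -- `x` normalises `V`
      have h2 : ∀ y ∈ E.Vs, x * y * x⁻¹ ∈ E.Vs := by
        intro y hy
        have rV : r ∈ E.Vs := E.mem_Vs.2 (Or.inr (Or.inl rfl))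
        have sV : s ∈ E.Vs := E.mem_Vs.2 (Or.inr (Or.inr (Or.inl rfl)))
        have h3 : x * s * x⁻¹ ∈ E.Vs := by rw [hd]; exact mul_mem sV (pw_mem rV d)
        rcases E.mem_Vs.1 hy with rfl | rfl | rfl | rfl
        · rw [mul_one, mul_inv_cancel]; exact one_mem _
        · rw [hxr]; exact rV
        · exact h3
        · have : x * (r * s) * x⁻¹ = (x * r * x⁻¹) * (x * s * x⁻¹) := by group
          rw [this, hxr]
          exact mul_mem rV h3
      have h3 : x⁻¹ * (x * (l * s * l⁻¹) * x⁻¹) * x ∈ E.Vs := by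
        have h4 : cj x E.Vs = E.Vs := by
          have hfin : Finite E.Vs := by
            refine Set.Finite.subset (s := {1, r, s, r * s}) (Set.toFinite _) ?_
            intro y hy
            exact E.mem_Vs.1 hy
          apply SetLike.coe_injective
          apply Set.eq_of_subset_of_ncard_le
          · exact cj_le_iff.2 h2
          · exact le_of_eq (card_cj x E.Vs).symm
          · exact hfin
        rw [← h4] at h1
        exact mem_cj.1 h1
      have e4 : x⁻¹ * (x * (l * s * l⁻¹) * x⁻¹) * x = l * s * l⁻¹ := by group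
      rw [e4] at h3
      exact E.e_notU (E.Vs_le_U h3)
    · exact h
  -- step 1
  obtain ⟨y₁, hy₁, d₁, a₁, hr₁, hs₁, he₁⟩ : ∃ y ∈ Qp r ⊔ U, ∃ d' a' : ZMod 2, y * x * r * (y * x)⁻¹ = r ∧
      y * x * s * (y * x)⁻¹ = s * pw r d' ∧ y * x * (l * s * l⁻¹) * (y * x)⁻¹ = l * s * l⁻¹ * pw r a' := by
    rcases z2 b with h | h
    · refine ⟨1, one_mem _, d, a, by rw [one_mul]; exact hxr, by rw [one_mul]; exact hd, ?_⟩
      rw [one_mul, he, hc, h]
      unfold el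
      rw [pw_zero, mul_one, pw_one]
      exact A.pw_r_comm E.r_Δ E.eQ a
    · obtain ⟨w, hw, hw1⟩ := A.exists_f1 E.r_Δ
      obtain ⟨k, hk⟩ := E.conj_w hw hw1
      have hwr : w * r * w⁻¹ = r := by rw [A.U_comm w hw r E.rU, mul_inv_cancel_right]
      have hws : w * s * w⁻¹ = s := by rw [A.U_comm w hw s hsU, mul_inv_cancel_right]
      refine ⟨w, hU hw, d, a + k, ?_, ?_, ?_⟩
      · calc w * x * r * (w * x)⁻¹ = w * (x * r * x⁻¹) * w⁻¹ := by group
          _ = r := by rw [hxr, hwr]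
      · calc w * x * s * (w * x)⁻¹ = w * (x * s * x⁻¹) * w⁻¹ := by group
          _ = (w * s * w⁻¹) * (w * pw r d * w⁻¹) := by rw [hd]; group
          _ = s * pw r d := by rw [hws, hpr w hwr]
      · have e1 : w * x * (l * s * l⁻¹) * (w * x)⁻¹ = w * (x * (l * s * l⁻¹) * x⁻¹) * w⁻¹ := by group
        rw [e1, he, hc, h]
        unfold el
        rw [pw_one, pw_one]
        have e2 : w * (pw r a * s * (l * s * l⁻¹)) * w⁻¹ = (w * pw r a * w⁻¹) * (w * s * w⁻¹) *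
            (w * (l * s * l⁻¹) * w⁻¹) := by group
        rw [e2, hpr w hwr, hws, hk]
        have h1 := E.s_e
        have h2 := A.pw_r_comm E.r_Δ E.eQ a
        have h3 := E.ss
        rw [pw_add E.rr]
        obtain ⟨e, hed⟩ : ∃ e, e = l * s * l⁻¹ := ⟨_, rfl⟩
        rw [← hed] at h1 h2 ⊢
        calc pw r a * s * (e * s * pw r k) = pw r a * (s * e) * s * pw r k := by group
          _ = pw r a * (e * s) * s * pw r k := by rw [h1]
          _ = (pw r a * e) * (s * s) * pw r k := by group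
          _ = e * (pw r a * pw r k) := by rw [h2, h3]; group
  -- step 2
  obtain ⟨v, hv, hvQ, hv1⟩ := E.exists_v
  have k1 : v * (l * s * l⁻¹) * v⁻¹ = l * s * l⁻¹ * r := by
    rw [E.conjQ hvQ E.eQ, E.cm_e hv hvQ, hv1, pw_one]
  have k2 : v * s * v⁻¹ = s := by rw [A.U_comm v hv s hsU, mul_inv_cancel_right]
  have k3 : v * r * v⁻¹ = r := by rw [A.U_comm v hv r E.rU, mul_inv_cancel_right]
  have hv'Q : l * v * l⁻¹ ∈ Qp r := Q_normal E.lC hvQ
  obtain ⟨v', hv'⟩ : ∃ v', v' = l * v * l⁻¹ := ⟨_, rfl⟩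
  have k4 : v' * s * v'⁻¹ = s * r := by
    rw [hv', E.conjQ hv'Q E.sQ, E.cm_ls hv hvQ, hv1, pw_one]
  have k5 : v' * (l * s * l⁻¹) * v'⁻¹ = l * s * l⁻¹ := by
    rw [hv', A.cj_comm l (conj_mem_cj hv) (conj_mem_cj hsU), mul_inv_cancel_right]
  have k6 : v' * r * v'⁻¹ = r := by
    rw [hv', ← A.r_comm E.r_Δ hv'Q, mul_inv_cancel_right]
  rw [← hv'] at hv'Q
  have hrr := E.rr
  -- the powers
  have m1 : pw v a₁ ∈ Qp r ⊔ U := pw_mem (hU hv) _
  have m2 : pw v' d₁ ∈ Qp r ⊔ U := pw_mem (hQ hv'Q) _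
  refine ⟨pw v a₁ * pw v' d₁ * y₁, mul_mem (mul_mem m1 m2) hy₁, ?_⟩
  obtain ⟨x₁, hx₁⟩ : ∃ x₁, x₁ = y₁ * x := ⟨_, rfl⟩
  rw [← hx₁] at hr₁ hs₁ he₁
  have e0 : pw v a₁ * pw v' d₁ * y₁ * x = pw v a₁ * pw v' d₁ * x₁ := by rw [hx₁]; group
  rw [e0]
  -- `g = v^a v'^d x₁` fixes `r, s, e`
  have pv : ∀ y : G, v * y * v⁻¹ = y → ∀ k, pw v k * y * (pw v k)⁻¹ = y := by
    intro y hy k
    rcases z2 k with h | h
    · rw [h, pw_zero]; group
    · rw [h, pw_one, hy]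
  have pv' : ∀ y : G, v' * y * v'⁻¹ = y → ∀ k, pw v' k * y * (pw v' k)⁻¹ = y := by
    intro y hy k
    rcases z2 k with h | h
    · rw [h, pw_zero]; group
    · rw [h, pw_one, hy]
  have q1 : pw v a₁ * pw v' d₁ * x₁ * r * (pw v a₁ * pw v' d₁ * x₁)⁻¹ = r := by
    calc pw v a₁ * pw v' d₁ * x₁ * r * (pw v a₁ * pw v' d₁ * x₁)⁻¹
        = pw v a₁ * (pw v' d₁ * (x₁ * r * x₁⁻¹) * (pw v' d₁)⁻¹) * (pw v a₁)⁻¹ := by group
      _ = r := by rw [hr₁, pv' r k6, pv r k3]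
  have q2 : pw v a₁ * pw v' d₁ * x₁ * s * (pw v a₁ * pw v' d₁ * x₁)⁻¹ = s := by
    have h1 : pw v' d₁ * (s * pw r d₁) * (pw v' d₁)⁻¹ = s := by
      rcases z2 d₁ with h | h
      · rw [h, pw_zero, pw_zero]; group
      · rw [h, pw_one, pw_one]
        calc v' * (s * r) * v'⁻¹ = (v' * s * v'⁻¹) * (v' * r * v'⁻¹) := by group
          _ = s * (r * r) := by rw [k4, k6]; group
          _ = s := by rw [hrr, mul_one]
    calc pw v a₁ * pw v' d₁ * x₁ * s * (pw v a₁ * pw v' d₁ * x₁)⁻¹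
        = pw v a₁ * (pw v' d₁ * (x₁ * s * x₁⁻¹) * (pw v' d₁)⁻¹) * (pw v a₁)⁻¹ := by group
      _ = s := by rw [hs₁, h1, pv s k2]
  have q3 : pw v a₁ * pw v' d₁ * x₁ * (l * s * l⁻¹) * (pw v a₁ * pw v' d₁ * x₁)⁻¹ = l * s * l⁻¹ := by
    have h0 : pw v' d₁ * (l * s * l⁻¹ * pw r a₁) * (pw v' d₁)⁻¹ = l * s * l⁻¹ * pw r a₁ := by
      refine pv' _ ?_ d₁
      calc v' * (l * s * l⁻¹ * pw r a₁) * v'⁻¹ = (v' * (l * s * l⁻¹) * v'⁻¹) * (v' * pw r a₁ * v'⁻¹) := by group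
        _ = _ := by rw [k5, hpr v' k6]
    have h1 : pw v a₁ * (l * s * l⁻¹ * pw r a₁) * (pw v a₁)⁻¹ = l * s * l⁻¹ := by
      rcases z2 a₁ with h | h
      · rw [h, pw_zero, pw_zero]; group
      · rw [h, pw_one, pw_one]
        calc v * (l * s * l⁻¹ * r) * v⁻¹ = (v * (l * s * l⁻¹) * v⁻¹) * (v * r * v⁻¹) := by group
          _ = l * s * l⁻¹ * (r * r) := by rw [k1, k3]; group
          _ = l * s * l⁻¹ := by rw [hrr, mul_one]
    calc pw v a₁ * pw v' d₁ * x₁ * (l * s * l⁻¹) * (pw v a₁ * pw v' d₁ * x₁)⁻¹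
        = pw v a₁ * (pw v' d₁ * (x₁ * (l * s * l⁻¹) * x₁⁻¹) * (pw v' d₁)⁻¹) * (pw v a₁)⁻¹ := by group
      _ = l * s * l⁻¹ := by rw [he₁, h0, h1]
  rw [mem_centralizer_iff]
  rintro _ ⟨a', b', c', rfl⟩
  have key : pw v a₁ * pw v' d₁ * x₁ * el r s l a' b' c' * (pw v a₁ * pw v' d₁ * x₁)⁻¹ = el r s l a' b' c' := by
    obtain ⟨g, hg⟩ : ∃ g, g = pw v a₁ * pw v' d₁ * x₁ := ⟨_, rfl⟩
    rw [← hg] at q1 q2 q3 ⊢
    have e : g * el r s l a' b' c' * g⁻¹ =
        pw (g * r * g⁻¹) a' * pw (g * s * g⁻¹) b' * pw (g * (l * s * l⁻¹) * g⁻¹) c' := by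
      unfold el
      rw [← conj_pw g r a', ← conj_pw g s b', ← conj_pw g (l * s * l⁻¹) c']
      group
    rw [e, q1, q2, q3]
    rfl
  exact (mul_inv_eq_iff_eq_mul.1 key).symm

end ED

/-! ### The Sylow group -/

/-- the residue `(0, 1)` with the Sylow group `S` -/
structure ES (z : G) (M U : Subgroup G) (Δ : Set G) (f : G → G → ZMod 2) (t : G → G) (r s l : G) (S : Subgroup G) :
    Prop extends ED z M U Δ f t r s l where
  S_r : ∀ x ∈ S, x * r = r * x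
  S_s : ∀ x ∈ S, x * s * x⁻¹ = s ∨ x * s * x⁻¹ = s * r
  Q_S : Qp r ≤ S
  U_S : U ≤ S
  Qs_S : ∀ q ∈ Qp s, q * r = r * q → q ∈ S
  self : ∀ x ∈ M, (∀ b ∈ S, x⁻¹ * b * x ∈ S) → x ∈ S

namespace ES

variable {r s l : G} {S : Subgroup G} (E : ES z M U Δ f t r s l S)

include E

theorem cancel (x : G) (c : ZMod 2) : x * pw r c * pw r c = x := by
  rw [mul_assoc x, pw_sq E.rr, mul_one]

theorem QU_S : Qp r ⊔ U ≤ S := sup_le E.Q_S E.U_S

theorem QU_L : Qp r ⊔ U ≤ Lp U r := sup_le (E.A.Q_le_L r) E.A.U_le_L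

theorem S_norm_Rs : S ≤ normalizer (E.Rs : Set G) := by
  refine norm_of fun x hx y hy => E.conj_Rs ?_ ?_ ?_ hy
  · rw [E.S_r x hx, mul_inv_cancel_right]
    exact E.r_Rs
  · rcases E.S_s x hx with h | h <;> rw [h]
    · exact E.s_Rs
    · exact mul_mem E.s_Rs E.r_Rs
  · have hxC : x ∈ Cp r := mem_Cp.2 (E.S_r x hx)
    have hg : x * l * x⁻¹ ∈ Lp U r := conj_norm (E.O.L_norm hxC) E.l_L
    have h1 := E.L_s hg
    have e : x * (l * s * l⁻¹) * x⁻¹ = (x * l * x⁻¹) * (x * s * x⁻¹) * (x * l * x⁻¹)⁻¹ := by group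
    rw [e]
    rcases E.S_s x hx with h | h <;> rw [h]
    · exact h1
    · have hgC := E.A.L_le E.r_Δ hg
      have e2 : (x * l * x⁻¹) * (s * r) * (x * l * x⁻¹)⁻¹ =
          ((x * l * x⁻¹) * s * (x * l * x⁻¹)⁻¹) * ((x * l * x⁻¹) * r * (x * l * x⁻¹)⁻¹) := by group
      rw [e2, mem_Cp.1 hgC, mul_inv_cancel_right]
      exact mul_mem h1 E.r_Rs

/-- `H = ⟨L, Q_s, S⟩` -/
def _root_.Cfsg.Agent.Omega.HTwo.Seven.Hh (U : Subgroup G) (r s : G) (S : Subgroup G) : Subgroup G :=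
  Lp U r ⊔ Qp s ⊔ S

theorem L_H : Lp U r ≤ Hh U r s S := le_sup_left.trans le_sup_left

theorem Qs_H : Qp s ≤ Hh U r s S := le_sup_right.trans le_sup_left

theorem S_H : S ≤ Hh U r s S := le_sup_right

theorem H_norm_Rs : Hh U r s S ≤ normalizer (E.Rs : Set G) :=
  sup_le (sup_le E.L_norm_Rs E.Qs_norm_Rs) E.S_norm_Rs

theorem H_norm_C : Hh U r s S ≤ normalizer (centralizer (E.Rs : Set G) : Set G) :=
  E.H_norm_Rs.trans (normalizer_le_normalizer_centralizer _)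

/-- `T = S ∩ C(R*)` is normal in `H` -/
theorem H_norm_T : Hh U r s S ≤ normalizer ((S ⊓ centralizer (E.Rs : Set G) : Subgroup G) : Set G) := by
  have A := E.A
  refine sup_le (sup_le ?_ ?_) ?_
  · refine norm_of fun g hg x hx => ?_
    have hxK := E.cen_K hx.2
    have h1 : g * x * g⁻¹ * x⁻¹ ∈ Qp r := by
      have := A.KL E.r_Δ hxK hg
      have e : g * x * g⁻¹ * x⁻¹ = (x * g * x⁻¹ * g⁻¹)⁻¹ := by group
      rw [e]
      exact inv_mem this
    refine mem_inf.2 ⟨?_, conj_norm (E.H_norm_C (E.L_H hg)) hx.2⟩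
    have e : g * x * g⁻¹ = g * x * g⁻¹ * x⁻¹ * x := by group
    rw [e]
    exact mul_mem (E.Q_S h1) hx.1
  · refine norm_of fun q hq x hx => ?_
    have hC : ∀ y ∈ E.Rs, x * y = y * x := fun y hy => (mem_centralizer_iff.1 hx.2 y hy).symm
    have h1 : q * x * q⁻¹ * x⁻¹ ∈ Qp s := by
      have hxs : x ∈ Cp s := mem_Cp.2 (hC s E.s_Rs)
      have e : q * x * q⁻¹ * x⁻¹ = q * (x * q⁻¹ * x⁻¹) := by group
      rw [e]
      exact mul_mem hq (Q_normal hxs (inv_mem hq))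
    have h2 : q * x * q⁻¹ ∈ centralizer (E.Rs : Set G) := conj_norm (E.H_norm_C (E.Qs_H hq)) hx.2
    have h3 : q * x * q⁻¹ * x⁻¹ ∈ centralizer (E.Rs : Set G) :=
      (centralizer (E.Rs : Set G)).mul_mem h2 ((centralizer (E.Rs : Set G)).inv_mem hx.2)
    refine mem_inf.2 ⟨?_, h2⟩
    have e : q * x * q⁻¹ = q * x * q⁻¹ * x⁻¹ * x := by group
    rw [e]
    exact mul_mem (E.Qs_S _ h1 ((mem_centralizer_iff.1 h3) r E.r_Rs).symm) hx.1
  · refine norm_of fun x hx y hy => ?_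
    exact mem_inf.2 ⟨mul_mem (mul_mem hx hy.1) (inv_mem hx), conj_norm (E.H_norm_C (E.S_H hx)) hy.2⟩

/-- **`C_H(R*) ≤ S`** -/
theorem cen_S {c : G} (hc : c ∈ Hh U r s S) (hc' : c ∈ centralizer (E.Rs : Set G)) : c ∈ S := by
  have A := E.A
  have hcK := E.cen_K hc'
  refine E.self c (A.CN_le_M E.r_Δ hcK) fun b hb => ?_
  obtain ⟨y, hy, h1⟩ := E.adjust (E.S_norm_Rs hb) (E.S_r b hb) (E.S_s b hb)
  have h2 : y * b ∈ S ⊓ centralizer (E.Rs : Set G) := mem_inf.2 ⟨mul_mem (E.QU_S hy) hb, h1⟩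
  have h3 := conj_norm (E.H_norm_T (inv_mem hc)) h2
  rw [inv_inv] at h3
  have hcK' : c⁻¹ ∈ Kp z r := Subgroup.inv_mem _ hcK
  have h4 := A.KL E.r_Δ hcK' (E.QU_L (inv_mem hy))
  have e : c⁻¹ * b * c = (c⁻¹ * y⁻¹ * c⁻¹⁻¹ * y⁻¹⁻¹) * y⁻¹ * (c⁻¹ * (y * b) * c) := by group
  rw [e]
  exact mul_mem (mul_mem (E.Q_S h4) (inv_mem (E.QU_S hy))) h3.1

/-- **the stabiliser of `r` and `V` in `H` is `S`** -/
theorem stab {x : G} (hx : x ∈ Hh U r s S) (hr : x * r = r * x) (hs : x * s * x⁻¹ = s ∨ x * s * x⁻¹ = s * r) :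
    x ∈ S := by
  obtain ⟨y, hy, h1⟩ := E.adjust (E.H_norm_Rs hx) hr hs
  have h2 := E.cen_S (mul_mem (E.S_H (E.QU_S hy)) hx) h1
  have e : x = y⁻¹ * (y * x) := by group
  rw [e]
  exact mul_mem (inv_mem (E.QU_S hy)) h2

/-- `L` is transitive on the `R* / ⟨r⟩`-points -/
theorem L_trans {x : G} (hx : x ∈ E.Rs) (hx1 : x ≠ 1) (hxr : x ≠ r) :
    ∃ g ∈ Lp U r, ∃ c : ZMod 2, g * s * g⁻¹ = x * pw r c := by
  obtain ⟨a, b, c, rfl⟩ := hx
  have hrr := E.rr
  have A := E.A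
  rcases z2 b with hb | hb <;> rcases z2 c with hc | hc
  · exfalso
    rw [hb, hc] at hx1 hxr
    unfold ED.el at hx1 hxr
    rw [pw_zero, pw_zero, mul_one, mul_one] at hx1 hxr
    rcases z2 a with h | h
    · rw [h, pw_zero] at hx1; exact hx1 rfl
    · rw [h, pw_one] at hxr; exact hxr rfl
  · -- `e`
    refine ⟨l, E.l_L, a, ?_⟩
    rw [hb, hc]
    unfold ED.el
    rw [pw_zero, mul_one, pw_one, A.pw_r_comm E.r_Δ E.eQ, E.cancel]
  · refine ⟨1, one_mem _, a, ?_⟩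
    rw [hb, hc]
    unfold ED.el
    rw [pw_zero, mul_one, pw_one, A.pw_r_comm E.r_Δ E.sQ, E.cancel]
    group
  · obtain ⟨w, hw, hw1⟩ := A.exists_f1 E.r_Δ
    obtain ⟨k, hk⟩ := E.conj_w hw hw1
    refine ⟨w * l, mul_mem (A.U_le_L hw) E.l_L, a + k, ?_⟩
    have e2 : w * l * s * (w * l)⁻¹ = w * (l * s * l⁻¹) * w⁻¹ := by group
    rw [e2, hk, hb, hc]
    unfold ED.el
    rw [pw_one, pw_one, ← E.s_e, mul_assoc (pw r a), A.pw_r_comm E.r_Δ (mul_mem E.sQ E.eQ), pw_add hrr,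
      mul_assoc (s * (l * s * l⁻¹)), ← mul_assoc (pw r a), pw_sq hrr, one_mul]

/-- **the stabiliser of `r` in `H` is `L S`** -/
theorem stab_r {x : G} (hx : x ∈ Hh U r s S) (hr : x * r = r * x) : ∃ g ∈ Lp U r, ∃ b ∈ S, x = g * b := by
  have h1 : x * s * x⁻¹ ∈ E.Rs := conj_norm (E.H_norm_Rs hx) E.s_Rs
  obtain ⟨g, hg, c, hc⟩ := E.L_trans h1 (fun h => E.s_ne (conj_eq_one_iff.1 h)) (fun h => by
    apply E.ne
    have e : s = x⁻¹ * (x * s * x⁻¹) * x := by group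
    rw [e, h, mul_assoc, ← hr]
    group)
  have hgC := E.A.L_le E.r_Δ hg
  have hgr := mem_Cp.1 hgC
  refine ⟨g, hg, g⁻¹ * x, ?_, by group⟩
  refine E.stab (mul_mem (inv_mem (E.L_H hg)) hx) ?_ ?_
  · calc g⁻¹ * x * r = g⁻¹ * (r * x) := by rw [mul_assoc, hr]
      _ = g⁻¹ * (g * r * g⁻¹) * x := by rw [hgr]; group
      _ = r * (g⁻¹ * x) := by group
  · have h2 : x * s * x⁻¹ = g * s * g⁻¹ * pw r c := by
      rw [hc, E.cancel]
    have h3 := E.conj_pw_r (Subgroup.inv_mem _ hgC) c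
    rw [inv_inv] at h3
    have h4 : g⁻¹ * x * s * (g⁻¹ * x)⁻¹ = s * pw r c := by
      calc g⁻¹ * x * s * (g⁻¹ * x)⁻¹ = g⁻¹ * (x * s * x⁻¹) * g := by group
        _ = g⁻¹ * (g * s * g⁻¹ * pw r c) * g := by rw [h2]
        _ = s * (g⁻¹ * pw r c * g) := by group
        _ = s * pw r c := by rw [h3]
    rw [h4]
    rcases z2 c with h | h
    · left; rw [h, pw_zero, mul_one]
    · right; rw [h, pw_one]

/-- `Q_r`, `Q_s` are transitive on the points of `V` -/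
theorem Q_trans {x : G} (hx : x = r ∨ x = s ∨ x = r * s) :
    ∃ g ∈ Qp s ⊔ S, g * r * g⁻¹ = x ∧ cj g E.Vs = E.Vs := by
  have A := E.A
  obtain ⟨q, hq, hq1⟩ := A.Q_mv s E.s_Δ r E.r_Δ E.ne E.sr
  obtain ⟨p, hp, hp1⟩ := A.Q_mv r E.r_Δ s E.s_Δ (Ne.symm E.ne) E.rs
  have hqs : q * s * q⁻¹ = s := by rw [mem_Cp.1 (Q_le s hq), mul_inv_cancel_right]
  have hpr : p * r * p⁻¹ = r := by rw [mem_Cp.1 (Q_le r hp), mul_inv_cancel_right]
  have hfin : Finite E.Vs := by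
    refine Set.Finite.subset (s := {1, r, s, r * s}) (Set.toFinite _) ?_
    intro y hy
    exact E.mem_Vs.1 hy
  have key : ∀ g : G, g * r * g⁻¹ ∈ E.Vs → g * s * g⁻¹ ∈ E.Vs → cj g E.Vs = E.Vs := by
    intro g h1 h2
    apply SetLike.coe_injective
    apply Set.eq_of_subset_of_ncard_le
    · apply cj_le_iff.2
      intro y hy
      rcases E.mem_Vs.1 hy with rfl | rfl | rfl | rfl
      · rw [mul_one, mul_inv_cancel]; exact one_mem _
      · exact h1
      · exact h2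
      · have : g * (r * s) * g⁻¹ = (g * r * g⁻¹) * (g * s * g⁻¹) := by group
        rw [this]
        exact mul_mem h1 h2
    · exact le_of_eq (card_cj g E.Vs).symm
    · exact hfin
  have rV : r ∈ E.Vs := E.mem_Vs.2 (Or.inr (Or.inl rfl))
  have sV : s ∈ E.Vs := E.mem_Vs.2 (Or.inr (Or.inr (Or.inl rfl)))
  have kq : cj q E.Vs = E.Vs := key q (by rw [hq1]; exact mul_mem rV sV) (by rw [hqs]; exact sV)
  have kp : cj p E.Vs = E.Vs := key p (by rw [hpr]; exact rV) (by rw [hp1]; exact mul_mem sV rV)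
  rcases hx with rfl | rfl | rfl
  · exact ⟨1, one_mem _, by group, cj_one _⟩
  · refine ⟨p * q, mul_mem (mem_sup_right (E.Q_S hp)) (mem_sup_left hq), ?_, by rw [cj_mul, kq, kp]⟩
    calc p * q * r * (p * q)⁻¹ = p * (q * r * q⁻¹) * p⁻¹ := by group
      _ = (p * r * p⁻¹) * (p * x * p⁻¹) := by rw [hq1]; group
      _ = r * (x * r) := by rw [hpr, hp1]
      _ = r * (r * x) := by rw [E.rs_comm]
      _ = x := by rw [← mul_assoc, E.rr, one_mul]
  · exact ⟨q, mem_sup_left hq, hq1, kq⟩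

/-- **the stabiliser of `V` in `H` is `⟨Q_s, S⟩`** -/
theorem stab_V {x : G} (hx : x ∈ Hh U r s S) (hV : cj x E.Vs = E.Vs) : x ∈ Qp s ⊔ S := by
  have rV : r ∈ E.Vs := E.mem_Vs.2 (Or.inr (Or.inl rfl))
  have sV : s ∈ E.Vs := E.mem_Vs.2 (Or.inr (Or.inr (Or.inl rfl)))
  have h1 : x * r * x⁻¹ ∈ E.Vs := by
    rw [← hV]; exact conj_mem_cj rV
  have h2 : x * r * x⁻¹ ≠ 1 := fun h => E.r_ne (conj_eq_one_iff.1 h)
  obtain ⟨g, hg, hgr, hgV⟩ := E.Q_trans ((E.mem_Vs.1 h1).resolve_left h2)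
  have hgH : g ∈ Hh U r s S := sup_le E.Qs_H E.S_H hg
  have h3 : g⁻¹ * x ∈ S := by
    have hr' : g⁻¹ * x * r = r * (g⁻¹ * x) := by
      calc g⁻¹ * x * r = g⁻¹ * (x * r * x⁻¹) * x := by group
        _ = g⁻¹ * (g * r * g⁻¹) * x := by rw [hgr]
        _ = r * (g⁻¹ * x) := by group
    refine E.stab (mul_mem (inv_mem hgH) hx) hr' ?_
    have h4 : cj (g⁻¹ * x) E.Vs = E.Vs := by
      rw [cj_mul, hV, ← hgV, cj_inv_cj, hgV]
    have h5 : g⁻¹ * x * s * (g⁻¹ * x)⁻¹ ∈ E.Vs := by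
      rw [← h4]; exact conj_mem_cj sV
    obtain ⟨y, hy⟩ : ∃ y, y = g⁻¹ * x := ⟨_, rfl⟩
    rw [← hy] at h5 hr' ⊢
    rcases E.mem_Vs.1 h5 with h | h | h | h
    · exact absurd (conj_eq_one_iff.1 h) E.s_ne
    · exfalso
      apply E.ne
      have e : s = y⁻¹ * (y * s * y⁻¹) * y := by group
      rw [e, h, mul_assoc, ← hr']
      group
    · exact Or.inl h
    · right; rw [h, E.rs_comm]
  have e : x = g * (g⁻¹ * x) := by group
  rw [e]
  exact mul_mem hg (mem_sup_right h3)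

end ES

/-! ### The plane -/

section plane

open Cfsg.Agent.ParSys.Polar.Incid

/-- conjugation on the elements -/
def aH (H : Subgroup G) : ↥H →* Equiv.Perm G where
  toFun h := (MulAut.conj (h : G)).toEquiv
  map_one' := by ext x; simp only [_root_.OneMemClass.coe_one, _root_.map_one, _root_.MulEquiv.toEquiv_eq_coe, _root_.EquivLike.coe_coe, _root_.MulAut.one_apply, _root_.Equiv.Perm.coe_one, _root_.id_eq]
  map_mul' a b := by ext x; simp [mul_assoc]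

theorem aH_apply {H : Subgroup G} (h : ↥H) (x : G) : aH H h x = (h : G) * x * (h : G)⁻¹ := rfl

/-- conjugation on the subgroups -/
def bH (H : Subgroup G) : ↥H →* Equiv.Perm (Subgroup G) where
  toFun h := ⟨cj (h : G), cj (h : G)⁻¹, cj_inv_cj _, cj_cj_inv _⟩
  map_one' := by
    ext1 X
    exact cj_one X
  map_mul' a b := by
    ext1 X
    exact cj_mul (a : G) b X

theorem bH_apply {H : Subgroup G} (h : ↥H) (X : Subgroup G) : bH H h X = cj (h : G) X := rfl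

theorem card_four {p q : G} (hp : p * p = 1) (hq : q * q = 1) (hc : p * q = q * p) (h1 : p ≠ 1) (h2 : q ≠ 1)
    (h3 : p ≠ q) : Nat.card (four p q hp hq hc) = 4 := by
  have hpq : p * q ≠ 1 := fun h => h3 (by rw [mul_eq_one_iff_eq_inv.1 h, inv_eq_of_mul_eq_one_left hq])
  have key : (four p q hp hq hc : Set G) = {1, p, q, p * q} := by
    ext x; rfl
  have h4 : Nat.card (four p q hp hq hc) = Set.ncard ({1, p, q, p * q} : Set G) := by
    rw [← key]; rfl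
  rw [h4, Set.ncard_insert_of_notMem, Set.ncard_insert_of_notMem, Set.ncard_pair]
  · intro h
    exact h1 (right_eq_mul.1 h)
  · simp only [Set.mem_insert_iff, Set.mem_singleton_iff, not_or]
    exact ⟨h3, fun h => h2 (left_eq_mul.1 h)⟩
  · simp only [Set.mem_insert_iff, Set.mem_singleton_iff, not_or]
    exact ⟨Ne.symm h1, Ne.symm h2, Ne.symm hpq⟩

theorem eq_of_le_card {X Y : Subgroup G} [Finite Y] (h : X ≤ Y) (hc : Nat.card Y ≤ Nat.card X) : X = Y :=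
  SetLike.coe_injective (Set.eq_of_subset_of_ncard_le h hc (Set.toFinite _))

namespace ES

variable {r s l : G} {S : Subgroup G} (E : ES z M U Δ f t r s l S)

include E

theorem card_Vs : Nat.card E.Vs = 4 := card_four E.rr E.ss E.rs_comm E.r_ne E.s_ne (Ne.symm E.ne)

variable [Finite G]

theorem cj_Vs {g : G} {X : Subgroup G} (hX : Nat.card X = 4) (h1 : g * r * g⁻¹ ∈ X) (h2 : g * s * g⁻¹ ∈ X) :
    cj g E.Vs = X := by
  refine eq_of_le_card (cj_le_iff.2 ?_) (by rw [card_cj, E.card_Vs, hX])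
  intro y hy
  rcases E.mem_Vs.1 hy with rfl | rfl | rfl | rfl
  · rw [mul_one, mul_inv_cancel]; exact one_mem _
  · exact h1
  · exact h2
  · have : g * (r * s) * g⁻¹ = (g * r * g⁻¹) * (g * s * g⁻¹) := by group
    rw [this]
    exact mul_mem h1 h2

variable {I : Type*} {P : I → Subgroup G} {i j : I}

/-- the geometry -/
theorem inc (hB : ∀ k, S ≤ P k) (hi : P i = Qp s ⊔ S) (hj : P j = Lp U r ⊔ S) :
    Inc S P i j (Hh U r s S) (aH _) (bH _) {x | x ∈ E.Rs ∧ x ≠ 1} {X | X ≤ E.Rs ∧ Nat.card X = 4}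
      (fun p X => p ∈ X) r E.Vs where
  le := hB
  iH := by rw [hi]; exact sup_le E.Qs_H E.S_H
  jH := by rw [hj]; exact sup_le E.L_H E.S_H
  p0 := ⟨E.r_Rs, E.r_ne⟩
  L0 := ⟨E.Vs_le, E.card_Vs⟩
  inc0 := E.mem_Vs.2 (Or.inr (Or.inl rfl))
  aPt h p hp := by
    rw [aH_apply]
    exact ⟨conj_norm (E.H_norm_Rs h.2) hp.1, fun h1 => hp.2 (conj_eq_one_iff.1 h1)⟩
  bLn h X hX := by
    rw [bH_apply]
    exact ⟨cj_le_iff.2 fun x hx => conj_norm (E.H_norm_Rs h.2) (hX.1 hx), by rw [card_cj, hX.2]⟩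
  inv h p _ X _ hpX := by
    rw [aH_apply, bH_apply]
    exact conj_mem_cj hpX
  memB h := by
    rw [aH_apply, bH_apply]
    have rV : r ∈ E.Vs := E.mem_Vs.2 (Or.inr (Or.inl rfl))
    have sV : s ∈ E.Vs := E.mem_Vs.2 (Or.inr (Or.inr (Or.inl rfl)))
    constructor
    · intro hS
      have h1 : (h : G) * r * (h : G)⁻¹ = r := by rw [E.S_r _ hS, mul_inv_cancel_right]
      refine ⟨h1, E.cj_Vs E.card_Vs (by rw [h1]; exact rV) ?_⟩
      rcases E.S_s _ hS with h2 | h2 <;> rw [h2]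
      · exact sV
      · exact mul_mem sV rV
    · rintro ⟨h1, h2⟩
      refine E.stab h.2 (mul_inv_eq_iff_eq_mul.1 h1) ?_
      have h3 : (h : G) * s * (h : G)⁻¹ ∈ E.Vs := by
        rw [← h2]
        exact conj_mem_cj sV
      rcases E.mem_Vs.1 h3 with h4 | h4 | h4 | h4
      · exact absurd (conj_eq_one_iff.1 h4) E.s_ne
      · exfalso
        apply E.ne
        have h5 : (h : G) * s * (h : G)⁻¹ = (h : G) * r * (h : G)⁻¹ := by rw [h4, h1]
        exact mul_left_cancel (mul_right_cancel h5)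
      · exact Or.inl h4
      · right; rw [h4, E.rs_comm]
  memi h := by
    rw [bH_apply, hi]
    constructor
    · intro hP
      have h1 : Qp s ⊔ S ≤ normalizer (E.Vs : Set G) := by
        have rV : r ∈ E.Vs := E.mem_Vs.2 (Or.inr (Or.inl rfl))
        have sV : s ∈ E.Vs := E.mem_Vs.2 (Or.inr (Or.inr (Or.inl rfl)))
        refine sup_le ?_ ?_
        · intro q hq
          rw [← cj_eq_self_iff]
          have hqs : q * s * q⁻¹ = s := by rw [mem_Cp.1 (Q_le s hq), mul_inv_cancel_right]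
          refine E.cj_Vs E.card_Vs ?_ (by rw [hqs]; exact sV)
          rcases E.A.Q_comm s E.s_Δ q hq r ((E.A.Q_f s E.s_Δ r E.rU).2 E.sr) with h2 | h2
          · rw [h2, mul_inv_cancel_right]; exact rV
          · rw [h2]
            have e : s * (r * q) * q⁻¹ = s * r := by group
            rw [e]; exact mul_mem sV rV
        · intro x hx
          rw [← cj_eq_self_iff]
          have h2 : x * r * x⁻¹ = r := by rw [E.S_r _ hx, mul_inv_cancel_right]
          refine E.cj_Vs E.card_Vs (by rw [h2]; exact rV) ?_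
          rcases E.S_s _ hx with h3 | h3 <;> rw [h3]
          · exact sV
          · exact mul_mem sV rV
      exact cj_eq_self_iff.2 (h1 hP)
    · intro h1
      exact E.stab_V h.2 h1
  memj h := by
    rw [aH_apply, hj]
    constructor
    · intro hP
      have h1 : Lp U r ⊔ S ≤ Cp r := sup_le (E.A.L_le E.r_Δ) fun x hx => mem_Cp.2 (E.S_r x hx)
      rw [mem_Cp.1 (h1 hP), mul_inv_cancel_right]
    · intro h1
      obtain ⟨g, hg, b, hb, e⟩ := E.stab_r h.2 (mul_inv_eq_iff_eq_mul.1 h1)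
      rw [e]
      exact mul_mem (mem_sup_left hg) (mem_sup_right hb)
  tri p hp hpV := by
    obtain ⟨g, hg, h1, h2⟩ := E.Q_trans ((E.mem_Vs.1 hpV).resolve_left hp.2)
    exact ⟨⟨g, sup_le E.Qs_H E.S_H hg⟩, h2, h1⟩
  trj X hX hr := by
    have h0 : ∃ x ∈ X, x ≠ 1 ∧ x ≠ r := by
      by_contra hcon
      push Not at hcon
      have h1 : (X : Set G) ⊆ {1, r} := by
        intro x hx
        by_cases h2 : x = 1
        · exact Or.inl h2
        · exact Or.inr (hcon x hx h2)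
      have h2 : Set.ncard (X : Set G) ≤ 2 := (Set.ncard_le_ncard h1 (Set.toFinite _)).trans ((Set.ncard_insert_le 1 {r}).trans (by rw [Set.ncard_singleton]))
      have h3 : Set.ncard (X : Set G) = 4 := hX.2
      omega
    obtain ⟨x, hx, hx1, hxr⟩ := h0
    obtain ⟨g, hg, c, hc⟩ := E.L_trans (hX.1 hx) hx1 hxr
    have hgr : g * r * g⁻¹ = r := by rw [mem_Cp.1 (E.A.L_le E.r_Δ hg), mul_inv_cancel_right]
    refine ⟨⟨g, E.L_H hg⟩, hgr, ?_⟩
    rw [bH_apply]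
    exact E.cj_Vs hX.2 (by rw [hgr]; exact hr) (by rw [hc]; exact mul_mem hx (pw_mem hr c))

/-- **the residue `(0, 1)`** -/
theorem rk (hB : ∀ k, S ≤ P k) (hi : P i = Qp s ⊔ S) (hj : P j = Lp U r ⊔ S) : Rk S P i j 3 ∧ Rk S P j i 3 := by
  have h := E.inc hB hi hj
  have key : ∀ p ∈ {x | x ∈ E.Rs ∧ x ≠ 1}, ∀ p' ∈ {x | x ∈ E.Rs ∧ x ≠ 1}, p ≠ p' →
      ∃ Y : Subgroup G, Y ≤ E.Rs ∧ Nat.card Y = 4 ∧ p ∈ Y ∧ p' ∈ Y ∧
        ∀ X : Subgroup G, Nat.card X = 4 → p ∈ X → p' ∈ X → Y = X := by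
    rintro p ⟨hp, hp1⟩ p' ⟨hp', hp1'⟩ hne
    have c4 := card_four (E.Rs_sq hp) (E.Rs_sq hp') (E.Rs_comm hp hp') hp1 hp1' hne
    have hle : ∀ X : Subgroup G, p ∈ X → p' ∈ X → four p p' (E.Rs_sq hp) (E.Rs_sq hp') (E.Rs_comm hp hp') ≤ X := by
      rintro X h1 h2 x (rfl | rfl | rfl | rfl)
      · exact one_mem _
      · exact h1
      · exact h2
      · exact mul_mem h1 h2
    exact ⟨four p p' (E.Rs_sq hp) (E.Rs_sq hp') (E.Rs_comm hp hp'), hle _ hp hp', c4, Or.inr (Or.inl rfl),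
      Or.inr (Or.inr (Or.inl rfl)), fun X hX h1 h2 => eq_of_le_card (hle X h1 h2) (by rw [c4, hX])⟩
  have P2 : ∀ p ∈ {x | x ∈ E.Rs ∧ x ≠ 1}, ∀ p' ∈ {x | x ∈ E.Rs ∧ x ≠ 1}, p ≠ p' →
      ∀ X ∈ {X : Subgroup G | X ≤ E.Rs ∧ Nat.card X = 4}, ∀ X' ∈ {X : Subgroup G | X ≤ E.Rs ∧ Nat.card X = 4},
      p ∈ X → p' ∈ X → p ∈ X' → p' ∈ X' → X = X' := by
    intro p hp p' hp' hne X hX X' hX' h1 h2 h3 h4
    obtain ⟨Y, -, -, -, -, hY⟩ := key p hp p' hp' hne
    rw [← hY X hX.2 h1 h2, ← hY X' hX'.2 h3 h4]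
  constructor
  · refine h.rk_three (fun p hp p' hp' hne => ?_) P2
    obtain ⟨Y, h1, h2, h3, h4, -⟩ := key p hp p' hp' hne
    exact ⟨Y, ⟨h1, h2⟩, h3, h4⟩
  · refine h.symm.rk_three (fun X hX X' hX' hne => ?_) (fun X hX X' hX' hne p hp p' hp' h1 h2 h3 h4 => ?_)
    · -- two lines meet
      by_contra hcon
      push Not at hcon
      have hinj : Function.Injective (fun x : ↥X × ↥X' => (⟨(x.1 : G) * x.2, mul_mem (hX.1 x.1.2) (hX'.1 x.2.2)⟩ :
          ↥E.Rs)) := by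
        rintro ⟨x, x'⟩ ⟨y, y'⟩ hxy
        have h1 : (x : G) * x' = y * y' := congrArg Subtype.val hxy
        have h2 : (y : G)⁻¹ * x = y' * (x' : G)⁻¹ := by
          calc (y : G)⁻¹ * x = (y : G)⁻¹ * (x * x') * (x' : G)⁻¹ := by group
            _ = (y : G)⁻¹ * (y * y') * (x' : G)⁻¹ := by rw [h1]
            _ = y' * (x' : G)⁻¹ := by group
        have h3 : (y : G)⁻¹ * x = 1 := by
          by_contra hne1
          have hm : (y : G)⁻¹ * x ∈ X := mul_mem (inv_mem y.2) x.2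
          have hm' : (y : G)⁻¹ * x ∈ X' := by rw [h2]; exact mul_mem y'.2 (inv_mem x'.2)
          exact hcon _ ⟨hX.1 hm, hne1⟩ hm hm'
        have h4 : (x : G) = y := by
          have := inv_mul_eq_one.1 h3
          exact this.symm
        have h5 : (x' : G) = y' := by
          rw [h3] at h2
          exact (mul_inv_eq_one.1 h2.symm).symm
        exact Prod.ext (Subtype.ext h4) (Subtype.ext h5)
      have h1 := Nat.card_le_card_of_injective _ hinj
      rw [Nat.card_prod, hX.2, hX'.2, E.card_Rs] at h1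
      omega
    · by_contra h5
      exact hne (P2 p hp p' hp' h5 X hX X' hX' h1 h3 h2 h4)

end ES

end plane

end Cfsg.Agent.Omega.HTwo.Seven

end
end

-- part: Mrg/Omega/HTwo/SevenSys
section
section


/-!
# II.0h1, `q = 2`, (7) of #15507: the parabolic system of type `C_{m+1}`

`P_0 = L S`, `P_j` (`j = 1, …, m`) the stabiliser in `M` of the members `≠ j` of the `S`-invariant flag.

* `Fg.exists_es` : the situation `ES` of `SevenR` with `P_1 = ⟨Q_s, S⟩`;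
* `ES.relIndex_zero` : `|P_0 : S| = 3`; `ES.digon` : the residues `(0, j)`, `j ≥ 2`;
* `exists_sys` : the system.
-/

set_option autoImplicit false
set_option linter.unusedSectionVars false

namespace Cfsg.Agent.Omega.HTwo.Seven

open Subgroup Module Cfsg.Agent.Omega.BTwo Cfsg.Agent.Omega.HTwo.Eight Cfsg.Agent.Omega.MinPar
open Cfsg.Agent.ParSys.Polar.Sympl Cfsg.Agent.ParSys.Polar.Flags Cfsg.Agent.ParSys.Polar.Incid
open Cfsg.Agent.ParSys Cfsg.Agent.ParSys.RankTwo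

variable {G : Type*} [Group G] {z : G} {M U : Subgroup G} {Δ : Set G} {f : G → G → ZMod 2} {t : G → G}

namespace Fg

variable [Finite G] {A : Res z M U Δ f t} {S : Subgroup G} {r : G}
  {sigma : ↥M →* Equiv.Perm (Submodule (ZMod 2) ↥(Wm A))} {m : ℕ}
  {fl : ℕ → Submodule (ZMod 2) ↥(Wm A)} (F : Fg A S r sigma m fl)

include F

theorem polSp : PolSp (TI (gf A) (F := ZMod 2)) m := F.pol.polSp

/-- a subspace is fixed -/
theorem fix_of {c : ↥M} {X : Submodule (ZMod 2) ↥(Wm A)}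
    (h : ∀ u ∈ U, cl A u ∈ X → cl A ((c : G) * u * (c : G)⁻¹) ∈ X) : sigma c X = X := by
  apply eq_of_rk
  · intro w hw
    obtain ⟨v, hv, rfl⟩ := (F.pol.A.sig _ _ _).1 hw
    obtain ⟨u, hu, rfl⟩ := exists_cl A v
    rw [rho_cl A le_rfl c hu]
    exact h u hu hv
  · exact F.pol.A.card_eq _ _

theorem of_fix {c : ↥M} {X : Submodule (ZMod 2) ↥(Wm A)} (h : sigma c X = X) {u : G} (hu : u ∈ U)
    (hX : cl A u ∈ X) : cl A ((c : G) * u * (c : G)⁻¹) ∈ X := by
  have h1 := F.pol.A.mem (c := c) hX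
  rwa [h, rho_cl A le_rfl c hu] at h1

/-- `M ∩ C(r)` is the stabiliser of `fl 1` -/
theorem fix_one (hr : r ∈ Δ) {c : ↥M} : sigma c (fl 1) = fl 1 ↔ (c : G) * r = r * (c : G) := by
  have hrU := A.Δ_U r hr
  constructor
  · intro h
    have h1 : cl A r ∈ fl 1 := by rw [F.one]; exact Submodule.mem_span_singleton_self _
    have h2 := F.of_fix h hrU h1
    rw [F.one] at h2
    obtain ⟨a, ha⟩ := Submodule.mem_span_singleton.1 h2
    have h3 := A.Δ_M c c.2 r hr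
    rcases zm2 a with rfl | rfl
    · rw [zero_smul] at ha
      exact absurd ha.symm (cl_pt_ne A h3)
    · rw [one_smul] at ha
      exact mul_inv_eq_iff_eq_mul.1 (pt_inj A hr h3 ha).symm
  · intro h
    refine F.pol.A.eq_of_fix fun v hv => ?_
    rw [F.one] at hv
    obtain ⟨a, rfl⟩ := Submodule.mem_span_singleton.1 hv
    rw [F.pol.A.lin, rho_cl A le_rfl c hrU, h, mul_inv_cancel_right]

/-- `P_j ≤ C(r)` for `j ≠ 1` -/
theorem fst_cen (hr : r ∈ Δ) {J : Set ℕ} (hJ : 1 ∉ J) {x : G} (hx : x ∈ fst M sigma m fl J) : x * r = r * x := by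
  have h2 := F.two
  exact (F.fix_one hr (c := ⟨x, hx.1⟩)).1 (hx.2 1 (by omega) hJ)

/-- the second point of the line `fl 2` -/
theorem exists_s (hr : r ∈ Δ) : ∃ s ∈ Δ, s ≠ r ∧ f r s = 0 ∧ (∀ d, 2 ≤ d → d ≤ m → cl A s ∈ fl d) ∧
    ∀ q ∈ Δ, cl A q ∈ fl 2 → q = r ∨ q = s ∨ q = r * s := by
  have h2 := F.two
  have hS := F.polSp
  have hrU := A.Δ_U r hr
  obtain ⟨y, -, hy1, hy2⟩ := SAct.exists_gen (symp A) (F.pol.hf.si hS (d := 2) h2) (F.pol.hf.mono 1 (by omega))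
    (by rw [F.pol.hf.rk _ h2, F.pol.hf.rk _ (by omega)])
  have hr1 : cl A r ∈ fl 1 := by rw [F.one]; exact Submodule.mem_span_singleton_self _
  have hy0 : y ≠ 0 := by
    rintro rfl
    exact hy1 (Submodule.zero_mem _)
  obtain ⟨s, hs, rfl⟩ := exists_pt A hy0
  have hsU := A.Δ_U s hs
  have hs2 : cl A s ∈ fl 2 := by rw [hy2]; exact Submodule.mem_sup_right (Submodule.mem_span_singleton_self _)
  have hr2 : cl A r ∈ fl 2 := F.pol.hf.mono 1 (by omega) hr1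
  have hsr : s ≠ r := by
    rintro rfl
    exact hy1 hr1
  have hrs : f r s = 0 := by
    rw [← gf_cl A hrU hsU]
    exact F.pol.hf.si hS h2 _ hr2 _ hs2
  refine ⟨s, hs, hsr, hrs, fun d hd hdm => F.pol.hf.le hd hdm hs2, fun q hq hq2 => ?_⟩
  rw [hy2, F.one] at hq2
  obtain ⟨a, ha, b, hb, hab⟩ := Submodule.mem_sup.1 hq2
  obtain ⟨a', rfl⟩ := Submodule.mem_span_singleton.1 ha
  obtain ⟨b', rfl⟩ := Submodule.mem_span_singleton.1 hb
  rcases zm2 a' with rfl | rfl <;> rcases zm2 b' with rfl | rfl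
  · rw [zero_smul, zero_smul, add_zero] at hab
    exact absurd hab.symm (cl_pt_ne A hq)
  · rw [zero_smul, one_smul, zero_add] at hab
    exact Or.inr (Or.inl (pt_inj A hs hq hab).symm)
  · rw [zero_smul, one_smul, add_zero] at hab
    exact Or.inl (pt_inj A hr hq hab).symm
  · rw [one_smul, one_smul, ← cl_mul A hrU hsU] at hab
    exact Or.inr (Or.inr (pt_inj A (A.mul0 r hr s hs (Ne.symm hsr) hrs) hq hab).symm)

/-- `Q_s` fixes the members `fl d`, `d ≥ 2` -/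
theorem Qs_fix {s : G} (hs : s ∈ Δ) (hsd : ∀ d, 2 ≤ d → d ≤ m → cl A s ∈ fl d) {q : G} (hq : q ∈ Qp s) {d : ℕ}
    (hd : 2 ≤ d) (hdm : d ≤ m) : sigma ⟨q, A.Q_M hs hq⟩ (fl d) = fl d := by
  refine F.fix_of fun u hu hud => ?_
  have hsU := A.Δ_U s hs
  have h1 : f s u = 0 := by
    rw [← gf_cl A hsU hu]
    exact F.pol.hf.si F.polSp hdm _ (hsd d hd hdm) _ hud
  have h2 : u ∈ Qp s := (A.Q_f s hs u hu).2 h1
  rcases A.Q_comm s hs q hq u h2 with h | h
  · show cl A (q * u * q⁻¹) ∈ fl d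
    rw [h, mul_inv_cancel_right]
    exact hud
  · show cl A (q * u * q⁻¹) ∈ fl d
    have e : q * u * q⁻¹ = s * u := by rw [h]; group
    rw [e, cl_mul A hsU hu]
    exact Submodule.add_mem _ (hsd d hd hdm) hud

theorem fix_zero (c : ↥M) : sigma c (fl 0) = fl 0 := by
  rw [F.pol.hf.zero]
  apply Submodule.finrank_eq_zero.1
  rw [F.pol.A.card_eq]
  exact finrank_bot _ _

/-- **the situation of `SevenR`** -/
theorem exists_es (h3 : Three z Δ t) (O : Out z M U Δ f t r) (hr : r ∈ Δ) (T : Sylow 2 G)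
    (hT : (T : Subgroup G) = S) :
    ∃ s l, ES z M U Δ f t r s l S ∧ fst M sigma m fl {1} = Qp s ⊔ S := by
  have h2m := F.two
  obtain ⟨s, hs, hsr, hrs, hsd, hpt⟩ := F.exists_s hr
  have hrU := A.Δ_U r hr
  have hsU := A.Δ_U s hs
  have hfsr : f s r = 0 := by rw [A.f_symm s hsU r hrU, hrs]
  obtain ⟨u, h0, a, c⟩ := A.exists_UA h3 hr
  have hl := A.wrd_L hr c 5
  have hlz := A.wrd_z c 5
  have E0 : ED z M U Δ f t r s (wrd u a 5) := ⟨A, h3, O, hr, hs, hsr, hrs, hl, hlz⟩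
  have hSM := F.S_le
  have hSr : ∀ x ∈ S, x * r = r * x := fun x hx => F.fst_cen hr (J := ∅) (by simp) (by rw [F.bor]; exact hx)
  have hS2 : ∀ x (hx : x ∈ S), ∀ d ≤ m, sigma ⟨x, hSM hx⟩ (fl d) = fl d := by
    intro x hx d hd
    have h1 : x ∈ fst M sigma m fl ∅ := by rw [F.bor]; exact hx
    exact h1.2 d hd (by simp)
  have E : ES z M U Δ f t r s (wrd u a 5) S := by
    refine { E0 with S_r := hSr, S_s := ?_, Q_S := ?_, U_S := ?_, Qs_S := ?_, self := ?_ }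
    · intro x hx
      have h1 := F.of_fix (hS2 x hx 2 h2m) hsU (hsd 2 le_rfl h2m)
      have h2 := A.Δ_M x (hSM hx) s hs
      rcases hpt _ h2 h1 with h | h | h
      · exfalso
        apply hsr
        have h4 : x * s * x⁻¹ = x * r * x⁻¹ := by
          rw [hSr x hx, mul_inv_cancel_right]; exact h
        exact mul_left_cancel (mul_right_cancel h4)
      · exact Or.inl h
      · right; rw [← A.U_comm r hrU s hsU]; exact h
    · rw [← hT]
      refine le_of_le_normalizer (S := T) (O2_isPGroup _) ?_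
      refine le_trans ?_ (le_normalizer_O2 _)
      rw [hT]
      exact fun x hx => mem_Cp.2 (hSr x hx)
    · rw [← hT, ← O.O_M]
      refine le_of_le_normalizer (S := T) (O2_isPGroup _) ?_
      rw [hT]
      exact hSM.trans (le_normalizer_O2 _)
    · intro q hq hqr
      rw [← F.bor]
      refine ⟨A.Q_M hs hq, fun d hd _ => ?_⟩
      rcases Nat.lt_or_ge d 2 with h | h
      · interval_cases d
        · exact F.fix_zero _
        · exact (F.fix_one hr).2 hqr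
      · exact F.Qs_fix hs hsd hq h hd
    · intro x hx h
      have := F.pol.self_norm hx
      rw [F.bor] at this
      exact this h
  refine ⟨s, _, E, ?_⟩
  apply le_antisymm
  · intro x hx
    have hxM := hx.1
    have h1 := F.of_fix (hx.2 2 h2m (by simp)) hrU (u := r) (by
      have : cl A r ∈ fl 1 := by rw [F.one]; exact Submodule.mem_span_singleton_self _
      exact F.pol.hf.mono 1 (by omega) this)
    obtain ⟨g, hg, hgr, -⟩ := E.Q_trans (hpt _ (A.Δ_M x hxM r hr) h1)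
    have hgP : Qp s ⊔ S ≤ fst M sigma m fl {1} := by
      refine sup_le (fun q hq => ⟨A.Q_M hs hq, fun d hd h1 => ?_⟩) (fun y hy => ⟨hSM hy, fun d hd _ => hS2 y hy d hd⟩)
      rcases Nat.lt_or_ge d 2 with h | h
      · interval_cases d
        · exact F.fix_zero _
        · exact absurd rfl h1
      · exact F.Qs_fix hs hsd hq h hd
    have h2 : g⁻¹ * x ∈ S := by
      rw [← F.bor]
      have h4 : g⁻¹ * x ∈ fst M sigma m fl {1} := mul_mem (inv_mem (hgP hg)) hx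
      refine ⟨h4.1, fun d hd _ => ?_⟩
      by_cases hd1 : d = 1
      · subst hd1
        refine (F.fix_one hr).2 ?_
        show g⁻¹ * x * r = r * (g⁻¹ * x)
        calc g⁻¹ * x * r = g⁻¹ * (x * r * x⁻¹) * x := by group
          _ = g⁻¹ * (g * r * g⁻¹) * x := by rw [hgr]
          _ = r * (g⁻¹ * x) := by group
      · exact h4.2 d hd (by simpa using hd1)
    have e : x = g * (g⁻¹ * x) := by group
    rw [e]
    exact mul_mem hg (mem_sup_right h2)
  · refine sup_le (fun q hq => ⟨A.Q_M hs hq, fun d hd h1 => ?_⟩) (fun y hy => ⟨hSM hy, fun d hd _ => hS2 y hy d hd⟩)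
    rcases Nat.lt_or_ge d 2 with h | h
    · interval_cases d
      · exact F.fix_zero _
      · exact absurd rfl h1
    · exact F.Qs_fix hs hsd hq h hd

end Fg

/-! ### The node `0` -/

namespace ES

variable {r s l : G} {S : Subgroup G} (E : ES z M U Δ f t r s l S)

include E

/-- `P_0 = L S` -/
theorem mem_P0 {x : G} : x ∈ Lp U r ⊔ S ↔ ∃ g ∈ Lp U r, ∃ b ∈ S, x = g * b := by
  have h : S ≤ normalizer (Lp U r : Set G) := fun x hx => E.O.L_norm (mem_Cp.2 (E.S_r x hx))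
  rw [← SetLike.mem_coe, coe_mul_of_right_le_normalizer_left _ _ h]
  constructor
  · rintro ⟨g, hg, b, hb, rfl⟩
    exact ⟨g, hg, b, hb, rfl⟩
  · rintro ⟨g, hg, b, hb, rfl⟩
    exact ⟨g, hg, b, hb, rfl⟩

/-- `L ∩ C(z) ≤ S` -/
theorem L_Cz {g : G} (hg : g ∈ Lp U r) (hgz : g * z = z * g) : g ∈ S := by
  obtain ⟨q, hq, u, hu, rfl⟩ := E.mem_QU hg hgz
  exact mul_mem (E.Q_S hq) (E.U_S hu)

/-- `P_0 ∩ C(z) = S` -/
theorem P0_Cz (hSz : ∀ x ∈ S, x * z = z * x) {x : G} (hx : x ∈ Lp U r ⊔ S) (hxz : x * z = z * x) : x ∈ S := by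
  obtain ⟨g, hg, b, hb, rfl⟩ := E.mem_P0.1 hx
  refine mul_mem (E.L_Cz hg ?_) hb
  have h1 : b⁻¹ * z = z * b⁻¹ := by
    have := hSz b⁻¹ (inv_mem hb)
    exact this
  calc g * z = g * b * (b⁻¹ * z) := by group
    _ = g * b * (z * b⁻¹) := by rw [h1]
    _ = (g * b * z) * b⁻¹ := by group
    _ = (z * (g * b)) * b⁻¹ := by rw [hxz]
    _ = z * g := by group

/-- **`|P_0 : S| = 3`** -/
theorem relIndex_zero [Finite G] (hSz : ∀ x ∈ S, x * z = z * x) : S.relIndex (Lp U r ⊔ S) = 3 := by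
  have A := E.A
  obtain ⟨a, haL, ha1, -, -⟩ := E.exists_zy
  let w : Fin 3 → G := ![1, l, a]
  have hwz : ∀ i, w i * z * (w i)⁻¹ = ![z, t r, r * z * t r] i := by
    intro i
    fin_cases i
    · show (1 : G) * z * 1⁻¹ = z
      group
    · exact E.lz
    · exact ha1
  have hwL : ∀ i, w i ∈ Lp U r := by
    intro i
    fin_cases i
    · exact one_mem _
    · exact E.l_L
    · exact haL
  have hinj : ∀ i j : Fin 3, (![z, t r, r * z * t r] : Fin 3 → G) i = (![z, t r, r * z * t r] : Fin 3 → G) j →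
      i = j := by
    have n1 := A.z_ne_t E.r_Δ
    have n2 := A.z_ne_y E.r_Δ
    have n3 := A.t_ne_y E.r_Δ
    intro i j
    fin_cases i <;> fin_cases j <;> intro h <;> first
      | rfl
      | exact absurd h n1
      | exact absurd h n2
      | exact absurd h n3
      | exact absurd h n1.symm
      | exact absurd h n2.symm
      | exact absurd h n3.symm
  have hcard := card_of_cosets (A := S) (B := Lp U r ⊔ S) w
    (fun i b hb => mul_mem (mem_sup_left (hwL i)) (mem_sup_right hb)) ?_ ?_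
  · have h1 := relIndex_mul_card S (Lp U r ⊔ S) le_sup_right
    rw [hcard] at h1
    exact Nat.eq_of_mul_eq_mul_right Nat.card_pos h1
  · intro i j b hb e
    apply hinj
    rw [← hwz i, ← hwz j, ← e]
    have h1 := hSz b hb
    calc w i * z * (w i)⁻¹ = w i * (z * b) * b⁻¹ * (w i)⁻¹ := by group
      _ = w i * (b * z) * b⁻¹ * (w i)⁻¹ := by rw [h1]
      _ = w i * b * z * (w i * b)⁻¹ := by group
  · intro x hx
    obtain ⟨g, hg, b, hb, e⟩ := E.mem_P0.1 hx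
    have hgC := A.L_le E.r_Δ hg
    have h1 : ∃ i, g * z * g⁻¹ = w i * z * (w i)⁻¹ := by
      rcases E.h3 r E.r_Δ g hgC with h | h | h
      · exact ⟨0, by rw [h, hwz]; rfl⟩
      · exact ⟨1, by rw [h, hwz]; rfl⟩
      · exact ⟨2, by rw [h, hwz]; rfl⟩
    obtain ⟨i, hi⟩ := h1
    refine ⟨i, ?_⟩
    have h2 : (w i)⁻¹ * g * z = z * ((w i)⁻¹ * g) := by
      calc (w i)⁻¹ * g * z = (w i)⁻¹ * (g * z * g⁻¹) * g := by group
        _ = (w i)⁻¹ * (w i * z * (w i)⁻¹) * g := by rw [hi]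
        _ = z * ((w i)⁻¹ * g) := by group
    have h4 := E.L_Cz (mul_mem (inv_mem (hwL i)) hg) h2
    rw [e, ← mul_assoc]
    exact mul_mem h4 hb
where
  relIndex_mul_card {G : Type _} [Group G] (A B : Subgroup G) (h : A ≤ B) :
      A.relIndex B * Nat.card A = Nat.card B := by
    have h1 := (A.subgroupOf B).index_mul_card
    rw [Nat.card_congr (subgroupOfEquivOfLe h).toEquiv] at h1
    exact h1

/-- **the digons `(0, j)`** -/
theorem digon (hSz : ∀ x ∈ S, x * z = z * x) {I : Type*} {P : I → Subgroup G} {i j : I} (hB : ∀ k, S ≤ P k)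
    (hi : P i = Lp U r ⊔ S) (hjr : ∀ x ∈ P j, x * r = r * x) (hjz : ∀ x ∈ P j, x * z = z * x) :
    GPp S P i j 2 ∧ GPp S P j i 2 := by
  have hLn : ∀ q ∈ P j, ∀ g ∈ Lp U r, q * g * q⁻¹ ∈ Lp U r := fun q hq g hg =>
    conj_norm (E.O.L_norm (mem_Cp.2 (hjr q hq))) hg
  constructor
  · refine gpp_two hB ?_ ?_
    · intro x hx hxj
      rw [hi] at hx
      exact E.P0_Cz hSz hx (hjz x hxj)
    · intro p hp q hq
      rw [hi] at hp
      obtain ⟨g, hg, b, hb, rfl⟩ := E.mem_P0.1 hp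
      have hbq : b * q ∈ P j := mul_mem (hB j hb) hq
      refine ⟨b * q, hbq, (b * q)⁻¹ * g * (b * q)⁻¹⁻¹, ?_, by group⟩
      rw [hi]
      exact mem_sup_left (hLn _ (inv_mem hbq) g hg)
  · refine gpp_two hB ?_ ?_
    · intro x hxj hx
      rw [hi] at hx
      exact E.P0_Cz hSz hx (hjz x hxj)
    · intro q hq p hp
      rw [hi] at hp
      obtain ⟨g, hg, b, hb, rfl⟩ := E.mem_P0.1 hp
      refine ⟨q * g * q⁻¹, ?_, q * b, mul_mem hq (hB j hb), by group⟩
      rw [hi]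
      exact mem_sup_left (hLn q hq g hg)

end ES

/-! ### The system -/

/-- the entries of the Coxeter matrix of type `C_{m+1}` -/
def ent (m i j : ℕ) : ℕ :=
  if (i + 1 = j ∧ j = m) ∨ (j + 1 = i ∧ i = m) then 4 else if i + 1 = j ∨ j + 1 = i then 3 else 2

/-- **(7) of #15507: the parabolic system** -/
theorem exists_sys [Finite G] (A : Res z M U Δ f t) (h3 : Three z Δ t) {r : G} (O : Out z M U Δ f t r) (hr : r ∈ Δ)
    {p : G} (hp : p ∈ Δ) (hpr : p ≠ r) (hf : f r p = 0) (S : Sylow 2 G) (hSM : (S : Subgroup G) ≤ M)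
    (hSr : ∀ s ∈ (S : Subgroup G), s * r = r * s) :
    ∃ m, 2 ≤ m ∧ ∃ PP : Fin (m + 1) → Subgroup G, (∀ i, (S : Subgroup G) ≤ PP i) ∧
      (∀ i, (S : Subgroup G).relIndex (PP i) = 3) ∧
      (∀ i j, i ≠ j → GPp (S : Subgroup G) PP i j (ent m i j)) ∧
      (∀ i : Fin (m + 1), (i : ℕ) ≠ 1 → PP i ≤ centralizer ({r} : Set G)) ∧
      M ≤ ⨆ i, PP i ∧ centralizer ({r} : Set G) ≤ ⨆ i, PP i ∧
      2 ^ ((m + 1) ^ 2) ≤ Nat.card (S : Subgroup G) ∧
      ∃ Y ≤ (S : Subgroup G), Y ≤ U ⊔ closure (t '' Δ) ∧ 2 ^ ((m + 1) ^ 2) ≤ Nat.card Y := by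
  obtain ⟨sigma, m, fl, F⟩ := exists_fg A O hr hp hpr hf S hSM hSr
  obtain ⟨s, l, E, hP1⟩ := F.exists_es h3 O hr S rfl
  have h2 := F.two
  have hSz : ∀ x ∈ (S : Subgroup G), x * z = z * x := fun x hx => A.mz (hSM hx)
  let PP : Fin (m + 1) → Subgroup G := fun i =>
    if (i : ℕ) = 0 then Lp U r ⊔ (S : Subgroup G) else fst M sigma m fl {(i : ℕ)}
  have hPP0 : ∀ i : Fin (m + 1), (i : ℕ) = 0 → PP i = Lp U r ⊔ (S : Subgroup G) := fun i hi => if_pos hi
  have hPPj : ∀ i : Fin (m + 1), (i : ℕ) ≠ 0 → PP i = fst M sigma m fl {(i : ℕ)} := fun i hi => if_neg hi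
  have hle : ∀ i, (S : Subgroup G) ≤ PP i := by
    intro i
    by_cases h : (i : ℕ) = 0
    · rw [hPP0 i h]; exact le_sup_right
    · rw [hPPj i h, ← F.bor]; exact fst_mono (Set.empty_subset _)
  have hle' : ∀ i, fst M sigma m fl ∅ ≤ PP i := by rw [F.bor]; exact hle
  have hjr : ∀ j : Fin (m + 1), 2 ≤ (j : ℕ) → ∀ x ∈ PP j, x * r = r * x := by
    intro j hj x hx
    rw [hPPj j (by omega)] at hx
    exact F.fst_cen hr (by simp only [Set.mem_singleton_iff]; omega) hx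
  have hjz : ∀ j : Fin (m + 1), (j : ℕ) ≠ 0 → ∀ x ∈ PP j, x * z = z * x := by
    intro j hj x hx
    rw [hPPj j hj] at hx
    exact A.mz (fst_le hx)
  -- the sup
  have hsup : M ≤ ⨆ i, PP i := by
    refine F.pol.gen (by omega) fun j hj hjm => ?_
    have h := le_iSup PP ⟨j, by omega⟩
    rwa [hPPj ⟨j, by omega⟩ (show (j : ℕ) ≠ 0 by omega)] at h
  refine ⟨m, h2, PP, hle, ?_, ?_, ?_, hsup, ?_, F.card_S, F.exists_Y⟩
  · intro i
    by_cases h : (i : ℕ) = 0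
    · rw [hPP0 i h]; exact E.relIndex_zero hSz
    · rw [hPPj i h]
      have := F.pol.relIndex (j := (i : ℕ)) (by omega) (by omega)
      rwa [F.bor, Nat.card_zmod] at this
  · -- the residues
    have key : ∀ i j : Fin (m + 1), (i : ℕ) < (j : ℕ) → GPp (S : Subgroup G) PP i j (ent m i j) ∧
        GPp (S : Subgroup G) PP j i (ent m i j) := by
      intro i j hij
      by_cases h0 : (i : ℕ) = 0
      · by_cases h1 : (j : ℕ) = 1
        · have e : ent m i j = 3 := by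
            unfold ent
            rw [if_neg (by omega), if_pos (by omega)]
          rw [e]
          have hj : PP j = Qp s ⊔ (S : Subgroup G) := by
            rw [hPPj j (by omega), h1, hP1]
          have := E.rk hle hj (hPP0 i h0)
          exact ⟨this.2, this.1⟩
        · have e : ent m i j = 2 := by
            unfold ent
            rw [if_neg (by omega), if_neg (by omega)]
          rw [e]
          exact E.digon hSz hle (hPP0 i h0) (hjr j (by omega)) (hjz j (by omega))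
      · have hi := hPPj i h0
        have hj := hPPj j (by omega)
        by_cases h1 : (i : ℕ) + 1 = j
        · by_cases h4 : (j : ℕ) = m
          · have e : ent m i j = 4 := by
              unfold ent
              rw [if_pos (by omega)]
            rw [e]
            have := F.pol.rk_four hle' hi hj (by omega) h1 h4
            rw [F.bor] at this
            exact this
          · have e : ent m i j = 3 := by
              unfold ent
              rw [if_neg (by omega), if_pos (by omega)]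
            rw [e]
            have := F.pol.rk_three hle' hi hj (by omega) h1 (by omega)
            rw [F.bor] at this
            exact this
        · have e : ent m i j = 2 := by
            unfold ent
            rw [if_neg (by omega), if_neg (by omega)]
          rw [e]
          have := F.pol.rk_two hle' hi hj (by omega) (by omega)
          rw [F.bor] at this
          exact this
    have hsymm : ∀ i j : ℕ, ent m i j = ent m j i := by
      intro i j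
      unfold ent
      split_ifs <;> omega
    intro i j hij
    have hij' : (i : ℕ) ≠ j := fun h => hij (Fin.ext h)
    rcases Nat.lt_or_gt_of_ne hij' with h | h
    · exact (key i j h).1
    · rw [hsymm]
      exact (key j i h).2
  · intro i hi
    by_cases h : (i : ℕ) = 0
    · rw [hPP0 i h]
      exact sup_le (A.L_le hr) fun x hx => mem_Cp.2 (E.S_r x hx)
    · exact fun x hx => mem_Cp.2 (hjr i (by omega) x hx)
  · -- `C(r) = L K_r`
    have h1 : Lp U r ≤ ⨆ i, PP i := by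
      have h := le_iSup PP ⟨0, by omega⟩
      rw [hPP0 ⟨0, by omega⟩ rfl] at h
      exact le_sup_left.trans h
    have h4 : Kp z r ≤ ⨆ i, PP i := (A.CN_le_M hr).trans hsup
    have h5 := O.L_sup
    show Cp r ≤ _
    rw [← h5]
    exact sup_le h1 h4

end Cfsg.Agent.Omega.HTwo.Seven

end

section


/-!
# A group acting on an elementary abelian 2-group with a symplectic form: the flag stabilisers

`SData C U z f` : `C` acts on the elementary abelian 2-group `U` by conjugation, centralises `z ∈ U`; `f` is a `C`-invariant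
alternating form on `U` with radical `⟨z⟩`, and `C` induces all the transvections of `U / ⟨z⟩`.

`Md U z w` : `w : G → W` is a model of `U / ⟨z⟩` over `ZMod 2`; `exists_md`.
`gf`, `rho`, `sigma` : the form, the action on `W` and on the subspaces; `symp : Symp gf`, `sact : SAct gf rho sigma`.

`exists_pol` : a Sylow 2-subgroup `S ≤ C` which fixes the members of a flag `f₀` is the full stabiliser
`fst C sigma m fl ∅` of a maximal flag `fl` through `f₀` (if `C_C(U)` is a 2-group).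
-/

set_option autoImplicit false

namespace Cfsg.Agent.Omega.HTwo.SysSymp

open Subgroup Module Cfsg.Agent.ParSys.Polar.Flags Cfsg.Agent.ParSys.Polar.Sympl

universe u

variable {G : Type u} [Group G]

/-- `C` induces on `U / ⟨z⟩` a group of isometries of the symplectic form `f` which contains all the transvections -/
structure SData (C U : Subgroup G) (z : G) (f : G → G → ZMod 2) : Prop where
  zz : z * z = 1
  C_z : ∀ c ∈ C, c * z = z * c
  z_U : z ∈ U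
  U_comm : ∀ u ∈ U, ∀ v ∈ U, u * v = v * u
  U_sq : ∀ u ∈ U, u * u = 1
  U_C : ∀ c ∈ C, ∀ u ∈ U, c * u * c⁻¹ ∈ U
  f_add : ∀ u ∈ U, ∀ v ∈ U, ∀ w ∈ U, f (u * v) w = f u w + f v w
  f_symm : ∀ u ∈ U, ∀ v ∈ U, f u v = f v u
  f_self : ∀ u ∈ U, f u u = 0
  f_C : ∀ c ∈ C, ∀ u ∈ U, ∀ v ∈ U, f (c * u * c⁻¹) (c * v * c⁻¹) = f u v
  f_rad : ∀ u ∈ U, (∀ v ∈ U, f u v = 0) → u = 1 ∨ u = z
  f_z : ∀ u ∈ U, f z u = 0
  tv : ∀ p ∈ U, ∃ c ∈ C, ∀ u ∈ U, (f u p = 0 → c * u * c⁻¹ = u ∨ c * u * c⁻¹ = u * z) ∧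
    (f u p = 1 → c * u * c⁻¹ = u * p ∨ c * u * c⁻¹ = u * p * z)

/-- a model of `U / ⟨z⟩` -/
structure Md (U : Subgroup G) (z : G) {W : Type*} [AddCommGroup W] (w : G → W) : Prop where
  mul : ∀ u ∈ U, ∀ v ∈ U, w (u * v) = w u + w v
  ker : ∀ u ∈ U, w u = 0 → u = 1 ∨ u = z
  sur : ∀ x, ∃ u ∈ U, w u = x
  wz : w z = 0

/-! ### Existence of a model -/

section model

variable {C U : Subgroup G} {z : G} {f : G → G → ZMod 2} (D : SData C U z f)
include D

theorem SData.f_add' {u v w : G} (hu : u ∈ U) (hv : v ∈ U) (hw : w ∈ U) : f u (v * w) = f u v + f u w := by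
  rw [D.f_symm u hu _ (mul_mem hv hw), D.f_add v hv w hw u hu, D.f_symm v hv u hu, D.f_symm w hw u hu]

theorem SData.f_one {u : G} (hu : u ∈ U) : f 1 u = 0 := by
  have h := D.f_add 1 U.one_mem 1 U.one_mem u hu
  rw [one_mul] at h
  exact left_eq_add.1 h

theorem SData.f_z' {u : G} (hu : u ∈ U) : f u z = 0 := by rw [D.f_symm u hu z D.z_U, D.f_z u hu]

theorem exists_md : ∃ (W : Type u) (_ : AddCommGroup W) (_ : Module (ZMod 2) W) (w : G → W), Md U z w ∧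
    (Finite G → Finite W) := by
  classical
  let φ : G → (G → ZMod 2) := fun u v => if v ∈ U then f u v else 0
  let W : Submodule (ZMod 2) (G → ZMod 2) :=
    { carrier := {x | ∃ u ∈ U, x = φ u}
      zero_mem' := ⟨1, U.one_mem, by
        funext v
        by_cases hv : v ∈ U
        · simp only [φ, if_pos hv, Pi.zero_apply, D.f_one hv]
        · simp only [φ, if_neg hv, Pi.zero_apply]⟩
      add_mem' := by
        rintro _ _ ⟨u, hu, rfl⟩ ⟨u', hu', rfl⟩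
        refine ⟨u * u', mul_mem hu hu', ?_⟩
        funext v
        by_cases hv : v ∈ U
        · simp only [φ, if_pos hv, Pi.add_apply, D.f_add u hu u' hu' v hv]
        · simp only [φ, if_neg hv, Pi.add_apply, add_zero]
      smul_mem' := by
        rintro a _ ⟨u, hu, rfl⟩
        have ha : a = 0 ∨ a = 1 := by
          revert a; decide
        rcases ha with rfl | rfl
        · refine ⟨1, U.one_mem, ?_⟩
          funext v
          by_cases hv : v ∈ U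
          · simp only [φ, if_pos hv, zero_smul, Pi.zero_apply, D.f_one hv]
          · simp only [φ, if_neg hv, zero_smul, Pi.zero_apply]
        · exact ⟨u, hu, one_smul _ _⟩ }
  let w : G → W := fun u => if h : u ∈ U then ⟨φ u, u, h, rfl⟩ else 0
  have hw : ∀ u ∈ U, ((w u : W) : G → ZMod 2) = φ u := fun u hu => by
    simp only [w, dif_pos hu]
  refine ⟨W, inferInstance, inferInstance, w, ⟨?_, ?_, ?_, ?_⟩, fun _ => inferInstance⟩
  · intro u hu v hv
    apply Subtype.ext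
    rw [Submodule.coe_add, hw _ (mul_mem hu hv), hw _ hu, hw _ hv]
    funext x
    by_cases hx : x ∈ U
    · simp only [φ, if_pos hx, Pi.add_apply, D.f_add u hu v hv x hx]
    · simp only [φ, if_neg hx, Pi.add_apply, add_zero]
  · intro u hu h
    apply D.f_rad u hu
    intro v hv
    have h1 : φ u = 0 := by rw [← hw u hu, h]; rfl
    have h2 := congrFun h1 v
    simp only [φ, if_pos hv, Pi.zero_apply] at h2
    exact h2
  · rintro ⟨_, u, hu, rfl⟩
    exact ⟨u, hu, Subtype.ext (hw u hu)⟩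
  · apply Subtype.ext
    rw [hw z D.z_U]
    funext v
    by_cases hv : v ∈ U
    · simp only [φ, if_pos hv, D.f_z v hv]; rfl
    · simp only [φ, if_neg hv]; rfl

end model

/-! ### The form and the action -/

section action

variable {C U : Subgroup G} {z : G} {f : G → G → ZMod 2} (D : SData C U z f)
  {W : Type*} [AddCommGroup W] {w : G → W} (K : Md U z w)

include K in
theorem Md.w_one : w 1 = 0 := by
  have h := K.mul 1 U.one_mem 1 U.one_mem
  rw [one_mul] at h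
  exact left_eq_add.1 h

include D K in
theorem w_eq_iff {u v : G} (hu : u ∈ U) (hv : v ∈ U) : w u = w v ↔ u = v ∨ u = v * z := by
  constructor
  · intro h
    have h1 : w (v * u) = 0 := by
      rw [K.mul v hv u hu, h, ← K.mul v hv v hv, D.U_sq v hv, K.w_one]
    rcases K.ker _ (mul_mem hv hu) h1 with h2 | h2
    · left
      have h3 : v * (v * u) = v := by rw [h2, mul_one]
      rw [← mul_assoc, D.U_sq v hv, one_mul] at h3
      exact h3
    · right
      have h3 : v * (v * u) = v * z := by rw [h2]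
      rw [← mul_assoc, D.U_sq v hv, one_mul] at h3
      exact h3
  · rintro (rfl | rfl)
    · rfl
    · rw [K.mul v hv z D.z_U, K.wz, add_zero]

/-- a representative -/
noncomputable def lf (x : W) : G := (K.sur x).choose

theorem lf_mem (x : W) : lf K x ∈ U := (K.sur x).choose_spec.1

include K in
theorem w_lf (x : W) : w (lf K x) = x := (K.sur x).choose_spec.2

/-- the form on `W` -/
noncomputable def gf (f : G → G → ZMod 2) (x y : W) : ZMod 2 := f (lf K x) (lf K y)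

include D in
theorem gf_w {u v : G} (hu : u ∈ U) (hv : v ∈ U) : gf K f (w u) (w v) = f u v := by
  have h1 := (w_eq_iff D K (lf_mem K (w u)) hu).1 (w_lf K (w u))
  have h2 := (w_eq_iff D K (lf_mem K (w v)) hv).1 (w_lf K (w v))
  have e1 : ∀ y ∈ U, f (lf K (w u)) y = f u y := by
    intro y hy
    rcases h1 with h1 | h1
    · rw [h1]
    · rw [h1, D.f_add u hu z D.z_U y hy, D.f_z y hy, add_zero]
  have e2 : f u (lf K (w v)) = f u v := by
    rcases h2 with h2 | h2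
    · rw [h2]
    · rw [h2, D.f_add' hu hv D.z_U, D.f_z' hu, add_zero]
  rw [gf, e1 _ (lf_mem K _), e2]

/-- the action on `W` -/
noncomputable def rho (c : ↥C) : W ≃+ W where
  toFun x := w ((c : G) * lf K x * (c : G)⁻¹)
  invFun x := w ((c : G)⁻¹ * lf K x * (c : G)⁻¹⁻¹)
  left_inv x := by
    have h1 := D.U_C c c.2 _ (lf_mem K x)
    have h2 := (w_eq_iff D K (lf_mem K _) h1).1 (w_lf K (w ((c : G) * lf K x * (c : G)⁻¹)))
    have e1 : (c : G)⁻¹ * ((c : G) * lf K x * (c : G)⁻¹) * (c : G)⁻¹⁻¹ = lf K x := by group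
    rcases h2 with h2 | h2
    · show w ((c : G)⁻¹ * lf K (w ((c : G) * lf K x * (c : G)⁻¹)) * (c : G)⁻¹⁻¹) = x
      rw [h2, e1, w_lf K]
    · show w ((c : G)⁻¹ * lf K (w ((c : G) * lf K x * (c : G)⁻¹)) * (c : G)⁻¹⁻¹) = x
      have e2 : (c : G)⁻¹ * ((c : G) * lf K x * (c : G)⁻¹ * z) * (c : G)⁻¹⁻¹ = lf K x * z := by
        have := D.C_z _ c.2
        calc (c : G)⁻¹ * ((c : G) * lf K x * (c : G)⁻¹ * z) * (c : G)⁻¹⁻¹
            = lf K x * (c : G)⁻¹ * (z * (c : G)) := by group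
          _ = lf K x * (c : G)⁻¹ * ((c : G) * z) := by rw [this]
          _ = lf K x * z := by group
      rw [h2, e2, K.mul _ (lf_mem K x) z D.z_U, K.wz, add_zero, w_lf K]
  right_inv x := by
    have h0 : (c : G)⁻¹ ∈ C := inv_mem c.2
    have h1 := D.U_C _ h0 _ (lf_mem K x)
    have h2 := (w_eq_iff D K (lf_mem K _) h1).1 (w_lf K (w ((c : G)⁻¹ * lf K x * (c : G)⁻¹⁻¹)))
    have e1 : (c : G) * ((c : G)⁻¹ * lf K x * (c : G)⁻¹⁻¹) * (c : G)⁻¹ = lf K x := by group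
    rcases h2 with h2 | h2
    · show w ((c : G) * lf K (w ((c : G)⁻¹ * lf K x * (c : G)⁻¹⁻¹)) * (c : G)⁻¹) = x
      rw [h2, e1, w_lf K]
    · show w ((c : G) * lf K (w ((c : G)⁻¹ * lf K x * (c : G)⁻¹⁻¹)) * (c : G)⁻¹) = x
      have e2 : (c : G) * ((c : G)⁻¹ * lf K x * (c : G)⁻¹⁻¹ * z) * (c : G)⁻¹ = lf K x * z := by
        have := D.C_z _ c.2
        calc (c : G) * ((c : G)⁻¹ * lf K x * (c : G)⁻¹⁻¹ * z) * (c : G)⁻¹
            = lf K x * ((c : G) * z) * (c : G)⁻¹ := by group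
          _ = lf K x * (z * (c : G)) * (c : G)⁻¹ := by rw [this]
          _ = lf K x * z := by group
      rw [h2, e2, K.mul _ (lf_mem K x) z D.z_U, K.wz, add_zero, w_lf K]
  map_add' x y := by
    have h1 := (w_eq_iff D K (lf_mem K (x + y)) (mul_mem (lf_mem K x) (lf_mem K y))).1 (by
      rw [w_lf K, K.mul _ (lf_mem K x) _ (lf_mem K y), w_lf K, w_lf K])
    have hx := D.U_C c c.2 _ (lf_mem K x)
    have hy := D.U_C c c.2 _ (lf_mem K y)
    rw [← K.mul _ hx _ hy]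
    have e1 : (c : G) * (lf K x * lf K y) * (c : G)⁻¹ = (c : G) * lf K x * (c : G)⁻¹ * ((c : G) * lf K y * (c : G)⁻¹) := by
      group
    rcases h1 with h1 | h1
    · rw [h1, e1]
    · have e2 : (c : G) * (lf K x * lf K y * z) * (c : G)⁻¹ =
          (c : G) * lf K x * (c : G)⁻¹ * ((c : G) * lf K y * (c : G)⁻¹) * z := by
        have := D.C_z _ c.2
        calc (c : G) * (lf K x * lf K y * z) * (c : G)⁻¹
            = (c : G) * (lf K x * lf K y) * (c : G)⁻¹ * ((c : G) * z) * (c : G)⁻¹ := by group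
          _ = (c : G) * (lf K x * lf K y) * (c : G)⁻¹ * (z * (c : G)) * (c : G)⁻¹ := by rw [this]
          _ = _ := by group
      rw [h1, e2, K.mul _ (mul_mem hx hy) z D.z_U, K.wz, add_zero]

theorem rho_w (c : ↥C) {u : G} (hu : u ∈ U) : rho D K c (w u) = w ((c : G) * u * (c : G)⁻¹) := by
  have h1 := (w_eq_iff D K (lf_mem K (w u)) hu).1 (w_lf K (w u))
  show w ((c : G) * lf K (w u) * (c : G)⁻¹) = _
  rcases h1 with h1 | h1
  · rw [h1]
  · have e2 : (c : G) * (u * z) * (c : G)⁻¹ = (c : G) * u * (c : G)⁻¹ * z := by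
      have := D.C_z _ c.2
      calc (c : G) * (u * z) * (c : G)⁻¹ = (c : G) * u * (c : G)⁻¹ * ((c : G) * z) * (c : G)⁻¹ := by group
        _ = (c : G) * u * (c : G)⁻¹ * (z * (c : G)) * (c : G)⁻¹ := by rw [this]
        _ = _ := by group
    rw [h1, e2, K.mul _ (D.U_C c c.2 u hu) z D.z_U, K.wz, add_zero]

theorem rho_mul (a b : ↥C) (x : W) : rho D K (a * b) x = rho D K a (rho D K b x) := by
  obtain ⟨u, hu, rfl⟩ := K.sur x
  rw [rho_w D K _ hu, rho_w D K _ hu, rho_w D K _ (D.U_C b b.2 u hu)]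
  congr 1
  rw [Subgroup.coe_mul]; group

theorem rho_one (x : W) : rho D K 1 x = x := by
  obtain ⟨u, hu, rfl⟩ := K.sur x
  rw [rho_w D K _ hu, Subgroup.coe_one, one_mul, inv_one, mul_one]

variable [Module (ZMod 2) W]

/-- `rho c` as a linear map -/
noncomputable def rl (c : ↥C) : W →ₗ[ZMod 2] W := (rho D K c).toAddMonoidHom.toZModLinearMap 2

@[simp] theorem rl_apply (c : ↥C) (x : W) : rl D K c x = rho D K c x := rfl

theorem rl_mul (a b : ↥C) : rl D K (a * b) = (rl D K a).comp (rl D K b) := by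
  ext x
  exact rho_mul D K a b x

theorem rl_one : rl D K 1 = LinearMap.id := by
  ext x
  exact rho_one D K x

/-- the action on the subspaces -/
noncomputable def sigma : ↥C →* Equiv.Perm (Submodule (ZMod 2) W) where
  toFun c :=
    { toFun := fun X => X.map (rl D K c)
      invFun := fun X => X.map (rl D K c⁻¹)
      left_inv := fun X => by
        show (X.map (rl D K c)).map (rl D K c⁻¹) = X
        rw [← Submodule.map_comp, ← rl_mul, inv_mul_cancel, rl_one, Submodule.map_id]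
      right_inv := fun X => by
        show (X.map (rl D K c⁻¹)).map (rl D K c) = X
        rw [← Submodule.map_comp, ← rl_mul, mul_inv_cancel, rl_one, Submodule.map_id] }
  map_one' := by
    ext1 X
    show X.map (rl D K 1) = X
    rw [rl_one, Submodule.map_id]
  map_mul' a b := by
    ext1 X
    show X.map (rl D K (a * b)) = (X.map (rl D K b)).map (rl D K a)
    rw [rl_mul, Submodule.map_comp]

theorem sigma_apply (c : ↥C) (X : Submodule (ZMod 2) W) : sigma D K c X = X.map (rl D K c) := rfl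

theorem mem_sigma {c : ↥C} {X : Submodule (ZMod 2) W} {y : W} :
    y ∈ sigma D K c X ↔ ∃ x ∈ X, rho D K c x = y := by
  rw [sigma_apply, Submodule.mem_map]
  rfl

include D in
/-- the form is symplectic -/
theorem symp : Symp (F := ZMod 2) (gf K f) where
  two := by decide
  self x := by rw [gf]; exact D.f_self _ (lf_mem K x)
  add x y t := by
    obtain ⟨u, hu, rfl⟩ := K.sur x
    obtain ⟨v, hv, rfl⟩ := K.sur y
    obtain ⟨s, hs, rfl⟩ := K.sur t
    rw [← K.mul u hu v hv, gf_w D K (mul_mem hu hv) hs, gf_w D K hu hs, gf_w D K hv hs, D.f_add u hu v hv s hs]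
  smul a x y := by
    have ha : a = 0 ∨ a = 1 := by
      revert a; decide
    obtain ⟨v, hv, rfl⟩ := K.sur y
    rcases ha with rfl | rfl
    · rw [zero_smul, zero_mul, ← K.w_one, gf_w D K U.one_mem hv, D.f_one hv]
    · rw [one_smul, one_mul]
  sym x y := by
    rw [gf, gf]; exact D.f_symm _ (lf_mem K y) _ (lf_mem K x)
  nd x h := by
    obtain ⟨u, hu, rfl⟩ := K.sur x
    have h1 : ∀ v ∈ U, f u v = 0 := fun v hv => by rw [← gf_w D K hu hv]; exact h _
    rcases D.f_rad u hu h1 with rfl | rfl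
    · exact K.w_one
    · exact K.wz

/-- `C` acts by isometries and induces all the transvections -/
theorem sact : SAct (gf K f) (rho D K) (sigma D K) where
  mul := rho_mul D K
  sig c X y := mem_sigma D K
  lin c s v := (rl D K c).map_smul s v
  iso c x y := by
    obtain ⟨u, hu, rfl⟩ := K.sur x
    obtain ⟨v, hv, rfl⟩ := K.sur y
    rw [rho_w D K c hu, rho_w D K c hv, gf_w D K (D.U_C c c.2 u hu) (D.U_C c c.2 v hv), gf_w D K hu hv,
      D.f_C c c.2 u hu v hv]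
  tv y a := by
    have ha : a = 0 ∨ a = 1 := by
      revert a; decide
    rcases ha with rfl | rfl
    · exact ⟨1, fun v => by rw [rho_one, zero_mul, zero_smul, add_zero]⟩
    · obtain ⟨p, hp, rfl⟩ := K.sur y
      obtain ⟨c, hc, h⟩ := D.tv p hp
      refine ⟨⟨c, hc⟩, fun v => ?_⟩
      obtain ⟨u, hu, rfl⟩ := K.sur v
      rw [rho_w D K _ hu, gf_w D K hu hp, one_mul]
      have hf : f u p = 0 ∨ f u p = 1 := by
        generalize f u p = a
        revert a; decide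
      obtain ⟨h1, h2⟩ := h u hu
      have hU := D.U_C c hc u hu
      rcases hf with hf | hf
      · rw [hf, zero_smul, add_zero]
        exact (w_eq_iff D K hU hu).2 (h1 hf)
      · rw [hf, one_smul, ← K.mul u hu p hp]
        exact (w_eq_iff D K hU (mul_mem hu hp)).2 (h2 hf)

/-! ### Subspaces and subgroups -/

/-- the subspace of a subgroup -/
def sm (_ : SData C U z f) (K : Md U z w) (A : Subgroup G) : Submodule (ZMod 2) W where
  carrier := {x | ∃ u ∈ A ⊓ U, w u = x}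
  zero_mem' := ⟨1, one_mem _, K.w_one⟩
  add_mem' := by
    rintro _ _ ⟨u, hu, rfl⟩ ⟨v, hv, rfl⟩
    exact ⟨u * v, mul_mem hu hv, K.mul u hu.2 v hv.2⟩
  smul_mem' := by
    rintro a _ ⟨u, hu, rfl⟩
    have ha : a = 0 ∨ a = 1 := by
      revert a; decide
    rcases ha with rfl | rfl
    · exact ⟨1, one_mem _, by rw [zero_smul, K.w_one]⟩
    · exact ⟨u, hu, by rw [one_smul]⟩

theorem w_mem_sm {A : Subgroup G} (hz : z ∈ A) {u : G} (hu : u ∈ U) : w u ∈ sm D K A ↔ u ∈ A := by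
  constructor
  · rintro ⟨v, hv, h⟩
    rcases (w_eq_iff D K hu hv.2).1 h.symm with rfl | rfl
    · exact hv.1
    · exact mul_mem hv.1 hz
  · intro h
    exact ⟨u, ⟨h, hu⟩, rfl⟩

/-- the subspace `X` is fixed by `c` -/
theorem sigma_eq_iff [Finite W] {c : ↥C} {X : Submodule (ZMod 2) W} :
    sigma D K c X = X ↔ ∀ u ∈ U, w u ∈ X → w ((c : G) * u * (c : G)⁻¹) ∈ X := by
  constructor
  · intro h u hu hX
    rw [← h, mem_sigma]
    exact ⟨w u, hX, rho_w D K c hu⟩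
  · intro h
    have hle : sigma D K c X ≤ X := by
      intro y hy
      obtain ⟨x, hx, rfl⟩ := (mem_sigma D K).1 hy
      obtain ⟨u, hu, rfl⟩ := K.sur x
      rw [rho_w D K c hu]
      exact h u hu hx
    have : FiniteDimensional (ZMod 2) W := Module.Finite.of_finite
    exact eq_of_rk hle ((sact D K).card_eq c X)

/-! ### The Sylow group as a flag stabiliser -/

/-- **a Sylow 2-subgroup `S ≤ C` is the full stabiliser of a maximal flag** through a given `S`-invariant flag -/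
theorem exists_pol [Finite G] [Finite W] (S : Sylow 2 G) (hS : (S : Subgroup G) ≤ C)
    (hker : ∀ c ∈ C, (∀ u ∈ U, c * u = u * c) → ∃ n, c ^ 2 ^ n = 1) {k : ℕ} {f₀ : ℕ → Submodule (ZMod 2) W}
    (h : Fl (TI (gf K f)) k f₀)
    (hinv : ∀ s ∈ (S : Subgroup G), ∀ d ≤ k, ∀ u ∈ U, w u ∈ f₀ d → w (s * u * s⁻¹) ∈ f₀ d) :
    ∃ (m : ℕ) (fl : ℕ → Submodule (ZMod 2) W), k ≤ m ∧ Pol C (gf K f) (rho D K) (sigma D K) m fl ∧
      (∀ d ≤ k, fl d = f₀ d) ∧ fst C (sigma D K) m fl ∅ = (S : Subgroup G) := by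
  have hfd : FiniteDimensional (ZMod 2) W := Module.Finite.of_finite
  obtain ⟨m, hm⟩ := (symp D K).exists_witt
  have hF : Nat.card (ZMod 2) = 2 := by rw [Nat.card_eq_fintype_card, ZMod.card]
  have A := sact D K
  have hA : Act (sigma D K) (TI (gf K f) (F := ZMod 2)) := SAct.act (symp D K) A
  let tau : ↥(S : Subgroup G) →* Equiv.Perm (Submodule (ZMod 2) W) := (sigma D K).comp (Subgroup.inclusion hS)
  have htau : ∀ (s : ↥(S : Subgroup G)) (X : Submodule (ZMod 2) W), tau s X = sigma D K ⟨(s : G), hS s.2⟩ X :=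
    fun _ _ => rfl
  obtain ⟨hkm, fl, h1, h2, h3⟩ := exists_fl_inv (symp D K) (tau := tau) hF hm S.isPGroup'
    (fun s X Y hXY => by rw [htau, htau]; exact hA.le _ hXY)
    (fun s X => by rw [htau]; exact hA.rk _ X)
    (fun s X hX => by rw [htau]; exact hA.sing _ hX) h
    (fun s d hd => by
      rw [htau, sigma_eq_iff]
      exact hinv s s.2 d hd)
  have P : Pol C (gf K f) (rho D K) (sigma D K) m fl := ⟨symp D K, A, hm, h1⟩
  refine ⟨m, fl, hkm, P, h2, ?_⟩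
  have hle : (S : Subgroup G) ≤ fst C (sigma D K) m fl ∅ := by
    intro s hs
    refine ⟨hS hs, fun d hd _ => ?_⟩
    have := h3 ⟨s, hs⟩ d hd
    rwa [htau] at this
  have hp : IsPGroup 2 ↥(fst C (sigma D K) m fl ∅) := by
    rintro ⟨c, hc⟩
    obtain ⟨hcC, hc'⟩ := hc
    have h4 : ∀ v, rho D K (⟨c, hcC⟩ ^ 2 ^ (m + 1)) v = v := fun v => P.pow_triv hF (c := ⟨c, hcC⟩) ⟨hcC, hc'⟩ v
    have h5 : ∀ u ∈ U, c ^ 2 ^ (m + 1) * u * (c ^ 2 ^ (m + 1))⁻¹ = u ∨
        c ^ 2 ^ (m + 1) * u * (c ^ 2 ^ (m + 1))⁻¹ = u * z := by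
      intro u hu
      have h6 := h4 (w u)
      rw [rho_w D K _ hu] at h6
      have h7 := D.U_C (c ^ 2 ^ (m + 1)) (pow_mem hcC _) u hu
      exact (w_eq_iff D K h7 hu).1 h6
    have hzc : c ^ 2 ^ (m + 1) * z = z * c ^ 2 ^ (m + 1) := D.C_z _ (pow_mem hcC _)
    have h6 : ∀ u ∈ U, c ^ 2 ^ (m + 2) * u = u * c ^ 2 ^ (m + 2) := by
      intro u hu
      have e : c ^ 2 ^ (m + 2) = c ^ 2 ^ (m + 1) * c ^ 2 ^ (m + 1) := by
        rw [← pow_add]; congr 1; ring
      rw [e]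
      set d := c ^ 2 ^ (m + 1) with hd
      rcases h5 u hu with h7 | h7
      · have h8 : d * u = u * d := mul_inv_eq_iff_eq_mul.1 h7
        rw [mul_assoc, h8, ← mul_assoc, h8, mul_assoc]
      · have h8 : d * u = u * z * d := mul_inv_eq_iff_eq_mul.1 h7
        calc d * d * u = d * (d * u) := mul_assoc _ _ _
          _ = d * (u * z * d) := by rw [h8]
          _ = (d * u) * z * d := by group
          _ = u * z * d * z * d := by rw [h8]
          _ = u * z * (d * z) * d := by group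
          _ = u * z * (z * d) * d := by rw [hzc]
          _ = u * (z * z) * (d * d) := by group
          _ = u * (d * d) := by rw [D.zz, mul_one]
    obtain ⟨n, hn⟩ := hker _ (pow_mem hcC _) h6
    refine ⟨m + 2 + n, Subtype.ext ?_⟩
    show c ^ 2 ^ (m + 2 + n) = 1
    rw [pow_add, pow_mul]
    exact hn
  exact S.is_maximal' hp hle

end action

end Cfsg.Agent.Omega.HTwo.SysSymp

end

section


/-!
# Flags of subgroups in an elementary abelian 2-group with a symplectic form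

`SData C U z f` (SysSymp.lean); `Flg C U z f m X` : `X 0 = ⟨z⟩ < X 1 < ... < X m` is a maximal flag of isotropic subgroups
of `U`, `|X d| = 2 ^ (d + 1)`, `|U| = 2 ^ (2 m + 1)`.

`PPs C m X J` : the elements of `C` which normalise `X d` for all `d ≤ m`, `d ∉ J`.

* `exists_flg` : an `S`-invariant maximal flag through an `S`-invariant partial one, `S = PPs C m X ∅` (`S ≤ C` Sylow);
* `Flg.relIndex` : `|PPs {j} : PPs ∅| = 3`; `Flg.gpp_two`, `Flg.gpp_three`, `Flg.gpp_four` : the rank two residues;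
* `Flg.gen` : `C` is generated by the `PPs {j}`, `1 ≤ j ≤ m`; `Flg.card_le` : `|Q| 2 ^ (m²) ≤ |PPs ∅|`.
-/

set_option autoImplicit false

namespace Cfsg.Agent.Omega.HTwo.SysSymp

open Subgroup Module Cfsg.Agent.ParSys Cfsg.Agent.ParSys.Polar.Flags Cfsg.Agent.ParSys.Polar.Sympl
open Cfsg.Agent.ParSys.Free Cfsg.Agent.ParSys.RankTwo

universe u

variable {G : Type u} [Group G]

/-- the elements of `C` which normalise `X d` for all `d ≤ m`, `d ∉ J` -/
def PPs (C : Subgroup G) (m : ℕ) (X : ℕ → Subgroup G) (J : Set ℕ) : Subgroup G where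
  carrier := {c | c ∈ C ∧ ∀ d ≤ m, d ∉ J → c ∈ normalizer (X d : Set G)}
  one_mem' := ⟨C.one_mem, fun _ _ _ => one_mem _⟩
  mul_mem' := fun ha hb => ⟨mul_mem ha.1 hb.1, fun d hd hJ => mul_mem (ha.2 d hd hJ) (hb.2 d hd hJ)⟩
  inv_mem' := fun ha => ⟨inv_mem ha.1, fun d hd hJ => inv_mem (ha.2 d hd hJ)⟩

theorem mem_PPs {C : Subgroup G} {m : ℕ} {X : ℕ → Subgroup G} {J : Set ℕ} {c : G} :
    c ∈ PPs C m X J ↔ c ∈ C ∧ ∀ d ≤ m, d ∉ J → c ∈ normalizer (X d : Set G) := Iff.rfl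

theorem PPs_le {C : Subgroup G} {m : ℕ} {X : ℕ → Subgroup G} {J : Set ℕ} : PPs C m X J ≤ C := fun _ h => h.1

theorem PPs_mono {C : Subgroup G} {m : ℕ} {X : ℕ → Subgroup G} {J J' : Set ℕ} (h : J ⊆ J') :
    PPs C m X J ≤ PPs C m X J' := fun _ hc => ⟨hc.1, fun d hd hJ => hc.2 d hd fun h' => hJ (h h')⟩

theorem PPs_congr {C : Subgroup G} {m : ℕ} {X X' : ℕ → Subgroup G} (h : ∀ d ≤ m, X d = X' d) (J : Set ℕ) :
    PPs C m X J = PPs C m X' J := by
  ext c
  rw [mem_PPs, mem_PPs]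
  exact and_congr_right fun _ => forall_congr' fun d => forall_congr' fun hd => by rw [h d hd]

/-- a maximal flag of isotropic subgroups -/
structure Flg (U : Subgroup G) (z : G) (f : G → G → ZMod 2) (m : ℕ) (X : ℕ → Subgroup G) : Prop where
  zero : ∀ x, x ∈ X 0 ↔ x = 1 ∨ x = z
  mono : ∀ d < m, X d ≤ X (d + 1)
  le : X m ≤ U
  card : ∀ d ≤ m, Nat.card (X d) = 2 ^ (d + 1)
  iso : ∀ x ∈ X m, ∀ y ∈ X m, f x y = 0
  card_U : Nat.card U = 2 ^ (2 * m + 1)

namespace Flg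

variable {U : Subgroup G} {z : G} {f : G → G → ZMod 2} {m : ℕ} {X : ℕ → Subgroup G} (F : Flg U z f m X)
include F

theorem mono' {a b : ℕ} (hab : a ≤ b) (hb : b ≤ m) : X a ≤ X b := by
  induction b, hab using Nat.le_induction with
  | base => exact le_rfl
  | succ b hab ih => exact (ih (by omega)).trans (F.mono b (by omega))

theorem le_U {d : ℕ} (hd : d ≤ m) : X d ≤ U := (F.mono' hd le_rfl).trans F.le

theorem z_mem {d : ℕ} (hd : d ≤ m) : z ∈ X d := F.mono' (Nat.zero_le d) hd ((F.zero z).2 (Or.inr rfl))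

end Flg

section translate

variable {C U : Subgroup G} {z : G} {f : G → G → ZMod 2} (D : SData C U z f)
  {W : Type*} [AddCommGroup W] [Module (ZMod 2) W] {w : G → W} (K : Md U z w)

/-- the subgroup of a subspace -/
def sg (D : SData C U z f) (K : Md U z w) (X : Submodule (ZMod 2) W) : Subgroup G where
  carrier := {u | u ∈ U ∧ w u ∈ X}
  one_mem' := ⟨U.one_mem, by rw [K.w_one]; exact X.zero_mem⟩
  mul_mem' := fun {a b} ha hb => ⟨mul_mem ha.1 hb.1, by rw [K.mul a ha.1 b hb.1]; exact X.add_mem ha.2 hb.2⟩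
  inv_mem' := fun {a} ha => by
    have : a⁻¹ = a := by
      rw [inv_eq_iff_mul_eq_one]; exact D.U_sq a ha.1
    rw [this]; exact ha

theorem mem_sg {X : Submodule (ZMod 2) W} {u : G} : u ∈ sg D K X ↔ u ∈ U ∧ w u ∈ X := Iff.rfl

theorem sg_le {X : Submodule (ZMod 2) W} : sg D K X ≤ U := fun _ h => h.1

theorem z_mem_sg {X : Submodule (ZMod 2) W} : z ∈ sg D K X := ⟨D.z_U, by rw [K.wz]; exact X.zero_mem⟩

theorem sg_mono {X Y : Submodule (ZMod 2) W} : sg D K X ≤ sg D K Y ↔ X ≤ Y := by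
  constructor
  · intro h x hx
    obtain ⟨u, hu, rfl⟩ := K.sur x
    exact (h (⟨hu, hx⟩ : u ∈ sg D K X)).2
  · exact fun h u hu => ⟨hu.1, h hu.2⟩

theorem sm_sg {X : Submodule (ZMod 2) W} : sm D K (sg D K X) = X := by
  ext x
  constructor
  · rintro ⟨u, hu, rfl⟩
    exact hu.1.2
  · intro hx
    obtain ⟨u, hu, rfl⟩ := K.sur x
    exact ⟨u, ⟨⟨hu, hx⟩, hu⟩, rfl⟩

theorem sg_sm {A : Subgroup G} (hz : z ∈ A) (hA : A ≤ U) : sg D K (sm D K A) = A := by
  ext u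
  rw [mem_sg]
  exact ⟨fun h => (w_mem_sm D K hz h.1).1 h.2, fun h => ⟨hA h, (w_mem_sm D K hz (hA h)).2 h⟩⟩

/-- `|sg X| = 2 |X|` -/
theorem card_sg [Finite G] [Finite W] (hz1 : z ≠ 1) (X : Submodule (ZMod 2) W) :
    Nat.card (sg D K X) = 2 ^ (finrank (ZMod 2) X + 1) := by
  have hfd : FiniteDimensional (ZMod 2) W := Module.Finite.of_finite
  let φ : ↥(sg D K X) →* Multiplicative ↥X :=
    { toFun := fun u => Multiplicative.ofAdd ⟨w u, u.2.2⟩
      map_one' := by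
        have : (⟨w ((1 : ↥(sg D K X)) : G), (1 : ↥(sg D K X)).2.2⟩ : ↥X) = 0 := Subtype.ext K.w_one
        rw [this]; rfl
      map_mul' := fun a b => by
        have : (⟨w ((a * b : ↥(sg D K X)) : G), (a * b : ↥(sg D K X)).2.2⟩ : ↥X) =
            ⟨w (a : G), a.2.2⟩ + ⟨w (b : G), b.2.2⟩ := Subtype.ext (K.mul a a.2.1 b b.2.1)
        rw [this]; rfl }
  have hs : Function.Surjective φ := by
    intro y
    obtain ⟨u, hu, h⟩ := K.sur ((Multiplicative.toAdd y : ↥X) : W)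
    refine ⟨⟨u, hu, by rw [h]; exact (Multiplicative.toAdd y).2⟩, ?_⟩
    show Multiplicative.ofAdd _ = y
    have : (⟨w u, by rw [h]; exact (Multiplicative.toAdd y).2⟩ : ↥X) = Multiplicative.toAdd y := Subtype.ext h
    rw [this]; rfl
  have hk : Nat.card φ.ker = 2 := by
    rw [Nat.card_eq_two_iff]
    have h1 : ∀ x : ↥(sg D K X), x ∈ φ.ker ↔ (x : G) = 1 ∨ (x : G) = z := by
      intro x
      rw [MonoidHom.mem_ker]
      constructor
      · intro h
        have h2 : (⟨w (x : G), x.2.2⟩ : ↥X) = 0 := h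
        exact K.ker x x.2.1 (congrArg Subtype.val h2)
      · intro h
        have h2 : (⟨w (x : G), x.2.2⟩ : ↥X) = 0 := by
          apply Subtype.ext
          show w (x : G) = 0
          rcases h with h | h
          · rw [h, K.w_one]
          · rw [h, K.wz]
        show Multiplicative.ofAdd _ = _
        rw [h2]; rfl
    refine ⟨1, ⟨⟨z, z_mem_sg D K⟩, (h1 _).2 (Or.inr rfl)⟩, ?_, ?_⟩
    · intro h
      have h2 := congrArg (fun x : φ.ker => ((x : ↥(sg D K X)) : G)) h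
      exact hz1 h2.symm
    · ext x
      simp only [Set.mem_insert_iff, Set.mem_singleton_iff, Set.mem_univ, iff_true]
      rcases (h1 x).1 x.2 with h | h
      · left; exact Subtype.ext (Subtype.ext h)
      · right; exact Subtype.ext (Subtype.ext h)
  have h1 := Subgroup.card_eq_card_quotient_mul_card_subgroup φ.ker
  rw [Nat.card_congr (QuotientGroup.quotientKerEquivOfSurjective φ hs).toEquiv, hk] at h1
  rw [h1, pow_succ]
  congr 1
  have h2 : Nat.card (Multiplicative ↥X) = Nat.card ↥X := rfl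
  rw [h2, Module.natCard_eq_pow_finrank (K := ZMod 2), Nat.card_eq_fintype_card, ZMod.card]

/-- `c` fixes the subspace iff it normalises the subgroup -/
theorem sigma_sm [Finite W] {A : Subgroup G} (hz : z ∈ A) (hA : A ≤ U) (c : ↥C) :
    sigma D K c (sm D K A) = sm D K A ↔ (c : G) ∈ normalizer (A : Set G) := by
  have key : ∀ c : ↥C, sigma D K c (sm D K A) = sm D K A ↔ ∀ u ∈ A, (c : G) * u * (c : G)⁻¹ ∈ A := by
    intro c
    rw [sigma_eq_iff]
    constructor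
    · intro h u hu
      exact (w_mem_sm D K hz (D.U_C c c.2 u (hA hu))).1 (h u (hA hu) ((w_mem_sm D K hz (hA hu)).2 hu))
    · intro h u hu hA'
      exact (w_mem_sm D K hz (D.U_C c c.2 u hu)).2 (h u ((w_mem_sm D K hz hu).1 hA'))
  constructor
  · intro h
    have h1 := (key c).1 h
    have h2 : sigma D K c⁻¹ (sm D K A) = sm D K A := by
      rw [map_inv, Equiv.Perm.inv_eq_iff_eq]; exact h.symm
    have h3 := (key c⁻¹).1 h2
    rw [Subgroup.mem_normalizer_iff]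
    intro u
    constructor
    · exact h1 u
    · intro hu
      have h4 := h3 _ hu
      have e : ((c⁻¹ : ↥C) : G) * ((c : G) * u * (c : G)⁻¹) * ((c⁻¹ : ↥C) : G)⁻¹ = u := by
        rw [Subgroup.coe_inv]; group
      rwa [e] at h4
  · intro h
    rw [key]
    exact fun u hu => (Subgroup.mem_normalizer_iff.1 h u).1 hu

/-- the polar space structure of a flag -/
theorem pol [Finite G] [Finite W] (hz1 : z ≠ 1) {m : ℕ} {X : ℕ → Subgroup G} (F : Flg U z f m X) :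
    Pol C (gf K f) (rho D K) (sigma D K) m (fun d => sm D K (X d)) := by
  have hfd : FiniteDimensional (ZMod 2) W := Module.Finite.of_finite
  have hcard : ∀ A : Subgroup G, z ∈ A → A ≤ U → ∀ n, Nat.card A = 2 ^ (n + 1) → finrank (ZMod 2) (sm D K A) = n := by
    intro A hz hA n hn
    have h1 := card_sg D K hz1 (sm D K A)
    rw [sg_sm D K hz hA, hn] at h1
    have := Nat.pow_right_injective (le_refl 2) h1
    omega
  have hTI : ∀ A : Subgroup G, A ≤ U → (∀ x ∈ A, ∀ y ∈ A, f x y = 0) → TI (gf K f) (sm D K A) := by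
    rintro A hA h _ ⟨u, hu, rfl⟩ _ ⟨v, hv, rfl⟩
    rw [gf_w D K hu.2 hv.2]
    exact h u hu.1 v hv.1
  have hfl : Fl (TI (gf K f)) m (fun d => sm D K (X d)) := by
    refine ⟨fun d hd => ?_, fun d hd => hcard _ (F.z_mem hd) (F.le_U hd) _ (F.card d hd), hTI _ F.le F.iso⟩
    rintro _ ⟨u, hu, rfl⟩
    exact ⟨u, ⟨F.mono d hd hu.1, hu.2⟩, rfl⟩
  obtain ⟨m', hm'⟩ := (symp D K).exists_witt
  have h1 := (symp D K).finrank_eq hm'
  have h2 : Nat.card U = 2 ^ (finrank (ZMod 2) W + 1) := by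
    have h3 := card_sg D K hz1 (⊤ : Submodule (ZMod 2) W)
    have h4 : sg D K (⊤ : Submodule (ZMod 2) W) = U := by
      ext u; rw [mem_sg]; simp
    rw [h4, finrank_top] at h3
    exact h3
  rw [F.card_U] at h2
  have h3 := Nat.pow_right_injective (le_refl 2) h2
  obtain rfl : m' = m := by omega
  exact ⟨symp D K, sact D K, hm', hfl⟩

theorem fst_eq [Finite W] {m : ℕ} {X : ℕ → Subgroup G} (F : Flg U z f m X) (J : Set ℕ) :
    fst C (sigma D K) m (fun d => sm D K (X d)) J = PPs C m X J := by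
  ext c
  rw [mem_PPs, mem_fst]
  constructor
  · rintro ⟨hc, h⟩
    exact ⟨hc, fun d hd hJ => (sigma_sm D K (F.z_mem hd) (F.le_U hd) ⟨c, hc⟩).1 (h d hd hJ)⟩
  · rintro ⟨hc, h⟩
    exact ⟨hc, fun d hd hJ => (sigma_sm D K (F.z_mem hd) (F.le_U hd) ⟨c, hc⟩).2 (h d hd hJ)⟩

end translate

/-! ### The flag stabilisers -/

section flag

variable [Finite G] {C U : Subgroup G} {z : G} {f : G → G → ZMod 2} (D : SData C U z f) (hz1 : z ≠ 1)
  {m : ℕ} {X : ℕ → Subgroup G}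

theorem card_zmod_two : Nat.card (ZMod 2) = 2 := by rw [Nat.card_eq_fintype_card, ZMod.card]

include D hz1

namespace Flg

variable (F : Flg U z f m X)
include F

/-- **every panel has three chambers** -/
theorem relIndex {j : ℕ} (hj1 : 1 ≤ j) (hj : j ≤ m) : (PPs C m X ∅).relIndex (PPs C m X {j}) = 3 := by
  obtain ⟨W, _, _, w, K, hW⟩ := exists_md D
  have := hW inferInstance
  have hfd : FiniteDimensional (ZMod 2) W := Module.Finite.of_finite
  rw [← fst_eq D K F, ← fst_eq D K F, (pol D K hz1 F).relIndex hj1 hj, card_zmod_two]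

/-- **`C` is generated by the panel stabilisers** -/
theorem gen (hm1 : 1 ≤ m) {N : Subgroup G} (hN : ∀ j, 1 ≤ j → j ≤ m → PPs C m X {j} ≤ N) : C ≤ N := by
  obtain ⟨W, _, _, w, K, hW⟩ := exists_md D
  have := hW inferInstance
  have hfd : FiniteDimensional (ZMod 2) W := Module.Finite.of_finite
  exact (pol D K hz1 F).gen hm1 fun j h1 h2 => by rw [fst_eq D K F]; exact hN j h1 h2

/-- **the order of the chamber stabiliser** -/
theorem card_le {Q : Subgroup G} (hQC : Q ≤ C)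
    (hQ : ∀ x ∈ Q, ∀ u ∈ U, x * u * x⁻¹ = u ∨ x * u * x⁻¹ = u * z) :
    Nat.card Q * 2 ^ (m ^ 2) ≤ Nat.card (PPs C m X ∅) := by
  obtain ⟨W, _, _, w, K, hW⟩ := exists_md D
  have := hW inferInstance
  have hfd : FiniteDimensional (ZMod 2) W := Module.Finite.of_finite
  have h1 := (pol D K hz1 F).card_le hQC (fun x hx v => by
    obtain ⟨u, hu, rfl⟩ := K.sur v
    rw [rho_w D K _ hu]
    exact (w_eq_iff D K (D.U_C x (hQC hx) u hu) hu).2 (hQ x hx u hu))
  rwa [fst_eq D K F, card_zmod_two] at h1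

section res

variable {I : Type*} {P : I → Subgroup G} {a b : I} {i j : ℕ} (hB : ∀ k, PPs C m X ∅ ≤ P k)
  (ha : P a = PPs C m X {i}) (hb : P b = PPs C m X {j})
include hB ha hb

theorem gpp_two (hij : i + 1 < j) (hj : j ≤ m) :
    GPp (PPs C m X ∅) P a b 2 ∧ GPp (PPs C m X ∅) P b a 2 := by
  obtain ⟨W, _, _, w, K, hW⟩ := exists_md D
  have := hW inferInstance
  have hfd : FiniteDimensional (ZMod 2) W := Module.Finite.of_finite
  rw [← fst_eq D K F] at hB ha hb ⊢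
  exact (pol D K hz1 F).rk_two hB ha hb hij hj

theorem gpp_three (hi : 1 ≤ i) (hij : i + 1 = j) (hj : j < m) :
    GPp (PPs C m X ∅) P a b 3 ∧ GPp (PPs C m X ∅) P b a 3 := by
  obtain ⟨W, _, _, w, K, hW⟩ := exists_md D
  have := hW inferInstance
  have hfd : FiniteDimensional (ZMod 2) W := Module.Finite.of_finite
  rw [← fst_eq D K F] at hB ha hb ⊢
  exact (pol D K hz1 F).rk_three hB ha hb hi hij hj

theorem gpp_four (hi : 1 ≤ i) (hij : i + 1 = j) (hj : j = m) :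
    GPp (PPs C m X ∅) P a b 4 ∧ GPp (PPs C m X ∅) P b a 4 := by
  obtain ⟨W, _, _, w, K, hW⟩ := exists_md D
  have := hW inferInstance
  have hfd : FiniteDimensional (ZMod 2) W := Module.Finite.of_finite
  rw [← fst_eq D K F] at hB ha hb ⊢
  exact (pol D K hz1 F).rk_four hB ha hb hi hij hj

end res

end Flg

/-- **a Sylow 2-subgroup of `C` is the stabiliser of a maximal flag** through a given `S`-invariant partial flag
`X 0 = ⟨z⟩ < X 1 < ... < X k` -/
theorem exists_flg (S : Sylow 2 G) (hS : (S : Subgroup G) ≤ C)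
    (hker : ∀ c ∈ C, (∀ u ∈ U, c * u = u * c) → ∃ n, c ^ 2 ^ n = 1) {k : ℕ} {Y : ℕ → Subgroup G}
    (h0 : ∀ x, x ∈ Y 0 ↔ x = 1 ∨ x = z) (hmono : ∀ d < k, Y d ≤ Y (d + 1)) (hU : Y k ≤ U)
    (hcard : ∀ d ≤ k, Nat.card (Y d) = 2 ^ (d + 1)) (hiso : ∀ x ∈ Y k, ∀ y ∈ Y k, f x y = 0)
    (hinv : ∀ d ≤ k, (S : Subgroup G) ≤ normalizer (Y d : Set G)) :
    ∃ (m : ℕ) (X : ℕ → Subgroup G), k ≤ m ∧ Flg U z f m X ∧ (∀ d ≤ k, X d = Y d) ∧
      PPs C m X ∅ = (S : Subgroup G) := by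
  obtain ⟨W, _, _, w, K, hW⟩ := exists_md D
  have := hW inferInstance
  have hfd : FiniteDimensional (ZMod 2) W := Module.Finite.of_finite
  have hY : ∀ d ≤ k, Y d ≤ Y k := by
    intro d hd
    have key : ∀ b, d ≤ b → b ≤ k → Y d ≤ Y b := by
      intro b hb
      induction b, hb using Nat.le_induction with
      | base => exact fun _ => le_rfl
      | succ b hab ih => exact fun h => (ih (by omega)).trans (hmono b (by omega))
    exact key k hd le_rfl
  have hz : ∀ d ≤ k, z ∈ Y d := by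
    intro d hd
    have key : ∀ b, b ≤ k → Y 0 ≤ Y b := by
      intro b
      induction b with
      | zero => exact fun _ => le_rfl
      | succ b ih => exact fun h => (ih (by omega)).trans (hmono b (by omega))
    exact key d hd ((h0 z).2 (Or.inr rfl))
  have hfl : Fl (TI (gf K f)) k (fun d => sm D K (Y d)) := by
    refine ⟨fun d hd => ?_, fun d hd => ?_, ?_⟩
    · rintro _ ⟨u, hu, rfl⟩
      exact ⟨u, ⟨hmono d hd hu.1, hu.2⟩, rfl⟩
    · have h1 := card_sg D K hz1 (sm D K (Y d))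
      rw [sg_sm D K (hz d hd) ((hY d hd).trans hU), hcard d hd] at h1
      have := Nat.pow_right_injective (le_refl 2) h1
      omega
    · rintro _ ⟨u, hu, rfl⟩ _ ⟨v, hv, rfl⟩
      rw [gf_w D K hu.2 hv.2]
      exact hiso u hu.1 v hv.1
  obtain ⟨m, fl, hkm, P, h1, h2⟩ := exists_pol D K S hS hker hfl (fun s hs d hd u hu hw => by
    have h3 : u ∈ Y d := (w_mem_sm D K (hz d hd) hu).1 hw
    exact (w_mem_sm D K (hz d hd) (D.U_C s (hS hs) u hu)).2 ((Subgroup.mem_normalizer_iff.1 (hinv d hd hs) u).1 h3))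
  have hF : Flg U z f m (fun d => sg D K (fl d)) := by
    refine ⟨fun x => ?_, fun d hd => (sg_mono D K).2 (P.hf.mono d hd), sg_le D K, fun d hd => ?_, ?_, ?_⟩
    · rw [mem_sg, P.hf.zero, Submodule.mem_bot]
      constructor
      · rintro ⟨hx, h3⟩
        exact K.ker x hx h3
      · rintro (rfl | rfl)
        · exact ⟨U.one_mem, K.w_one⟩
        · exact ⟨D.z_U, K.wz⟩
    · rw [card_sg D K hz1, P.hf.rk d hd]
    · intro x hx y hy
      rw [← gf_w D K hx.1 hy.1]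
      exact P.hf.sing _ hx.2 _ hy.2
    · have h3 := card_sg D K hz1 (⊤ : Submodule (ZMod 2) W)
      have h4 : sg D K (⊤ : Submodule (ZMod 2) W) = U := by
        ext u; rw [mem_sg]; simp
      rw [h4, finrank_top, P.H.finrank_eq P.hm] at h3
      exact h3
  refine ⟨m, fun d => sg D K (fl d), hkm, hF, fun d hd => ?_, ?_⟩
  · show sg D K (fl d) = Y d
    rw [h1 d hd, sg_sm D K (hz d hd) ((hY d hd).trans hU)]
  · rw [← h2, ← fst_eq D K hF]
    congr 1
    funext d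
    exact sm_sg D K

end flag

end Cfsg.Agent.Omega.HTwo.SysSymp

end
end

-- part: Mrg/Omega/HOneEnd/OfSys
section
-- merged: Cfsg.Agent.Mrg.ParSys.Restrict
section

/-!
# THEOREM PAR for a subgroup

`SysW p B U H P m`: the parabolic systems with tori `Sys` without the hypothesis that the `P i` generate `G`.  The
subgroup `X = ⨆ i, P i` has a (B,N)-pair with Borel subgroup `B` (`SysW.exists_bnPair`).

* `SysW.sys_of_le` : `SysW` is a system `Sys` for every `X` with `⨆ i, P i = X`;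
* `Front.sysW` : the analogue of `Front.sys`;
* `Front.exists_bnPair` : the (B,N)-pair of `⨆ i, E i`.
-/

set_option autoImplicit false

namespace Cfsg.Agent.ParSys

open Subgroup

variable {G : Type*} [Group G] {I : Type*}

/-! ### Transfer to a subgroup -/

section transfer

variable {X : Subgroup G}

theorem coe_mem_map {T : Subgroup ↥X} {x : ↥X} : (x : G) ∈ T.map X.subtype ↔ x ∈ T :=
  Subgroup.mem_map_iff_mem (f := X.subtype) X.subtype_injective

theorem mem_map_subtype {T : Subgroup ↥X} {x : G} : x ∈ T.map X.subtype ↔ ∃ h : x ∈ X, (⟨x, h⟩ : ↥X) ∈ T := by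
  constructor
  · rintro ⟨y, hy, rfl⟩
    exact ⟨y.2, hy⟩
  · rintro ⟨h, hx⟩
    exact ⟨⟨x, h⟩, hx, rfl⟩

theorem subgroupOf_le_normalizer {A T : Subgroup G} (h : A ≤ normalizer (T : Set G)) :
    A.subgroupOf X ≤ normalizer ((T.subgroupOf X : Subgroup ↥X) : Set ↥X) := by
  intro x hx
  have h1 := h (Subgroup.mem_subgroupOf.1 hx)
  rw [Subgroup.mem_normalizer_iff] at h1 ⊢
  intro y
  exact h1 (y : G)

theorem le_normalizer_map {A : Subgroup G} (hA : A ≤ X) {T : Subgroup ↥X}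
    (h : A.subgroupOf X ≤ normalizer (T : Set ↥X)) : A ≤ normalizer ((T.map X.subtype : Subgroup G) : Set G) := by
  intro a ha
  have h1 := h (Subgroup.mem_subgroupOf.2 ha : (⟨a, hA ha⟩ : ↥X) ∈ A.subgroupOf X)
  rw [Subgroup.mem_normalizer_iff] at h1 ⊢
  intro y
  constructor
  · intro hy
    obtain ⟨hX, hy⟩ := mem_map_subtype.1 hy
    have h2 := (h1 ⟨y, hX⟩).1 hy
    exact coe_mem_map.2 h2
  · intro hy
    obtain ⟨hX, hy⟩ := mem_map_subtype.1 hy
    have hyX : y ∈ X := by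
      have := mul_mem (mul_mem (inv_mem (hA ha)) hX) (hA ha)
      have e : a⁻¹ * (a * y * a⁻¹) * a = y := by group
      rwa [e] at this
    have h2 : (⟨y, hyX⟩ : ↥X) ∈ T := (h1 ⟨y, hyX⟩).2 hy
    exact coe_mem_map.2 h2

theorem map_le_of_le_subgroupOf {A : Subgroup G} {T : Subgroup ↥X} (h : T ≤ A.subgroupOf X) :
    T.map X.subtype ≤ A := by
  rintro _ ⟨x, hx, rfl⟩
  exact h hx

theorem hallData_subgroupOf {p : ℕ} {B U H : Subgroup G} (D : Hall.HallData p B U H) (hB : B ≤ X) :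
    Hall.HallData p (B.subgroupOf X) (U.subgroupOf X) (H.subgroupOf X) where
  U_le := fun _ hx => D.U_le hx
  H_le := fun _ hx => D.H_le hx
  U_norm := subgroupOf_le_normalizer D.U_norm
  U_pgroup := D.U_pgroup.comap_of_injective X.subtype X.subtype_injective
  H_cop := by
    have h1 : Nat.card (H.subgroupOf X) = Nat.card H :=
      Nat.card_congr (Subgroup.subgroupOfEquivOfLe (D.H_le.trans hB)).toEquiv
    rw [h1]; exact D.H_cop
  UH_norm := by
    rw [← Subgroup.subgroupOf_sup (D.U_le.trans hB) (D.H_le.trans hB)]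
    exact subgroupOf_le_normalizer D.UH_norm
  index := by
    obtain ⟨k, hk⟩ := D.index
    exact ⟨k, by rw [← Subgroup.subgroupOf_sup (D.U_le.trans hB) (D.H_le.trans hB),
      Subgroup.relIndex_subgroupOf hB, hk]⟩
  core := by
    intro T hT hp hn
    have h1 := D.core (T.map X.subtype) (map_le_of_le_subgroupOf hT) (hp.map X.subtype)
      (le_normalizer_map hB hn)
    intro x hx
    exact h1 (coe_mem_map.2 hx)

theorem mem_Qk_subgroupOf {B M : Subgroup G} (hM : M ≤ X) {x : ↥X} :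
    x ∈ Qk (B.subgroupOf X) (M.subgroupOf X) ↔ (x : G) ∈ Qk B M := by
  constructor
  · intro h g hg
    exact h ⟨g, hM hg⟩ hg
  · intro h g hg
    exact h (g : G) hg

theorem pTr_subgroupOf {B U M : Subgroup G} (hB : B ≤ X) (hU : U ≤ X) (h : Hall.HallData.PTr B U M) :
    Hall.HallData.PTr (B.subgroupOf X) (U.subgroupOf X) (M.subgroupOf X) := by
  intro g hg hgB g' hg' hgB'
  obtain ⟨u, hu, b, hb, e⟩ := h g hg hgB g' hg' hgB'
  exact ⟨⟨u, hU hu⟩, hu, ⟨b, hB hb⟩, hb, Subtype.ext e⟩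

theorem sepT_subgroupOf {B U H Pi Pj : Subgroup G} (hU : U ≤ X) (hH : H ≤ X) (hi : Pi ≤ X) (hj : Pj ≤ X)
    (h : SepT B U H Pi Pj) :
    SepT (B.subgroupOf X) (U.subgroupOf X) (H.subgroupOf X) (Pi.subgroupOf X) (Pj.subgroupOf X) := by
  intro T hT hHT hc u hu
  obtain ⟨t, ht, h1, h2⟩ := h (T.map X.subtype) (map_le_of_le_subgroupOf hT) (le_normalizer_map hH hHT) (by
    intro v hv
    obtain ⟨t, ht, h1⟩ := hc ⟨v, hU hv⟩ hv
    exact ⟨(t : G), coe_mem_map.2 ht, (mem_Qk_subgroupOf hj).1 h1⟩) (u : G) hu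
  obtain ⟨htX, ht⟩ := mem_map_subtype.1 ht
  exact ⟨⟨t, htX⟩, ht, (mem_Qk_subgroupOf hi).2 h1, (mem_Qk_subgroupOf hj).2 h2⟩

theorem galE_subgroupOf {B : Subgroup G} {P : I → Subgroup G} {f : List I} {l : List ↥X} :
    GalE (B.subgroupOf X) (fun i => (P i).subgroupOf X) f l ↔ GalE B P f (l.map (Subtype.val : ↥X → G)) := by
  induction f generalizing l with
  | nil =>
    cases l with
    | nil => exact Iff.rfl
    | cons x l => exact Iff.rfl
  | cons i f ih =>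
    cases l with
    | nil => exact Iff.rfl
    | cons x l =>
      show (x ∈ (P i).subgroupOf X ∧ x ∉ B.subgroupOf X) ∧ _ ↔ ((x : G) ∈ P i ∧ (x : G) ∉ B) ∧ _
      rw [ih, Subgroup.mem_subgroupOf, Subgroup.mem_subgroupOf]

theorem exists_lift {B : Subgroup G} {P : I → Subgroup G} (hP : ∀ i, P i ≤ X) {f : List I} {l : List G}
    (h : GalE B P f l) : ∃ l' : List ↥X, l'.map (Subtype.val : ↥X → G) = l := by
  induction f generalizing l with
  | nil =>
    cases l with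
    | nil => exact ⟨[], rfl⟩
    | cons x l => exact h.elim
  | cons i f ih =>
    cases l with
    | nil => exact h.elim
    | cons x l =>
      obtain ⟨l', hl'⟩ := ih h.2
      exact ⟨⟨x, hP i h.1.1⟩ :: l', by rw [List.map_cons, hl']⟩

theorem same_subgroupOf {B : Subgroup G} {t s : ↥X} {l l' : List ↥X} :
    Same (B.subgroupOf X) t s l l' ↔ Same B (t : G) (s : G) (l.map (Subtype.val : ↥X → G)) (l'.map (Subtype.val : ↥X → G)) := by
  induction l generalizing t s l' with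
  | nil =>
    cases l' with
    | nil =>
      show t⁻¹ * s ∈ B.subgroupOf X ↔ _
      rw [Subgroup.mem_subgroupOf]
      exact Iff.rfl
    | cons y l' => exact Iff.rfl
  | cons x l ih =>
    cases l' with
    | nil => exact Iff.rfl
    | cons y l' =>
      show (t⁻¹ * s ∈ B.subgroupOf X ∧ _) ↔ ((t : G)⁻¹ * (s : G) ∈ B ∧ Same B ((t : G) * x) ((s : G) * y) _ _)
      rw [ih, Subgroup.mem_subgroupOf]
      exact Iff.rfl

theorem coe_prod (l : List ↥X) : ((l.prod : ↥X) : G) = (l.map (Subtype.val : ↥X → G)).prod := by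
  induction l with
  | nil => rfl
  | cons x l ih => rw [List.prod_cons, List.map_cons, List.prod_cons, ← ih]; rfl

theorem prod_mem_iff {B : Subgroup G} {l l' : List ↥X} :
    l.prod⁻¹ * l'.prod ∈ B.subgroupOf X ↔
      (l.map (Subtype.val : ↥X → G)).prod⁻¹ * (l'.map (Subtype.val : ↥X → G)).prod ∈ B := by
  rw [Subgroup.mem_subgroupOf, ← coe_prod, ← coe_prod]
  exact Iff.rfl

theorem polygon_subgroupOf {B : Subgroup G} {P : I → Subgroup G} {a b : I} {m : ℕ} (hB : B ≤ X)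
    (hP : ∀ i, P i ≤ X) (h : Polygon B P a b m) :
    Polygon (B.subgroupOf X) (fun i => (P i).subgroupOf X) a b m where
  uniq := fun l l' h1 h2 h3 =>
    same_subgroupOf.2 (h.uniq _ _ (galE_subgroupOf.1 h1) (galE_subgroupOf.1 h2) (prod_mem_iff.1 h3))
  uniq' := fun l l' h1 h2 h3 =>
    same_subgroupOf.2 (h.uniq' _ _ (galE_subgroupOf.1 h1) (galE_subgroupOf.1 h2) (prod_mem_iff.1 h3))
  swap := by
    obtain ⟨l, l', h1, h2, h3⟩ := h.swap
    obtain ⟨k, rfl⟩ := exists_lift hP h1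
    obtain ⟨k', rfl⟩ := exists_lift hP h2
    exact ⟨k, k', galE_subgroupOf.2 h1, galE_subgroupOf.2 h2, prod_mem_iff.2 h3⟩
  trans := fun l l' h1 h2 => by
    obtain ⟨y, hy, h3⟩ := h.trans _ _ (galE_subgroupOf.1 h1) (galE_subgroupOf.1 h2)
    exact ⟨⟨y, hB hy⟩, hy, same_subgroupOf.2 h3⟩
  trans' := fun l l' h1 h2 => by
    obtain ⟨y, hy, h3⟩ := h.trans' _ _ (galE_subgroupOf.1 h1) (galE_subgroupOf.1 h2)
    exact ⟨⟨y, hB hy⟩, hy, same_subgroupOf.2 h3⟩

theorem iSup_subgroupOf {P : I → Subgroup G} (hP : ⨆ i, P i = X) : ⨆ i, (P i).subgroupOf X = ⊤ := by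
  apply Subgroup.map_injective X.subtype_injective
  rw [Subgroup.map_iSup]
  have h1 : ∀ i, ((P i).subgroupOf X).map X.subtype = P i := fun i => by
    rw [Subgroup.subgroupOf_map_subtype, inf_eq_left]
    exact (le_iSup P i).trans hP.le
  simp_rw [h1]
  rw [hP, ← MonoidHom.range_eq_map, Subgroup.range_subtype]

end transfer

/-! ### Systems without generation -/

/-- **A parabolic system with tori** (the `P i` need not generate `G`). -/
structure SysW (p : ℕ) (B U H : Subgroup G) (P : I → Subgroup G) (m : I → I → ℕ) : Prop where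
  /-- `U` normal `p`-subgroup of `B`, `H` a Hall `p'`-subgroup of `U H`, `U H` normal in `B`, `B / U H` a `p`-group -/
  hall : Hall.HallData p B U H
  le : ∀ i, B ≤ P i
  /-- every panel has at least three chambers -/
  three : ∀ i, ∃ x ∈ P i, ∃ y ∈ P i, x ∉ B ∧ y ∉ B ∧ x⁻¹ * y ∉ B
  /-- `U` is transitive on the panels -/
  ptr : ∀ i, Hall.HallData.PTr B U (P i)
  /-- `U` modulo the kernel is semiregular on the panels -/
  reg : ∀ i, ∀ u ∈ U, ∀ g ∈ P i, g ∉ B → g⁻¹ * u * g ∈ B → u ∈ Qk B (P i)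
  /-- `C_U(H)` acts trivially on the panels -/
  fix : ∀ i, ∀ c ∈ U, c ∈ centralizer (H : Set G) → c ∈ Qk B (P i)
  m_two : ∀ i j, i ≠ j → 2 ≤ m i j
  m_symm : ∀ i j, m i j = m j i
  /-- the residues of rank two are generalised polygons -/
  poly : ∀ i j, i ≠ j → Polygon B P i j (m i j)
  /-- `H` distinguishes the two types -/
  torus : ∀ i j, i ≠ j → SepT B U H (P i) (P j) ∨ SepT B U H (P j) (P i)
  /-- `Q i ∩ Q j` consists of non-generators of `U` modulo the kernel of the residue -/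
  frat : ∀ i j, i ≠ j → ∀ T ≤ U, H ≤ normalizer (T : Set G) →
    (∀ u ∈ U, ∃ t ∈ T, t⁻¹ * u ∈ Qk B (P i) ∧ t⁻¹ * u ∈ Qk B (P j)) →
    ∀ u ∈ U, ∃ t ∈ T, t⁻¹ * u ∈ Qk B (P i ⊔ P j)

namespace SysW

variable {p : ℕ} {B U H : Subgroup G} {P : I → Subgroup G} {m : I → I → ℕ} (S : SysW p B U H P m)

include S

theorem sys (gen : ⨆ i, P i = ⊤) : Sys p B U H P m where
  hall := S.hall
  gen := gen
  le := S.le
  three := S.three
  ptr := S.ptr
  reg := S.reg
  fix := S.fix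
  m_two := S.m_two
  m_symm := S.m_symm
  poly := S.poly
  torus := S.torus
  frat := S.frat

/-- **Restriction to the subgroup generated by the `P i`.** -/
theorem sys_of_eq [hI : Nonempty I] {X : Subgroup G} (hX : ⨆ i, P i = X) :
    Sys p (B.subgroupOf X) (U.subgroupOf X) (H.subgroupOf X) (fun i => (P i).subgroupOf X) m := by
  have hP : ∀ i, P i ≤ X := fun i => (le_iSup P i).trans hX.le
  have hB : B ≤ X := (S.le (Classical.arbitrary I)).trans (hP _)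
  have hU : U ≤ X := S.hall.U_le.trans hB
  have hH : H ≤ X := S.hall.H_le.trans hB
  exact {
    hall := hallData_subgroupOf S.hall hB
    gen := iSup_subgroupOf hX
    le := fun i _ hx => S.le i hx
    three := by
      intro i
      obtain ⟨x, hx, y, hy, h1, h2, h3⟩ := S.three i
      exact ⟨⟨x, hP i hx⟩, hx, ⟨y, hP i hy⟩, hy, h1, h2, h3⟩
    ptr := fun i => pTr_subgroupOf hB hU (S.ptr i)
    reg := fun i u hu g hg hgB h => (mem_Qk_subgroupOf (hP i)).2 (S.reg i (u : G) hu (g : G) hg hgB h)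
    fix := by
      intro i c hc hcH
      refine (mem_Qk_subgroupOf (hP i)).2 (S.fix i (c : G) hc ?_)
      rw [Subgroup.mem_centralizer_iff] at hcH ⊢
      intro h hh
      exact congrArg Subtype.val (hcH ⟨h, hH hh⟩ hh)
    m_two := S.m_two
    m_symm := S.m_symm
    poly := fun i j hij => polygon_subgroupOf hB hP (S.poly i j hij)
    torus := fun i j hij => (S.torus i j hij).imp (sepT_subgroupOf hU hH (hP i) (hP j))
      (sepT_subgroupOf hU hH (hP j) (hP i))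
    frat := by
      intro i j hij T hT hHT hc u hu
      obtain ⟨t, ht, h1⟩ := S.frat i j hij (T.map X.subtype) (map_le_of_le_subgroupOf hT)
        (le_normalizer_map hH hHT) (by
          intro v hv
          obtain ⟨t, ht, h1, h2⟩ := hc ⟨v, hU hv⟩ hv
          exact ⟨(t : G), coe_mem_map.2 ht, (mem_Qk_subgroupOf (hP i)).1 h1, (mem_Qk_subgroupOf (hP j)).1 h2⟩)
        (u : G) hu
      obtain ⟨htX, ht⟩ := mem_map_subtype.1 ht
      refine ⟨⟨t, htX⟩, ht, ?_⟩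
      rw [← Subgroup.subgroupOf_sup (hP i) (hP j)]
      exact (mem_Qk_subgroupOf (sup_le (hP i) (hP j))).2 h1 }

/-- **THEOREM PAR for a subgroup**: `X = ⨆ i, P i` has a (B,N)-pair with Borel subgroup `B`, of rank `|I|`. -/
theorem exists_bnPair [Nonempty I] [Finite G] [Fact p.Prime] {X : Subgroup G} (hX : ⨆ i, P i = X) :
    ∃ Q : Cfsg.BNPair ↥X, Q.B = B.subgroupOf X ∧ Q.rank = Nat.card I ∧
    ((∀ J : Set I, J.Nonempty → Jᶜ.Nonempty → ∃ i ∈ J, ∃ j ∈ Jᶜ, 3 ≤ m i j) → Q.Irreducible) :=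
  (S.sys_of_eq hX).exists_bnPair

end SysW

/-! ### From local data -/

theorem Front.iSup_Pa [Nonempty I] {p : ℕ} {U : Subgroup G} {E : I → Subgroup G} (_ : Front p U E) :
    ⨆ i, Pa U E i = ⨆ i, E i := by
  apply le_antisymm
  · refine iSup_le fun i => sup_le (iSup_le fun j => ?_) (le_iSup E i)
    exact inf_le_left.trans (le_iSup E j)
  · exact iSup_mono fun i => Front.E_le_Pa i

/-- **From local data to a parabolic system with tori**, without generation. -/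
theorem Front.sysW [Nonempty I] [Finite G] {p : ℕ} [hp : Fact p.Prime] {U : Subgroup G} {E : I → Subgroup G}
    {m : I → I → ℕ} (D : Front p U E)
    (three : ∀ i, ∃ x ∈ Pa U E i, ∃ y ∈ Pa U E i, x ∉ Bo U E ∧ y ∉ Bo U E ∧ x⁻¹ * y ∉ Bo U E)
    (ptr : ∀ i, Hall.HallData.PTr (Bo U E) U (Pa U E i))
    (reg : ∀ i, ∀ u ∈ U, ∀ g ∈ Pa U E i, g ∉ Bo U E → g⁻¹ * u * g ∈ Bo U E → u ∈ Qk (Bo U E) (Pa U E i))
    (fpf : ∀ i, FpfG p (Bo U E) U (Pa U E i))
    (m_two : ∀ i j, i ≠ j → 2 ≤ m i j) (m_symm : ∀ i j, m i j = m j i)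
    (poly : ∀ i j, i ≠ j → Polygon (Bo U E) (Pa U E) i j (m i j))
    (torus : ∀ i j, i ≠ j → SepG p (Bo U E) U (Pa U E i) (Pa U E j) ∨ SepG p (Bo U E) U (Pa U E j) (Pa U E i))
    (frat : ∀ i j, i ≠ j → ∀ T ≤ U,
      (∀ u ∈ U, ∃ t ∈ T, t⁻¹ * u ∈ Qk (Bo U E) (Pa U E i) ∧ t⁻¹ * u ∈ Qk (Bo U E) (Pa U E j)) →
      ∀ u ∈ U, ∃ t ∈ T, t⁻¹ * u ∈ Qk (Bo U E) (Pa U E i ⊔ Pa U E j)) :
    ∃ H : Subgroup G, U ⊔ H = Bo U E ∧ SysW p (Bo U E) U H (Pa U E) m := by
  obtain ⟨H, hall, hUH⟩ := D.exists_hall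
  exact ⟨H, hUH, {
    hall := hall
    le := Front.Bo_le_Pa
    three := three
    ptr := ptr
    reg := reg
    fix := fun i => fix_of_fpfG hall (Front.Bo_le_Pa i) (fpf i)
    m_two := m_two
    m_symm := m_symm
    poly := poly
    torus := fun i j hij => (torus i j hij).imp
      (fun h => (sep_of_sepG hall (Front.Bo_le_Pa i) (Front.Bo_le_Pa j) h).sepT hall (Front.Bo_le_Pa j))
      (fun h => (sep_of_sepG hall (Front.Bo_le_Pa j) (Front.Bo_le_Pa i) h).sepT hall (Front.Bo_le_Pa i))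
    frat := fun i j hij T hT _ h => frat i j hij T hT h }⟩

/-- The (B,N)-pair of `X = ⨆ i, E i`. -/
theorem Front.exists_bnPair [Nonempty I] [Finite G] {p : ℕ} [hp : Fact p.Prime] {U : Subgroup G}
    {E : I → Subgroup G} {m : I → I → ℕ} (D : Front p U E) {X : Subgroup G} (hX : ⨆ i, E i = X)
    (three : ∀ i, ∃ x ∈ Pa U E i, ∃ y ∈ Pa U E i, x ∉ Bo U E ∧ y ∉ Bo U E ∧ x⁻¹ * y ∉ Bo U E)
    (ptr : ∀ i, Hall.HallData.PTr (Bo U E) U (Pa U E i))
    (reg : ∀ i, ∀ u ∈ U, ∀ g ∈ Pa U E i, g ∉ Bo U E → g⁻¹ * u * g ∈ Bo U E → u ∈ Qk (Bo U E) (Pa U E i))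
    (fpf : ∀ i, FpfG p (Bo U E) U (Pa U E i))
    (m_two : ∀ i j, i ≠ j → 2 ≤ m i j) (m_symm : ∀ i j, m i j = m j i)
    (poly : ∀ i j, i ≠ j → Polygon (Bo U E) (Pa U E) i j (m i j))
    (torus : ∀ i j, i ≠ j → SepG p (Bo U E) U (Pa U E i) (Pa U E j) ∨ SepG p (Bo U E) U (Pa U E j) (Pa U E i))
    (frat : ∀ i j, i ≠ j → ∀ T ≤ U,
      (∀ u ∈ U, ∃ t ∈ T, t⁻¹ * u ∈ Qk (Bo U E) (Pa U E i) ∧ t⁻¹ * u ∈ Qk (Bo U E) (Pa U E j)) →
      ∀ u ∈ U, ∃ t ∈ T, t⁻¹ * u ∈ Qk (Bo U E) (Pa U E i ⊔ Pa U E j)) :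
    ∃ Q : Cfsg.BNPair ↥X, Q.B = (Bo U E).subgroupOf X ∧ Q.rank = Nat.card I ∧
    ((∀ J : Set I, J.Nonempty → Jᶜ.Nonempty → ∃ i ∈ J, ∃ j ∈ Jᶜ, 3 ≤ m i j) → Q.Irreducible) := by
  obtain ⟨H, -, S⟩ := D.sysW three ptr reg fpf m_two m_symm poly torus frat
  exact S.exists_bnPair (D.iSup_Pa.trans hX)

end Cfsg.Agent.ParSys

end

-- merged: Cfsg.Agent.Mrg.Omega.HOneEnd.OfSys
section

/-!
# II.0h1, `q = 2`: from a parabolic system to the interface `EndIn` (THEOREM FREE)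

* `gpp_subgroupOf` : the rank two condition `GPp` for a subgroup `X ≥ P i`;
* `exists_bnPair` : a system `S ≤ PP i` with three chambers in each panel, of spherical type, `|S| = 2^N`, without normal
  2-subgroup: the subgroup `X = ⨆ PP i` has a BN-pair with Borel subgroup `S`;
* `ends_of_sys` : over `Pos`: `Ends S V (R o)`.
-/

set_option autoImplicit false

namespace Cfsg.Agent.Omega.HOneEnd.OfSys

open Subgroup Cfsg Cfsg.Agent.ParSys Cfsg.Agent.ParSys.Free Cfsg.Agent.ParSys.FreeCount Cfsg.Agent.ParSys.RankTwo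

section transfer

variable {G : Type*} [Group G] {I : Type*} {X B : Subgroup G} {P : I → Subgroup G}

/-- `X / B → G / B` -/
def qm (X B : Subgroup G) : (↥X ⧸ B.subgroupOf X) → G ⧸ B :=
  fun c => Quotient.liftOn' c (fun y => ((y : G) : G ⧸ B)) fun a b h => by
    rw [QuotientGroup.leftRel_apply] at h
    exact QuotientGroup.eq.2 (Subgroup.mem_subgroupOf.1 h)

theorem qm_mk (y : ↥X) : qm X B (y : ↥X ⧸ B.subgroupOf X) = ((y : G) : G ⧸ B) := rfl

theorem qm_inj : Function.Injective (qm X B) := by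
  intro a b h
  induction a using QuotientGroup.induction_on with
  | _ a =>
  induction b using QuotientGroup.induction_on with
  | _ b =>
  rw [qm_mk, qm_mk, QuotientGroup.eq] at h
  exact QuotientGroup.eq.2 (Subgroup.mem_subgroupOf.2 h)

theorem map_chm (x : ↥X) (k : List ↥X) :
    (chm (B.subgroupOf X) x k).map (qm X B) = chm B (x : G) (k.map (Subtype.val : ↥X → G)) := by
  induction k generalizing x with
  | nil => rfl
  | cons y k ih =>
    rw [chm, List.map_cons, ih, List.map_cons, chm]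
    rfl

/-- the rank two condition for a subgroup -/
theorem gpp_subgroupOf (hP : ∀ i, P i ≤ X) (hBP : ∀ i, B ≤ P i) {i j : I} {m : ℕ} (h : GPp B P i j m) :
    GPp (B.subgroupOf X) (fun i => (P i).subgroupOf X) i j m := by
  have hBP' : ∀ i, B.subgroupOf X ≤ (P i).subgroupOf X := fun i x hx => hBP i hx
  intro c l hl
  induction c using QuotientGroup.induction_on with
  | _ x =>
  obtain ⟨k, hk, rfl⟩ := exists_chm hBP' hl
  have h1 := isGal_chm (x := (x : G)) hBP (galE_subgroupOf.1 hk)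
  obtain ⟨l', ⟨h2, h3⟩, h4⟩ := h _ _ h1
  obtain ⟨k', hk', rfl⟩ := exists_chm hBP h2
  obtain ⟨k₀, rfl⟩ := exists_lift hP hk'
  have hk₀ : GalE (B.subgroupOf X) (fun i => (P i).subgroupOf X) (alt j i m) k₀ := galE_subgroupOf.2 hk'
  refine ⟨chm (B.subgroupOf X) x k₀, ⟨isGal_chm hBP' hk₀, ?_⟩, ?_⟩
  · rw [chm_last, chm_last] at h3 ⊢
    rw [QuotientGroup.eq] at h3 ⊢
    rw [Subgroup.mem_subgroupOf]
    have e : (((x * k₀.prod)⁻¹ * (x * k.prod) : ↥X) : G) =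
        ((x : G) * (k₀.map (Subtype.val : ↥X → G)).prod)⁻¹ * ((x : G) * (k.map (Subtype.val : ↥X → G)).prod) := by
      rw [← ParSys.coe_prod, ← ParSys.coe_prod]
      rfl
    rw [e]
    exact h3
  · rintro l₂ ⟨h5, h6⟩
    obtain ⟨k₂, hk₂, rfl⟩ := exists_chm hBP' h5
    have h7 := h4 (chm B (x : G) (k₂.map (Subtype.val : ↥X → G)))
      ⟨isGal_chm hBP (galE_subgroupOf.1 hk₂), ?_⟩
    · rw [← map_chm, ← map_chm] at h7
      exact (List.map_injective_iff.2 qm_inj) h7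
    · rw [chm_last, chm_last] at h6 ⊢
      rw [QuotientGroup.eq] at h6 ⊢
      rw [Subgroup.mem_subgroupOf] at h6
      have e : (((x * k₂.prod)⁻¹ * (x * k.prod) : ↥X) : G) =
          ((x : G) * (k₂.map (Subtype.val : ↥X → G)).prod)⁻¹ * ((x : G) * (k.map (Subtype.val : ↥X → G)).prod) := by
        rw [← ParSys.coe_prod, ← ParSys.coe_prod]
        rfl
      rw [e] at h6
      exact h6

end transfer

section bn

variable {G : Type*} [Group G] {I : Type*}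

/-- no normal 2-subgroup: the core of `S` is trivial -/
theorem core_bot {S X : Subgroup G} (hloc : ∀ K ≤ S, X ≤ normalizer (K : Set G) → K = ⊥) :
    (S.subgroupOf X).normalCore = ⊥ := by
  have h3 : ((S.subgroupOf X).normalCore).map X.subtype = ⊥ := by
    apply hloc
    · rintro _ ⟨y, hy, rfl⟩
      exact mem_subgroupOf.1 ((S.subgroupOf X).normalCore_le hy)
    · intro g hg
      have h4 : (S.subgroupOf X).normalCore.Normal := inferInstance
      rw [Subgroup.mem_normalizer_iff]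
      intro y
      constructor
      · rintro ⟨y', hy', rfl⟩
        exact ⟨_, h4.conj_mem _ hy' ⟨g, hg⟩, rfl⟩
      · rintro ⟨y', hy', he⟩
        refine ⟨(⟨g, hg⟩⁻¹ * y' * ⟨g, hg⟩ :), ?_, ?_⟩
        · have := h4.conj_mem _ hy' (⟨g, hg⟩⁻¹)
          rwa [inv_inv] at this
        · change g⁻¹ * (y' : G) * g = y
          rw [show (y' : G) = g * y * g⁻¹ from he]
          group
  rw [eq_bot_iff]
  intro y hy
  have h5 : (y : G) ∈ ((S.subgroupOf X).normalCore).map X.subtype := ⟨y, hy, rfl⟩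
  rw [h3, mem_bot] at h5
  exact mem_bot.2 (Subtype.ext h5)

/-- **THEOREM FREE in a subgroup**, `q = 2` -/
theorem exists_bnPair [Finite G] [Finite I] [Nonempty I] {M : CoxeterMatrix I} {N : ℕ} (hM : HasQ M (fun _ => 2) N)
    {S : Subgroup G} {PP : I → Subgroup G} (hle : ∀ i, S ≤ PP i) (h3 : ∀ i, S.relIndex (PP i) = 3)
    (hgp : ∀ i j, i ≠ j → GPp S PP i j (M i j)) (hcard : N ≤ Nat.card S) {X : Subgroup G} (hX : ⨆ i, PP i = X)
    (hloc : ∀ K ≤ S, X ≤ normalizer (K : Set G) → K = ⊥) :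
    Nat.card S = N ∧ ∃ Q : Cfsg.BNPair ↥X, Q.B = S.subgroupOf X ∧ Q.rank = Nat.card I ∧
      (∃ e : I ≃ Q.S, ∀ i, ((e i : ↥X) : G) ∈ PP i) ∧
      ((∀ J : Set I, J.Nonempty → Jᶜ.Nonempty → ∃ i ∈ J, ∃ j ∈ Jᶜ, M i j ≠ 2) → Q.Irreducible) := by
  have hP : ∀ i, PP i ≤ X := fun i => hX ▸ le_iSup PP i
  obtain ⟨i₀⟩ := (inferInstance : Nonempty I)
  have hSX : S ≤ X := (hle i₀).trans (hP i₀)
  have hcore := core_bot hloc
  have hsys : Free.Sys M.toCoxeterSystem (S.subgroupOf X) (fun i => (PP i).subgroupOf X) (S.subgroupOf X)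
      (fun _ => 2) := {
    le := fun i x hx => hle i hx
    gen := by
      have : Nonempty I := ⟨i₀⟩
      exact iSup_subgroupOf hX
    gp := fun i j hij => gpp_subgroupOf hP hle (hgp i j hij)
    card := fun i => by
      rw [Subgroup.relIndex_subgroupOf (hP i)]
      exact h3 i
    two := fun _ => le_rfl
    U_le := le_rfl
    pan := fun i g hg x hx hxB hgx y hy =>
      pan_of_three (B := S.subgroupOf X) (P := (PP i).subgroupOf X) (fun x hx => hle i hx)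
        (by rw [Subgroup.relIndex_subgroupOf (hP i)]; exact h3 i) g hg x hx hxB hgx y hy
    clo := fun _ _ _ h => h
    core := fun g _ h => by
      have h1 : g ∈ (S.subgroupOf X).normalCore := by
        intro b
        have := h b⁻¹
        rwa [inv_inv] at this
      rw [hcore, mem_bot] at h1
      exact h1 }
  have hc0 : Nat.card (S.subgroupOf X) = Nat.card S := Nat.card_congr (subgroupOfEquivOfLe hSX).toEquiv
  have hc1 : Nat.card S = N := le_antisymm (hc0 ▸ hM.card_le hsys) hcard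
  obtain ⟨Q, h1, h2, ⟨e, he⟩, h4⟩ := hM.exists_bnPair hsys (hc0.trans hc1)
  exact ⟨hc1, Q, h1, h2, ⟨e, fun i => mem_subgroupOf.1 (he i)⟩, h4⟩

end bn

section pos

open Cfsg.Agent.ZN Cfsg.Agent.Omega.MinPar Cfsg.Agent.Omega.BTwo Cfsg.Agent.Omega.HOneTwo
open Cfsg.Agent.Omega.HTwo.Entry (Pos)
open Cfsg.Agent.Omega.HTwo.AlphaP (MP)
open Cfsg.Agent.Omega.HOneTwo.Trans (gn gen)
open Cfsg.Agent.Omega.HOne.Cut (Ends TSz)

universe u

variable {G : Type u} [Group G] [Finite G] {S : Sylow 2 G} {P V : Subgroup G} {ι : Type*} {R : ι → Subgroup G}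
  {o : ι} {r z : G}

/-- **the end of the chains for `q = 2`, from a parabolic system** `PP i`, `i ∈ I`, over `S`: all panels have three
chambers, the residues of rank two are generalised polygons (`GPp`), `|S| ≥ 2^{l(w₀)}` (`HasQ`), `PP i ≤ C(r)` for
`i ≠ o'`, `C(r)` and `X` lie in `⟨PP i⟩`, and some `T ≤ [⟨PP i⟩, ⟨PP i⟩]`, `T ≤ S` has order at least `2^{l(w₀)}`. -/
theorem ends_of_sys (p : Pos S P V R o r z) {I : Type*} [Finite I] {M : CoxeterMatrix I} {N : ℕ}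
    (hM : HasQ M (fun _ => 2) N) {PP : I → Subgroup G} (hle : ∀ i, (S : Subgroup G) ≤ PP i)
    (h3 : ∀ i, (S : Subgroup G).relIndex (PP i) = 3)
    (hgp : ∀ i j, i ≠ j → GPp (S : Subgroup G) PP i j (M i j)) (hcard : N ≤ Nat.card (S : Subgroup G))
    (hI : 3 ≤ Nat.card I)
    (hconn : ∀ J : Set I, J.Nonempty → Jᶜ.Nonempty → ∃ i ∈ J, ∃ j ∈ Jᶜ, M i j ≠ 2)
    {o' : I} (hpar : ∀ i, i ≠ o' → PP i ≤ centralizer {r}) (hr : centralizer {r} ≤ ⨆ i, PP i)
    (hX : XX V R ≤ ⨆ i, PP i) {T : Subgroup G} (hT : T ≤ ⁅⨆ i, PP i, ⨆ i, PP i⁆) (hTS : T ≤ (S : Subgroup G))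
    (hTc : N ≤ Nat.card T) : Ends (S : Subgroup G) V (R o) := by
  have hne : Nonempty I := ⟨o'⟩
  have hloc : ∀ K ≤ (S : Subgroup G), (⨆ i, PP i) ≤ normalizer (K : Set G) → K = ⊥ := by
    intro K hK hG
    refine p.toHT.nonloc_o (A := XX V R) (fun i => p.toBT.trans_X_one o i) (S.2.to_le hK) (hX.trans hG) ?_
    rw [p.normalizer_eq]
    exact hr.trans hG
  obtain ⟨hSN, Q, hB, hrk, ⟨e, he⟩, hirr⟩ := exists_bnPair hM hle h3 hgp hcard rfl hloc
  have hTS' : T = (S : Subgroup G) := by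
    apply Subgroup.eq_of_le_of_card_ge hTS
    rw [hSN]
    exact hTc
  rw [hTS'] at hT
  refine OfTwo.ends_of p Q hB (hrk ▸ hI) (hirr hconn) (Subgroup.card_dvd_of_le hT) hr hX ?_
  refine ⟨(e o' : ↥(⨆ i, PP i)), fun s hs hne' => ?_⟩
  have h1 : s = (e (e.symm ⟨s, hs⟩) : ↥(⨆ i, PP i)) := by rw [Equiv.apply_symm_apply]
  have h2 : e.symm ⟨s, hs⟩ ≠ o' := by
    intro h
    apply hne'
    rw [h1, h]
  rw [h1]
  exact hpar _ h2 (he _)

/-- the same with `MP ≤ ⟨PP i⟩` and `T ≤ ⟨r^M, z^{C(p)}⟩` -/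
theorem ends_of_sys' (p : Pos S P V R o r z) (t : TSz V R o r z) {I : Type*} [Finite I] {M : CoxeterMatrix I} {N : ℕ}
    (hM : HasQ M (fun _ => 2) N) {PP : I → Subgroup G} (hle : ∀ i, (S : Subgroup G) ≤ PP i)
    (h3 : ∀ i, (S : Subgroup G).relIndex (PP i) = 3)
    (hgp : ∀ i j, i ≠ j → GPp (S : Subgroup G) PP i j (M i j)) (hcard : N ≤ Nat.card (S : Subgroup G))
    (hI : 3 ≤ Nat.card I)
    (hconn : ∀ J : Set I, J.Nonempty → Jᶜ.Nonempty → ∃ i ∈ J, ∃ j ∈ Jᶜ, M i j ≠ 2)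
    {o' : I} (hpar : ∀ i, i ≠ o' → PP i ≤ centralizer {r}) (hr : centralizer {r} ≤ ⨆ i, PP i)
    (hMP : MP V R o z ≤ ⨆ i, PP i) {T : Subgroup G}
    (hT : T ≤ gn (MP V R o z) r ⊔ closure {x | ∃ m ∈ MP V R o z, ∃ y ∈ gen r z, x = m * y * m⁻¹})
    (hTS : T ≤ (S : Subgroup G)) (hTc : N ≤ Nat.card T) : Ends (S : Subgroup G) V (R o) := by
  have hX : XX V R ≤ ⨆ i, PP i := (le_sup_right : XX V R ≤ MP V R o z).trans hMP
  refine ends_of_sys p hM hle h3 hgp hcard hI hconn hpar hr hX (hT.trans ?_) hTS hTc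
  refine sup_le (OfTwo.gn_le_comm p hr hX) ((closure_le _).2 ?_)
  rintro _ ⟨m, hm, y, hy, rfl⟩
  exact OfTwo.comm_conj (hMP hm) (OfTwo.gen_le_comm p t hr hX hy)

end pos

end Cfsg.Agent.Omega.HOneEnd.OfSys

end
end

private theorem dce_828341a86b79 : _root_.True := by
  try have : _root_.True := by simp only [_root_.Cfsg.Agent.ParSys.Polar.Sympl.Symp.gl.eq_1]
  try have : _root_.True := by simp only [_root_.Cfsg.Agent.Omega.HTwo.SysSymp.gf.eq_1]
  try have : _root_.True := by simp only [_root_.Cfsg.Agent.ParSys.Polar.Sympl.Symp.perp.congr_simp]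
  try have : _root_.True := by simp only [_root_.Cfsg.Agent.Omega.HTwo.SysSymp.lf.congr_simp]
  try have : _root_.True := by simp only [_root_.Cfsg.Agent.Omega.HTwo.Seven.ED.Rs.congr_simp]
  exact _root_.True.intro
end

-- part: Mrg/Omega/HTwo/SevenMain
section
set_option linter.all false
open scoped Cfsg.Agent.FastGrp


/-!
# II.0h1, `q = 2`, `|N_r| = 8`: the statement `Three0` of `HOne/Cut`

`cox m` : the Coxeter matrix of type `C_{m+1}`; `three0 : Cut.Three0`.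
-/

set_option autoImplicit false

namespace Cfsg.Agent.Omega.HTwo.Seven

open Subgroup Cfsg Cfsg.Agent.ParSys Cfsg.Agent.ParSys.RankTwo Cfsg.Agent.ParSys.FreeCount Cfsg.Agent.ParSys.RootEpsBD
open Cfsg.Agent.Omega.BTwo Cfsg.Agent.Omega.HOneTwo Cfsg.Agent.Omega.HOneTwo.Trans
open Cfsg.Agent.Omega.HTwo.Entry (Pos)
open Cfsg.Agent.Omega.HTwo.AlphaP (MP)
open Cfsg.Agent.Omega.HOne.Cut (TSz Ends Three0)
open Cfsg.Agent.Omega.HTwo.Eight (Qp Cp)
open Cfsg.Agent.Omega.HTwo.TSPos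

theorem ent_symm (m i j : ℕ) : ent m i j = ent m j i := by
  unfold ent
  split_ifs <;> omega

theorem ent_ne (m i j : ℕ) : ent m i j ≠ 1 := by
  unfold ent
  split_ifs <;> omega

/-- the Coxeter matrix of type `C_{m+1}` -/
def cox (m : ℕ) : CoxeterMatrix (Fin (m + 1)) where
  M := Matrix.of fun i j => if i = j then 1 else ent m i j
  isSymm := by
    ext i j
    simp only [Matrix.transpose_apply, Matrix.of_apply]
    by_cases h : i = j
    · rw [if_pos h, if_pos h.symm]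
    · rw [if_neg h, if_neg (Ne.symm h), ent_symm]
  diagonal i := by simp only [Matrix.of_apply, if_true]
  off_diagonal i j h := by
    simp only [Matrix.of_apply]
    rw [if_neg h]
    exact ent_ne _ _ _

theorem cox_apply {m : ℕ} {i j : Fin (m + 1)} (h : i ≠ j) : cox m i j = ent m i j := by
  show (if i = j then 1 else ent m i j) = _
  rw [if_neg h]

theorem typeB_cox (m : ℕ) : TypeB ((cox m).reindex (Equiv.refl _)) := by
  intro i j h
  show cox m i j = _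
  rw [cox_apply h]
  rfl

theorem hasQ_cox (m : ℕ) : HasQ (cox m) (fun _ => 2) (2 ^ ((m + 1) ^ 2)) := by
  have h := hasQ_B (M := cox m) (m := m) (Equiv.refl _) (typeB_cox m) (q := fun _ => 2) (x := 2) (y := 2)
    fun i => (ite_self _).symm
  have e : 2 ^ ((m + 1) * m) * 2 ^ (m + 1) = 2 ^ ((m + 1) ^ 2) := by
    rw [← pow_add]
    congr 1
    ring
  rwa [e] at h

universe u v

/-- **`Three0`** : after the transvection statement, `|N_r| = 8` -/
theorem three0 : Three0.{u, v} := by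
  intro G _ _ S P V ι R o r z p h hc
  have A := res p h
  have h3 := three p h hc
  have O := out p h hc
  have hr : r ∈ Dl (MP V R o z) r := self_mem_Dl _ _
  obtain ⟨j, -, hj, -, -⟩ := p.toHT.one_lt
  have hq := gg_Dl p j
  have hqr : gg p j ≠ r := by
    intro e
    apply gg_ne p j
    exact p.eq_one hj (gg_mem p j) (by rw [e]; exact p.r_mem)
  have hf : (ts p h).f r (gg p j) = 0 := by
    rw [← A.Q_f r hr _ (A.Δ_U _ hq), ← QQ_o p]
    exact p.V_Q o (gg_V p j)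
  obtain ⟨m, hm, PP, hle, hidx, hgp, hpar, hMP, hCr, hcard, Y, hYS, hY, hYc⟩ :=
    exists_sys A h3 O hr hq hqr hf S (S_M p) (S_r p)
  refine HOneEnd.OfSys.ends_of_sys' p h (M := cox m) (hasQ_cox m) hle hidx ?_ hcard ?_
    (conn_B (Equiv.refl _) (typeB_cox m)) (o' := ⟨1, by omega⟩) ?_ hCr hMP (T := Y) (hY.trans ?_) hYS hYc
  · intro i j hij
    rw [cox_apply hij]
    exact hgp i j hij
  · rw [Nat.card_eq_fintype_card, Fintype.card_fin]
    omega
  · intro i hi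
    exact hpar i fun e => hi (Fin.ext e)
  · refine sup_le_sup le_rfl ((closure_le _).2 ?_)
    rintro _ ⟨q, hq, rfl⟩
    obtain ⟨g, hg, e⟩ := A.t_ZZ q hq
    obtain ⟨m, hm, rfl⟩ := hq
    have hmz : m * z = z * m := A.mz hm
    have hgq := Eight.mem_Cp.1 hg
    refine subset_closure ⟨m, hm, m⁻¹ * g * m * z * (m⁻¹ * g * m)⁻¹, subset_closure ⟨m⁻¹ * g * m, ?_, rfl⟩, ?_⟩
    · calc (m⁻¹ * g * m) * r = m⁻¹ * (g * (m * r * m⁻¹)) * m := by group
        _ = m⁻¹ * (m * r * m⁻¹ * g) * m := by rw [hgq]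
        _ = r * (m⁻¹ * g * m) := by group
    · rw [e]
      calc g * z * g⁻¹ = g * (z * m * m⁻¹) * g⁻¹ := by group
        _ = g * (m * z * m⁻¹) * g⁻¹ := by rw [hmz]
        _ = m * (m⁻¹ * g * m * z * (m⁻¹ * g * m)⁻¹) * m⁻¹ := by group

end Cfsg.Agent.Omega.HTwo.Seven
end

-- part: Mrg/Omega/IId/SymWr/LThm_mg
section

end

-- part: Mrg/Omega/NO1/Beta/Plug_mg
section

end

-- part: Mrg/Omega/IId/BigD/Surv/End
section
prune_inst 0xc11010401022020000180500300024445a000100002b8001f9400b0006c61340a0418f61c0e01b001012a2442030002812dc00500030000000000000411800a0802a42009248a10427000980b087580c00000000000000000000000000041000000000000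
set_option linter.all false
open scoped Cfsg.Agent.FastGrp

-- merged: Cfsg.Agent.Mrg.Omega.IId.BigD.Surv.Base
section

section


/-!
# CvBig (ii), `q = 2` (bb OMEGA 21130, helper165): the element `t`

`Sv S Q V v i y g₀` : (SURV): `y ∈ Ω₁Z(Q)` commutes with `⟨W_p : p ∈ V i⟩` and `T = C_S(v i)`, `c = v i * y = v i ^ g₀`.

* `Sv.exists_t` : there is `t ∈ W_c`, `t ∈ N(T) - T`, `t² ∈ T`;
* `Sv.KT_V`, `Sv.KT_fix` : `W_c ∩ T` centralises `V i` and fixes all `v m`.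
-/

set_option autoImplicit false
set_option linter.unusedSectionVars false

namespace Cfsg.Agent.Omega.IId.Surv

open Subgroup Cfsg
open Cfsg.Agent.ZN (o2 zc)
open Cfsg.Agent.MinSimple.VModule (le_o2 le_normalizer_o2 mem_zc o2_isPGroup o2_le)
open Triangle (KK KK_conj KK_le_o2 mem_cent mem_KK mem_zpowers_iff_of_sq cent_conj o2_cent_conj)
open Big (Fr Vo cz qz conj_mem norm_of comm_of_conj conj_of_comm isPGroup_of_sq le_Vo Vo_le cent_of_closure
  norm_o2 le_o2_of sq_of_closure)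
open Big.Syl (YY mem_YY YY_le exists_conj_le)

universe u

variable {G : Type u} [Group G]

/-- (SURV) -/
structure Sv [Finite G] {ι : Type} (S : Sylow 2 G) (Q : Subgroup G) (V : ι → Subgroup G) (v : ι → G) (i : ι)
    (y g₀ : G) : Prop where
  sd : Sd (S : Subgroup G) Q V v
  hy : y ∈ zc Q
  y1 : y ≠ 1
  yX : y ∈ CX V i
  yT : ∀ t ∈ (S : Subgroup G), t * v i = v i * t → t * y = y * t
  gv : g₀ * v i * g₀⁻¹ = v i * y
  gy : g₀ * y * g₀⁻¹ = y
  gF : g₀ ∈ normalizer ((V i ⊔ zpowers y : Subgroup G) : Set G)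

theorem exists_sq {T : Subgroup G} {t₀ : G} (h0 : t₀ ∉ T) (h : ∃ n : ℕ, t₀ ^ 2 ^ n ∈ T) :
    ∃ m : ℕ, t₀ ^ 2 ^ m ∉ T ∧ t₀ ^ 2 ^ m * t₀ ^ 2 ^ m ∈ T := by
  classical
  have hpos : 0 < Nat.find h := by
    rw [Nat.find_pos]
    simpa using h0
  refine ⟨Nat.find h - 1, Nat.find_min h (by omega), ?_⟩
  have h1 := Nat.find_spec h
  rw [← pow_add, ← two_mul, ← pow_succ', Nat.sub_add_cancel hpos]
  exact h1

namespace Sv

variable [Finite G] {ι : Type} {S : Sylow 2 G} {Q : Subgroup G} {V : ι → Subgroup G} {v : ι → G} {i : ι}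
  {y g₀ : G} (h : Sv S Q V v i y g₀)
include h

theorem cz' : v i * y ∈ zc Q := mul_mem (h.sd.v_zq i) h.hy

theorem cc : v i * y * (v i * y) = 1 := h.sd.zq_sq h.cz'

theorem c_notCX : v i * y ∉ CX V i := fun hc => h.sd.v_notCX i (by
  have h1 := mul_mem hc (inv_mem h.yX)
  rwa [mul_inv_cancel_right] at h1)

theorem y_notV : y ∉ V i := fun hy => h.y1 (h.sd.eq_one_of_CX hy h.yX)

theorem c_notV : v i * y ∉ V i := fun hc => h.y_notV (by
  have h1 := mul_mem (inv_mem (h.sd.vV i)) hc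
  rwa [inv_mul_cancel_left] at h1)

theorem qz_conj {x : G} (hx : x ∈ qz (v i)) : g₀ * x * g₀⁻¹ ∈ qz (v i * y) := by
  have h1 : qz (v i * y) = (qz (v i)).map (MulAut.conj g₀).toMonoidHom := by
    have := o2_cent_conj g₀ (v i)
    rwa [h.gv] at this
  rw [h1]
  exact ⟨x, hx, rfl⟩

theorem qz_conj' {x : G} (hx : x ∈ qz (v i * y)) : g₀⁻¹ * x * g₀ ∈ qz (v i) := by
  have h1 : qz (v i * y) = (qz (v i)).map (MulAut.conj g₀).toMonoidHom := by
    have := o2_cent_conj g₀ (v i)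
    rwa [h.gv] at this
  rw [h1] at hx
  obtain ⟨z, hz, rfl⟩ := hx
  have e : g₀⁻¹ * ((MulAut.conj g₀).toMonoidHom z) * g₀ = z := by
    show g₀⁻¹ * (g₀ * z * g₀⁻¹) * g₀ = z
    group
  rw [e]
  exact hz

theorem KK_conj1 {x : G} (hx : x ∈ KK (v i)) : g₀ * x * g₀⁻¹ ∈ KK (v i * y) := by
  have h1 := KK_conj (h := g₀) hx
  rwa [h.gv] at h1

theorem KK_conj2 {x : G} (hx : x ∈ KK (v i * y)) : g₀⁻¹ * x * g₀ ∈ KK (v i) := by
  have h1 := KK_conj (h := g₀⁻¹) hx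
  have e : g₀⁻¹ * (v i * y) * g₀⁻¹⁻¹ = v i := by rw [← h.gv]; group
  rwa [e, inv_inv] at h1

theorem KKc_le : KK (v i * y) ≤ qz (v i * y) := by
  intro k hk
  have h1 := h.qz_conj (h.sd.fr.KK_le_q (h.sd.vV i) (h.sd.v1 i) (h.KK_conj2 hk))
  have e : g₀ * (g₀⁻¹ * k * g₀) * g₀⁻¹ = k := by group
  rwa [e] at h1

theorem qzc_y {r : G} (hr : r ∈ qz (v i * y)) : r * y = y * r := by
  have h1 := h.sd.comm_qz (h.sd.vV i) (h.sd.v1 i) h.hy (h.yX (v i) (h.sd.vV i) (h.sd.v1 i)) (h.qz_conj' hr)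
  have e : y = g₀⁻¹ * y * g₀ := by
    calc y = g₀⁻¹ * (g₀ * y * g₀⁻¹) * g₀ := by group
      _ = g₀⁻¹ * y * g₀ := by rw [h.gy]
  calc r * y = g₀ * (g₀⁻¹ * r * g₀ * (g₀⁻¹ * y * g₀)) * g₀⁻¹ := by group
    _ = g₀ * (g₀⁻¹ * r * g₀ * y) * g₀⁻¹ := by rw [← e]
    _ = g₀ * (y * (g₀⁻¹ * r * g₀)) * g₀⁻¹ := by rw [h1]
    _ = (g₀ * y * g₀⁻¹) * r := by group
    _ = y * r := by rw [h.gy]

theorem qzc_v {r : G} (hr : r ∈ qz (v i * y)) : r * v i = v i * r := by
  have h1 : r * (v i * y) = v i * y * r := mem_cent.1 (o2_le _ hr)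
  have h2 := h.qzc_y hr
  have h3 : r * v i * y = v i * r * y := by
    calc r * v i * y = r * (v i * y) := by group
      _ = v i * (y * r) := by rw [h1]; group
      _ = v i * r * y := by rw [← h2]; group
  exact mul_right_cancel h3

/-- the action of `W_c` on `Q_c` -/
theorem act {k x : G} (hk : k ∈ KK (v i * y)) (hx : x ∈ qz (v i * y)) :
    k * x * k⁻¹ = x ∨ k * x * k⁻¹ = v i * y * x := by
  rcases (mem_zpowers_iff_of_sq h.cc).1 ((mem_KK.1 hk).2 x hx) with h1 | h1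
  · left; exact mul_inv_eq_one.1 h1
  · right; exact mul_inv_eq_iff_eq_mul.1 h1

theorem F_le : (V i ⊔ zpowers y : Subgroup G) ≤ qz (v i) :=
  sup_le (h.sd.fr.VQ i i _ (h.sd.vV i) (h.sd.v1 i))
    ((zpowers_le).2 (h.sd.zq_q (h.sd.vV i) (h.sd.v1 i) h.hy))

theorem V_qc : V i ≤ qz (v i * y) := by
  intro e he
  have h1 : g₀⁻¹ * e * g₀ ∈ (V i ⊔ zpowers y : Subgroup G) := by
    have := (mem_normalizer_iff.1 (inv_mem h.gF) e).1 (mem_sup_left he)
    rwa [inv_inv] at this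
  have h2 := h.qz_conj (h.F_le h1)
  have e1 : g₀ * (g₀⁻¹ * e * g₀) * g₀⁻¹ = e := by group
  rwa [e1] at h2

omit h in
/-- elements which commute with `c` normalise `W_c` -/
theorem conjK {x k : G} (hx : x * (v i * y) = v i * y * x) (hk : k ∈ KK (v i * y)) :
    x * k * x⁻¹ ∈ KK (v i * y) := by
  have h1 := KK_conj (h := x) hk
  rwa [conj_of_comm hx] at h1

theorem T_c {x : G} (hx : x ∈ (S : Subgroup G) ⊓ cz (v i)) : x * (v i * y) = v i * y * x := by
  have h1 : x * v i = v i * x := mem_cent.1 hx.2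
  calc x * (v i * y) = (x * v i) * y := by group
    _ = v i * (x * y) := by rw [h1]; group
    _ = v i * y * x := by rw [h.yT x hx.1 h1]; group

theorem zq_c {x : G} (hx : x ∈ zc Q) : x * (v i * y) = v i * y * x := h.sd.zq_mul_comm hx h.cz'

theorem Q_T : Q ≤ (S : Subgroup G) ⊓ cz (v i) := fun q hq =>
  ⟨h.sd.QS hq, mem_cent.2 (h.sd.QV i _ (h.sd.vV i) q hq)⟩

theorem Q_c {q : G} (hq : q ∈ Q) : q * (v i * y) = v i * y * q := h.T_c (h.Q_T hq)

theorem T_V {x e : G} (hx : x ∈ (S : Subgroup G) ⊓ cz (v i)) (he : e ∈ V i) : x * e * x⁻¹ ∈ V i :=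
  h.sd.fix_line hx.1 (mem_cent.1 hx.2) he

/-- `W_c ∩ T` centralises `V i` -/
theorem KT_V {k e : G} (hk : k ∈ KK (v i * y)) (hkT : k ∈ (S : Subgroup G) ⊓ cz (v i)) (he : e ∈ V i) :
    k * e = e * k := by
  rcases h.act hk (h.V_qc he) with h1 | h1
  · exact comm_of_conj h1
  · exfalso
    have h2 := h.T_V hkT he
    rw [h1] at h2
    exact h.c_notV ((mul_mem_cancel_right he).1 h2)

/-- `W_c` is not contained in `T` -/
theorem KK_not_le : ¬ KK (v i * y) ≤ (S : Subgroup G) ⊓ cz (v i) := by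
  intro hle
  obtain ⟨e, he, he1, hve⟩ := h.sd.fr.exists_other (i := i) (v i)
  obtain ⟨a, ha, hae⟩ := h.sd.fr.move (h.sd.vV i) he (h.sd.v1 i) he1 hve
  have hu := h.KK_conj1 ha
  have huT := hle hu
  have h1 : (V i ⊔ zpowers y : Subgroup G) ≤ cz (g₀ * a * g₀⁻¹) :=
    sup_le (fun x hx => mem_cent.2 (h.KT_V hu huT hx).symm)
      ((zpowers_le).2 (mem_cent.2 (h.qzc_y (h.KKc_le hu)).symm))
  have h2 : g₀ * e * g₀⁻¹ ∈ (V i ⊔ zpowers y : Subgroup G) :=
    (mem_normalizer_iff.1 h.gF e).1 (mem_sup_left he)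
  have h3 := mem_cent.1 (h1 h2)
  have h4 : a * e * a⁻¹ = e := by
    calc a * e * a⁻¹ = g₀⁻¹ * ((g₀ * a * g₀⁻¹) * (g₀ * e * g₀⁻¹)) * (g₀ * a⁻¹) := by group
      _ = g₀⁻¹ * ((g₀ * e * g₀⁻¹) * (g₀ * a * g₀⁻¹)) * (g₀ * a⁻¹) := by rw [h3]
      _ = e := by group
  rw [h4] at hae
  exact h.sd.v1 i (mul_eq_right.1 hae.symm)

theorem pow_mem_KK {k : G} (hk : k ∈ KK (v i * y)) : ∃ n : ℕ, k ^ 2 ^ n = 1 := by
  obtain ⟨n, hn⟩ := o2_isPGroup (cz (v i * y)) ⟨k, h.KKc_le hk⟩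
  exact ⟨n, by simpa using congrArg Subtype.val hn⟩

/-- **the element `t`** -/
theorem exists_t : ∃ t ∈ KK (v i * y), t ∉ (S : Subgroup G) ⊓ cz (v i) ∧
    t ∈ normalizer (((S : Subgroup G) ⊓ cz (v i) : Subgroup G) : Set G) ∧
      t * t ∈ (S : Subgroup G) ⊓ cz (v i) := by
  have hf : Fact (Nat.Prime 2) := ⟨Nat.prime_two⟩
  set T : Subgroup G := (S : Subgroup G) ⊓ cz (v i) with hT
  set W : Subgroup G := KK (v i * y) with hW
  have hW2 : IsPGroup 2 W := (o2_isPGroup _).to_le h.KKc_le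
  have hT2 : IsPGroup 2 T := S.isPGroup'.to_le inf_le_left
  have hTW : T ≤ normalizer (W : Set G) := norm_of fun x hx k hk => conjK (h.T_c hx) hk
  set A : Subgroup G := W ⊓ T with hA
  have hlt : A < W := lt_of_le_of_ne inf_le_left fun e => h.KK_not_le (inf_eq_left.1 e)
  have hlt2 := Lib.GoldschmidtFusion.lt_inf_normalizer hW2 hlt
  have hTA : T ≤ normalizer (A : Set G) := norm_of fun x hx k hk =>
    ⟨conj_mem hTW hx hk.1, T.mul_mem (T.mul_mem hx hk.2) (T.inv_mem hx)⟩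
  obtain ⟨t₀, ht₀, ht₀A, ht₀T⟩ := SideOf.exists_fixed_mod (T := T) (not_le_of_gt hlt2) inf_le_right
    (hW2.to_le inf_le_left) hT2 hTA (norm_of fun t ht x hx => ⟨conj_mem hTW ht hx.1,
      mul_mem (mul_mem (hTA ht) hx.2) ((normalizer (A : Set G)).inv_mem (hTA ht))⟩)
  have ht₀n : t₀ ∈ normalizer (T : Set G) := by
    rw [mem_normalizer_iff]
    intro x
    constructor
    · intro hx
      have e : t₀ * x * t₀⁻¹ = (x * t₀ * x⁻¹ * t₀⁻¹)⁻¹ * x := by group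
      rw [e]
      exact mul_mem (inv_mem (ht₀T x hx).2) hx
    · intro hx
      have e : x = t₀⁻¹ * ((t₀ * x * t₀⁻¹) * t₀ * (t₀ * x * t₀⁻¹)⁻¹ * t₀⁻¹)  * t₀ * (t₀ * x * t₀⁻¹) := by group
      have h1 := (ht₀T _ hx)
      have h2 := (mem_normalizer_iff.1 (inv_mem ht₀.2) _).1 h1
      rw [inv_inv] at h2
      rw [e]
      exact mul_mem h2.2 hx
  have ht₀T' : t₀ ∉ T := fun h0 => ht₀A ⟨ht₀.1, h0⟩
  obtain ⟨m, hm, hm2⟩ := exists_sq ht₀T' (by
    obtain ⟨n, hn⟩ := h.pow_mem_KK ht₀.1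
    exact ⟨n, by rw [hn]; exact one_mem _⟩)
  exact ⟨t₀ ^ 2 ^ m, pow_mem ht₀.1 _, hm, pow_mem ht₀n _, hm2⟩

/-- **(1)**: `W_c ∩ T` fixes all `v m` -/
theorem KT_fix {k : G} (hk : k ∈ KK (v i * y)) (hkT : k ∈ (S : Subgroup G) ⊓ cz (v i)) (m : ι) :
    k * v m = v m * k := by
  have hkv : k * v i = v i * k := mem_cent.1 hkT.2
  obtain ⟨m', hm', hvm⟩ := h.sd.perm k hkT.1 m
  by_cases hmm : m' = m
  · subst hmm
    exact comm_of_conj hvm
  exfalso
  have hmi : m ≠ i := by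
    rintro rfl
    rw [conj_of_comm hkv] at hvm
    exact hmm (h.sd.v_inj hvm.symm)
  have hmi' : m' ≠ i := by
    rintro rfl
    have h1 : v m = v m' := by
      calc v m = k⁻¹ * (k * v m * k⁻¹) * k := by group
        _ = k⁻¹ * (v m' * k) := by rw [hvm]; group
        _ = v m' := by rw [← hkv]; group
    exact hmm (h.sd.v_inj h1).symm
  obtain ⟨e, he, he1, hve⟩ := h.sd.fr.exists_other (i := m) (v m)
  obtain ⟨a, ha, hae⟩ := h.sd.fr.move (h.sd.vV m) he (h.sd.v1 m) he1 hve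
  have haq := h.sd.fr.KK_le_q (h.sd.vV m) (h.sd.v1 m) ha
  have haT : a ∈ (S : Subgroup G) ⊓ cz (v i) :=
    ⟨h.sd.KS m ha, mem_cent.2 (h.sd.fr.Qc m i hmi.symm _ (h.sd.vV m) (h.sd.v1 m) a haq _ (h.sd.vV i))⟩
  have ha' : k * a * k⁻¹ ∈ KK (v m') := by
    have := KK_conj (h := k) ha
    rwa [hvm] at this
  have haq' := h.sd.fr.KK_le_q (h.sd.vV m') (h.sd.v1 m') ha'
  have he' : k * e * k⁻¹ ∈ V m' := hm' e he
  have hae' : k * a * k⁻¹ * (k * e * k⁻¹) * (k * a * k⁻¹)⁻¹ = v m' * (k * e * k⁻¹) := by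
    calc k * a * k⁻¹ * (k * e * k⁻¹) * (k * a * k⁻¹)⁻¹ = k * (a * e * a⁻¹) * k⁻¹ := by group
      _ = (k * v m * k⁻¹) * (k * e * k⁻¹) := by rw [hae]; group
      _ = v m' * (k * e * k⁻¹) := by rw [hvm]
  -- the commutators in `W_c`
  have hb : a * (k * a⁻¹ * k⁻¹) ∈ KK (v i * y) := by
    have h1 := mul_mem (conjK (h.T_c haT) hk) (inv_mem hk)
    have e1 : a * k * a⁻¹ * k⁻¹ = a * (k * a⁻¹ * k⁻¹) := by group
    rwa [e1] at h1
  have hx : e * (k * e⁻¹ * k⁻¹) ∈ KK (v i * y) := by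
    have h1 := mul_mem (conjK (h.zq_c (h.sd.V_zq m he)) hk) (inv_mem hk)
    have e1 : e * k * e⁻¹ * k⁻¹ = e * (k * e⁻¹ * k⁻¹) := by group
    rwa [e1] at h1
  obtain ⟨a', ea'⟩ : ∃ a', a' = k * a * k⁻¹ := ⟨_, rfl⟩
  obtain ⟨e', ee'⟩ : ∃ e', e' = k * e * k⁻¹ := ⟨_, rfl⟩
  have e1 : a * (k * a⁻¹ * k⁻¹) = a * a'⁻¹ := by rw [ea']; group
  have e2 : e * (k * e⁻¹ * k⁻¹) = e * e'⁻¹ := by rw [ee']; group
  rw [← ea'] at ha' haq'
  rw [← ee'] at he'
  rw [← ea', ← ee'] at hae'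
  rw [e1] at hb
  have hee' : e'⁻¹ = e' := inv_eq_of_mul_eq_one_left (h.sd.fr.sq m' e' he')
  rw [e2, hee'] at hx
  have c1 : a' * e = e * a' := h.sd.fr.Qc m' m (Ne.symm hmm) _ (h.sd.vV m') (h.sd.v1 m') a' haq' e he
  have c2 : a * e' = e' * a := h.sd.fr.Qc m m' hmm _ (h.sd.vV m) (h.sd.v1 m) a haq e' he'
  have c3 : a * v m' = v m' * a := h.sd.fr.Qc m m' hmm _ (h.sd.vV m) (h.sd.v1 m) a haq _ (h.sd.vV m')
  have c4 : a'⁻¹ * e = e * a'⁻¹ := ((show Commute a' e from c1).inv_left).eq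
  have c5 : a'⁻¹ * e' * a' = v m' * e' := by
    have h1 : a' * (v m' * e') * a'⁻¹ = e' := by
      calc a' * (v m' * e') * a'⁻¹ = (a' * v m') * (a'⁻¹ * (a' * e' * a'⁻¹)) := by group
        _ = (v m' * a') * (a'⁻¹ * (v m' * e')) := by rw [Fr.KK_comm ha', hae']
        _ = (v m' * v m') * e' := by group
        _ = e' := by rw [h.sd.fr.sq m' _ (h.sd.vV m'), one_mul]
    calc a'⁻¹ * e' * a' = a'⁻¹ * (a' * (v m' * e') * a'⁻¹) * a' := by rw [h1]
      _ = v m' * e' := by group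
  have hbx : a * a'⁻¹ * (e * e') * (a * a'⁻¹)⁻¹ = v m * v m' * (e * e') := by
    calc a * a'⁻¹ * (e * e') * (a * a'⁻¹)⁻¹ = a * (a'⁻¹ * e) * e' * a' * a⁻¹ := by group
      _ = a * e * (a'⁻¹ * e' * a') * a⁻¹ := by rw [c4]; group
      _ = (a * e * a⁻¹) * (a * v m' * a⁻¹) * (a * e' * a⁻¹) := by rw [c5]; group
      _ = v m * e * v m' * e' := by rw [hae, conj_of_comm c3, conj_of_comm c2]
      _ = v m * v m' * (e * e') := by
        rw [mul_assoc (v m), h.sd.fr.comm m m' e he _ (h.sd.vV m')]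
        simp only [mul_assoc]
  rcases h.act hb (h.KKc_le hx) with h1 | h1
  · rw [hbx] at h1
    have h2 := mul_eq_right.1 h1
    have h3 : v m = v m' := by
      have h4 := eq_inv_of_mul_eq_one_left h2
      rwa [inv_eq_of_mul_eq_one_left (h.sd.fr.sq m' _ (h.sd.vV m'))] at h4
    exact hmm (h.sd.v_inj h3).symm
  · rw [hbx] at h1
    have h2 := mul_right_cancel h1
    apply h.c_notCX
    rw [← h2]
    exact mul_mem (h.sd.v_CX hmi) (h.sd.v_CX hmi')

end Sv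

end Cfsg.Agent.Omega.IId.Surv

end

section


/-!
# CvBig (ii), `q = 2` (bb OMEGA 21130, helper165): (2), (3)

`St … t` : (SURV) with the element `t`; `Sl … t l` : with the index `l`.

* `Sd.centre` : an element of `S` which acts on `Ω₁Z(Q)` with commutators in `{1, u}` has `u = v m`;
* `St.exists_l` : `Q^t` moves some `V l`;
* `St.three` : then `v l ^ t = c * v l`, `l ≠ i`, and `v l * y` is centralised by all `W_p`;
* `St.exists_sl`.
-/

set_option autoImplicit false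
set_option linter.unusedSectionVars false

namespace Cfsg.Agent.Omega.IId.Surv

open Subgroup Cfsg
open Cfsg.Agent.ZN (o2 zc)
open Cfsg.Agent.MinSimple.VModule (le_o2 le_normalizer_o2 mem_zc o2_isPGroup o2_le normalizer_le_normalizer_zc)
open Triangle (KK KK_conj KK_le_o2 mem_cent mem_KK mem_zpowers_iff_of_sq cent_conj o2_cent_conj)
open Big (Fr Vo cz qz conj_mem norm_of comm_of_conj conj_of_comm isPGroup_of_sq le_Vo Vo_le cent_of_closure
  norm_o2 le_o2_of sq_of_closure)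
open Big.Syl (YY mem_YY YY_le exists_conj_le)

universe u

variable {G : Type u} [Group G]

/-- the centre of an element of `S` acting on `Ω₁Z(Q)` with commutators in `{1, u}` -/
theorem Sd.centre [Finite G] {ι : Type} {S Q : Subgroup G} {V : ι → Subgroup G} {v : ι → G} (h : Sd S Q V v)
    {s u : G} (hs : s ∈ S) (hu : ∀ z ∈ zc Q, s * z * s⁻¹ = z ∨ s * z * s⁻¹ = u * z)
    (hne : ∃ z ∈ zc Q, s * z * s⁻¹ ≠ z) : ∃ m, u = v m := by
  by_cases hfix : ∀ j, s * v j = v j * s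
  · -- `s` normalises all `V j`
    by_contra hcon
    push Not at hcon
    obtain ⟨z, hz, hzs⟩ := hne
    apply hzs
    refine conj_of_comm (h.SY s hs (fun j x hx => ?_) z hz)
    rcases h.fix_act hs (hfix j) hx with h1 | h1
    · exact comm_of_conj h1
    · rcases hu x (h.V_zq j hx) with h2 | h2
      · exact comm_of_conj h2
      · exact absurd (mul_right_cancel (h2.symm.trans h1)) (hcon j)
  · exfalso
    push Not at hfix
    obtain ⟨j, hj⟩ := hfix
    obtain ⟨j', hj', hvj⟩ := h.perm s hs j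
    have hjj : j ≠ j' := by
      rintro rfl
      exact hj (comm_of_conj hvj)
    have h1 : v j' = u * v j := by
      rcases hu (v j) (h.v_zq j) with h1 | h1
      · exact absurd (comm_of_conj h1) hj
      · rw [← hvj, h1]
    obtain ⟨e, he, he1, hve⟩ := h.fr.exists_other (i := j) (v j)
    have he' := hj' e he
    rcases hu e (h.V_zq j he) with h2 | h2
    · rw [h2] at he'
      exact he1 (h.fr.disj hjj he he')
    · rw [h2] at he'
      have h3 : u = v j' * v j := by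
        rw [h1, mul_assoc, h.fr.sq j _ (h.vV j), mul_one]
      rw [h3, mul_assoc, mul_mem_cancel_left (h.vV j')] at he'
      have h4 := h.fr.disj hjj (mul_mem (h.vV j) he) he'
      have h5 := eq_inv_of_mul_eq_one_left h4
      rw [inv_eq_of_mul_eq_one_left (h.fr.sq j e he)] at h5
      exact hve h5

/-- (SURV) with the element `t` -/
structure St [Finite G] {ι : Type} (S : Sylow 2 G) (Q : Subgroup G) (V : ι → Subgroup G) (v : ι → G) (i : ι)
    (y g₀ t : G) : Prop extends Sv S Q V v i y g₀ where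
  tK : t ∈ KK (v i * y)
  tT : t ∉ (S : Subgroup G) ⊓ cz (v i)
  tn : t ∈ normalizer (((S : Subgroup G) ⊓ cz (v i) : Subgroup G) : Set G)
  tt : t * t ∈ (S : Subgroup G) ⊓ cz (v i)

namespace St

variable [Finite G] {ι : Type} {S : Sylow 2 G} {Q : Subgroup G} {V : ι → Subgroup G} {v : ι → G} {i : ι}
  {y g₀ t : G} (h : St S Q V v i y g₀ t)
include h

theorem tq : t ∈ qz (v i * y) := h.KKc_le h.tK

theorem t_v : t * v i = v i * t := h.qzc_v h.tq

theorem t_c : t * (v i * y) = v i * y * t := (mem_KK.1 h.tK).1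

theorem tT1 {x : G} (hx : x ∈ (S : Subgroup G) ⊓ cz (v i)) : t * x * t⁻¹ ∈ (S : Subgroup G) ⊓ cz (v i) :=
  (mem_normalizer_iff.1 h.tn x).1 hx

theorem tT2 {x : G} (hx : x ∈ (S : Subgroup G) ⊓ cz (v i)) : t⁻¹ * x * t ∈ (S : Subgroup G) ⊓ cz (v i) := by
  have := (mem_normalizer_iff.1 (inv_mem h.tn) x).1 hx
  rwa [inv_inv] at this

/-- the element `κ_q = [t, q]` of `W_c ∩ T` -/
theorem kap {q : G} (hq : q ∈ Q) :
    t * q * t⁻¹ * q⁻¹ ∈ KK (v i * y) ∧ t * q * t⁻¹ * q⁻¹ ∈ (S : Subgroup G) ⊓ cz (v i) := by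
  refine ⟨?_, mul_mem (h.tT1 (h.Q_T hq)) (inv_mem (h.Q_T hq))⟩
  have e : t * q * t⁻¹ * q⁻¹ = t * (q * t⁻¹ * q⁻¹) := by group
  rw [e]
  exact mul_mem h.tK (Sv.conjK (h.Q_c hq) (inv_mem h.tK))

/-- `κ ∈ W_c ∩ T` acts on `V j` as `1` or `x ↦ v j * x` -/
theorem k_act {k : G} (hk : k ∈ KK (v i * y)) (hkT : k ∈ (S : Subgroup G) ⊓ cz (v i)) {j : ι} {x : G}
    (hx : x ∈ V j) : k * x * k⁻¹ = x ∨ k * x * k⁻¹ = v j * x :=
  h.sd.fix_act hkT.1 (h.KT_fix hk hkT j) hx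

/-- `Q^t` commutes with `z` ⇒ `z^(t⁻¹) ∈ Ω₁Z(Q)` -/
theorem conj_zq {z : G} (hz : z ∈ zc Q) (hq : ∀ q ∈ Q, t * q * t⁻¹ * z = z * (t * q * t⁻¹)) :
    t⁻¹ * z * t ∈ zc Q := by
  refine h.sd.mem_zq (fun q hqQ => ?_) ?_
  · have h1 := hq q hqQ
    calc q * (t⁻¹ * z * t) = t⁻¹ * ((t * q * t⁻¹) * z) * t := by group
      _ = t⁻¹ * z * t * q := by rw [h1]; group
  · calc t⁻¹ * z * t * (t⁻¹ * z * t) = t⁻¹ * (z * z) * t := by group
      _ = 1 := by rw [h.sd.zq_sq hz]; group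

/-- `Q^t` commutes with `z` if all `κ_q` do -/
theorem conj_zq' {z : G} (hz : z ∈ zc Q) (hq : ∀ q ∈ Q, t * q * t⁻¹ * q⁻¹ * z = z * (t * q * t⁻¹ * q⁻¹)) :
    t⁻¹ * z * t ∈ zc Q := by
  refine h.conj_zq hz fun q hqQ => ?_
  calc t * q * t⁻¹ * z = (t * q * t⁻¹ * q⁻¹) * (q * z) := by group
    _ = ((t * q * t⁻¹ * q⁻¹) * z) * q := by rw [h.sd.zq_comm hz hqQ]; group
    _ = z * (t * q * t⁻¹) := by rw [hq q hqQ]; group

theorem S_zq {s z : G} (hs : s ∈ (S : Subgroup G)) (hz : z ∈ zc Q) : s * z * s⁻¹ ∈ zc Q :=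
  conj_mem (h.sd.SQ.trans (normalizer_le_normalizer_zc Q)) hs hz

/-- `t * z * t⁻¹ ∈ Ω₁Z(Q)` if `t⁻¹ * z * t ∈ Ω₁Z(Q)` -/
theorem swap {z : G} (hz : t⁻¹ * z * t ∈ zc Q) : t * z * t⁻¹ ∈ zc Q := by
  have h1 := h.S_zq h.tt.1 hz
  have e : t * t * (t⁻¹ * z * t) * (t * t)⁻¹ = t * z * t⁻¹ := by group
  rwa [e] at h1

theorem swap' {z : G} (hz : t * z * t⁻¹ ∈ zc Q) : t⁻¹ * z * t ∈ zc Q := by
  have h1 := h.S_zq (inv_mem h.tt.1) hz
  have e : (t * t)⁻¹ * (t * z * t⁻¹) * (t * t)⁻¹⁻¹ = t⁻¹ * z * t := by group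
  rwa [e] at h1

/-- **(2)**: `Q^t` moves some `V l`. -/
theorem exists_l : ∃ q ∈ Q, ∃ l, ∃ e ∈ V l,
    t * q * t⁻¹ * q⁻¹ * e * (t * q * t⁻¹ * q⁻¹)⁻¹ = v l * e := by
  by_contra hcon
  push Not at hcon
  have h1 : ∀ z ∈ zc Q, t⁻¹ * z * t ∈ zc Q := by
    intro z hz
    refine h.conj_zq' hz fun q hq => ?_
    refine h.sd.SY _ (h.kap hq).2.1 (fun j x hx => ?_) z hz
    rcases h.k_act (h.kap hq).1 (h.kap hq).2 hx with h2 | h2
    · exact comm_of_conj h2
    · exact absurd h2 (hcon q hq j x hx)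
  have h1' : ∀ z ∈ zc Q, t * z * t⁻¹ ∈ zc Q := fun z hz => h.swap (h1 z hz)
  -- `t` permutes the `v l`
  have h2 : ∀ l, ∃ m, t * v l * t⁻¹ = v m := by
    intro l
    obtain ⟨e, he, he1, hve⟩ := h.sd.fr.exists_other (i := l) (v l)
    obtain ⟨a, ha, hae⟩ := h.sd.fr.move (h.sd.vV l) he (h.sd.v1 l) he1 hve
    have haT : a ∈ (S : Subgroup G) ⊓ cz (v i) := by
      refine ⟨h.sd.KS l ha, mem_cent.2 ?_⟩
      by_cases hli : l = i
      · subst hli
        exact Fr.KK_comm ha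
      · exact h.sd.fr.Qc l i (Ne.symm hli) _ (h.sd.vV l) (h.sd.v1 l) a
          (h.sd.fr.KK_le_q (h.sd.vV l) (h.sd.v1 l) ha) _ (h.sd.vV i)
    refine h.sd.centre (s := t * a * t⁻¹) (h.tT1 haT).1 (fun z hz => ?_) ⟨t * e * t⁻¹, h1' e (h.sd.V_zq l he), ?_⟩
    · rcases h.sd.zq_act (h.sd.vV l) (h.sd.v1 l) ha (h1 z hz) with h3 | h3
      · left
        calc t * a * t⁻¹ * z * (t * a * t⁻¹)⁻¹ = t * (a * (t⁻¹ * z * t) * a⁻¹) * t⁻¹ := by group
          _ = z := by rw [h3]; group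
      · right
        calc t * a * t⁻¹ * z * (t * a * t⁻¹)⁻¹ = t * (a * (t⁻¹ * z * t) * a⁻¹) * t⁻¹ := by group
          _ = t * v l * t⁻¹ * z := by rw [h3]; group
    · intro h3
      have h4 : a * e * a⁻¹ = e := by
        calc a * e * a⁻¹ = t⁻¹ * (t * a * t⁻¹ * (t * e * t⁻¹) * (t * a * t⁻¹)⁻¹) * t := by group
          _ = e := by rw [h3]; group
      rw [h4] at hae
      exact h.sd.v1 l (mul_eq_right.1 hae.symm)
  have h3 : t ∈ LL v := by
    refine mem_LL.2 ⟨h2, fun l => ?_⟩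
    obtain ⟨m, -, hm⟩ := h.sd.perm (t * t)⁻¹ (inv_mem h.tt.1) l
    obtain ⟨n, hn⟩ := h2 m
    refine ⟨n, ?_⟩
    calc t⁻¹ * v l * t = t * ((t * t)⁻¹ * v l * (t * t)⁻¹⁻¹) * t⁻¹ := by group
      _ = v n := by rw [hm, hn]
  have hT2 : IsPGroup 2 ((S : Subgroup G) ⊓ cz (v i) : Subgroup G) := S.isPGroup'.to_le inf_le_left
  have hz2 : IsPGroup 2 (zpowers t) := (o2_isPGroup (cz (v i * y))).to_le ((zpowers_le).2 h.tq)
  have h4 := h.sd.kp i (X := zpowers t ⊔ ((S : Subgroup G) ⊓ cz (v i)))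
    (IsPGroup.to_sup_of_normal_right' hz2 hT2 ((zpowers_le).2 h.tn))
    (sup_le ((zpowers_le).2 (mem_cent.2 h.t_v)) inf_le_right) le_sup_right
    (sup_le ((zpowers_le).2 h3) (inf_le_left.trans h.sd.S_LL))
  exact h.tT (h4 (mem_sup_left (mem_zpowers t)))

/-- **(3)** -/
theorem three {q : G} (hq : q ∈ Q) {l : ι} {e : G} (he : e ∈ V l)
    (hke : t * q * t⁻¹ * q⁻¹ * e * (t * q * t⁻¹ * q⁻¹)⁻¹ = v l * e) :
    l ≠ i ∧ t⁻¹ * v l * t = v i * y * v l ∧ ∀ j, v l * y ∈ CX V j := by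
  obtain ⟨hk, hkT⟩ := h.kap hq
  have hvl1 := h.sd.v1 l
  have hvl := h.sd.vV l
  have hli : l ≠ i := by
    rintro rfl
    rw [conj_of_comm (h.KT_V hk hkT he)] at hke
    exact hvl1 (mul_eq_right.1 hke.symm)
  -- LEMMA 1'
  have hti : t⁻¹ * v i = v i * t⁻¹ := ((show Commute t (v i) from h.t_v).inv_left).eq
  have hf : t⁻¹ * e * t ∈ zc (qz (v i)) := by
    have h1 := h.sd.zc_conj hti (h.sd.V_le_zc hli (h.sd.vV i) (h.sd.v1 i) he)
    rwa [inv_inv] at h1
  have hw1 : t⁻¹ * v l * t ≠ 1 := fun h0 => hvl1 (by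
    calc v l = t * (t⁻¹ * v l * t) * t⁻¹ := by group
      _ = 1 := by rw [h0]; group)
  have hQ : ∀ q' ∈ Q, q' * (t⁻¹ * e * t) * q'⁻¹ = t⁻¹ * e * t ∨
      q' * (t⁻¹ * e * t) * q'⁻¹ = t⁻¹ * v l * t * (t⁻¹ * e * t) := by
    intro q' hq'
    have e1 : q' * (t⁻¹ * e * t) * q'⁻¹ = t⁻¹ * ((t * q' * t⁻¹ * q'⁻¹) * (q' * e * q'⁻¹) *
        (t * q' * t⁻¹ * q'⁻¹)⁻¹) * t := by group
    rw [e1, conj_of_comm (h.sd.QV l e he q' hq')]
    rcases h.k_act (h.kap hq').1 (h.kap hq').2 he with h1 | h1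
    · left; rw [h1]
    · right; rw [h1]; group
  have hex : ∃ q' ∈ Q, q' * (t⁻¹ * e * t) * q'⁻¹ = t⁻¹ * v l * t * (t⁻¹ * e * t) := by
    refine ⟨q, hq, ?_⟩
    have e1 : q * (t⁻¹ * e * t) * q⁻¹ = t⁻¹ * ((t * q * t⁻¹ * q⁻¹) * (q * e * q⁻¹) *
        (t * q * t⁻¹ * q⁻¹)⁻¹) * t := by group
    rw [e1, conj_of_comm (h.sd.QV l e he q hq), hke]
    group
  obtain ⟨hwz, hwX⟩ := h.sd.one' hf hw1 hQ hex
  -- `v l ∈ W_c`
  have hvK : v l ∈ KK (v i * y) := by
    have h1 : v l = (t * q * t⁻¹ * q⁻¹) * (e * (t * q * t⁻¹ * q⁻¹)⁻¹ * e⁻¹) := by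
      calc v l = v l * e * e⁻¹ := by group
        _ = _ := by rw [← hke]; group
    rw [h1]
    exact mul_mem hk (Sv.conjK (h.zq_c (h.sd.V_zq l he)) (inv_mem hk))
  have htw : t⁻¹ * v l * t = v i * y * v l := by
    rcases h.act hvK h.tq with h1 | h1
    · exfalso
      have h2 : t⁻¹ * v l * t = v l := by
        rw [mul_assoc, comm_of_conj h1]
        group
      rw [h2] at hwX
      exact h.sd.v_notCX l (hwX l hli)
    · have h2 : v l * t = v i * y * t * v l := by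
        calc v l * t = (v l * t * (v l)⁻¹) * v l := by group
          _ = v i * y * t * v l := by rw [h1]
      calc t⁻¹ * v l * t = t⁻¹ * (v l * t) := by group
        _ = t⁻¹ * ((v i * y * t) * v l) := by rw [h2]
        _ = t⁻¹ * ((t * (v i * y)) * v l) := by rw [h.t_c]
        _ = v i * y * v l := by group
  refine ⟨hli, htw, fun j => ?_⟩
  by_cases hji : j = i
  · subst hji
    exact mul_mem (h.sd.v_CX hli) h.yX
  · have h1 : v l * y = v i * (t⁻¹ * v l * t) := by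
      have h2 : y * v l = v l * y := h.sd.zq_mul_comm h.hy (h.sd.v_zq l)
      rw [htw]
      calc v l * y = y * v l := h2.symm
        _ = (v i * v i) * y * v l := by rw [h.sd.fr.sq i _ (h.sd.vV i), one_mul]
        _ = v i * (v i * y * v l) := by group
    rw [h1]
    exact mul_mem (h.sd.v_CX (Ne.symm hji)) (hwX j hji)

end St

/-- (SURV) with the element `t` and the index `l` -/
structure Sl [Finite G] {ι : Type} (S : Sylow 2 G) (Q : Subgroup G) (V : ι → Subgroup G) (v : ι → G) (i : ι)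
    (y g₀ t : G) (l : ι) : Prop extends St S Q V v i y g₀ t where
  li : l ≠ i
  dX : ∀ j, v l * y ∈ CX V j
  tl : t⁻¹ * v l * t = v i * y * v l
  k0 : ∃ q ∈ Q, ∃ e ∈ V l, t * q * t⁻¹ * q⁻¹ * e * (t * q * t⁻¹ * q⁻¹)⁻¹ = v l * e
  kj : ∀ q ∈ Q, ∀ j, j ≠ l → ∀ x ∈ V j, t * q * t⁻¹ * q⁻¹ * x = x * (t * q * t⁻¹ * q⁻¹)

theorem St.exists_sl [Finite G] {ι : Type} {S : Sylow 2 G} {Q : Subgroup G} {V : ι → Subgroup G} {v : ι → G}
    {i : ι} {y g₀ t : G} (h : St S Q V v i y g₀ t) : ∃ l, Sl S Q V v i y g₀ t l := by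
  obtain ⟨q, hq, l, e, he, hke⟩ := h.exists_l
  obtain ⟨hli, htl, hd⟩ := h.three hq he hke
  refine ⟨l, { h with li := hli, dX := hd, tl := htl, k0 := ⟨q, hq, e, he, hke⟩, kj := ?_ }⟩
  intro q' hq' j hjl x hx
  rcases h.k_act (h.kap hq').1 (h.kap hq').2 hx with h1 | h1
  · exact comm_of_conj h1
  · exfalso
    obtain ⟨-, -, hd'⟩ := h.three hq' hx h1
    have h2 : v l ∈ CX V l := by
      have h3 : v l = (v l * y) * (v j * y)⁻¹ * v j := by group
      rw [h3]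
      exact mul_mem (mul_mem (hd l) (inv_mem (hd' l))) (h.sd.v_CX hjl)
    exact h.sd.v_notCX l h2

end Cfsg.Agent.Omega.IId.Surv

end

end

-- merged: Cfsg.Agent.Mrg.Omega.IId.BigD.Surv.End
section

/-!
# CvBig (ii), `q = 2` (bb OMEGA 21130, helper165): (4), (5), (6)

* `Sl.te` : (4) `t` acts on `V i` as `e ↦ c * e`; `Sl.Yt_act` : `t` acts on `Yt = Ω₁Z(Q Q^t)` as a transvection with
  centre `c`;
* `Sl.tvj` : (5) `t` centralises `v j`, `j ≠ l`; `Sl.t_S0` : `t` normalises `S⁰`;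
* `Sl.exists_s` : (6) the transposition `s = (i l)` of `S`;
* `Sl.false` : the contradiction; **`Sv.false`** : (SURV) is impossible.
-/

set_option autoImplicit false
set_option linter.unusedSectionVars false

namespace Cfsg.Agent.Omega.IId.Surv

open Subgroup Cfsg
open Cfsg.Agent.ZN (o2 zc)
open Cfsg.Agent.MinSimple.VModule (le_o2 le_normalizer_o2 mem_zc o2_isPGroup o2_le normalizer_le_normalizer_zc)
open Triangle (KK KK_conj KK_le_o2 mem_cent mem_KK mem_zpowers_iff_of_sq cent_conj o2_cent_conj)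
open Big (Fr Vo cz qz conj_mem norm_of comm_of_conj conj_of_comm isPGroup_of_sq le_Vo Vo_le cent_of_closure
  norm_o2 le_o2_of sq_of_closure)
open Big.Syl (YY mem_YY YY_le exists_conj_le)

universe u

variable {G : Type u} [Group G]

theorem qz_cj (g : G) {p x : G} (hx : x ∈ qz p) : g * x * g⁻¹ ∈ qz (g * p * g⁻¹) := by
  have h1 : qz (g * p * g⁻¹) = (qz p).map (MulAut.conj g).toMonoidHom := o2_cent_conj g p
  rw [h1]
  exact ⟨x, hx, rfl⟩

/-- `Yt = Ω₁Z(Q) ∩ Ω₁Z(Q)^t` -/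
def Yt (Q : Subgroup G) (t : G) : Subgroup G := zc Q ⊓ (zc Q).comap (MulAut.conj t⁻¹).toMonoidHom

theorem mem_Yt {Q : Subgroup G} {t z : G} : z ∈ Yt Q t ↔ z ∈ zc Q ∧ t⁻¹ * z * t ∈ zc Q := by
  have e : (MulAut.conj t⁻¹).toMonoidHom z = t⁻¹ * z * t := by
    show t⁻¹ * z * t⁻¹⁻¹ = _
    rw [inv_inv]
  rw [Yt, mem_inf, mem_comap, e]

/-- `S⁰` -/
def S0 {ι : Type} (S : Subgroup G) (v : ι → G) : Subgroup G := S ⊓ centralizer (Set.range v)

theorem mem_S0 {ι : Type} {S : Subgroup G} {v : ι → G} {x : G} :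
    x ∈ S0 S v ↔ x ∈ S ∧ ∀ j, x * v j = v j * x := by
  rw [S0, mem_inf, mem_centralizer_iff]
  refine and_congr_right fun _ => ⟨fun h j => (h _ ⟨j, rfl⟩).symm, ?_⟩
  rintro h _ ⟨j, rfl⟩
  exact (h j).symm

/-- `D⁰ = Ω₁Z(S⁰) ∩ D^` -/
def D0 {ι : Type} (S : Subgroup G) (V : ι → Subgroup G) (v : ι → G) : Subgroup G := zc (S0 S v) ⊓ ⨅ j, CX V j

theorem mem_D0 {ι : Type} {S : Subgroup G} {V : ι → Subgroup G} {v : ι → G} {x : G} :
    x ∈ D0 S V v ↔ x ∈ zc (S0 S v) ∧ ∀ j, x ∈ CX V j := by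
  rw [D0, mem_inf, mem_iInf]

/-- an element of `S` which acts on the `V j` as `1`, `j ≠ l`, and fixes `v l`, acts on `Ω₁Z(Q)` as `1` or `a` -/
theorem Sd.two_case [Finite G] {ι : Type} {S Q : Subgroup G} {V : ι → Subgroup G} {v : ι → G} (h : Sd S Q V v)
    {l : ι} {k a e : G} (hk : k ∈ S) (hkl : k * v l = v l * k) (hkj : ∀ j, j ≠ l → ∀ x ∈ V j, k * x = x * k)
    (ha : a ∈ KK (v l)) (he : e ∈ V l) (he1 : e ≠ 1) (hve : v l ≠ e) (hae : a * e * a⁻¹ = v l * e) :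
    (∀ z ∈ zc Q, k * z = z * k) ∨ ∀ z ∈ zc Q, a⁻¹ * k * z = z * (a⁻¹ * k) := by
  have hal : a * v l = v l * a := Fr.KK_comm ha
  have haj : ∀ j, j ≠ l → ∀ x ∈ V j, a * x = x * a := fun j hj x hx =>
    h.fr.Qc l j hj _ (h.vV l) (h.v1 l) a (h.fr.KK_le_q (h.vV l) (h.v1 l) ha) x hx
  rcases h.fix_act hk hkl he with h1 | h1
  · left
    refine fun z hz => h.SY k hk (fun j x hx => ?_) z hz
    by_cases hj : j = l
    · subst hj
      exact h.fixV (h.vV j) (h.v1 j) he he1 hve hkl (comm_of_conj h1) hx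
    · exact hkj j hj x hx
  · right
    refine fun z hz => h.SY _ (mul_mem (inv_mem (h.KS l ha)) hk) (fun j x hx => ?_) z hz
    by_cases hj : j = l
    · subst hj
      refine h.fixV (h.vV j) (h.v1 j) he he1 hve ?_ (comm_of_conj ?_) hx
      · calc a⁻¹ * k * v j = a⁻¹ * (v j * k) := by rw [mul_assoc, hkl]
          _ = v j * (a⁻¹ * k) := by
            rw [← mul_assoc, ((show Commute a (v j) from hal).inv_left).eq, mul_assoc]
      · calc a⁻¹ * k * e * (a⁻¹ * k)⁻¹ = a⁻¹ * (k * e * k⁻¹) * a := by group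
          _ = a⁻¹ * (a * e * a⁻¹) * a := by rw [h1, hae]
          _ = e := by group
    · calc a⁻¹ * k * x = a⁻¹ * (x * k) := by rw [mul_assoc, hkj j hj x hx]
        _ = x * (a⁻¹ * k) := by
          rw [← mul_assoc, ((show Commute a x from haj j hj x hx).inv_left).eq, mul_assoc]

namespace Sl

variable [Finite G] {ι : Type} {S : Sylow 2 G} {Q : Subgroup G} {V : ι → Subgroup G} {v : ι → G} {i : ι}
  {y g₀ t : G} {l : ι} (h : Sl S Q V v i y g₀ t l)
include h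

theorem c_eq : v i * y * v l = v i * (v l * y) := by
  rw [mul_assoc, h.sd.zq_mul_comm h.hy (h.sd.v_zq l)]

theorem tl' : t * v l * t⁻¹ = v i * y * v l := by
  have h1 : v l = v i * y * (t * v l * t⁻¹) := by
    calc v l = t * (t⁻¹ * v l * t) * t⁻¹ := by group
      _ = (t * (v i * y)) * v l * t⁻¹ := by rw [h.tl]; group
      _ = v i * y * (t * v l * t⁻¹) := by rw [h.t_c]; group
  calc t * v l * t⁻¹ = (v i * y * (v i * y)) * (t * v l * t⁻¹) := by rw [h.cc, one_mul]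
    _ = v i * y * (v i * y * (t * v l * t⁻¹)) := by group
    _ = v i * y * v l := by rw [← h1]

/-- `T` fixes `l` -/
theorem T_l {s : G} (hs : s ∈ (S : Subgroup G) ⊓ cz (v i)) : s * v l = v l * s := by
  obtain ⟨m, -, hm⟩ := h.sd.perm s hs.1 l
  by_cases hml : m = l
  · subst hml
    exact comm_of_conj hm
  exfalso
  have hsy : s * y * s⁻¹ = y := conj_of_comm (h.yT s hs.1 (mem_cent.1 hs.2))
  have h1 := h.sd.CX_conj hs.1 h.dX l
  have h2 : s * (v l * y) * s⁻¹ = v m * y := by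
    calc s * (v l * y) * s⁻¹ = (s * v l * s⁻¹) * (s * y * s⁻¹) := by group
      _ = v m * y := by rw [hm, hsy]
  rw [h2] at h1
  have h3 : v l = (v l * y) * (v m * y)⁻¹ * v m := by group
  apply h.sd.v_notCX l
  rw [h3]
  exact mul_mem (mul_mem (h.dX l) (inv_mem h1)) (h.sd.v_CX hml)

theorem y_notCX : y ∉ CX V l := fun hc => h.sd.v_notCX l (by
  have h1 := mul_mem (h.dX l) (inv_mem hc)
  rwa [mul_inv_cancel_right] at h1)

theorem T_d {s : G} (hs : s ∈ (S : Subgroup G) ⊓ cz (v i)) : s * (v l * y) = v l * y * s := by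
  calc s * (v l * y) = (s * v l) * y := by group
    _ = v l * (s * y) := by rw [h.T_l hs]; group
    _ = v l * y * s := by rw [h.yT s hs.1 (mem_cent.1 hs.2)]; group

/-- **(4)**: `t` acts on `V i` as `e ↦ c * e`. -/
theorem te {e : G} (he : e ∈ V i) (he1 : e ≠ 1) (hve : v i ≠ e) : t * e * t⁻¹ = v i * y * e := by
  rcases h.act h.tK (h.V_qc he) with h1 | h1
  swap
  · exact h1
  exfalso
  obtain ⟨r, hr, hrv⟩ := h.sd.fr.move he (h.sd.vV i) he1 (h.sd.v1 i) (Ne.symm hve)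
  have hr' : t⁻¹ * r * t ∈ KK e := by
    have h2 := KK_conj (h := t⁻¹) hr
    have e1 : t⁻¹ * e * t⁻¹⁻¹ = e := by
      calc t⁻¹ * e * t⁻¹⁻¹ = t⁻¹ * (t * e * t⁻¹) * t := by rw [h1]; group
        _ = e := by group
    rwa [e1, inv_inv] at h2
  have h2 : t⁻¹ * r * t * v l = v l * (t⁻¹ * r * t) :=
    h.sd.fr.Qc i l h.li e he he1 _ (h.sd.fr.KK_le_q he he1 hr') _ (h.sd.vV l)
  have h3 : r * (v i * (v l * y)) = v i * (v l * y) * r := by
    rw [← h.c_eq, ← h.tl']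
    calc r * (t * v l * t⁻¹) = t * ((t⁻¹ * r * t) * v l) * t⁻¹ := by group
      _ = t * v l * t⁻¹ * r := by rw [h2]; group
  have h4 : r * (v l * y) = v l * y * r := h.dX i e he he1 r hr
  have h5 : r * v i = v i * r := by
    have h6 : r * v i * (v l * y) = v i * r * (v l * y) := by
      calc r * v i * (v l * y) = r * (v i * (v l * y)) := by group
        _ = v i * ((v l * y) * r) := by rw [h3]; group
        _ = v i * r * (v l * y) := by rw [← h4]; group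
    exact mul_right_cancel h6
  rw [conj_of_comm h5] at hrv
  exact he1 (mul_eq_right.1 hrv.symm)

/-! #### `Yt` -/

theorem Yt_t {z : G} (hz : z ∈ Yt Q t) : t * z * t⁻¹ ∈ Yt Q t := by
  obtain ⟨h1, h2⟩ := mem_Yt.1 hz
  refine mem_Yt.2 ⟨h.swap h2, ?_⟩
  have e : t⁻¹ * (t * z * t⁻¹) * t = z := by group
  rwa [e]

theorem Yt_t' {z : G} (hz : z ∈ Yt Q t) : t⁻¹ * z * t ∈ Yt Q t := by
  obtain ⟨h1, h2⟩ := mem_Yt.1 hz
  refine mem_Yt.2 ⟨h2, h.swap' ?_⟩
  have e : t * (t⁻¹ * z * t) * t⁻¹ = z := by group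
  rwa [e]

theorem mem_Yt_of {z : G} (hz : z ∈ zc Q) (ha : ∀ a ∈ KK (v l), a * z = z * a) : z ∈ Yt Q t := by
  refine mem_Yt.2 ⟨hz, h.conj_zq' hz fun q hq => ?_⟩
  obtain ⟨e, he, he1, hve⟩ := h.sd.fr.exists_other (i := l) (v l)
  obtain ⟨a, haK, hae⟩ := h.sd.fr.move (h.sd.vV l) he (h.sd.v1 l) he1 hve
  rcases h.sd.two_case (h.kap hq).2.1 (h.KT_fix (h.kap hq).1 (h.kap hq).2 l) (h.kj q hq) haK he he1 hve hae with
    h1 | h1
  · exact h1 z hz
  · have h2 := ha a haK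
    calc t * q * t⁻¹ * q⁻¹ * z = a * (a⁻¹ * (t * q * t⁻¹ * q⁻¹) * z) := by group
      _ = (a * z) * (a⁻¹ * (t * q * t⁻¹ * q⁻¹)) := by rw [h1 z hz]; group
      _ = z * (t * q * t⁻¹ * q⁻¹) := by rw [h2]; group

theorem Yt_comm {z a : G} (hz : z ∈ Yt Q t) (ha : a ∈ KK (v l)) : a * z = z * a := by
  obtain ⟨h1, h2⟩ := mem_Yt.1 hz
  obtain ⟨q, hq, e, he, hke⟩ := h.k0
  have hk := h.kap hq
  obtain ⟨k, ek⟩ : ∃ k, k = t * q * t⁻¹ * q⁻¹ := ⟨_, rfl⟩
  have hkz : k * z = z * k := by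
    have h3 := h.sd.zq_comm h2 hq
    rw [ek]
    calc t * q * t⁻¹ * q⁻¹ * z = t * q * t⁻¹ * (q⁻¹ * z) := by group
      _ = t * (q * (t⁻¹ * z * t)) * t⁻¹ * q⁻¹ := by
        rw [((show Commute q z from h.sd.zq_comm h1 hq).inv_left).eq]; group
      _ = z * (t * q * t⁻¹ * q⁻¹) := by rw [h3]; group
  rw [← ek] at hke hk
  have hkl := h.KT_fix hk.1 hk.2 l
  have he1 : e ≠ 1 := by
    rintro rfl
    rw [mul_one, mul_one, mul_inv_cancel] at hke
    exact h.sd.v1 l hke.symm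
  have hve : v l ≠ e := by
    rintro rfl
    rw [conj_of_comm hkl] at hke
    exact h.sd.v1 l (mul_eq_right.1 hke.symm)
  have haS := h.sd.KS l ha
  have hal : a * v l = v l * a := Fr.KK_comm ha
  rcases h.sd.fix_act haS hal he with h3 | h3
  · refine h.sd.SY a haS (fun j x hx => ?_) z h1
    by_cases hj : j = l
    · subst hj
      exact h.sd.fixV (h.sd.vV j) (h.sd.v1 j) he he1 hve hal (comm_of_conj h3) hx
    · exact h.sd.fr.Qc l j hj _ (h.sd.vV l) (h.sd.v1 l) a (h.sd.fr.KK_le_q (h.sd.vV l) (h.sd.v1 l) ha) x hx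
  · rcases h.sd.two_case hk.2.1 hkl (by rw [ek]; exact h.kj q hq) ha he he1 hve h3 with h4 | h4
    · exfalso
      rw [conj_of_comm (h4 e (h.sd.V_zq l he))] at hke
      exact h.sd.v1 l (mul_eq_right.1 hke.symm)
    · have h5 := h4 z h1
      have h6 : a⁻¹ * z = z * a⁻¹ := by
        have h7 : a⁻¹ * z * k = z * a⁻¹ * k := by
          calc a⁻¹ * z * k = a⁻¹ * k * z := by rw [mul_assoc, ← hkz, mul_assoc]
            _ = z * a⁻¹ * k := by rw [h5]; group
        exact mul_right_cancel h7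
      calc a * z = a * (z * a⁻¹) * a := by group
        _ = a * (a⁻¹ * z) * a := by rw [h6]
        _ = z * a := by group

theorem V_Yt {j : ι} (hj : j ≠ l) : V j ≤ Yt Q t := fun x hx =>
  h.mem_Yt_of (h.sd.V_zq j hx) fun a ha =>
    h.sd.fr.Qc l j hj _ (h.sd.vV l) (h.sd.v1 l) a (h.sd.fr.KK_le_q (h.sd.vV l) (h.sd.v1 l) ha) x hx

theorem v_Yt (j : ι) : v j ∈ Yt Q t := by
  by_cases hj : j = l
  · subst hj
    exact h.mem_Yt_of (h.sd.v_zq j) fun a ha => Fr.KK_comm ha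
  · exact h.V_Yt hj (h.sd.vV j)

theorem Yt_q {z : G} (hz : z ∈ Yt Q t) : z ∈ qz (v i * y) := by
  obtain ⟨e, he, he1, hve⟩ := h.sd.fr.exists_other (i := i) (v i)
  have hee := h.sd.fr.sq i e he
  have hev1 : e * v i ≠ 1 := fun h0 => hve (by
    have h1 := eq_inv_of_mul_eq_one_right h0
    rwa [inv_eq_of_mul_eq_one_left hee] at h1)
  have hne : e ≠ e * v i := fun h0 => h.sd.v1 i (mul_eq_left.1 h0.symm)
  obtain ⟨r, hr, hrv⟩ := h.sd.fr.move he (mul_mem he (h.sd.vV i)) he1 hev1 hne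
  have hrv' : r * (e * v i) * r⁻¹ = v i := by rw [hrv, ← mul_assoc, hee, one_mul]
  have hz1 : r⁻¹ * z * r ∈ Yt Q t := by
    have h1 := h.sd.zq_act he he1 (inv_mem hr) (mem_Yt.1 hz).1
    rw [inv_inv] at h1
    rcases h1 with h1 | h1
    · rw [h1]; exact hz
    · rw [h1]; exact mul_mem (h.V_Yt (Ne.symm h.li) he) hz
  have hz2 := qz_cj t (h.sd.zq_q he he1 (mem_Yt.1 hz1).2)
  have e1 : t * (t⁻¹ * (r⁻¹ * z * r) * t) * t⁻¹ = r⁻¹ * z * r := by group
  rw [e1, h.te he he1 hve] at hz2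
  have hz3 := qz_cj r hz2
  have e2 : r * (r⁻¹ * z * r) * r⁻¹ = z := by group
  have hry : r * y * r⁻¹ = y := conj_of_comm (h.yX e he he1 r hr)
  have e3 : r * (v i * y * e) * r⁻¹ = v i * y := by
    have e4 : v i * y * e = e * v i * y := by
      rw [mul_assoc, h.sd.zq_mul_comm h.hy (h.sd.V_zq i he), ← mul_assoc, h.sd.fr.comm i i _ (h.sd.vV i) e he]
    calc r * (v i * y * e) * r⁻¹ = (r * (e * v i) * r⁻¹) * (r * y * r⁻¹) := by rw [e4]; group
      _ = v i * y := by rw [hrv', hry]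
  rwa [e2, e3] at hz3

theorem Yt_act {z : G} (hz : z ∈ Yt Q t) : t * z * t⁻¹ = z ∨ t * z * t⁻¹ = v i * y * z :=
  h.act h.tK (h.Yt_q hz)

theorem Yt_act' {z : G} (hz : z ∈ Yt Q t) : t⁻¹ * z * t = z ∨ t⁻¹ * z * t = v i * y * z := by
  have e : t * (t⁻¹ * z * t) * t⁻¹ = z := by group
  rcases h.Yt_act (h.Yt_t' hz) with h1 | h1
  · left; rw [e] at h1; exact h1.symm
  · right
    rw [e] at h1
    calc t⁻¹ * z * t = (v i * y * (v i * y)) * (t⁻¹ * z * t) := by rw [h.cc, one_mul]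
      _ = v i * y * (v i * y * (t⁻¹ * z * t)) := by group
      _ = v i * y * z := by rw [← h1]

/-- **(5)**: `t` centralises `v j`, `j ≠ l`. -/
theorem tvj {j : ι} (hjl : j ≠ l) : t * v j = v j * t := by
  by_cases hji : j = i
  · subst hji
    exact h.t_v
  rcases h.Yt_act (h.v_Yt j) with h1 | h1
  · exact comm_of_conj h1
  exfalso
  obtain ⟨e, he, he1, hve⟩ := h.sd.fr.exists_other (i := j) (v j)
  obtain ⟨a, ha, hae⟩ := h.sd.fr.move (h.sd.vV j) he (h.sd.v1 j) he1 hve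
  have haT : a ∈ (S : Subgroup G) ⊓ cz (v i) := ⟨h.sd.KS j ha, mem_cent.2
    (h.sd.fr.Qc j i (Ne.symm hji) _ (h.sd.vV j) (h.sd.v1 j) a (h.sd.fr.KK_le_q (h.sd.vV j) (h.sd.v1 j) ha) _
      (h.sd.vV i))⟩
  have hsT := h.tT1 haT
  obtain ⟨s, es⟩ : ∃ s, s = t * a * t⁻¹ := ⟨_, rfl⟩
  rw [← es] at hsT
  have hact : ∀ z ∈ Yt Q t, s * z * s⁻¹ = z ∨ s * z * s⁻¹ = v i * y * v j * z := by
    intro z hz
    rcases h.sd.zq_act (h.sd.vV j) (h.sd.v1 j) ha (mem_Yt.1 hz).2 with h2 | h2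
    · left
      calc s * z * s⁻¹ = t * (a * (t⁻¹ * z * t) * a⁻¹) * t⁻¹ := by rw [es]; group
        _ = z := by rw [h2]; group
    · right
      calc s * z * s⁻¹ = t * (a * (t⁻¹ * z * t) * a⁻¹) * t⁻¹ := by rw [es]; group
        _ = (t * v j * t⁻¹) * z := by rw [h2]; group
        _ = v i * y * v j * z := by rw [h1]
  have hsl := h.T_l hsT
  have hsm : ∀ m, m ≠ l → ∀ x ∈ V m, s * x = x * s := by
    intro m hm x hx
    rcases hact x (h.V_Yt hm hx) with h2 | h2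
    · exact comm_of_conj h2
    exfalso
    obtain ⟨m', hm', hvm⟩ := h.sd.perm s hsT.1 m
    have hml : m' ≠ l := by
      rintro rfl
      have h3 : v m = v m' := by
        calc v m = s⁻¹ * (s * v m * s⁻¹) * s := by group
          _ = s⁻¹ * (v m' * s) := by rw [hvm]; group
          _ = v m' := by rw [← hsl]; group
      exact hm (h.sd.v_inj h3)
    have h3 := hm' x hx
    rw [h2] at h3
    apply h.y_notCX
    have h4 : y = (v i)⁻¹ * (v i * y * v j * x) * x⁻¹ * (v j)⁻¹ := by group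
    rw [h4]
    exact mul_mem (mul_mem (mul_mem (inv_mem (h.sd.v_CX (Ne.symm h.li))) (h.sd.V_CX hml h3))
      (inv_mem (h.sd.V_CX hm hx))) (inv_mem (h.sd.v_CX hjl))
  obtain ⟨e', he', he1', hve'⟩ := h.sd.fr.exists_other (i := l) (v l)
  obtain ⟨a', ha', hae'⟩ := h.sd.fr.move (h.sd.vV l) he' (h.sd.v1 l) he1' hve'
  have hz := h.Yt_t (h.V_Yt hjl he)
  have hsz : s * (t * e * t⁻¹) = t * e * t⁻¹ * s := by
    rcases h.sd.two_case hsT.1 hsl hsm ha' he' he1' hve' hae' with h2 | h2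
    · exact h2 _ (mem_Yt.1 hz).1
    · have h3 := h2 _ (mem_Yt.1 hz).1
      have h4 := h.Yt_comm hz ha'
      calc s * (t * e * t⁻¹) = a' * (a'⁻¹ * s * (t * e * t⁻¹)) := by group
        _ = (a' * (t * e * t⁻¹)) * (a'⁻¹ * s) := by rw [h3]; group
        _ = t * e * t⁻¹ * s := by rw [h4]; group
  have h5 : a * e * a⁻¹ = e := by
    calc a * e * a⁻¹ = t⁻¹ * (s * (t * e * t⁻¹)) * (t * a⁻¹) := by rw [es]; group
      _ = t⁻¹ * (t * e * t⁻¹ * s) * (t * a⁻¹) := by rw [hsz]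
      _ = e := by rw [es]; group
  rw [h5] at hae
  exact h.sd.v1 j (mul_eq_right.1 hae.symm)

/-! #### `S⁰` -/

theorem S0_T : S0 (S : Subgroup G) v ≤ (S : Subgroup G) ⊓ cz (v i) := fun _ hx =>
  ⟨(mem_S0.1 hx).1, mem_cent.2 ((mem_S0.1 hx).2 i)⟩

theorem Q_S0 : Q ≤ S0 (S : Subgroup G) v := fun q hq =>
  mem_S0.2 ⟨h.sd.QS hq, fun j => h.sd.QV j _ (h.sd.vV j) q hq⟩

theorem t_S0 : t ∈ normalizer (S0 (S : Subgroup G) v : Set G) := by
  rw [mem_normalizer_iff]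
  intro x
  constructor
  · intro hx
    have hxT := h.tT1 (h.S0_T hx)
    refine mem_S0.2 ⟨hxT.1, fun j => ?_⟩
    by_cases hj : j = l
    · subst hj
      exact h.T_l hxT
    · have h1 := h.tvj hj
      have h2 : t⁻¹ * v j = v j * t⁻¹ := ((show Commute t (v j) from h1).inv_left).eq
      calc t * x * t⁻¹ * v j = t * x * (t⁻¹ * v j) := by group
        _ = t * (x * v j) * t⁻¹ := by rw [h2]; group
        _ = (t * v j) * x * t⁻¹ := by rw [(mem_S0.1 hx).2 j]; group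
        _ = v j * (t * x * t⁻¹) := by rw [h1]; group
  · intro hx
    have hxT : x ∈ (S : Subgroup G) ⊓ cz (v i) := by
      have := h.tT2 (h.S0_T hx)
      have e : t⁻¹ * (t * x * t⁻¹) * t = x := by group
      rwa [e] at this
    refine mem_S0.2 ⟨hxT.1, fun j => ?_⟩
    by_cases hj : j = l
    · subst hj
      exact h.T_l hxT
    · have h1 := h.tvj hj
      have h2 : t⁻¹ * v j = v j * t⁻¹ := ((show Commute t (v j) from h1).inv_left).eq
      calc x * v j = t⁻¹ * (t * x * t⁻¹) * (t * v j) := by group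
        _ = t⁻¹ * ((t * x * t⁻¹) * v j) * t := by rw [h1]; group
        _ = (t⁻¹ * v j) * (t * x * t⁻¹) * t := by rw [(mem_S0.1 hx).2 j]; group
        _ = v j * x := by rw [h2]; group

theorem S_S0 : (S : Subgroup G) ≤ normalizer (S0 (S : Subgroup G) v : Set G) := by
  refine norm_of fun s hs x hx => mem_S0.2 ⟨mul_mem (mul_mem hs (mem_S0.1 hx).1) (inv_mem hs), fun j => ?_⟩
  obtain ⟨m, -, hm⟩ := h.sd.perm s⁻¹ (inv_mem hs) j
  have h1 := (mem_S0.1 hx).2 m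
  calc s * x * s⁻¹ * v j = s * (x * (s⁻¹ * v j * s⁻¹⁻¹)) * s⁻¹ := by group
    _ = s * (x * v m) * s⁻¹ := by rw [hm]
    _ = s * (v m * x) * s⁻¹ := by rw [h1]
    _ = s * ((s⁻¹ * v j * s⁻¹⁻¹) * x) * s⁻¹ := by rw [hm]
    _ = v j * (s * x * s⁻¹) := by group

theorem Z0_zq {z : G} (hz : z ∈ zc (S0 (S : Subgroup G) v)) : z ∈ zc Q := by
  have h1 := mem_zc.1 hz
  exact h.sd.mem_zq (fun q hq => h1.2.1 q (h.Q_S0 hq)) (by rw [← pow_two]; exact h1.2.2)

theorem Z0_Yt {z : G} (hz : z ∈ zc (S0 (S : Subgroup G) v)) : z ∈ Yt Q t := by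
  refine h.mem_Yt_of (h.Z0_zq hz) fun a ha => (mem_zc.1 hz).2.1 a (mem_S0.2 ⟨h.sd.KS l ha, fun j => ?_⟩)
  by_cases hj : j = l
  · subst hj
    exact Fr.KK_comm ha
  · exact h.sd.fr.Qc l j hj _ (h.sd.vV l) (h.sd.v1 l) a (h.sd.fr.KK_le_q (h.sd.vV l) (h.sd.v1 l) ha) _ (h.sd.vV j)

theorem v_Z0 (j : ι) : v j ∈ zc (S0 (S : Subgroup G) v) :=
  mem_zc.2 ⟨h.Q_S0 (mem_zc.1 (h.sd.v_zq j)).1, fun x hx => (mem_S0.1 hx).2 j, by
    rw [pow_two]; exact h.sd.fr.sq j _ (h.sd.vV j)⟩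

theorem d_zq : v l * y ∈ zc Q := mul_mem (h.sd.v_zq l) h.hy

theorem d_D0 : v l * y ∈ D0 (S : Subgroup G) V v :=
  mem_D0.2 ⟨mem_zc.2 ⟨h.Q_S0 (mem_zc.1 h.d_zq).1, fun x hx => h.T_d (h.S0_T hx), by
    rw [pow_two]; exact h.sd.zq_sq h.d_zq⟩, h.dX⟩

theorem N_Z0 {n z : G} (hn : n ∈ normalizer (S0 (S : Subgroup G) v : Set G))
    (hz : z ∈ zc (S0 (S : Subgroup G) v)) : n * z * n⁻¹ ∈ zc (S0 (S : Subgroup G) v) :=
  (mem_normalizer_iff.1 (normalizer_le_normalizer_zc _ hn) z).1 hz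

theorem N_Z0' {n z : G} (hn : n ∈ normalizer (S0 (S : Subgroup G) v : Set G))
    (hz : z ∈ zc (S0 (S : Subgroup G) v)) : n⁻¹ * z * n ∈ zc (S0 (S : Subgroup G) v) := by
  have := h.N_Z0 (inv_mem hn) hz
  rwa [inv_inv] at this

/-- **(6)**: the transposition `s = (l m)` of `S` -/
theorem exists_s₀ : ∃ s ∈ (S : Subgroup G), ∃ m, m ≠ l ∧ s * v l * s⁻¹ = v m ∧
    ∀ z ∈ zc (S0 (S : Subgroup G) v), s * z * s⁻¹ = z ∨ s * z * s⁻¹ = v m * v l * z := by
  have hz2 : IsPGroup 2 (zpowers t) := (o2_isPGroup (cz (v i * y))).to_le ((zpowers_le).2 h.tq)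
  obtain ⟨n, hn, hnt⟩ := exists_conj_le S h.S_S0 hz2 ((zpowers_le).2 h.t_S0)
  have hs₀ := hnt t (mem_zpowers t)
  obtain ⟨s₀, es₀⟩ : ∃ s₀, s₀ = n * t * n⁻¹ := ⟨_, rfl⟩
  rw [← es₀] at hs₀
  have hact : ∀ z ∈ zc (S0 (S : Subgroup G) v),
      s₀ * z * s₀⁻¹ = z ∨ s₀ * z * s₀⁻¹ = n * (v i * y) * n⁻¹ * z := by
    intro z hz
    rcases h.Yt_act (h.Z0_Yt (h.N_Z0' hn hz)) with h1 | h1
    · left
      calc s₀ * z * s₀⁻¹ = n * (t * (n⁻¹ * z * n) * t⁻¹) * n⁻¹ := by rw [es₀]; group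
        _ = z := by rw [h1]; group
    · right
      calc s₀ * z * s₀⁻¹ = n * (t * (n⁻¹ * z * n) * t⁻¹) * n⁻¹ := by rw [es₀]; group
        _ = n * (v i * y) * n⁻¹ * z := by rw [h1]; group
  obtain ⟨j, hj⟩ : ∃ j, s₀ * v j ≠ v j * s₀ := by
    by_contra hcon
    push Not at hcon
    have h1 : s₀ ∈ S0 (S : Subgroup G) v := mem_S0.2 ⟨hs₀, hcon⟩
    have h2 := (mem_zc.1 (h.N_Z0 hn (h.v_Z0 l))).2.1 s₀ h1
    have h3 : t * v l * t⁻¹ = v l := by
      calc t * v l * t⁻¹ = n⁻¹ * (s₀ * (n * v l * n⁻¹)) * (n * t⁻¹) := by rw [es₀]; group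
        _ = n⁻¹ * (n * v l * n⁻¹ * s₀) * (n * t⁻¹) := by rw [h2]
        _ = v l := by rw [es₀]; group
    rw [h.tl'] at h3
    have h4 := mul_eq_right.1 h3
    have h5 : v i = y := by
      have := eq_inv_of_mul_eq_one_left h4
      rwa [inv_eq_of_mul_eq_one_left (h.sd.zq_sq h.hy)] at this
    exact h.y_notV (h5 ▸ h.sd.vV i)
  obtain ⟨j', -, hj'⟩ := h.sd.perm s₀ hs₀ j
  have hjj : j' ≠ j := by
    rintro rfl
    exact hj (comm_of_conj hj')
  have hc : n * (v i * y) * n⁻¹ = v j' * v j := by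
    rcases hact (v j) (h.v_Z0 j) with h1 | h1
    · exact absurd (comm_of_conj h1) hj
    · rw [hj'] at h1
      calc n * (v i * y) * n⁻¹ = n * (v i * y) * n⁻¹ * (v j * v j) := by
            rw [h.sd.fr.sq j _ (h.sd.vV j), mul_one]
        _ = (n * (v i * y) * n⁻¹ * v j) * v j := by group
        _ = v j' * v j := by rw [← h1]
  obtain ⟨x, hx, hxj⟩ := h.sd.tr j l
  obtain ⟨m, -, hm⟩ := h.sd.perm x hx j'
  refine ⟨x * s₀ * x⁻¹, mul_mem (mul_mem hx hs₀) (inv_mem hx), m, ?_, ?_, fun z hz => ?_⟩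
  · rintro rfl
    apply hjj
    apply h.sd.v_inj
    calc v j' = x⁻¹ * (x * v j' * x⁻¹) * x := by group
      _ = x⁻¹ * (x * v j * x⁻¹) * x := by rw [hm, hxj]
      _ = v j := by group
  · calc x * s₀ * x⁻¹ * v l * (x * s₀ * x⁻¹)⁻¹ = x * (s₀ * (x⁻¹ * v l * x) * s₀⁻¹) * x⁻¹ := by group
      _ = x * (s₀ * (x⁻¹ * (x * v j * x⁻¹) * x) * s₀⁻¹) * x⁻¹ := by rw [hxj]
      _ = x * (s₀ * v j * s₀⁻¹) * x⁻¹ := by group
      _ = v m := by rw [hj', hm]
  · have hz' := h.N_Z0' (h.S_S0 hx) hz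
    rcases hact _ hz' with h1 | h1
    · left
      calc x * s₀ * x⁻¹ * z * (x * s₀ * x⁻¹)⁻¹ = x * (s₀ * (x⁻¹ * z * x) * s₀⁻¹) * x⁻¹ := by group
        _ = z := by rw [h1]; group
    · right
      calc x * s₀ * x⁻¹ * z * (x * s₀ * x⁻¹)⁻¹ = x * (s₀ * (x⁻¹ * z * x) * s₀⁻¹) * x⁻¹ := by group
        _ = (x * v j' * x⁻¹) * (x * v j * x⁻¹) * z := by rw [h1, hc]; group
        _ = v m * v l * z := by rw [hm, hxj]

/-- the transposition `s = (l i)` of `S` -/
theorem exists_s : ∃ s ∈ (S : Subgroup G), s * v l * s⁻¹ = v i ∧ s * v i * s⁻¹ = v l ∧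
    ∀ z ∈ zc (S0 (S : Subgroup G) v), s * z * s⁻¹ = z ∨ s * z * s⁻¹ = v i * v l * z := by
  obtain ⟨s, hs, m, hml, hsl, hact⟩ := h.exists_s₀
  have hmi : m = i := by
    by_contra hmi
    have h1 : s * v i * s⁻¹ = v i := by
      rcases hact (v i) (h.v_Z0 i) with h1 | h1
      · exact h1
      exfalso
      obtain ⟨i', -, hi'⟩ := h.sd.perm s hs i
      rw [hi'] at h1
      by_cases hil : i' = l
      · subst hil
        have h2 : v m * v i = 1 := by
          have h3 : v i' * (v m * v i) = v i' := by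
            calc v i' * (v m * v i) = (v i' * v m) * v i := by group
              _ = v m * v i' * v i := by rw [h.sd.fr.comm i' m _ (h.sd.vV i') _ (h.sd.vV m)]
              _ = v i' := h1.symm
          exact mul_eq_left.1 h3
        have h4 := eq_inv_of_mul_eq_one_left h2
        rw [inv_eq_of_mul_eq_one_left (h.sd.fr.sq i _ (h.sd.vV i))] at h4
        exact hmi (h.sd.v_inj h4)
      · apply h.sd.v_notCX l
        have h2 : v l = (v m)⁻¹ * (v m * v l * v i) * (v i)⁻¹ := by group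
        rw [h2, ← h1]
        exact mul_mem (mul_mem (inv_mem (h.sd.v_CX hml)) (h.sd.v_CX hil))
          (inv_mem (h.sd.v_CX (Ne.symm h.li)))
    have h2 := h.T_l ⟨hs, mem_cent.2 (comm_of_conj h1)⟩
    rw [conj_of_comm h2] at hsl
    exact hml (h.sd.v_inj hsl.symm)
  subst hmi
  refine ⟨s, hs, hsl, ?_, hact⟩
  rcases hact (v m) (h.v_Z0 m) with h1 | h1
  · exfalso
    have h2 : v l = v m := by
      calc v l = s⁻¹ * (s * v l * s⁻¹) * s := by group
        _ = s⁻¹ * (s * v m * s⁻¹) * s := by rw [hsl, h1]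
        _ = v m := by group
    exact h.li (h.sd.v_inj h2)
  · rw [h1, mul_assoc, h.sd.fr.comm l m _ (h.sd.vV l) _ (h.sd.vV m), ← mul_assoc,
      h.sd.fr.sq m _ (h.sd.vV m), one_mul]

/-- the group of the `n ∈ N_G(S⁰)` with `[Ω₁Z(S⁰), n] ≤ D⁰`, `[D⁰, n] = 1` -/
def U0 {ι : Type} (S : Subgroup G) (V : ι → Subgroup G) (v : ι → G) : Subgroup G where
  carrier := {n | n ∈ normalizer (S0 S v : Set G) ∧ (∀ z ∈ D0 S V v, n * z * n⁻¹ = z) ∧
    ∀ z ∈ zc (S0 S v), n * z * n⁻¹ * z⁻¹ ∈ D0 S V v}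
  one_mem' := ⟨one_mem _, fun z _ => by group, fun z _ => by
    have e : (1 : G) * z * 1⁻¹ * z⁻¹ = 1 := by group
    rw [e]; exact one_mem _⟩
  mul_mem' := by
    rintro a b ⟨ha, ha1, ha2⟩ ⟨hb, hb1, hb2⟩
    refine ⟨mul_mem ha hb, fun z hz => ?_, fun z hz => ?_⟩
    · calc a * b * z * (a * b)⁻¹ = a * (b * z * b⁻¹) * a⁻¹ := by group
        _ = z := by rw [hb1 z hz, ha1 z hz]
    · have e : a * b * z * (a * b)⁻¹ * z⁻¹ = (a * (b * z * b⁻¹ * z⁻¹) * a⁻¹) * (a * z * a⁻¹ * z⁻¹) := by group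
      rw [e, ha1 _ (hb2 z hz)]
      exact mul_mem (hb2 z hz) (ha2 z hz)
  inv_mem' := by
    rintro a ⟨ha, ha1, ha2⟩
    have h1 : ∀ z ∈ D0 S V v, a⁻¹ * z * a⁻¹⁻¹ = z := fun z hz => by
      calc a⁻¹ * z * a⁻¹⁻¹ = a⁻¹ * (a * z * a⁻¹) * a := by rw [ha1 z hz]; group
        _ = z := by group
    refine ⟨inv_mem ha, h1, fun z hz => ?_⟩
    have h2 := h1 _ (ha2 z hz)
    have e : a⁻¹ * z * a⁻¹⁻¹ * z⁻¹ = (a⁻¹ * (a * z * a⁻¹ * z⁻¹) * a⁻¹⁻¹)⁻¹ := by group
    rw [e, h2]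
    exact inv_mem (ha2 z hz)

omit [Finite G] h in
theorem mem_U0 {ι : Type} {S : Subgroup G} {V : ι → Subgroup G} {v : ι → G} {n : G} :
    n ∈ U0 S V v ↔ n ∈ normalizer (S0 S v : Set G) ∧ (∀ z ∈ D0 S V v, n * z * n⁻¹ = z) ∧
      ∀ z ∈ zc (S0 S v), n * z * n⁻¹ * z⁻¹ ∈ D0 S V v := Iff.rfl

theorem S_D0 {s z : G} (hs : s ∈ (S : Subgroup G)) (hz : z ∈ D0 (S : Subgroup G) V v) :
    s * z * s⁻¹ ∈ D0 (S : Subgroup G) V v :=
  mem_D0.2 ⟨h.N_Z0 (h.S_S0 hs) (mem_D0.1 hz).1, fun j => h.sd.CX_conj hs (mem_D0.1 hz).2 j⟩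

theorem S_U0 {s n : G} (hs : s ∈ (S : Subgroup G)) (hn : n ∈ U0 (S : Subgroup G) V v) :
    s * n * s⁻¹ ∈ U0 (S : Subgroup G) V v := by
  obtain ⟨h1, h2, h3⟩ := mem_U0.1 hn
  refine mem_U0.2 ⟨mul_mem (mul_mem (h.S_S0 hs) h1) (inv_mem (h.S_S0 hs)), fun z hz => ?_, fun z hz => ?_⟩
  · have h4 := h2 _ (h.S_D0 (inv_mem hs) hz)
    rw [inv_inv] at h4
    calc s * n * s⁻¹ * z * (s * n * s⁻¹)⁻¹ = s * (n * (s⁻¹ * z * s) * n⁻¹) * s⁻¹ := by group
      _ = z := by rw [h4]; group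
  · have h4 := h.S_D0 hs (h3 _ (h.N_Z0' (h.S_S0 hs) hz))
    have e : s * n * s⁻¹ * z * (s * n * s⁻¹)⁻¹ * z⁻¹ =
        s * (n * (s⁻¹ * z * s) * n⁻¹ * (s⁻¹ * z * s)⁻¹) * s⁻¹ := by group
    rw [e]
    exact h4

/-- a 2-subgroup of `U⁰` is `U⁰`-conjugate to a subgroup of `S` -/
theorem exists_u {X : Subgroup G} (hX : IsPGroup 2 X) (hXU : X ≤ U0 (S : Subgroup G) V v) :
    ∃ w ∈ U0 (S : Subgroup G) V v, ∀ x ∈ X, w * x * w⁻¹ ∈ (S : Subgroup G) := by
  let K : Subgroup G :=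
    { carrier := {x | ∃ a ∈ (S : Subgroup G), ∃ b ∈ U0 (S : Subgroup G) V v, x = a * b}
      one_mem' := ⟨1, one_mem _, 1, one_mem _, by group⟩
      mul_mem' := by
        rintro _ _ ⟨a, ha, b, hb, rfl⟩ ⟨a', ha', b', hb', rfl⟩
        refine ⟨a * a', mul_mem ha ha', (a'⁻¹ * b * a') * b', mul_mem ?_ hb', by group⟩
        have := h.S_U0 (inv_mem ha') hb
        rwa [inv_inv] at this
      inv_mem' := by
        rintro _ ⟨a, ha, b, hb, rfl⟩
        exact ⟨a⁻¹, inv_mem ha, a * b⁻¹ * a⁻¹, h.S_U0 ha (inv_mem hb), by group⟩ }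
  have hSK : (S : Subgroup G) ≤ K := fun a ha => ⟨a, ha, 1, one_mem _, by group⟩
  have hXK : X ≤ K := fun b hb => ⟨1, one_mem _, b, hXU hb, by group⟩
  obtain ⟨_, ⟨a, ha, b, hb, rfl⟩, h1⟩ := exists_conj_le S hSK hX hXK
  refine ⟨b, hb, fun x hx => ?_⟩
  have h2 := mul_mem (mul_mem (inv_mem ha) (h1 x hx)) ha
  have e : a⁻¹ * (a * b * x * (a * b)⁻¹) * a = b * x * b⁻¹ := by group
  rwa [e] at h2

/-- **The contradiction.** -/
theorem false : False := by
  obtain ⟨s, hs, hsl, hsi, hact⟩ := h.exists_s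
  have hd := h.d_D0
  have hdz := (mem_D0.1 hd).1
  -- `s` centralises `D⁰`
  have hsD : ∀ z ∈ D0 (S : Subgroup G) V v, s * z * s⁻¹ = z := by
    intro z hz
    rcases hact z (mem_D0.1 hz).1 with h1 | h1
    · exact h1
    exfalso
    have h2 := (mem_D0.1 (h.S_D0 hs hz)).2 i
    rw [h1] at h2
    apply h.sd.v_notCX i
    have h3 : v i = (v i * v l * z) * z⁻¹ * (v l)⁻¹ := by group
    rw [h3]
    exact mul_mem (mul_mem h2 (inv_mem ((mem_D0.1 hz).2 i))) (inv_mem (h.sd.v_CX h.li))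
  have hll := h.sd.fr.sq l _ (h.sd.vV l)
  have hii := h.sd.fr.sq i _ (h.sd.vV i)
  have hc : v i * y = v i * v l * (v l * y) := by
    calc v i * y = v i * (v l * v l) * y := by rw [hll, mul_one]
      _ = v i * v l * (v l * y) := by group
  have hsc : s * (v i * y) * s⁻¹ = v i * y := by
    calc s * (v i * y) * s⁻¹ = (s * v i * s⁻¹) * (s * v l * s⁻¹) * (s * (v l * y) * s⁻¹) := by rw [hc]; group
      _ = v l * v i * (v l * y) := by rw [hsi, hsl, hsD _ hd]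
      _ = v i * y := by rw [h.sd.fr.comm l i _ (h.sd.vV l) _ (h.sd.vV i), ← hc]
  have hcl : v i * (v i * y * v l) = v l * y := by
    rw [h.c_eq, ← mul_assoc, hii, one_mul]
  have htvv : t * (v i * v l) * t⁻¹ = v l * y := by
    calc t * (v i * v l) * t⁻¹ = (t * v i * t⁻¹) * (t * v l * t⁻¹) := by group
      _ = v l * y := by rw [conj_of_comm h.t_v, h.tl', hcl]
  -- `s' = t * s * t⁻¹`
  obtain ⟨s', es'⟩ : ∃ s', s' = t * s * t⁻¹ := ⟨_, rfl⟩
  have hZ0 : ∀ z ∈ zc (S0 (S : Subgroup G) v), s' * z * s'⁻¹ = z ∨ s' * z * s'⁻¹ = v l * y * z := by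
    intro z hz
    have hz' := h.N_Z0' h.t_S0 hz
    rcases hact _ hz' with h1 | h1
    · left
      calc s' * z * s'⁻¹ = t * (s * (t⁻¹ * z * t) * s⁻¹) * t⁻¹ := by rw [es']; group
        _ = z := by rw [h1]; group
    · right
      calc s' * z * s'⁻¹ = t * (s * (t⁻¹ * z * t) * s⁻¹) * t⁻¹ := by rw [es']; group
        _ = (t * (v i * v l) * t⁻¹) * z := by rw [h1]; group
        _ = v l * y * z := by rw [htvv]
  have hD0' : ∀ z ∈ D0 (S : Subgroup G) V v, s' * z * s'⁻¹ = z := by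
    intro z hz
    have h1 : s * (t⁻¹ * z * t) * s⁻¹ = t⁻¹ * z * t := by
      rcases h.Yt_act' (h.Z0_Yt (mem_D0.1 hz).1) with h2 | h2
      · rw [h2, hsD z hz]
      · rw [h2]
        calc s * (v i * y * z) * s⁻¹ = (s * (v i * y) * s⁻¹) * (s * z * s⁻¹) := by group
          _ = v i * y * z := by rw [hsc, hsD z hz]
    calc s' * z * s'⁻¹ = t * (s * (t⁻¹ * z * t) * s⁻¹) * t⁻¹ := by rw [es']; group
      _ = z := by rw [h1]; group
  have hs'U : s' ∈ U0 (S : Subgroup G) V v := by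
    refine mem_U0.2 ⟨?_, hD0', fun z hz => ?_⟩
    · rw [es']
      exact mul_mem (mul_mem h.t_S0 (h.S_S0 hs)) (inv_mem h.t_S0)
    · rcases hZ0 z hz with h1 | h1
      · rw [h1, mul_inv_cancel]; exact one_mem _
      · rw [h1, mul_inv_cancel_right]; exact hd
  have hs'2 : IsPGroup 2 (zpowers s') := by
    refine (S.isPGroup'.map (MulAut.conj t).toMonoidHom).to_le ((zpowers_le).2 ⟨s, hs, ?_⟩)
    rw [es']
    rfl
  have hs'v : s' * v i * s'⁻¹ = v i * (v l * y) := by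
    calc s' * v i * s'⁻¹ = t * (s * (t⁻¹ * (v i * t)) * s⁻¹) * t⁻¹ := by rw [es']; group
      _ = t * (s * v i * s⁻¹) * t⁻¹ := by rw [← h.t_v]; group
      _ = v i * (v l * y) := by rw [hsi, h.tl', h.c_eq]
  obtain ⟨w, hw, hwX⟩ := h.exists_u hs'2 ((zpowers_le).2 hs'U)
  have hx := hwX s' (mem_zpowers s')
  obtain ⟨-, hw1, hw2⟩ := mem_U0.1 hw
  obtain ⟨-, hv1, hv2⟩ := mem_U0.1 (inv_mem hw)
  -- `w s' w⁻¹` maps `v i` to `v i * d`
  obtain ⟨δ, eδ⟩ : ∃ δ, δ = w⁻¹ * v i * w⁻¹⁻¹ * (v i)⁻¹ := ⟨_, rfl⟩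
  have hδ : δ ∈ D0 (S : Subgroup G) V v := by rw [eδ]; exact hv2 _ (h.v_Z0 i)
  have e1 : w⁻¹ * v i * w = δ * v i := by rw [eδ]; group
  have hdw : w * (v l * y) * w⁻¹ = v l * y := hw1 _ hd
  have hδs : s' * δ * s'⁻¹ = δ := hD0' δ hδ
  have e2 : w * s' * w⁻¹ * v i * (w * s' * w⁻¹)⁻¹ = v i * (v l * y) := by
    calc w * s' * w⁻¹ * v i * (w * s' * w⁻¹)⁻¹ = w * (s' * (w⁻¹ * v i * w) * s'⁻¹) * w⁻¹ := by group
      _ = w * ((s' * δ * s'⁻¹) * (s' * v i * s'⁻¹)) * w⁻¹ := by rw [e1]; group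
      _ = (w * (δ * v i) * w⁻¹) * (w * (v l * y) * w⁻¹) := by rw [hδs, hs'v]; group
      _ = (w * (w⁻¹ * v i * w) * w⁻¹) * (v l * y) := by rw [e1, hdw]
      _ = v i * (v l * y) := by group
  obtain ⟨m, -, hm⟩ := h.sd.perm _ hx i
  rw [e2] at hm
  by_cases hmi : m = i
  · subst hmi
    have h1 : v l * y = 1 := mul_eq_left.1 hm
    have h2 : t * v l * t⁻¹ = v m := by rw [h.tl', h.c_eq, h1, mul_one]
    have h3 : v l = v m := by
      calc v l = t⁻¹ * (t * v l * t⁻¹) * t := by group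
        _ = t⁻¹ * (v m * t) := by rw [h2]; group
        _ = v m := by rw [← h.t_v]; group
    exact h.li (h.sd.v_inj h3)
  · apply h.sd.v_notCX i
    have h1 : v i = (v i * (v l * y)) * (v l * y)⁻¹ := by group
    rw [h1, hm]
    exact mul_mem (h.sd.v_CX hmi) (inv_mem (h.dX i))

end Sl

/-- **(SURV) is impossible.** -/
theorem Sv.false [Finite G] {ι : Type} {S : Sylow 2 G} {Q : Subgroup G} {V : ι → Subgroup G} {v : ι → G}
    {i : ι} {y g₀ : G} (h : Sv S Q V v i y g₀) : False := by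
  obtain ⟨t, h1, h2, h3, h4⟩ := h.exists_t
  obtain ⟨l, hl⟩ := St.exists_sl (t := t) { h with tK := h1, tT := h2, tn := h3, tt := h4 }
  exact hl.false

end Cfsg.Agent.Omega.IId.Surv

end

private theorem dce_562d5fc7354f : _root_.True := by
  try have : _root_.True := by simp only [_root_.Cfsg.Agent.Omega.IId.Surv.D0.eq_1]
  try have : _root_.True := by simp only [_root_.Cfsg.Agent.Omega.IId.Surv.S0.eq_1]
  try have : _root_.True := by simp only [_root_.Cfsg.Agent.Omega.IId.Surv.Yt.eq_1]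
  exact _root_.True.intro
end

-- part: Mrg/Omega/NO1/SE/StrOut
section
set_option linter.all false
open scoped Cfsg.Agent.FastGrp


/-!
# LEMMA SE (#16297): `N(A)` is strongly embedded

`Two.strOut` : `X` simple nonabelian with `Two A B`: `N(A)` is strongly embedded and split by its Sylow 2-subgroup
`Q`, and `A = {x ∈ Q | x² = 1}`.
-/

set_option autoImplicit false

namespace Cfsg.Agent.Omega.NO1.SE

open Subgroup Cfsg Cfsg.Agent.Omega.NOne.Flat.TI
open Cfsg.Agent.TwoFusion.StronglyEmbeddedBasic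
open scoped Pointwise

universe u

variable {X : Type u} [Group X] [Finite X] {A B : Subgroup X}

namespace Two

omit [Finite X] in
theorem not_mem (h : Two A B) : ∃ b ∈ B, b ≠ 1 ∧ b ∉ normalizer (A : Set X) := by
  obtain ⟨b, hb, hb1⟩ := h.tis.exists_ne h.pt
  exact ⟨b, hb, hb1, fun hn => h.ne (h.tis.eq_of_norm h.pt h.ptA hb hb1 hn).symm⟩

/-- `A` is strongly closed in every 2-subgroup containing it -/
theorem strongly_closed (h : Two A B) {T : Subgroup X} (hT : IsPGroup 2 T) (hA : A ≤ T) : IsStronglyClosed A T := by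
  refine ⟨hA, fun x hx g hg => ?_⟩
  by_cases hx1 : x = 1
  · rw [hx1, mul_one, mul_inv_cancel]; exact one_mem _
  have h1 : g * x * g⁻¹ ∈ normalizer (A : Set X) := h.wti.le_normalizer_of_isPGroup hT hA hg
  have h2 : g * x * g⁻¹ ∈ MulAut.conj g • A := Cfsg.Agent.WeakTI.Basic.conj_mem_cj hx
  have h3 : g * x * g⁻¹ ≠ 1 := by
    intro h0
    apply hx1
    calc x = g⁻¹ * (g * x * g⁻¹) * g := by group
      _ = 1 := by rw [h0]; group
  have h4 := h.tis.eq_of_norm (Tis.pt_conj h.ptA (mem_top g)) h.ptA h2 h3 h1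
  rwa [h4] at h2

theorem exists_se (h : Two A B) (hX : IsSimpleGroup X) : ∃ H : Subgroup X, IsStronglyEmbedded H := by
  have : Fact (Nat.Prime 2) := ⟨Nat.prime_two⟩
  obtain ⟨S, hS⟩ := h.wti.isPGroup.exists_le_sylow
  refine Cfsg.Agent.S1174.result S A h.tis.ne (h.strongly_closed S.isPGroup' hS) ?_
  intro htop
  obtain ⟨b, -, -, hb⟩ := h.not_mem
  apply hb
  have h1 : (⨆ t : {t : X // t ∈ A ∧ orderOf t = 2}, Subgroup.centralizer ({(t : X)} : Set X)) ≤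
      normalizer (A : Set X) := by
    refine iSup_le ?_
    rintro ⟨t, ht, ht2⟩
    refine h.wti.centralizer_le_normalizer ht ?_
    rintro rfl
    rw [orderOf_one] at ht2
    exact absurd ht2 (by norm_num)
  rw [htop] at h1
  exact h1 (mem_top b)

/-- a strongly embedded subgroup containing `A` contains `N(A)` -/
theorem normalizer_le_of_se (h : Two A B) {H : Subgroup X} (hH : IsStronglyEmbedded H) (hA : A ≤ H) :
    normalizer (A : Set X) ≤ H := by
  intro g hg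
  obtain ⟨a, ha, ha1⟩ := h.tis.exists_ne h.ptA
  exact mem_of_conj_mem hH (hA ha) (orderOf_eq_two_of_mul_self (h.tis.sq a ha) ha1)
    (hA ((mem_normalizer_iff.1 hg a).1 ha))

omit [Finite X] in
theorem _root_.Cfsg.Agent.Omega.NO1.SE.se_conj {H : Subgroup X} (hH : IsStronglyEmbedded H) (g : X) :
    IsStronglyEmbedded (MulAut.conj g • H) := by
  refine ⟨?_, ?_, ?_⟩
  · intro h0
    apply hH.1
    rw [eq_top_iff]
    intro x _
    have h1 : g * x * g⁻¹ ∈ MulAut.conj g • H := by rw [h0]; exact mem_top _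
    rw [Cfsg.Agent.WeakTI.Basic.mem_cj] at h1
    have e : g⁻¹ * (g * x * g⁻¹) * g = x := by group
    rwa [e] at h1
  · have h1 : Nat.card ↥(MulAut.conj g • H) = Nat.card H :=
      Nat.card_congr (Subgroup.equivSMul (MulAut.conj g) H).symm.toEquiv
    rw [h1]
    exact hH.2.1
  · intro x hx
    have h1 : g⁻¹ * x * g ∉ H := fun h => hx (Cfsg.Agent.WeakTI.Basic.mem_cj.2 h)
    have h2 := hH.2.2 _ h1
    have h3 : MulAut.conj g • H ⊓ (MulAut.conj g • H).map (MulAut.conj x).toMonoidHom =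
        MulAut.conj g • (H ⊓ H.map (MulAut.conj (g⁻¹ * x * g)).toMonoidHom) := by
      rw [← Cfsg.Agent.WeakTI.Basic.cj_eq_map, ← Cfsg.Agent.WeakTI.Basic.cj_eq_map]
      ext y
      simp only [mem_inf, Cfsg.Agent.WeakTI.Basic.mem_cj]
      have e : g⁻¹ * (x⁻¹ * y * x) * g = (g⁻¹ * x * g)⁻¹ * (g⁻¹ * y * g) * (g⁻¹ * x * g) := by group
      rw [e]
    rw [h3, Nat.card_congr (Subgroup.equivSMul (MulAut.conj g) (H ⊓ H.map (MulAut.conj (g⁻¹ * x * g)).toMonoidHom)).symm.toEquiv]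
    exact h2

/-- **`StrOut`.** -/
theorem strOut (h : Two A B) (hX : IsSimpleGroup X) (hna : ∃ a b : X, a * b ≠ b * a) : StrOut A := by
  have : Fact (Nat.Prime 2) := ⟨Nat.prime_two⟩
  -- a strongly embedded subgroup containing `A`
  obtain ⟨H, hH, hAH⟩ : ∃ H : Subgroup X, IsStronglyEmbedded H ∧ A ≤ H := by
    obtain ⟨H, hH⟩ := h.exists_se hX
    obtain ⟨a, ha, ha1⟩ := h.tis.exists_ne h.ptA
    obtain ⟨t, ht, ht2⟩ := exists_involution hH
    obtain ⟨g, hg⟩ := isConj_iff.1 (isConj_of_involutions hH t a ht2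
      (orderOf_eq_two_of_mul_self (h.tis.sq a ha) ha1))
    have hH' := se_conj hH g
    refine ⟨_, hH', fun x hx => ?_⟩
    have haH : a ∈ MulAut.conj g • H := by rw [← hg]; exact Cfsg.Agent.WeakTI.Basic.conj_mem_cj ht
    exact mem_of_commute hH' haH (orderOf_eq_two_of_mul_self (h.tis.sq a ha) ha1) (h.comm h.ptA hx ha)
  obtain ⟨Q, hs, hQ⟩ := Cfsg.Agent.StrongEmb.Strong.exists_isSplit hna H hH
  -- the rank one set-up
  obtain ⟨t, ht, ht2⟩ := exists_involution_notMem hH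
  have hR := Cfsg.Agent.StrongEmb.Split.setup_of_isSplit hH hs ht ht2
  obtain ⟨P, hP⟩ := (Cfsg.Agent.S1119.result hR).2.2.2.1
  have hPQ : (P : Subgroup X) = Q := (P.is_maximal' hQ hP).symm
  -- every 2-subgroup of `H` is in `Q`
  have hin : ∀ x ∈ H, x * x = 1 → x ∈ Q := by
    intro x hx hxx
    have hz : IsPGroup 2 (zpowers x) := by
      intro y
      obtain ⟨y, hy⟩ := y
      obtain ⟨k, rfl⟩ := hy
      refine ⟨1, Subtype.ext ?_⟩
      show (x ^ k) ^ (2 ^ 1) = 1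
      rw [pow_one, ← zpow_natCast, ← zpow_mul, mul_comm, zpow_mul, zpow_natCast, pow_two, hxx, one_zpow]
    have hj : IsPGroup 2 ↥(zpowers x ⊔ Q) := by
      refine IsPGroup.to_sup_of_normal_right' hz hQ ?_
      rw [zpowers_le]
      rw [mem_normalizer_iff]
      intro y
      constructor
      · intro hy
        exact hs.conj_mem hx hy
      · intro hy
        have h1 := hs.conj_mem (inv_mem hx) hy
        have e : x⁻¹ * (x * y * x⁻¹) * x⁻¹⁻¹ = y := by group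
        rwa [e] at h1
    have h1 : zpowers x ⊔ Q = (P : Subgroup X) := P.is_maximal' hj (by rw [hPQ]; exact le_sup_right)
    rw [← hPQ, ← h1]
    exact mem_sup_left (mem_zpowers x)
  have hAQ : A ≤ Q := fun x hx => hin x (hAH hx) (h.tis.sq x hx)
  have hsc := h.strongly_closed hQ hAQ
  have hHN : H = normalizer (A : Set X) := by
    refine le_antisymm ?_ (h.normalizer_le_of_se hH hAH)
    intro g hg
    rw [mem_normalizer_iff]
    intro x
    constructor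
    · intro hx
      exact hsc.2 x hx g (hs.conj_mem hg (hAQ hx))
    · intro hx
      have h1 := hsc.2 _ hx g⁻¹ (by
        have e : g⁻¹ * (g * x * g⁻¹) * g⁻¹⁻¹ = x := by group
        rw [e]
        have h2 := hs.conj_mem (inv_mem hg) (hAQ hx)
        rwa [e] at h2)
      have e : g⁻¹ * (g * x * g⁻¹) * g⁻¹⁻¹ = x := by group
      rwa [e] at h1
  refine ⟨H, Q, hH, hs, hQ, hHN, fun x => ⟨fun hx => ⟨hAQ hx, h.tis.sq x hx⟩, ?_⟩⟩
  rintro ⟨hx, hxx⟩
  by_cases hx1 : x = 1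
  · rw [hx1]; exact one_mem _
  obtain ⟨a, ha, ha1⟩ := h.tis.exists_ne h.ptA
  obtain ⟨g, hg⟩ := isConj_iff.1 (isConj_of_involutions hH a x
    (orderOf_eq_two_of_mul_self (h.tis.sq a ha) ha1) (orderOf_eq_two_of_mul_self hxx hx1))
  have h1 := hsc.2 a ha g (by rw [hg]; exact hx)
  rwa [hg] at h1

/-- **LEMMA SE**, unconditional -/
theorem main' (h : Two A B) :
    (∀ t ∈ A, t ≠ 1 → ∃ u ∈ B, u ≠ 1 ∧ (t * u) ^ 3 = 1) ∨
    (Lie.IsoSuzuki X ∧ Nat.card X = Nat.card A ^ 2 * (Nat.card A ^ 2 + 1) * (Nat.card A - 1) ∧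
      ∃ P : Sylow 2 X, ∀ x, x ∈ A ↔ x ∈ P ∧ x * x = 1) :=
  h.main (h.quot.strOut h.simple.1 h.simple.2)

end Two

end Cfsg.Agent.Omega.NO1.SE
end
end
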